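import Cfsg.Agent.M24.Fixed
import Cfsg.Prelude.Def_Spor_Mathieu

/-! The automorphism group of `M22` is the stabiliser in `M24` of a pair of points. -/

set_option autoImplicit false

namespace Cfsg.Agent.J4

open Cfsg.Agent.M24 Finset MulAction
open scoped Pointwise

/-- The stabiliser in `M24` of the pair `{∞, 0}`. -/
def Dd : Subgroup M24 := MulAction.stabilizer M24 ({none, some 0} : Finset GolayPt)

/-- `M22` as a subgroup of `M24`. -/
def H22 : Subgroup M24 := Spor.M22.subgroupOf M24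

theorem mem_H22 {g : M24} : g ∈ H22 ↔
    (g : Equiv.Perm GolayPt) none = none ∧ (g : Equiv.Perm GolayPt) (some 0) = some 0 := by
  simp only [H22, Subgroup.mem_subgroupOf, Spor.M22, Spor.M23, Subgroup.mem_inf,
    mem_stabilizer_iff, Equiv.Perm.smul_def, g.2, true_and]

theorem H22_eq : H22 = gen mcode cM_l2.gens := by
  ext g
  rw [mem_H22]
  have h := (chkM_sound cM_chk).2.1
  have hb : ∀ a, (a = none ∨ a = some 0) ↔ ∃ L ∈ cM.take 2, idx a = L.b := by decide +kernel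
  constructor
  · intro hg
    exact h.mem_drop 2 (show g ∈ gen mcode gM by rw [gen_gM]; trivial)
      fun L hL x _ e => by
        rcases (hb x).2 ⟨L, hL, e⟩ with rfl | rfl
        exacts [hg.1, hg.2]
  · intro hg
    obtain ⟨L, hL, e⟩ := (hb none).1 (Or.inl rfl)
    obtain ⟨L', hL', e'⟩ := (hb (some 0)).1 (Or.inr rfl)
    exact ⟨(h.drop_le acM 2 hg).2 L hL _ trivial e, (h.drop_le acM 2 hg).2 L' hL' _ trivial e'⟩

theorem card_H22 : Nat.card H22 = 443520 := by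
  rw [H22_eq]
  exact ((chkM_sound cM_chk).2.1.drop 2).card.trans (by decide +kernel)

/-- The isomorphism of `M22` with its copy inside `M24`. -/
def eH22 : H22 ≃* Spor.M22 :=
  Subgroup.subgroupOfEquivOfLe (inf_le_left.trans inf_le_left)

theorem mem_Dd {g : M24} : g ∈ Dd ↔ ∀ p : GolayPt,
    ((g : Equiv.Perm GolayPt) p = none ∨ (g : Equiv.Perm GolayPt) p = some 0) ↔
      (p = none ∨ p = some 0) := by
  rw [Dd, mem_stabilizer_iff]
  constructor
  · intro h p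
    have := smul_mem_smul_finset_iff (s := ({none, some 0} : Finset GolayPt)) (b := p) g
    rw [h, mem_insert, mem_singleton, mem_insert, mem_singleton] at this
    exact this
  · intro h
    ext p
    obtain ⟨q, rfl⟩ := (toPerm g).surjective p
    rw [toPerm_apply, smul_mem_smul_finset_iff, mem_insert, mem_singleton, mem_insert,
      mem_singleton]
    exact (h q).symm

theorem H22_le_Dd : H22 ≤ Dd := fun g hg => by
  obtain ⟨h1, h2⟩ := mem_H22.1 hg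
  refine mem_Dd.2 fun p => ?_
  conv_lhs => rw [← h1, ← h2]
  simp only [EmbeddingLike.apply_eq_iff_eq]

theorem Dd_conj {d : M24} (hd : d ∈ Dd) {g : M24} (hg : g ∈ H22) : d * g * d⁻¹ ∈ H22 := by
  obtain ⟨h1, h2⟩ := mem_H22.1 hg
  have key : ∀ p : GolayPt, (p = none ∨ p = some 0) →
      ((d * g * d⁻¹ : M24) : Equiv.Perm GolayPt) p = p := fun p hp => by
    have h3 := (mem_Dd.1 (inv_mem hd) p).2 hp
    have h4 : (g : Equiv.Perm GolayPt) (((d⁻¹ : M24) : Equiv.Perm GolayPt) p) =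
        ((d⁻¹ : M24) : Equiv.Perm GolayPt) p := by
      rcases h3 with h3 | h3 <;> rw [h3] <;> assumption
    rw [Subgroup.coe_mul, Subgroup.coe_mul, Equiv.Perm.mul_apply, Equiv.Perm.mul_apply, h4]
    simp
  exact mem_H22.2 ⟨key _ (Or.inl rfl), key _ (Or.inr rfl)⟩

theorem Dd_le_norm : Dd ≤ Subgroup.normalizer (H22 : Set M24) := fun _ hd =>
  mem_normalizer_of_conj fun _ hg => Dd_conj hd hg

theorem Dd_cent {c : M24} (hc : c ∈ Dd) (hcomm : ∀ x ∈ H22, c * x = x * c) : c = 1 := by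
  have cfix : ∀ p, p ≠ none → p ≠ some 0 → (c : Equiv.Perm GolayPt) p = p := by
    intro p hp1 hp2
    by_contra hq
    have hq0 := mt (mem_Dd.1 hc p).1 (not_or.2 ⟨hp1, hp2⟩)
    obtain ⟨hq1, hq2⟩ := not_or.1 hq0
    obtain ⟨r, hr⟩ : ∃ r, r ∉ ({none, some 0, p, (c : Equiv.Perm GolayPt) p} : Finset GolayPt) := by
      by_contra hcon
      push Not at hcon
      have := card_le_card (fun a _ => hcon a : (univ : Finset GolayPt) ⊆ _)
      rw [card_univ, card_golayPt] at this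
      have := card_le_four (a := none) (b := some 0) (c := p) (d := (c : Equiv.Perm GolayPt) p)
      omega
    simp only [mem_insert, mem_singleton, not_or] at hr
    obtain ⟨x, hx, e⟩ := agree5 (Equiv.swap ((c : Equiv.Perm GolayPt) p) r)
      (F := {none, some 0, p, (c : Equiv.Perm GolayPt) p}) (card_le_four.trans (by norm_num))
    have e1 := e none (by simp)
    have e2 := e (some 0) (by simp)
    have e3 := e p (by simp)
    have e4 := e ((c : Equiv.Perm GolayPt) p) (by simp)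
    rw [Equiv.swap_apply_of_ne_of_ne (Ne.symm hq1) (Ne.symm hr.1)] at e1
    rw [Equiv.swap_apply_of_ne_of_ne (Ne.symm hq2) (Ne.symm hr.2.1)] at e2
    rw [Equiv.swap_apply_of_ne_of_ne (Ne.symm hq) (Ne.symm hr.2.2.1)] at e3
    rw [Equiv.swap_apply_left] at e4
    have := congrArg (fun f : M24 => (f : Equiv.Perm GolayPt) p)
      (hcomm ⟨x, hx⟩ (mem_H22.2 ⟨e1, e2⟩))
    simp only [Subgroup.coe_mul, Equiv.Perm.mul_apply, e3, e4] at this
    exact hr.2.2.2 this.symm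
  have hfix : ∀ a ∈ unmask 8388606, (c : Equiv.Perm GolayPt) a = a := by
    intro a ha
    refine cfix a ?_ ?_ <;> rintro rfl <;> revert ha <;> decide +kernel
  have := fix_step c.2 (F' := 16777215) (os := [5279]) (by norm_num) (by decide +kernel) hfix
  refine Subtype.ext (Equiv.ext fun a => ?_)
  exact this a (by rw [← mask_univ, unmask_mask]; exact mem_univ a)

def cX : ℕ := nat_lit 0xba961432ad345c23d2491c26f258a0
def cT : ℕ := nat_lit 0xbceaab4092121a65d12e1b0b13bc20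
def cN : ℕ := nat_lit 0x19317d66240547635d0b4865a1177

theorem mcode_X : mcode (elt cX) = cX := mcode_elt (by decide +kernel)
theorem mcode_T : mcode (elt cT) = cT := mcode_elt (by decide +kernel)
theorem mcode_N : mcode (elt cN) = cN := mcode_elt (by decide +kernel)

theorem apply_of_code {g : M24} {c : ℕ} (hc : mcode g = c) (a b : GolayPt)
    (h : Nat.beq (ap c (idx a)) (idx b) = true) : (g : Equiv.Perm GolayPt) a = b := by
  rw [← hc, mcode, ap_pcode, Nat.beq_eq] at h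
  exact idx_inj h

theorem X_mem : elt cX ∈ H22 := mem_H22.2
  ⟨apply_of_code mcode_X _ _ (by decide +kernel), apply_of_code mcode_X _ _ (by decide +kernel)⟩
theorem T_mem : elt cT ∈ H22 := mem_H22.2
  ⟨apply_of_code mcode_T _ _ (by decide +kernel), apply_of_code mcode_T _ _ (by decide +kernel)⟩
theorem N_mem : elt cN ∈ Dd := by
  rw [Dd, mem_stabilizer_iff, smul_finset_insert, smul_finset_singleton]
  have h1 : elt cN • (none : GolayPt) = some 0 := apply_of_code mcode_N _ _ (by decide +kernel)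
  have h2 : elt cN • (some 0 : GolayPt) = none := apply_of_code mcode_N _ _ (by decide +kernel)
  rw [h1, h2, pair_comm]

theorem orderOf_X : orderOf (elt cX) = 11 :=
  have : Fact (Nat.Prime 11) := ⟨by norm_num⟩
  gcM.orderOf_prime mcode_X (by decide +kernel)
theorem orderOf_T : orderOf (elt cT) = 2 := gcM.orderOf_prime mcode_T (by decide +kernel)

theorem N_conj : elt cN * elt cX * (elt cN)⁻¹ = elt cX ^ 2 := gcM.inj (by
  rw [← gcM.cjap_code, ← gcM.cpow_code, mcode_X, mcode_N]; decide +kernel)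

theorem H22_le_gen : H22 ≤ gen mcode [cX, cT] := by
  rw [H22_eq]
  exact (gcM.words_sound (valid_mcode (by decide +kernel))
    (ws := [0x2084410845010450, 0x21140411421014202]) (by decide +kernel)).2

def tI : T := (.node (.node (.node (.node (.node (.node (.node (.node (.node (.node (.node .nil (nat_lit
  0xb844674a2f84d8d3a9285d0a3256c0) (nat_lit 1) (nat_lit 4) .nil) (nat_lit
  0xb8465249687892c8a9b039a93abac0) (nat_lit 1) (nat_lit 4) .nil) (nat_lit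
  0xb846b728b07cdaca492831e22a92c0) (nat_lit 1) (nat_lit 4) (.node .nil (nat_lit
  0xb847199e8d7ba0c2990992964a8ac0) (nat_lit 1) (nat_lit 4) .nil)) (nat_lit
  0xb847411a297910c59e0d548aeacec0) (nat_lit 1) (nat_lit 4) (.node (.node (.node .nil (nat_lit
  0xb84947154c6cdf05c52839a5510ec0) (nat_lit 1) (nat_lit 4) .nil) (nat_lit
  0xb84a34bd70938868aa683b2ada0ac0) (nat_lit 1) (nat_lit 4) .nil) (nat_lit
  0xb84cf48e22a39a559e6855584942c0) (nat_lit 1) (nat_lit 4) (.node .nil (nat_lit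
  0xb84f4419f08b84b60d33ac8a4536c0) (nat_lit 1) (nat_lit 4) .nil))) (nat_lit
  0xb85127d0ed9b20e5a875898a448ac0) (nat_lit 1) (nat_lit 4) (.node (.node (.node (.node .nil (nat_lit
  0xb853464a2d73e1352ea3394c440ac0) (nat_lit 1) (nat_lit 4) .nil) (nat_lit
  0xb8554999845a5b17d5c81c8b038ac0) (nat_lit 1) (nat_lit 4) .nil) (nat_lit
  0xb85659c87052447abdc861a848b6c0) (nat_lit 1) (nat_lit 4) (.node .nil (nat_lit
  0xb85882b9447c9b55c4d43a67018ac0) (nat_lit 1) (nat_lit 4) .nil)) (nat_lit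
  0xb858e322307d0553a8b25cd241b6c0) (nat_lit 1) (nat_lit 4) (.node (.node .nil (nat_lit
  0xb85929d2117a0f51112e698aa1aec0) (nat_lit 1) (nat_lit 4) .nil) (nat_lit
  0xb85944c88a7b9756c268114d119ec0) (nat_lit 1) (nat_lit 4) (.node .nil (nat_lit
  0xb85b49962323aa23a90959a4f832c0) (nat_lit 1) (nat_lit 4) .nil)))) (nat_lit
  0xb85d21d2304d5a852dec398a2992c0) (nat_lit 1) (nat_lit 4) (.node (.node (.node (.node (.node .nil
  (nat_lit 0xb85e299226aa4ac52dc83c1b21d2c0) (nat_lit 1) (nat_lit 4) .nil) (nat_lit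
  0xb85e63c902aadac725519d0a41c2c0) (nat_lit 1) (nat_lit 4) .nil) (nat_lit
  0xb85f0434f4aba4c5a9338888519ac0) (nat_lit 1) (nat_lit 4) (.node .nil (nat_lit
  0xb85f489670aa88c4b96741a4d18ac0) (nat_lit 1) (nat_lit 4) .nil)) (nat_lit
  0xb86069c955138645c5093d0ac6bec0) (nat_lit 1) (nat_lit 4) (.node (.node .nil (nat_lit
  0xb862544aa43b9aa1b13379a9058ac0) (nat_lit 1) (nat_lit 4) .nil) (nat_lit
  0xb864c9d6302a09459d2e50ded30ac0) (nat_lit 1) (nat_lit 4) (.node .nil (nat_lit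
  0xb8674ac8f040da95a98f894c2712c0) (nat_lit 1) (nat_lit 4) .nil))) (nat_lit
  0xb86959b162321b28a92e3bc642c2c0) (nat_lit 1) (nat_lit 4) (.node (.node (.node (.node .nil (nat_lit
  0xb86a440a257b8c352d333b61464ac0) (nat_lit 1) (nat_lit 4) .nil) (nat_lit
  0xb86a584a33635cf59c4451a881a6c0) (nat_lit 1) (nat_lit 4) .nil) (nat_lit
  0xb86a65c93079c839a22a750ad60ac0) (nat_lit 1) (nat_lit 4) (.node .nil (nat_lit
  0xb86a77464d64e0f31528a2d4418ac0) (nat_lit 1) (nat_lit 4) .nil)) (nat_lit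
  0xb86a994d501944c5c6863a1c47b6c0) (nat_lit 1) (nat_lit 4) (.node (.node .nil (nat_lit
  0xb86aa9acd0639af951092c4e2192c0) (nat_lit 5) (nat_lit 4) .nil) (nat_lit
  0xb86ad9c0f27a6835a9c889046616c0) (nat_lit 1) (nat_lit 4) (.node .nil (nat_lit
  0xb86b24d1a71ba2c20a68818ab7aac0) (nat_lit 1) (nat_lit 4) .nil))))) (nat_lit
  0xb86b3a2624199ac3aa455b91078ac0) (nat_lit 1) (nat_lit 4) (.node (.node (.node (.node (.node (.node .nil
  (nat_lit 0xb86b4515c27c5a344ceb49a44642c0) (nat_lit 1) (nat_lit 4) .nil) (nat_lit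
  0xb86b46996e6426f8a8823c8a91a2c0) (nat_lit 1) (nat_lit 4) .nil) (nat_lit
  0xb86b49c84b1a14c8352e214c77c6c0) (nat_lit 1) (nat_lit 4) (.node .nil (nat_lit
  0xb88301ca34311676a92863cae9daa0) (nat_lit 1) (nat_lit 4) .nil)) (nat_lit
  0xb886a72e3044da99518f398a1ad880) (nat_lit 1) (nat_lit 4) (.node (.node .nil (nat_lit
  0xb888d1c90b7868c828b1399359d9c0) (nat_lit 1) (nat_lit 4) .nil) (nat_lit
  0xb88a794de48b1ae4a968a1ab01d820) (nat_lit 1) (nat_lit 4) (.node .nil (nat_lit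
  0xb88cf54961a21ac8ccee4d4a41da00) (nat_lit 1) (nat_lit 4) .nil))) (nat_lit
  0xb88e594e307a42b629c6aa2841d9a0) (nat_lit 1) (nat_lit 4) (.node (.node (.node (.node .nil (nat_lit
  0xb891198e905988c7a8f54b8ad95820) (nat_lit 1) (nat_lit 4) .nil) (nat_lit
  0xb892c9ca2479db428ea67217055820) (nat_lit 1) (nat_lit 4) .nil) (nat_lit
  0xb89435b8cd7ca099d5883c4a4a5820) (nat_lit 1) (nat_lit 4) (.node .nil (nat_lit
  0xb8974321501b827ac53264ca47d9a0) (nat_lit 5) (nat_lit 4) .nil)) (nat_lit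
  0xb8974548c97b98dace080c4851d8e0) (nat_lit 1) (nat_lit 4) (.node (.node .nil (nat_lit
  0xb89748be64939aca98a33a93045820) (nat_lit 1) (nat_lit 4) .nil) (nat_lit
  0xb897498e25438e1aa88f69a0995980) (nat_lit 9) (nat_lit 0) (.node .nil (nat_lit
  0xb89899c9f08943538e88599c4559a0) (nat_lit 1) (nat_lit 4) .nil)))) (nat_lit
  0xb89a49a90e7c2a70c931618b41d960) (nat_lit 1) (nat_lit 4) (.node (.node (.node (.node (.node .nil
  (nat_lit 0xb89d40b62a7d64c5c0e64a0a325a60) (nat_lit 5) (nat_lit 4) .nil) (nat_lit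
  0xb89d41c8b0655af5a90931e219d880) (nat_lit 1) (nat_lit 4) .nil) (nat_lit
  0xb89d4241f28d5455b528399930d860) (nat_lit 1) (nat_lit 4) (.node .nil (nat_lit
  0xb89d49a98d2d6115c8c7425e41d820) (nat_lit 1) (nat_lit 4) .nil)) (nat_lit
  0xb89e698dc1ac5a54292b3d18495a00) (nat_lit 1) (nat_lit 4) (.node (.node .nil (nat_lit
  0xb8a019aa35335cc248a83bd2b1da80) (nat_lit 1) (nat_lit 4) .nil) (nat_lit
  0xb8a2854ab073c8534d343ad8d1d820) (nat_lit 1) (nat_lit 4) (.node .nil (nat_lit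
  0xb8a53a562d42a0c1b92f298e45d820) (nat_lit 1) (nat_lit 4) .nil))) (nat_lit
  0xb8a72ad0d078dac52d282c4e175880) (nat_lit 1) (nat_lit 4) (.node (.node (.node (.node .nil (nat_lit
  0xb8a9529d107b88a5b07191a6d4d820) (nat_lit 5) (nat_lit 4) .nil) (nat_lit
  0xb8a9539621339a35a5489be4465a00) (nat_lit 1) (nat_lit 4) .nil) (nat_lit
  0xb8a9594c8f8390c5a92d284f11d8c0) (nat_lit 1) (nat_lit 4) (.node .nil (nat_lit
  0xb8a959c9a60ba2958d843c0a8559e0) (nat_lit 5) (nat_lit 4) .nil)) (nat_lit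
  0xb8aab1c92d3ba06a2a257b1049d820) (nat_lit 1) (nat_lit 4) (.node (.node .nil (nat_lit
  0xb8aab686237ba65a11263a18a85a40) (nat_lit 1) (nat_lit 4) .nil) (nat_lit
  0xb8aab811f38b86ca04e8498b26d940) (nat_lit 1) (nat_lit 4) (.node .nil (nat_lit
  0xb8aab9a8f04b9a8a49ec894c11d880) (nat_lit 1) (nat_lit 4) .nil)))))) (nat_lit
  0xb8aae418705502c5bcb33c9248d9a0) (nat_lit 5) (nat_lit 4) (.node (.node (.node (.node (.node (.node
  (.node .nil (nat_lit 0xb8aae54a27450a45cc2f819ac1d920) (nat_lit 1) (nat_lit 4) .nil) (nat_lit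
  0xb8aae7c6449d1a75a12a60cb035820) (nat_lit 1) (nat_lit 4) .nil) (nat_lit
  0xb8aae98ccc7d1305a9a824427958a0) (nat_lit 1) (nat_lit 4) (.node .nil (nat_lit
  0xb8ab44b1017adb271e71518642da00) (nat_lit 1) (nat_lit 4) .nil)) (nat_lit
  0xb8ab46263032c93716481bd4d3d820) (nat_lit 1) (nat_lit 4) (.node (.node .nil (nat_lit
  0xb8ab494e1122cc9729813b4af1d900) (nat_lit 1) (nat_lit 4) .nil) (nat_lit
  0xb8ab49c8286adec70d30290e655a20) (nat_lit 1) (nat_lit 4) (.node .nil (nat_lit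
  0xb8c259a9697b90c8ca0d31e84b0aa0) (nat_lit 1) (nat_lit 4) .nil))) (nat_lit
  0xb8c2b148ad7920ca290939a2eb4ea0) (nat_lit 5) (nat_lit 0) (.node (.node (.node (.node .nil (nat_lit
  0xb8c3121a90789ac29d2854973b3aa0) (nat_lit 1) (nat_lit 4) .nil) (nat_lit
  0xb8c3471e287cd2c599b0928a2b12a0) (nat_lit 1) (nat_lit 4) .nil) (nat_lit
  0xb8c490be30911aa4328b398aeb5660) (nat_lit 1) (nat_lit 4) (.node .nil (nat_lit
  0xb8c9414930305a75aa2563d15b4dc0) (nat_lit 1) (nat_lit 4) .nil)) (nat_lit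
  0xb8cb154a8f839a80cd2c21aa7b0960) (nat_lit 1) (nat_lit 4) (.node (.node .nil (nat_lit
  0xb8cd49a92b231ae84a280d4afb08e0) (nat_lit 1) (nat_lit 4) .nil) (nat_lit
  0xb8ced9aa3073e845c925a850cb08c0) (nat_lit 1) (nat_lit 4) (.node .nil (nat_lit
  0xb8d1498a215b9257a9b521987b4a00) (nat_lit 1) (nat_lit 4) .nil)))) (nat_lit
  0xb8d2c9c9e88b83458ab0390a6b29a0) (nat_lit 1) (nat_lit 4) (.node (.node (.node (.node (.node .nil
  (nat_lit 0xb8d49786259b9a25d68831e04b3240) (nat_lit 1) (nat_lit 4) .nil) (nat_lit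
  0xb8d7198a8c419b0aa92f3b824b48a0) (nat_lit 1) (nat_lit 4) .nil) (nat_lit
  0xb8d826c64b79a75825483b8a4b5020) (nat_lit 1) (nat_lit 4) (.node .nil (nat_lit
  0xb8d899ca267adb570a842c0e8b2820) (nat_lit 1) (nat_lit 4) .nil)) (nat_lit
  0xb8d8a8b6707ba555d04521907b2420) (nat_lit 1) (nat_lit 4) (.node (.node .nil (nat_lit
  0xb8d9494dae7c2353292742c85b0820) (nat_lit 1) (nat_lit 4) .nil) (nat_lit
  0xb8daf94d88a1eb15a830718a4b0920) (nat_lit 1) (nat_lit 4) (.node .nil (nat_lit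
  0xb8dcd14a2b3d686829287b0a1b4c80) (nat_lit 1) (nat_lit 4) .nil))) (nat_lit
  0xb8de754885ab5cc5ccc8a2611b0820) (nat_lit 1) (nat_lit 4) (.node (.node (.node (.node .nil (nat_lit
  0xb8ded82233a9e8c1153271944b2c20) (nat_lit 1) (nat_lit 4) .nil) (nat_lit
  0xb8dee988d0ad0ec4288b6c4a9b4820) (nat_lit 1) (nat_lit 4) .nil) (nat_lit
  0xb8df42ad2aab9ac9422239266b2020) (nat_lit 1) (nat_lit 4) (.node .nil (nat_lit
  0xb8e1454a352992b64da13b9e4b0900) (nat_lit 1) (nat_lit 4) .nil)) (nat_lit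
  0xb8e2194eb04b98d2a9e839166b0a80) (nat_lit 1) (nat_lit 4) (.node (.node .nil (nat_lit
  0xb8e54655b013a334052b31ca4b3d40) (nat_lit 1) (nat_lit 4) .nil) (nat_lit
  0xb8e74ab1a5512325bd2839a0eb0440) (nat_lit 1) (nat_lit 4) (.node .nil (nat_lit
  0xb8e959c83069de92898871964b2a20) (nat_lit 1) (nat_lit 4) .nil))))) (nat_lit
  0xb8ea4548f07a4c144dcb8b4b4b0980) (nat_lit 1) (nat_lit 4) (.node (.node (.node (.node (.node (.node .nil
  (nat_lit 0xb8ea6989c57c4815a8e84d20db4980) (nat_lit 1) (nat_lit 4) .nil) (nat_lit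
  0xb8ea89aa11610af4c974399aeb0820) (nat_lit 1) (nat_lit 4) .nil) (nat_lit
  0xb8ea994e270a1ac22a8e814cbb09e0) (nat_lit 1) (nat_lit 4) (.node .nil (nat_lit
  0xb8ead596227ba819a12a39246b4180) (nat_lit 1) (nat_lit 4) .nil)) (nat_lit
  0xb8eb0149146396f6a8b131d24b4c20) (nat_lit 1) (nat_lit 4) (.node (.node .nil (nat_lit
  0xb8eb13ba88649af59130988aab1820) (nat_lit 1) (nat_lit 4) .nil) (nat_lit
  0xb8eb24d0500994c5b6653b904b45e0) (nat_lit 1) (nat_lit 4) (.node .nil (nat_lit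
  0xb8eb3a254b0b84c84648218a7b35e0) (nat_lit 1) (nat_lit 4) .nil))) (nat_lit
  0xb8eb4312306292f2b9a814d72b1c20) (nat_lit 1) (nat_lit 4) (.node (.node (.node (.node .nil (nat_lit
  0xb8eb44413279da152e3371844b1580) (nat_lit 1) (nat_lit 4) .nil) (nat_lit
  0xb8eb49c9a40962c389265a1d0b29e0) (nat_lit 1) (nat_lit 4) .nil) (nat_lit
  0xb903413e1190caa5b128399b674ea0) (nat_lit 1) (nat_lit 4) (.node .nil (nat_lit
  0xb90480c9a578e2c4a97439a1675660) (nat_lit 1) (nat_lit 4) .nil)) (nat_lit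
  0xb9074748d04cda85a9ec2c4f6a8440) (nat_lit 1) (nat_lit 4) (.node (.node .nil (nat_lit
  0xb90a69be30928235b927452b6609a0) (nat_lit 1) (nat_lit 4) .nil) (nat_lit
  0xb90aa98629699ec152083bab61ae40) (nat_lit 1) (nat_lit 4) (.node .nil (nat_lit
  0xb90ae9ca227d1a74996362ab644020) (nat_lit 1) (nat_lit 4) .nil)))) (nat_lit
  0xb90b49b62b0ba488284c19ab63a5e0) (nat_lit 1) (nat_lit 4) (.node (.node (.node (.node (.node .nil
  (nat_lit 0xb90ca3c86d4960c5d1e89d5d688820) (nat_lit 1) (nat_lit 4) .nil) (nat_lit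
  0xb90f432dcd7c6089292cacc7628820) (nat_lit 1) (nat_lit 4) .nil) (nat_lit
  0xb9111526907b8455ce55199963b420) (nat_lit 1) (nat_lit 4) (.node .nil (nat_lit
  0xb913494de28b9ac2a2aa38d7634020) (nat_lit 1) (nat_lit 4) .nil)) (nat_lit
  0xb914542581799b15d6533ba9618a00) (nat_lit 1) (nat_lit 4) (.node (.node .nil (nat_lit
  0xb916c7c64299db4aa8a8719361c020) (nat_lit 1) (nat_lit 4) .nil) (nat_lit
  0xb9193a49415b9b57c5251991638a00) (nat_lit 1) (nat_lit 4) (.node .nil (nat_lit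
  0xb91a883c5393aac5a93431c361c4a0) (nat_lit 1) (nat_lit 4) .nil))) (nat_lit
  0xb91ca1acf07d5ac95128894d698440) (nat_lit 1) (nat_lit 4) (.node (.node (.node (.node .nil (nat_lit
  0xb91ec59530ab8349aa2838e56309a0) (nat_lit 1) (nat_lit 4) .nil) (nat_lit
  0xb92146c8357ba6a4b16831c5619620) (nat_lit 1) (nat_lit 4) .nil) (nat_lit
  0xb92229aeac79d109052d718b61d140) (nat_lit 1) (nat_lit 4) (.node .nil (nat_lit
  0xb922899eb032c4c7287493cb64b420) (nat_lit 5) (nat_lit 4) .nil)) (nat_lit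
  0xb922d9caaa4ba815c1e238cb632180) (nat_lit 1) (nat_lit 4) (.node (.node .nil (nat_lit
  0xb92349baa11c9aa3b0c85a4b678a00) (nat_lit 1) (nat_lit 4) .nil) (nat_lit
  0xb92544d57029c2c8a26a719f6189a0) (nat_lit 1) (nat_lit 4) (.node .nil (nat_lit
  0xb926baaa3060dafa4909398b670440) (nat_lit 1) (nat_lit 4) .nil))))))) (nat_lit
  0xb926caca27588d47a928834b60b860) (nat_lit 1) (nat_lit 4) (.node (.node (.node (.node (.node (.node
  (.node (.node .nil (nat_lit 0xb926faa22da3a0b6255231cb618820) (nat_lit 1) (nat_lit 4) .nil) (nat_lit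
  0xb9274aa626784ec5a24a6c0b610dc0) (nat_lit 1) (nat_lit 4) .nil) (nat_lit
  0xb92956491059853795313b9561b420) (nat_lit 1) (nat_lit 4) (.node .nil (nat_lit
  0xb92a12ae287b98d9093038e7632a80) (nat_lit 1) (nat_lit 4) .nil)) (nat_lit
  0xb92a38ca707a02649d6e530b6a09a0) (nat_lit 1) (nat_lit 4) (.node (.node .nil (nat_lit
  0xb92a78be62931ae58d26a20b654020) (nat_lit 1) (nat_lit 4) .nil) (nat_lit
  0xb92a829a213a5ac1a9d47ca7658a00) (nat_lit 1) (nat_lit 4) (.node .nil (nat_lit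
  0xb92a99b0ad50e1243e8b39a3670820) (nat_lit 1) (nat_lit 4) .nil))) (nat_lit
  0xb92aa88a6f8392c0d1a8198b63c960) (nat_lit 5) (nat_lit 4) (.node (.node (.node (.node .nil (nat_lit
  0xb92ac9a4ae7c0745aa481063669cc0) (nat_lit 1) (nat_lit 4) .nil) (nat_lit
  0xb92b02ca3449d425b5e171a761b100) (nat_lit 5) (nat_lit 4) .nil) (nat_lit
  0xb92b29d0b0439a952d8f31e3618440) (nat_lit 1) (nat_lit 4) (.node .nil (nat_lit
  0xb92b428e3073c4a330e84ae7693420) (nat_lit 1) (nat_lit 4) .nil)) (nat_lit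
  0xb92b48c272119686a82c3b8b61bd20) (nat_lit 1) (nat_lit 4) (.node (.node .nil (nat_lit
  0xb92b49c8a35b5cc7a12a08a36818e0) (nat_lit 1) (nat_lit 4) .nil) (nat_lit
  0xb9431312906b9e91a9883ced258aa0) (nat_lit 1) (nat_lit 4) (.node .nil (nat_lit
  0xb94523d18b73db18288899ac91d420) (nat_lit 1) (nat_lit 4) .nil)))) (nat_lit
  0xb946184973539a78bd2461ac8a8a80) (nat_lit 1) (nat_lit 4) (.node (.node (.node (.node (.node .nil
  (nat_lit 0xb94869ca297a9a813a0c1d2d53ac20) (nat_lit 1) (nat_lit 4) .nil) (nat_lit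
  0xb948a9b63009a475d12363ad5409e0) (nat_lit 1) (nat_lit 4) .nil) (nat_lit
  0xb948e9be2b9502c818483aad51a5a0) (nat_lit 1) (nat_lit 4) (.node .nil (nat_lit
  0xb9494986226b9e34a96741ad564240) (nat_lit 1) (nat_lit 4) .nil)) (nat_lit
  0xb94c40c6487a9a95b9903d6d418a60) (nat_lit 1) (nat_lit 4) (.node (.node .nil (nat_lit
  0xb94f2151307b9445b623a9acc44c20) (nat_lit 1) (nat_lit 4) .nil) (nat_lit
  0xb951459a117b5c79a93564ac320820) (nat_lit 5) (nat_lit 4) (.node .nil (nat_lit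
  0xb9534648eb7b953836a8886c2190c0) (nat_lit 1) (nat_lit 4) .nil))) (nat_lit
  0xb95467c9a39922c5d4e84d2ce80820) (nat_lit 1) (nat_lit 4) (.node (.node (.node (.node .nil (nat_lit
  0xb9561448647b5ccaa85339ad08a680) (nat_lit 1) (nat_lit 4) .nil) (nat_lit
  0xb95944c85073db55aa63206c7444c0) (nat_lit 1) (nat_lit 4) .nil) (nat_lit
  0xb95b47055024eac444eb49acf18a40) (nat_lit 1) (nat_lit 4) (.node .nil (nat_lit
  0xb95c66c9f08d6624112b3d2ca1b020) (nat_lit 1) (nat_lit 4) .nil)) (nat_lit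
  0xb95f4505c3ac4825cd2839acd83240) (nat_lit 1) (nat_lit 4) (.node (.node .nil (nat_lit
  0xb961419915539ac23c513cacb9a420) (nat_lit 1) (nat_lit 4) .nil) (nat_lit
  0xb96219cab06092f19da851ac45ba80) (nat_lit 1) (nat_lit 4) (.node .nil (nat_lit
  0xb96239a2a67b94c0b4f24c2c4a0960) (nat_lit 1) (nat_lit 4) .nil))))) (nat_lit
  0xb962b9c2b273da2a29263a2c40b060) (nat_lit 1) (nat_lit 4) (.node (.node (.node (.node (.node (.node .nil
  (nat_lit 0xb963499aa8130ee5a5506cac41bc20) (nat_lit 1) (nat_lit 4) .nil) (nat_lit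
  0xb9653a54c86b9ec5a930146c119c80) (nat_lit 1) (nat_lit 4) .nil) (nat_lit
  0xb9662a9e307b5c64282b932c41d120) (nat_lit 1) (nat_lit 4) (.node .nil (nat_lit
  0xb9667a8a23539a15bcc8a26c484980) (nat_lit 1) (nat_lit 4) .nil)) (nat_lit
  0xb9672ad22f82d0c70d2d11ac451c20) (nat_lit 1) (nat_lit 4) (.node (.node .nil (nat_lit
  0xb9674aca2a1a1696c18e386c4788c0) (nat_lit 1) (nat_lit 4) .nil) (nat_lit
  0xb969594c307a9ac1b928112c659e20) (nat_lit 1) (nat_lit 4) (.node .nil (nat_lit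
  0xb96a124a283a44a5b1d079ad31b680) (nat_lit 1) (nat_lit 4) .nil))) (nat_lit
  0xb96a68ca676b9eb62862852c44a020) (nat_lit 1) (nat_lit 4) (.node (.node (.node (.node .nil (nat_lit
  0xb96a820e217b942335343aed393200) (nat_lit 1) (nat_lit 4) .nil) (nat_lit
  0xb96a99b0837b5d25aa8831ed180440) (nat_lit 1) (nat_lit 4) .nil) (nat_lit
  0xb96ac9a490539b443e4b08ad1198e0) (nat_lit 1) (nat_lit 4) (.node .nil (nat_lit
  0xb96ad8aa703068c5c8433bec4425c0) (nat_lit 1) (nat_lit 4) .nil)) (nat_lit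
  0xb96af8ba6ba48c780528636c418940) (nat_lit 1) (nat_lit 4) (.node (.node .nil (nat_lit
  0xb96b022e3473dac928e148ed330900) (nat_lit 1) (nat_lit 4) .nil) (nat_lit
  0xb96b29d08e5c0697a18a39ad168820) (nat_lit 1) (nat_lit 4) (.node .nil (nat_lit
  0xb96b421a3049d8d189e874ad35a820) (nat_lit 1) (nat_lit 4) .nil)))) (nat_lit
  0xb96b48866c7a9b03b90959ac410e40) (nat_lit 1) (nat_lit 4) (.node (.node (.node (.node (.node .nil
  (nat_lit 0xb96b49c88d40e0c52d2f106d171cc0) (nat_lit 1) (nat_lit 4) .nil) (nat_lit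
  0xb983062a34139b35c8a81d9243bea0) (nat_lit 1) (nat_lit 4) .nil) (nat_lit
  0xb98415c94f81dac9c509758a41d680) (nat_lit 1) (nat_lit 4) (.node .nil (nat_lit
  0xb9874985ee8c1ab61c88558a9a8a40) (nat_lit 1) (nat_lit 4) .nil)) (nat_lit
  0xb98856c9e78aa6c5b86885a9548820) (nat_lit 1) (nat_lit 4) (.node (.node .nil (nat_lit
  0xb98aa64112791b35d0313daae18920) (nat_lit 1) (nat_lit 4) .nil) (nat_lit
  0xb98f4686247a66c58dc2ad8b052240) (nat_lit 1) (nat_lit 4) (.node .nil (nat_lit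
  0xb99149961151d8d5bc5575a441a420) (nat_lit 1) (nat_lit 4) .nil))) (nat_lit
  0xb992b0b63079e45a2aa2759841a260) (nat_lit 1) (nat_lit 4) (.node (.node (.node (.node .nil (nat_lit
  0xb992d2adf08ba8192aa83da6320980) (nat_lit 1) (nat_lit 4) .nil) (nat_lit
  0xb99329d0702096c6aaa7458af8b820) (nat_lit 1) (nat_lit 4) .nil) (nat_lit
  0xb9934648901a1b35aaae1583179ca0) (nat_lit 1) (nat_lit 4) (.node .nil (nat_lit
  0xb994499e304158d5d52f959d408860) (nat_lit 1) (nat_lit 4) .nil)) (nat_lit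
  0xb99458ca70691e81552c3da8e1ac20) (nat_lit 1) (nat_lit 4) (.node (.node .nil (nat_lit
  0xb994e58c507d1ac9d5280d885944e0) (nat_lit 1) (nat_lit 4) .nil) (nat_lit
  0xb9954105706390f8d52d1d8a43ce40) (nat_lit 1) (nat_lit 4) (.node .nil (nat_lit
  0xb99725504c78d30acda83d8a474420) (nat_lit 1) (nat_lit 4) .nil)))))) (nat_lit
  0xb99944ca2b40d558366f3d824708a0) (nat_lit 1) (nat_lit 4) (.node (.node (.node (.node (.node (.node
  (.node .nil (nat_lit 0xb99b28523343aaa4b16f258a718820) (nat_lit 1) (nat_lit 4) .nil) (nat_lit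
  0xb99c59ca237d5ab610e24da8a82020) (nat_lit 1) (nat_lit 4) .nil) (nat_lit
  0xb99e19c922ab98d5a22a3d8a324280) (nat_lit 1) (nat_lit 0) (.node .nil (nat_lit
  0xb9a013ca3512c83729289d8ad63e80) (nat_lit 1) (nat_lit 4) .nil)) (nat_lit
  0xb9a029c65508dab629253d904751e0) (nat_lit 1) (nat_lit 4) (.node (.node .nil (nat_lit
  0xb9a0f6a0b5a3a6c5a93225a2718440) (nat_lit 1) (nat_lit 4) .nil) (nat_lit
  0xb9a14215157b0ee1a9316da5358820) (nat_lit 1) (nat_lit 4) (.node .nil (nat_lit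
  0xb9a34596a84b9ac989f03da4322820) (nat_lit 1) (nat_lit 4) .nil))) (nat_lit
  0xb9a499d5057b96c686911da0438940) (nat_lit 1) (nat_lit 4) (.node (.node (.node (.node .nil (nat_lit
  0xb9a74ac84d7ba0952d88258271c4a0) (nat_lit 5) (nat_lit 4) .nil) (nat_lit
  0xb9a959a6211116c696483d94e1be00) (nat_lit 1) (nat_lit 4) .nil) (nat_lit
  0xb9aa1749107cc643a5515d8ac68a80) (nat_lit 1) (nat_lit 4) (.node .nil (nat_lit
  0xb9aa39b8497c98d5aa082d8e1a4480) (nat_lit 1) (nat_lit 4) .nil)) (nat_lit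
  0xb9aa57c9a99ba2242a0b1da843b020) (nat_lit 5) (nat_lit 4) (.node (.node .nil (nat_lit
  0xb9aa759229405ac9aa0fa5872289c0) (nat_lit 1) (nat_lit 4) .nil) (nat_lit
  0xb9aa89bc30939ab625542584719620) (nat_lit 1) (nat_lit 4) (.node .nil (nat_lit
  0xb9aac94e2a7b8342c1223d963221a0) (nat_lit 1) (nat_lit 4) .nil)))) (nat_lit
  0xb9ab168a9028e6c5a5413d9e474900) (nat_lit 1) (nat_lit 4) (.node (.node (.node (.node (.node .nil
  (nat_lit 0xb9ab2651ca3c5b35c1247d8a810c20) (nat_lit 1) (nat_lit 4) .nil) (nat_lit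
  0xb9ab3a31ea89cb20c128759a418960) (nat_lit 1) (nat_lit 4) .nil) (nat_lit
  0xb9ab419630135c72254865a4b9bc20) (nat_lit 1) (nat_lit 4) (.node .nil (nat_lit
  0xb9ab440589590517aa133d8ae1b640) (nat_lit 1) (nat_lit 4) .nil)) (nat_lit
  0xb9ab49c8ea73d6c6c1238d822410a0) (nat_lit 1) (nat_lit 4) (.node (.node .nil (nat_lit
  0xb9c347a9109b9626c931b0ca4332a0) (nat_lit 1) (nat_lit 4) .nil) (nat_lit
  0xb9c53a16307998d0a909b3a441d560) (nat_lit 1) (nat_lit 4) (.node .nil (nat_lit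
  0xb9c6f99a30a35c558524b4988a8940) (nat_lit 1) (nat_lit 4) .nil))) (nat_lit
  0xb9c94839737c8c58a923b359540820) (nat_lit 1) (nat_lit 4) (.node (.node (.node (.node .nil (nat_lit
  0xb9cb3a09507b9285c5acb1aa324820) (nat_lit 1) (nat_lit 4) .nil) (nat_lit
  0xb9cd480e337a08c5844eb54ad92540) (nat_lit 1) (nat_lit 4) .nil) (nat_lit
  0xb9d0a8ca6b0b9a585135b1983209e0) (nat_lit 1) (nat_lit 4) (.node .nil (nat_lit
  0xb9d0b0c9ea899aca4055b38a41a660) (nat_lit 1) (nat_lit 4) .nil)) (nat_lit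
  0xb9d109ca34789a452cd5b246c2b820) (nat_lit 1) (nat_lit 4) (.node (.node .nil (nat_lit
  0xb9d147c8309a5a35a9d5b088561a20) (nat_lit 1) (nat_lit 4) .nil) (nat_lit
  0xb9d349b14f818b25c6a2b39a41a020) (nat_lit 1) (nat_lit 4) (.node .nil (nat_lit
  0xb9d50985b47ba2c454abb0d2430a40) (nat_lit 1) (nat_lit 4) .nil))))) (nat_lit
  0xb9d709c65479022aa12ab18ae1b1a0) (nat_lit 1) (nat_lit 4) (.node (.node (.node (.node (.node (.node .nil
  (nat_lit 0xb9d949a62f838550aa45b190323560) (nat_lit 5) (nat_lit 4) .nil) (nat_lit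
  0xb9da32494673eac5c4a8b4133a0820) (nat_lit 1) (nat_lit 4) .nil) (nat_lit
  0xb9dae34a241d2a20a928b4cb07b160) (nat_lit 1) (nat_lit 4) (.node .nil (nat_lit
  0xb9daf9c930a0ea111628b194472d80) (nat_lit 1) (nat_lit 4) .nil)) (nat_lit
  0xb9db4848b37baab62548b122618440) (nat_lit 1) (nat_lit 4) (.node (.node .nil (nat_lit
  0xb9dcf99170a546c8a846b20b26a420) (nat_lit 1) (nat_lit 4) .nil) (nat_lit
  0xb9ded44032a8e895a993b18a470a20) (nat_lit 1) (nat_lit 4) (.node .nil (nat_lit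
  0xb9e086be3593a6952d94b10a618820) (nat_lit 1) (nat_lit 4) .nil))) (nat_lit
  0xb9e347aeb09914c934a1b192e18900) (nat_lit 1) (nat_lit 4) (.node (.node (.node (.node .nil (nat_lit
  0xb9e422d56c491b08a9e8b1a6e1d020) (nat_lit 1) (nat_lit 4) .nil) (nat_lit
  0xb9e4515629639af58608b0e8434d40) (nat_lit 1) (nat_lit 4) .nil) (nat_lit
  0xb9e53a54907adac70d28b0451514c0) (nat_lit 1) (nat_lit 4) (.node .nil (nat_lit
  0xb9e549d5cf845a921988b28ab08860) (nat_lit 1) (nat_lit 4) .nil)) (nat_lit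
  0xb9e72ad02d43a0c5a92fb104619620) (nat_lit 1) (nat_lit 4) (.node (.node .nil (nat_lit
  0xb9e9594e2868dec52d30b184471420) (nat_lit 1) (nat_lit 4) .nil) (nat_lit
  0xb9ea15b61151a459bd28b398418a80) (nat_lit 1) (nat_lit 4) (.node .nil (nat_lit
  0xb9ea41a14e341a25c532b3cb49b020) (nat_lit 5) (nat_lit 4) .nil)))) (nat_lit
  0xb9ea67222324dac0a8b2b512f80960) (nat_lit 1) (nat_lit 4) (.node (.node (.node (.node (.node .nil
  (nat_lit 0xb9ea964965139138aa8db0e0433c20) (nat_lit 1) (nat_lit 4) .nil) (nat_lit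
  0xb9eac4ca22291145866db19ee1c140) (nat_lit 1) (nat_lit 4) .nil) (nat_lit
  0xb9eaf9a050a39aa4b172b10261c4a0) (nat_lit 1) (nat_lit 4) (.node .nil (nat_lit
  0xb9eb09b4347b24e5a868b14c249220) (nat_lit 1) (nat_lit 4) .nil)) (nat_lit
  0xb9eb1536815ba4c7cc48b18a322600) (nat_lit 1) (nat_lit 4) (.node (.node .nil (nat_lit
  0xb9eb3a4870785093118db2caa889c0) (nat_lit 1) (nat_lit 4) .nil) (nat_lit
  0xb9eb47b6309964652c88b31c910c20) (nat_lit 1) (nat_lit 4) (.node .nil (nat_lit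
  0xb9eb48219378db128832b196472920) (nat_lit 1) (nat_lit 4) .nil))) (nat_lit
  0xb9eb49c8cf8290c1b92db444159480) (nat_lit 1) (nat_lit 4) (.node (.node (.node (.node .nil (nat_lit
  0xba02c3b9e38c9345a9b6998a480aa0) (nat_lit 1) (nat_lit 4) .nil) (nat_lit
  0xba0449bdb09262c1a9d631cb45d420) (nat_lit 1) (nat_lit 4) .nil) (nat_lit
  0xba0749ae2d13a0492836298ecabd20) (nat_lit 1) (nat_lit 4) (.node .nil (nat_lit
  0xba08d4a8507ba875ca76618752c420) (nat_lit 1) (nat_lit 4) .nil)) (nat_lit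
  0xba0b4740d27cd646a9361c6ac38820) (nat_lit 1) (nat_lit 4) (.node (.node .nil (nat_lit
  0xba0d49c6456a5ea5b1d61560419c20) (nat_lit 1) (nat_lit 4) .nil) (nat_lit
  0xba0ea7c82b989ac850d6aa4a41ba20) (nat_lit 1) (nat_lit 4) (.node .nil (nat_lit
  0xba0eb9ca2a7a5a5a41d6a898321820) (nat_lit 1) (nat_lit 4) .nil)))))))) (nat_lit
  0xba0f00c9f48b9a352d36a988560a60) (nat_lit 1) (nat_lit 4) (.node (.node (.node (.node (.node (.node
  (.node (.node (.node .nil (nat_lit 0xba0f48ca70099a45a856ab86c2a5e0) (nat_lit 1) (nat_lit 4) .nil)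
  (nat_lit 0xba13494e2379c2c592b6708aa819a0) (nat_lit 1) (nat_lit 4) .nil) (nat_lit
  0xba1474922b3398d85676a3cb218820) (nat_lit 1) (nat_lit 4) (.node .nil (nat_lit
  0xba16a70e2714cacad136819a493c20) (nat_lit 1) (nat_lit 4) .nil)) (nat_lit
  0xba1929d230305555b53623c67289c0) (nat_lit 1) (nat_lit 4) (.node (.node (.node .nil (nat_lit
  0xba1a27489054ea62bd363b1711d020) (nat_lit 1) (nat_lit 4) .nil) (nat_lit
  0xba1a42c8417aeac7287639a744c600) (nat_lit 1) (nat_lit 4) .nil) (nat_lit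
  0xba1b19ca8363aaf598363a8a281120) (nat_lit 1) (nat_lit 4) (.node .nil (nat_lit
  0xba1b45ca29316aa9b2163bdc408860) (nat_lit 1) (nat_lit 4) .nil))) (nat_lit
  0xba1cc686307d6742a8f64896419a40) (nat_lit 1) (nat_lit 4) (.node (.node (.node (.node .nil (nat_lit
  0xba1f4088f0ab8ca1b1368b4a45ca60) (nat_lit 1) (nat_lit 4) .nil) (nat_lit
  0xba20a994d57b86c3d0365c64468920) (nat_lit 1) (nat_lit 4) .nil) (nat_lit
  0xba22409aa53b84c5a9367ca141b660) (nat_lit 1) (nat_lit 4) (.node .nil (nat_lit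
  0xba241254c57b1ae5a5563c61318a80) (nat_lit 1) (nat_lit 4) .nil)) (nat_lit
  0xba24c9d611185b412936394c47adc0) (nat_lit 1) (nat_lit 4) (.node (.node .nil (nat_lit
  0xba24e55630151a11cc96398a95bd80) (nat_lit 1) (nat_lit 4) .nil) (nat_lit
  0xba2544d4a65b9ac792763c22a10c20) (nat_lit 1) (nat_lit 4) (.node .nil (nat_lit
  0xba274aa5f08b5cc292560996a188e0) (nat_lit 6) (nat_lit 0) .nil)))) (nat_lit
  0xba2959b04b7849281d36518ad1c5c0) (nat_lit 1) (nat_lit 4) (.node (.node (.node (.node (.node .nil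
  (nat_lit 0xba2a39b5ec8a650215d63994ba0820) (nat_lit 1) (nat_lit 4) .nil) (nat_lit
  0xba2a481e3330dac4a97693c34708a0) (nat_lit 1) (nat_lit 4) .nil) (nat_lit
  0xba2a50b6247ba4b60d3638a9051a60) (nat_lit 1) (nat_lit 4) (.node .nil (nat_lit
  0xba2a699d50239a22c4369516f1b120) (nat_lit 1) (nat_lit 4) .nil)) (nat_lit
  0xba2a9648d0790f3186966c4ae58940) (nat_lit 1) (nat_lit 4) (.node (.node .nil (nat_lit
  0xba2aa1353073e4c5d236384642ccc0) (nat_lit 1) (nat_lit 4) .nil) (nat_lit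
  0xba2ac4c86f838f432a766ac4489420) (nat_lit 1) (nat_lit 4) (.node .nil (nat_lit
  0xba2af71d83a4db158936910a682820) (nat_lit 1) (nat_lit 4) .nil))) (nat_lit
  0xba2b3a4a25128e95b99669a011bc80) (nat_lit 1) (nat_lit 4) (.node (.node (.node (.node .nil (nat_lit
  0xba2b419c4e7c1aa0b0b6919249c560) (nat_lit 1) (nat_lit 4) .nil) (nat_lit
  0xba2b4335cb4c644829f63ccac18440) (nat_lit 1) (nat_lit 4) .nil) (nat_lit
  0xba2b49c962284ec8913668dea341c0) (nat_lit 1) (nat_lit 4) (.node .nil (nat_lit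
  0xba43434a285a8657bad03cd8468aa0) (nat_lit 1) (nat_lit 4) .nil)) (nat_lit
  0xba4439ca257a1aa232ce31e0ba5420) (nat_lit 1) (nat_lit 4) (.node (.node .nil (nat_lit
  0xba46a9c8cd23a025d2c13c4afab100) (nat_lit 1) (nat_lit 4) .nil) (nat_lit
  0xba4944286b339ac84ad33bc5589420) (nat_lit 1) (nat_lit 4) (.node .nil (nat_lit
  0xba4b40c9a27ba2621ec8532ab1c260) (nat_lit 1) (nat_lit 4) .nil))))) (nat_lit
  0xba4cb9b5f08a24ca2ace154a321c20) (nat_lit 1) (nat_lit 4) (.node (.node (.node (.node (.node (.node .nil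
  (nat_lit 0xba4cd62e3078a9392ac7454241b8a0) (nat_lit 1) (nat_lit 4) .nil) (nat_lit
  0xba4d20d0901b9656aac83d59178a60) (nat_lit 1) (nat_lit 4) .nil) (nat_lit
  0xba4d42c87021da15aac27566f8a180) (nat_lit 1) (nat_lit 4) (.node .nil (nat_lit
  0xba4f49bdac92230596cea894419820) (nat_lit 1) (nat_lit 4) .nil)) (nat_lit
  0xba514512217986c5ced5138b269e00) (nat_lit 1) (nat_lit 4) (.node (.node .nil (nat_lit
  0xba5429c8f0584a37d6c8899a4651c0) (nat_lit 1) (nat_lit 4) .nil) (nat_lit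
  0xba54394e300ada2756c4398a8a31e0) (nat_lit 1) (nat_lit 4) (.node .nil (nat_lit
  0xba54c410b07b8f45d6d369a3210c20) (nat_lit 1) (nat_lit 4) .nil))) (nat_lit
  0xba554221b073e2c0d6d2298f318960) (nat_lit 1) (nat_lit 4) (.node (.node (.node (.node .nil (nat_lit
  0xba56d99a245068cabec83c850195c0) (nat_lit 1) (nat_lit 4) .nil) (nat_lit
  0xba5830be27939b558ac8814c4a2a60) (nat_lit 1) (nat_lit 4) .nil) (nat_lit
  0xba5a69ad437baac946c12d0e480900) (nat_lit 1) (nat_lit 4) (.node .nil (nat_lit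
  0xba5d184a935d5ac786c6120a419d40) (nat_lit 1) (nat_lit 4) .nil)) (nat_lit
  0xba5f49c072a85a752ec8610a6889c0) (nat_lit 1) (nat_lit 4) (.node (.node .nil (nat_lit
  0xba60e8ca757d02c22ac33984b415a0) (nat_lit 1) (nat_lit 4) .nil) (nat_lit
  0xba611732953cdb212ac8798851ac20) (nat_lit 1) (nat_lit 4) (.node .nil (nat_lit
  0xba613a3dd5945075aacd618a408860) (nat_lit 1) (nat_lit 4) .nil)))) (nat_lit
  0xba61499e356386f2aac19196269100) (nat_lit 1) (nat_lit 4) (.node (.node (.node (.node (.node .nil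
  (nat_lit 0xba63074ab424d4c5b6c828cef30820) (nat_lit 5) (nat_lit 4) .nil) (nat_lit
  0xba64d4562f83a87312d362caa18820) (nat_lit 1) (nat_lit 4) .nil) (nat_lit
  0xba671a928e7c1a55a2ca38592188c0) (nat_lit 1) (nat_lit 4) (.node .nil (nat_lit
  0xba69572e117ccc290ec83b4a453020) (nat_lit 1) (nat_lit 4) .nil)) (nat_lit
  0xba6a11bd10935cc59ad13a84499680) (nat_lit 1) (nat_lit 4) (.node (.node .nil (nat_lit
  0xba6a378626991ac42acb2c0eea0a40) (nat_lit 1) (nat_lit 4) .nil) (nat_lit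
  0xba6a49c64a6a1e51c2ce3999458820) (nat_lit 1) (nat_lit 4) (.node .nil (nat_lit
  0xba6a599186784515aac81c2923b5c0) (nat_lit 1) (nat_lit 4) .nil))) (nat_lit
  0xba6a7448465b98d7aad3a40642c420) (nat_lit 1) (nat_lit 4) (.node (.node (.node (.node .nil (nat_lit
  0xba6a86c83078e6721ad4628ab70a20) (nat_lit 1) (nat_lit 4) .nil) (nat_lit
  0xba6ad3ca2a216885c2cc999cf18440) (nat_lit 1) (nat_lit 4) .nil) (nat_lit
  0xba6af08d6aa388c8c2c8118ad91e60) (nat_lit 1) (nat_lit 4) (.node .nil (nat_lit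
  0xba6b199690139a439ac15aa4c1bd00) (nat_lit 1) (nat_lit 4) .nil)) (nat_lit
  0xba6b412c6a7b1ae942c5099048cce0) (nat_lit 1) (nat_lit 4) (.node (.node .nil (nat_lit
  0xba6b45b9a644a229aacf3c0a11b080) (nat_lit 1) (nat_lit 4) .nil) (nat_lit
  0xba6b470a302cc6b61ac8229e76c820) (nat_lit 1) (nat_lit 4) (.node .nil (nat_lit
  0xba83498e1173da44d96831cac90aa0) (nat_lit 1) (nat_lit 4) .nil)))))) (nat_lit
  0xba84c341727b5d48d8683cca44d420) (nat_lit 1) (nat_lit 4) (.node (.node (.node (.node (.node (.node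
  (.node .nil (nat_lit 0xba86c81a332b9b45d8480c9e4aa4e0) (nat_lit 1) (nat_lit 4) .nil) (nat_lit
  0xba88694c2c795b05d9093d1d518a20) (nat_lit 5) (nat_lit 4) .nil) (nat_lit
  0xba8a41c8ef8192c5d9a88bab498820) (nat_lit 1) (nat_lit 4) (.node .nil (nat_lit
  0xba8c488670795ac159281d5d43ae40) (nat_lit 1) (nat_lit 4) .nil)) (nat_lit
  0xba8c598e306110f5d92d0d68e908e0) (nat_lit 1) (nat_lit 4) (.node (.node .nil (nat_lit
  0xba8ce149704518d8d92f3d4851cc20) (nat_lit 1) (nat_lit 4) .nil) (nat_lit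
  0xba8d459c506b9e89d92c954a40c460) (nat_lit 1) (nat_lit 4) (.node .nil (nat_lit
  0xba8e898d2b7b8ac85a34a85a4908c0) (nat_lit 1) (nat_lit 4) .nil))) (nat_lit
  0xba91094e346b9e63d8955b0a918820) (nat_lit 1) (nat_lit 4) (.node (.node (.node (.node .nil (nat_lit
  0xba9224123073da30dab3398b265160) (nat_lit 5) (nat_lit 4) .nil) (nat_lit
  0xba923220f07b8a25dab2899b3a3020) (nat_lit 1) (nat_lit 4) .nil) (nat_lit
  0xba92c9c9b00ae3475aa8298e410de0) (nat_lit 1) (nat_lit 4) (.node .nil (nat_lit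
  0xba93494cb0584ec7daa469a28189c0) (nat_lit 1) (nat_lit 4) .nil)) (nat_lit
  0xba968148c773dacad834844a41cd20) (nat_lit 1) (nat_lit 4) (.node (.node .nil (nat_lit
  0xba9899c8246b9f55da863a0b010e20) (nat_lit 1) (nat_lit 4) .nil) (nat_lit
  0xba9b4988ee342a85d8ac8bd241c820) (nat_lit 1) (nat_lit 4) (.node .nil (nat_lit
  0xba9c498a2d4d60c0d9e8394d41c960) (nat_lit 5) (nat_lit 4) .nil)))) (nat_lit
  0xba9f41ca25aa4c80d9cc3b60498960) (nat_lit 1) (nat_lit 4) (.node (.node (.node (.node (.node .nil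
  (nat_lit 0xbaa071c8952b9a14592ba19f198980) (nat_lit 1) (nat_lit 4) .nil) (nat_lit
  0xbaa087b63598a4c3d934598642b820) (nat_lit 1) (nat_lit 4) .nil) (nat_lit
  0xbaa0b989957b5d1a5927418a11c880) (nat_lit 1) (nat_lit 4) (.node .nil (nat_lit
  0xbaa142b8351c8445d92839a6c7b620) (nat_lit 1) (nat_lit 4) .nil)) (nat_lit
  0xbaa3414aa17b8a4358e84adac1ce00) (nat_lit 1) (nat_lit 4) (.node (.node .nil (nat_lit
  0xbaa544d6227b5cc5da6408ca8340e0) (nat_lit 1) (nat_lit 4) .nil) (nat_lit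
  0xbaa74aa5632b9ac8da44389e881820) (nat_lit 1) (nat_lit 4) (.node .nil (nat_lit
  0xbaa959ca28795a93d990591c610c20) (nat_lit 5) (nat_lit 4) .nil))) (nat_lit
  0xbaaa1989102b9a7258d1625eb1ca80) (nat_lit 1) (nat_lit 4) (.node (.node (.node (.node .nil (nat_lit
  0xbaaa43ac696b9ec95a08998b488440) (nat_lit 1) (nat_lit 4) .nil) (nat_lit
  0xbaaa87143014c6c5d8d43a6446be20) (nat_lit 1) (nat_lit 4) .nil) (nat_lit
  0xbaaac94dc63c5746d9287c024188a0) (nat_lit 1) (nat_lit 4) (.node .nil (nat_lit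
  0xbaaad98d692328e8da053990f90820) (nat_lit 5) (nat_lit 4) .nil)) (nat_lit
  0xbaaaf14a29a20855da0e0998d1cce0) (nat_lit 1) (nat_lit 4) (.node (.node .nil (nat_lit
  0xbaab11ca907b5cb658c1224a798900) (nat_lit 1) (nat_lit 4) .nil) (nat_lit
  0xbaab2652267b8b30d9233c1a241160) (nat_lit 1) (nat_lit 4) (.node .nil (nat_lit
  0xbaab3a30e673db25d9228c0a322020) (nat_lit 1) (nat_lit 4) .nil))))) (nat_lit
  0xbaab40c649795a81da0c119c459e60) (nat_lit 1) (nat_lit 4) (.node (.node (.node (.node (.node (.node .nil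
  (nat_lit 0xbaab46be3090e643d8c85a44c71420) (nat_lit 10) (nat_lit 0) .nil) (nat_lit
  0xbaab49c9e689c2c2d9247416810da0) (nat_lit 1) (nat_lit 4) .nil) (nat_lit
  0xbac319ca904a98db39e81186429ea0) (nat_lit 1) (nat_lit 4) (.node .nil (nat_lit
  0xbac5430d49439acb460f3cc8595420) (nat_lit 1) (nat_lit 4) .nil)) (nat_lit
  0xbac5453cd0938e1b4d236c4a445580) (nat_lit 1) (nat_lit 4) (.node (.node .nil (nat_lit
  0xbac548ca657b827b188862a091d5a0) (nat_lit 1) (nat_lit 4) .nil) (nat_lit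
  0xbac549a2241b98db28b2099307d4e0) (nat_lit 1) (nat_lit 4) (.node .nil (nat_lit
  0xbac659bc2e941a6b29223b284aa220) (nat_lit 1) (nat_lit 4) .nil))) (nat_lit
  0xbac8f638e5a49b3b284889a151a420) (nat_lit 1) (nat_lit 4) (.node (.node (.node (.node .nil (nat_lit
  0xbaca36c8227a26cb288e39aa9a4220) (nat_lit 1) (nat_lit 4) .nil) (nat_lit
  0xbaccd125437b28eb46483d4a484c20) (nat_lit 1) (nat_lit 4) .nil) (nat_lit
  0xbacea991c87c58db5130a98b218440) (nat_lit 1) (nat_lit 4) (.node .nil (nat_lit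
  0xbad106be349166cb1d35519c410c20) (nat_lit 1) (nat_lit 4) .nil)) (nat_lit
  0xbad329d22573cccb06a83b60219140) (nat_lit 1) (nat_lit 4) (.node (.node .nil (nat_lit
  0xbad4734848485acb55f0a4ca41c5c0) (nat_lit 1) (nat_lit 4) .nil) (nat_lit
  0xbad93a4a2321855b29280b8af834e0) (nat_lit 1) (nat_lit 4) (.node .nil (nat_lit
  0xbada6726307cea2b2a450d1041b0e0) (nat_lit 1) (nat_lit 4) .nil)))) (nat_lit
  0xbadd4290ec7d510b292d88e7230820) (nat_lit 1) (nat_lit 4) (.node (.node (.node (.node (.node .nil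
  (nat_lit 0xbadd444a264d4a3b05f33c1a460940) (nat_lit 5) (nat_lit 4) .nil) (nat_lit
  0xbadd469c905566cb3c259191118920) (nat_lit 1) (nat_lit 4) .nil) (nat_lit
  0xbadd49c6430d5a6b2548230a7809e0) (nat_lit 1) (nat_lit 4) (.node .nil (nat_lit
  0xbade460a30aa5b3b05c3398b444940) (nat_lit 1) (nat_lit 4) .nil)) (nat_lit
  0xbae089ca3578da6b1c945304971420) (nat_lit 1) (nat_lit 4) (.node (.node .nil (nat_lit
  0xbae21312b079dacb092874c722aa80) (nat_lit 1) (nat_lit 4) .nil) (nat_lit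
  0xbae499d4f0110ccb2a838b4ae43c20) (nat_lit 1) (nat_lit 4) (.node .nil (nat_lit
  0xbae6cac950235d4b45253890f19820) (nat_lit 1) (nat_lit 4) .nil))) (nat_lit
  0xbae95218306392fb29a83c87328a20) (nat_lit 1) (nat_lit 4) (.node (.node (.node (.node .nil (nat_lit
  0xbae95648a7239b3b212a81a2f08860) (nat_lit 1) (nat_lit 4) .nil) (nat_lit
  0xbae957b6289ba44b1cd0524ac18820) (nat_lit 1) (nat_lit 4) .nil) (nat_lit
  0xbae959a46a7b8ccb424743424888a0) (nat_lit 1) (nat_lit 4) (.node .nil (nat_lit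
  0xbaea21922d7ba08b052c394d29d140) (nat_lit 1) (nat_lit 4) .nil)) (nat_lit
  0xbaea26a9233ba6cb4a28798a185080) (nat_lit 1) (nat_lit 4) (.node (.node .nil (nat_lit
  0xbaea2848f34b865b29e68a1846d020) (nat_lit 1) (nat_lit 4) .nil) (nat_lit
  0xbaea2985f08b9a6b10e54b10a1d240) (nat_lit 1) (nat_lit 4) (.node .nil (nat_lit
  0xbaeae0c9b07d22ab308331ca940a60) (nat_lit 1) (nat_lit 4) .nil))))))) (nat_lit
  0xbaeae3162f851acb29090ce43208e0) (nat_lit 1) (nat_lit 4) (.node (.node (.node (.node (.node (.node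
  (.node (.node .nil (nat_lit 0xbaeae3bd8595151b352898604188c0) (nat_lit 1) (nat_lit 4) .nil) (nat_lit
  0xbaeae9c1522d18db4464399e848820) (nat_lit 1) (nat_lit 4) .nil) (nat_lit
  0xbaeb44b02830892b2a703bcad1ba20) (nat_lit 1) (nat_lit 4) (.node .nil (nat_lit
  0xbaeb462611789b3b0e41298e453900) (nat_lit 1) (nat_lit 4) .nil)) (nat_lit
  0xbaeb494e30689e9b1d88510662b820) (nat_lit 1) (nat_lit 4) (.node (.node .nil (nat_lit
  0xbaeb49c901208ccb15311b54f3ba00) (nat_lit 1) (nat_lit 4) .nil) (nat_lit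
  0xbb0284ba307c8f612a74694c41aea0) (nat_lit 1) (nat_lit 4) (.node .nil (nat_lit
  0xbb02e9a1447d1766c532118b019ea0) (nat_lit 1) (nat_lit 4) .nil))) (nat_lit
  0xbb0323508a7a1b65c0ae3cd3118aa0) (nat_lit 1) (nat_lit 4) (.node (.node (.node (.node .nil (nat_lit
  0xbb0342ca117b856390c85a66a1b6a0) (nat_lit 1) (nat_lit 4) .nil) (nat_lit
  0xbb04a9c9d02c5766d068099e44d4e0) (nat_lit 1) (nat_lit 4) .nil) (nat_lit
  0xbb0629ca2e7c1b63254522d07ad020) (nat_lit 1) (nat_lit 4) (.node .nil (nat_lit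
  0xbb0696c6507ba7658a8741885aa820) (nat_lit 1) (nat_lit 4) .nil)) (nat_lit
  0xbb06a94da67ae36750483c0a4aa420) (nat_lit 1) (nat_lit 4) (.node (.node .nil (nat_lit
  0xbb0748b66b79a56829242b8e8a8820) (nat_lit 1) (nat_lit 4) .nil) (nat_lit
  0xbb08f5ca11a39b698523298f540940) (nat_lit 1) (nat_lit 4) (.node .nil (nat_lit
  0xbb0b4349d0145b65a8241cea83bd20) (nat_lit 1) (nat_lit 4) .nil)))) (nat_lit
  0xbb0d40ca2e6c1f61a0aa3d52458a60) (nat_lit 1) (nat_lit 4) (.node (.node (.node (.node (.node .nil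
  (nat_lit 0xbb0f49c2324b9766a9e4a986828440) (nat_lit 1) (nat_lit 4) .nil) (nat_lit
  0xbb1019ba30548d65bd352b4e320a80) (nat_lit 5) (nat_lit 4) .nil) (nat_lit
  0xbb12a342323b9b65d2a87cc2410ca0) (nat_lit 1) (nat_lit 4) (.node .nil (nat_lit
  0xbb1439ca11438d65d44f3b4a1a2480) (nat_lit 1) (nat_lit 4) .nil)) (nat_lit
  0xbb1647ca2e9c036aa92810cb431da0) (nat_lit 1) (nat_lit 4) (.node (.node .nil (nat_lit
  0xbb1b41c65033ab60a12a13ca499d60) (nat_lit 1) (nat_lit 4) .nil) (nat_lit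
  0xbb1c8985e38d5b6329343ac4481640) (nat_lit 1) (nat_lit 4) (.node .nil (nat_lit
  0xbb1e45a4a7a89b69aa4881a341b820) (nat_lit 1) (nat_lit 4) .nil))) (nat_lit
  0xbb1eb249d0ac556a35263a05319420) (nat_lit 1) (nat_lit 4) (.node (.node (.node (.node .nil (nat_lit
  0xbb1f3a4232ab916218ed4a8ab18820) (nat_lit 1) (nat_lit 4) .nil) (nat_lit
  0xbb1f499c49a94d65a20a935c41c420) (nat_lit 1) (nat_lit 4) .nil) (nat_lit
  0xbb2149bc3590db6310e84acaa70a20) (nat_lit 1) (nat_lit 4) (.node .nil (nat_lit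
  0xbb23468ea173e76591283984a91600) (nat_lit 1) (nat_lit 4) .nil)) (nat_lit
  0xbb2486d46f806765a8f4498a4889c0) (nat_lit 1) (nat_lit 4) (.node (.node .nil (nat_lit
  0xbb264ac6505b8767a8a838534688c0) (nat_lit 1) (nat_lit 4) .nil) (nat_lit
  0xbb2955ba30249b698c41398af52500) (nat_lit 1) (nat_lit 4) (.node .nil (nat_lit
  0xbb2a49952279cd65aa28736540c060) (nat_lit 1) (nat_lit 4) .nil))))) (nat_lit
  0xbb2a59c6500b9b631c8252e891a1e0) (nat_lit 1) (nat_lit 4) (.node (.node (.node (.node (.node (.node .nil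
  (nat_lit 0xbb2a6542327b89644d2b3d04d09460) (nat_lit 1) (nat_lit 4) .nil) (nat_lit
  0xbb2a76ca2e0c27659509a1942191e0) (nat_lit 1) (nat_lit 4) .nil) (nat_lit
  0xbb2a83ca111b9362a9b49896479820) (nat_lit 1) (nat_lit 4) (.node .nil (nat_lit
  0xbb2aa819730b5d68d1282c8e4189e0) (nat_lit 5) (nat_lit 4) .nil)) (nat_lit
  0xbb2ad449d07c69652cf3490a608860) (nat_lit 5) (nat_lit 4) (.node (.node .nil (nat_lit
  0xbb2b032914191b65c93114cae79c20) (nat_lit 1) (nat_lit 4) .nil) (nat_lit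
  0xbb2b1992881a9766b8b03993278820) (nat_lit 1) (nat_lit 4) (.node .nil (nat_lit
  0xbb2b413a301c8b64916831daa7cc20) (nat_lit 1) (nat_lit 4) .nil))) (nat_lit
  0xbb2b4588e57a5b69a1ca89a040c860) (nat_lit 1) (nat_lit 4) (.node (.node (.node (.node .nil (nat_lit
  0xbb2b472ccd0ce16928443c4a81a5e0) (nat_lit 1) (nat_lit 4) .nil) (nat_lit
  0xbb434992282bacb62870119f249ea0) (nat_lit 1) (nat_lit 4) .nil) (nat_lit
  0xbb4519c2927aacb63924098a81d4e0) (nat_lit 1) (nat_lit 4) (.node .nil (nat_lit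
  0xbb4676464173ed35a909a18a4a8a00) (nat_lit 1) (nat_lit 4) .nil)) (nat_lit
  0xbb491306872bacc5a92284df51a240) (nat_lit 1) (nat_lit 4) (.node (.node .nil (nat_lit
  0xbb4b45bd30922cc99e2e51aa118880) (nat_lit 1) (nat_lit 4) .nil) (nat_lit
  0xbb4c93ae2453ac893e8c9d4b018820) (nat_lit 1) (nat_lit 4) (.node .nil (nat_lit
  0xbb4e384a3373ec112928a90a6a2d80) (nat_lit 1) (nat_lit 4) .nil)))) (nat_lit
  0xbb4ee9c9501d2cb644a8a992478440) (nat_lit 1) (nat_lit 4) (.node (.node (.node (.node (.node .nil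
  (nat_lit 0xbb4ef348a4a0ecc5a548ace3070820) (nat_lit 1) (nat_lit 4) .nil) (nat_lit
  0xbb4f4249267bac209628ac1531b160) (nat_lit 1) (nat_lit 4) .nil) (nat_lit
  0xbb5025c883796cc9a835399d185120) (nat_lit 1) (nat_lit 4) (.node .nil (nat_lit
  0xbb5049c84953ac65be153b0b40c460) (nat_lit 1) (nat_lit 4) .nil)) (nat_lit
  0xbb5112ca9032eca731353be6219020) (nat_lit 1) (nat_lit 4) (.node (.node .nil (nat_lit
  0xbb51474a2164ecf298753a96448a00) (nat_lit 1) (nat_lit 4) .nil) (nat_lit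
  0xbb5329d0e17bacc316a38ad4440a00) (nat_lit 1) (nat_lit 4) (.node .nil (nat_lit
  0xbb5549b92244ac65d62f2b0e41c020) (nat_lit 1) (nat_lit 4) .nil))) (nat_lit
  0xbb56941a30796c7aaa93649c418440) (nat_lit 1) (nat_lit 4) (.node (.node (.node (.node .nil (nat_lit
  0xbb59494c7053ad53bd265a0a488440) (nat_lit 1) (nat_lit 4) .nil) (nat_lit
  0xbb5c35aa223d6cc9c92579904a4020) (nat_lit 1) (nat_lit 4) .nil) (nat_lit
  0xbb5e399630a9ec65a12a73241a0880) (nat_lit 1) (nat_lit 4) (.node .nil (nat_lit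
  0xbb61430a357aacc5b86124ca74c900) (nat_lit 1) (nat_lit 4) .nil)) (nat_lit
  0xbb62860eb07bad3594f44994291020) (nat_lit 1) (nat_lit 4) (.node (.node .nil (nat_lit
  0xbb6468d6702bac34a9683d1e160880) (nat_lit 1) (nat_lit 4) .nil) (nat_lit
  0xbb6499d62a20acc342883ac2f1b8a0) (nat_lit 2) (nat_lit 0) (.node .nil (nat_lit
  0xbb64b1d5827aad1a38c83a4a49c020) (nat_lit 1) (nat_lit 4) .nil)))))) (nat_lit
  0xbb6546546e0c2d358928398858a9e0) (nat_lit 1) (nat_lit 4) (.node (.node (.node (.node (.node (.node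
  (.node .nil (nat_lit 0xbb674ab064796d24292b31dd088820) (nat_lit 1) (nat_lit 4) .nil) (nat_lit
  0xbb6959a51073ecc32a511aca239020) (nat_lit 1) (nat_lit 4) .nil) (nat_lit
  0xbb6a199e11796c65a848931c322680) (nat_lit 1) (nat_lit 4) (.node .nil (nat_lit
  0xbb6a31222b7bac4815323854ca4cc0) (nat_lit 1) (nat_lit 4) .nil)) (nat_lit
  0xbb6a5321f08a6cc58dd23ce8450440) (nat_lit 1) (nat_lit 4) (.node (.node .nil (nat_lit
  0xbb6a964a2f806d3592874184a195c0) (nat_lit 1) (nat_lit 4) .nil) (nat_lit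
  0xbb6aa9a1c44c6cb651f23987028820) (nat_lit 1) (nat_lit 4) (.node .nil (nat_lit
  0xbb6ac4c9707aad48ba6740ca130880) (nat_lit 1) (nat_lit 4) .nil))) (nat_lit
  0xbb6b059c3453acc9bc88918a910e20) (nat_lit 1) (nat_lit 4) (.node (.node (.node (.node .nil (nat_lit
  0xbb6b179e819b2ce52d28914c418a00) (nat_lit 1) (nat_lit 4) .nil) (nat_lit
  0xbb6b3a48c22bac91a987445e45c020) (nat_lit 1) (nat_lit 4) .nil) (nat_lit
  0xbb6b40a12c73ed022a32388ab19a60) (nat_lit 1) (nat_lit 4) (.node .nil (nat_lit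
  0xbb6b451e3059ac57cc689398249020) (nat_lit 1) (nat_lit 4) .nil)) (nat_lit
  0xbb6b49c865112cc3052742e0e8bd40) (nat_lit 1) (nat_lit 4) (.node (.node .nil (nat_lit
  0xbb82813230559b24bd74398a324ea0) (nat_lit 1) (nat_lit 4) .nil) (nat_lit
  0xbb8540a8ad65a0f5c92839a2325660) (nat_lit 1) (nat_lit 4) (.node .nil (nat_lit
  0xbb8541c2327d94c5b4c7424a19d480) (nat_lit 1) (nat_lit 4) .nil)))) (nat_lit
  0xbb854249902d9b15a8e64a1f30d460) (nat_lit 1) (nat_lit 4) (.node (.node (.node (.node (.node .nil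
  (nat_lit 0xbb8549b5ea8da455c10931d841d420) (nat_lit 1) (nat_lit 4) .nil) (nat_lit
  0xbb8670ca2c6d9f032928a2ca2a9260) (nat_lit 1) (nat_lit 4) .nil) (nat_lit
  0xbb8860c6507d9ac395285d15510e60) (nat_lit 1) (nat_lit 4) (.node .nil (nat_lit
  0xbb8aa44990159716d133392a61bc20) (nat_lit 1) (nat_lit 4) .nil)) (nat_lit
  0xbb8c49ca2c7d9b0195091555459c20) (nat_lit 1) (nat_lit 4) (.node (.node .nil (nat_lit
  0xbb8e39c6506d9ec22909a88aba1820) (nat_lit 1) (nat_lit 4) .nil) (nat_lit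
  0xbb9015b2307d8b29a85531da41a680) (nat_lit 5) (nat_lit 4) (.node .nil (nat_lit
  0xbb933a4a11559ac0bea231ca41a160) (nat_lit 1) (nat_lit 4) .nil))) (nat_lit
  0xbb9459c2325d84c7d428392861b520) (nat_lit 1) (nat_lit 4) (.node (.node (.node (.node .nil (nat_lit
  0xbb9742c6504d90ca85ed21a6718940) (nat_lit 5) (nat_lit 4) .nil) (nat_lit
  0xbb97441c837d8a6aa933931b180820) (nat_lit 1) (nat_lit 4) .nil) (nat_lit
  0xbb9746ca2c0da70aa54538d04309e0) (nat_lit 1) (nat_lit 4) (.node .nil (nat_lit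
  0xbb974990e6559a3abc288c0b260920) (nat_lit 5) (nat_lit 4) .nil)) (nat_lit
  0xbb9929d04b2d9b58292138de434500) (nat_lit 1) (nat_lit 4) (.node (.node .nil (nat_lit
  0xbb9af44232a5aac28933199643a820) (nat_lit 1) (nat_lit 4) .nil) (nat_lit
  0xbb9ed9c990ada9152c281984439520) (nat_lit 1) (nat_lit 4) (.node .nil (nat_lit
  0xbba1148a957d94b6366838ca434820) (nat_lit 1) (nat_lit 4) .nil))))) (nat_lit
  0xbba304aeb42d9a292a68219e71b020) (nat_lit 5) (nat_lit 4) (.node (.node (.node (.node (.node (.node .nil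
  (nat_lit 0xbba4c9d5627d9548b521218a71c100) (nat_lit 1) (nat_lit 4) .nil) (nat_lit
  0xbba69aca117d8ac42a8b399a320440) (nat_lit 1) (nat_lit 4) .nil) (nat_lit
  0xbba954ca113d86c59a687a88568820) (nat_lit 1) (nat_lit 4) (.node .nil (nat_lit
  0xbba95821336d9e15aa32198a438980) (nat_lit 1) (nat_lit 4) .nil)) (nat_lit
  0xbba95886697d9a85960c3914618a40) (nat_lit 1) (nat_lit 4) (.node (.node .nil (nat_lit
  0xbba959b2301d8f259121694ca78900) (nat_lit 1) (nat_lit 4) .nil) (nat_lit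
  0xbbaa240cc7559a45bd33844ac95020) (nat_lit 1) (nat_lit 4) (.node .nil (nat_lit
  0xbbaa2546504592c5cdaf38c24350a0) (nat_lit 1) (nat_lit 4) .nil))) (nat_lit
  0xbbaa27ca2c9d8305a0aa219271d1a0) (nat_lit 1) (nat_lit 4) (.node (.node (.node (.node .nil (nat_lit
  0xbbaa2998647d8a75a828649b08d120) (nat_lit 1) (nat_lit 4) .nil) (nat_lit
  0xbbaab0954f8598da452831e4418a60) (nat_lit 1) (nat_lit 4) .nil) (nat_lit
  0xbbaab349907d951a34640cca8488e0) (nat_lit 1) (nat_lit 4) (.node .nil (nat_lit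
  0xbbaab3c2322d9aca2883985e9408c0) (nat_lit 1) (nat_lit 4) .nil)) (nat_lit
  0xbbaab9bda595a2aa310939a0320820) (nat_lit 1) (nat_lit 4) (.node (.node .nil (nat_lit
  0xbbab44b230258d210e682b4ef52c20) (nat_lit 5) (nat_lit 4) .nil) (nat_lit
  0xbbab4625016d9f312a51390a61ae00) (nat_lit 1) (nat_lit 4) (.node .nil (nat_lit
  0xbbab494c287d9a911590199443ae20) (nat_lit 1) (nat_lit 4) .nil)))) (nat_lit
  0xbbab49ca113588c11d2153c6d2ad00) (nat_lit 1) (nat_lit 4) (.node (.node (.node (.node (.node .nil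
  (nat_lit 0xbbc22448e6b29ac4b9738c0a41d2a0) (nat_lit 1) (nat_lit 4) .nil) (nat_lit
  0xbbc2689262b38ac5a927451b21c2a0) (nat_lit 1) (nat_lit 4) .nil) (nat_lit
  0xbbc3099634b2c8c7254838a4d19aa0) (nat_lit 1) (nat_lit 4) (.node .nil (nat_lit
  0xbbc343b510b264c52dd19988518aa0) (nat_lit 1) (nat_lit 4) .nil)) (nat_lit
  0xbbc509ad94b15b192923385c4454c0) (nat_lit 1) (nat_lit 4) (.node (.node .nil (nat_lit
  0xbbc679a130b35cc12a32a10a6aac20) (nat_lit 1) (nat_lit 4) .nil) (nat_lit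
  0xbbc6d2c8cab1e8c5c08874669a8820) (nat_lit 1) (nat_lit 4) (.node .nil (nat_lit
  0xbbc6e52e25b50ec94d2269a04aa020) (nat_lit 1) (nat_lit 4) .nil))) (nat_lit
  0xbbc7480893b39ac414cb3a551ac820) (nat_lit 1) (nat_lit 4) (.node (.node (.node (.node .nil (nat_lit
  0xbbc93a04d0b38ab628683c5b548a40) (nat_lit 1) (nat_lit 4) .nil) (nat_lit
  0xbbcb481053b302e58d2839ab2545a0) (nat_lit 1) (nat_lit 4) .nil) (nat_lit
  0xbbcd09c874b39485b48c3d4a988440) (nat_lit 1) (nat_lit 4) (.node .nil (nat_lit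
  0xbbce30a50cb35d05aa51a98a4a0a60) (nat_lit 5) (nat_lit 4) .nil)) (nat_lit
  0xbbd143ac30b3946935359b0a410e20) (nat_lit 1) (nat_lit 4) (.node (.node .nil (nat_lit
  0xbbd349b0c7b29b20baa8844a320960) (nat_lit 1) (nat_lit 4) .nil) (nat_lit
  0xbbd5484a33b058d4d5663a064289c0) (nat_lit 1) (nat_lit 4) (.node .nil (nat_lit
  0xbbd73a0e30b29a4ab822398ac92120) (nat_lit 1) (nat_lit 4) .nil))))))))) (nat_lit
  0xbbd8459e29b39559b606920b418820) (nat_lit 1) (nat_lit 4) (.node (.node (.node (.node (.node (.node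
  (.node (.node (.node (.node .nil (nat_lit 0xbbd8b24052b15b5a28e8499d31c420) (nat_lit 1) (nat_lit 4) .nil)
  (nat_lit 0xbbd93a48b0b08d52212a3b62b1b820) (nat_lit 1) (nat_lit 4) .nil) (nat_lit
  0xbbd949a5c7b451559a4d8284419420) (nat_lit 1) (nat_lit 4) (.node .nil (nat_lit
  0xbbda799230b0eaa5b126a2032708a0) (nat_lit 1) (nat_lit 4) .nil)) (nat_lit
  0xbbdc79c850b546548568a19846c540) (nat_lit 1) (nat_lit 4) (.node (.node (.node .nil (nat_lit
  0xbbe011a635b39a7596486094499a80) (nat_lit 5) (nat_lit 4) .nil) (nat_lit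
  0xbbe343cab0b15a25a88198dc933100) (nat_lit 1) (nat_lit 4) .nil) (nat_lit
  0xbbe549d627b38a91a982819a15a080) (nat_lit 1) (nat_lit 4) (.node .nil (nat_lit
  0xbbe6cac903b39b4215310994b808e0) (nat_lit 1) (nat_lit 4) .nil))) (nat_lit
  0xbbe9564a21b35d322928188ab39a00) (nat_lit 5) (nat_lit 4) (.node (.node (.node (.node .nil (nat_lit
  0xbbea56acceb426191d285468418980) (nat_lit 1) (nat_lit 4) .nil) (nat_lit
  0xbbea799970b39a189444a49481a580) (nat_lit 1) (nat_lit 4) .nil) (nat_lit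
  0xbbea811211b29a35b93431cb264c20) (nat_lit 1) (nat_lit 4) (.node .nil (nat_lit
  0xbbea994c44b394c3b688598b00c460) (nat_lit 1) (nat_lit 4) .nil)) (nat_lit
  0xbbeaa74a2db4e015d082298e91a180) (nat_lit 1) (nat_lit 4) (.node (.node .nil (nat_lit
  0xbbeb09b914b4923291b13996a60820) (nat_lit 1) (nat_lit 4) .nil) (nat_lit
  0xbbeb134a88b38a34a97014da461c20) (nat_lit 1) (nat_lit 4) (.node .nil (nat_lit
  0xbbeb24d22bb15ac82a66221c708860) (nat_lit 1) (nat_lit 4) .nil)))) (nat_lit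
  0xbbeb3a25b0b222c58a4e394c40a860) (nat_lit 1) (nat_lit 4) (.node (.node (.node (.node (.node .nil
  (nat_lit 0xbbeb43aa30b11636c8a89892e61820) (nat_lit 1) (nat_lit 4) .nil) (nat_lit
  0xbbeb484653b35c1329093aca219180) (nat_lit 1) (nat_lit 4) .nil) (nat_lit
  0xbbeb49c947b184c245258390b0b460) (nat_lit 1) (nat_lit 4) (.node .nil (nat_lit
  0xbc02f9c996a3931591a3388aa41aa0) (nat_lit 1) (nat_lit 4) .nil)) (nat_lit
  0xbc04f9ba36a494c2b488385691d4c0) (nat_lit 1) (nat_lit 4) (.node (.node .nil (nat_lit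
  0xbc0747ca369b02e315093ad44a89a0) (nat_lit 1) (nat_lit 4) .nil) (nat_lit
  0xbc0943c9967b8d1284489b5751a540) (nat_lit 1) (nat_lit 4) (.node .nil (nat_lit
  0xbc0b47c6569b9ac48d663a2a251020) (nat_lit 1) (nat_lit 4) .nil))) (nat_lit
  0xbc0c124656138ec5a9256d5131be80) (nat_lit 1) (nat_lit 4) (.node (.node (.node (.node .nil (nat_lit
  0xbc0c26ca360b26e1a928254a75d1e0) (nat_lit 1) (nat_lit 4) .nil) (nat_lit
  0xbc0cf99516a2da3729313d64460440) (nat_lit 1) (nat_lit 4) .nil) (nat_lit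
  0xbc0d43a0b678c8b629329d62d70820) (nat_lit 1) (nat_lit 4) (.node .nil (nat_lit
  0xbc0ea332364b892451ebaccad18820) (nat_lit 1) (nat_lit 4) .nil)) (nat_lit
  0xbc1079c6567b82c52c75a14c4489a0) (nat_lit 1) (nat_lit 4) (.node (.node .nil (nat_lit
  0xbc12e8be76951a72aaa86196219020) (nat_lit 1) (nat_lit 4) .nil) (nat_lit
  0xbc13171e9664c2f5aaa3918a4409a0) (nat_lit 1) (nat_lit 4) (.node .nil (nat_lit
  0xbc133a49d67c46c12aa1398856ad00) (nat_lit 1) (nat_lit 4) .nil))))) (nat_lit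
  0xbc1349b2363b91222aad7984b09460) (nat_lit 1) (nat_lit 4) (.node (.node (.node (.node (.node (.node .nil
  (nat_lit 0xbc1479b43678a444552ba18ac1ba20) (nat_lit 1) (nat_lit 4) .nil) (nat_lit
  0xbc1482c9961b9b13d53459a6178880) (nat_lit 1) (nat_lit 4) .nil) (nat_lit
  0xbc14b1ba362c84ca5527419e49b420) (nat_lit 1) (nat_lit 4) (.node .nil (nat_lit
  0xbc154788969b5c15d528398712c980) (nat_lit 1) (nat_lit 4) .nil)) (nat_lit
  0xbc1679ca367b1aeaa0aaa0d2231020) (nat_lit 1) (nat_lit 4) (.node (.node .nil (nat_lit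
  0xbc1949a556399b51c6487b8a158880) (nat_lit 1) (nat_lit 4) .nil) (nat_lit
  0xbc1b43ba367caac58823990a642920) (nat_lit 1) (nat_lit 4) (.node .nil (nat_lit
  0xbc1d3a29367d4461ca283b0a45b420) (nat_lit 1) (nat_lit 4) .nil))) (nat_lit
  0xbc1e653236ab9b25cce84d06428440) (nat_lit 1) (nat_lit 4) (.node (.node (.node (.node .nil (nat_lit
  0xbc233a1ab67a5aa5b1c53c90118880) (nat_lit 1) (nat_lit 4) .nil) (nat_lit
  0xbc2549d4d63a8495b9857c5041b420) (nat_lit 1) (nat_lit 4) .nil) (nat_lit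
  0xbc269ac9d65448c5be8831c6d28820) (nat_lit 1) (nat_lit 4) (.node .nil (nat_lit
  0xbc2954c9d6345ac41e6b53ca418440) (nat_lit 1) (nat_lit 4) .nil)) (nat_lit
  0xbc2a35c996438519a8cf2a4e4a3420) (nat_lit 1) (nat_lit 4) (.node (.node .nil (nat_lit
  0xbc2a40ca366b1ee5a5451191419e60) (nat_lit 1) (nat_lit 4) .nil) (nat_lit
  0xbc2a543a365c9ac7a8d31a68138880) (nat_lit 1) (nat_lit 4) (.node .nil (nat_lit
  0xbc2a7985b6792225a8c8a246e2b240) (nat_lit 1) (nat_lit 4) .nil)))) (nat_lit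
  0xbc2ac94df689db459923728a241020) (nat_lit 1) (nat_lit 4) (.node (.node (.node (.node (.node .nil
  (nat_lit 0xbc2ad1465623a8c1a548098af5cce0) (nat_lit 1) (nat_lit 4) .nil) (nat_lit
  0xbc2af9ac76a14889254c399cd88820) (nat_lit 1) (nat_lit 4) .nil) (nat_lit
  0xbc2b2650f673c33299288a964189a0) (nat_lit 1) (nat_lit 4) (.node .nil (nat_lit
  0xbc2b3a32367b972699243a82810ca0) (nat_lit 5) (nat_lit 4) .nil)) (nat_lit
  0xbc2b438d767a1a58a54e9998490440) (nat_lit 1) (nat_lit 4) (.node (.node .nil (nat_lit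
  0xbc2b4790569858d428cb3a4b21c5c0) (nat_lit 1) (nat_lit 4) .nil) (nat_lit
  0xbc2b49c9d63c4ac099227a9a322160) (nat_lit 5) (nat_lit 4) (.node .nil (nat_lit
  0xbc4233cacc439b02912f9996aa0aa0) (nat_lit 1) (nat_lit 4) .nil))) (nat_lit
  0xbc44d34ad02b28e52d243cde81d420) (nat_lit 1) (nat_lit 4) (.node (.node (.node (.node .nil (nat_lit
  0xbc4656b2d033a720a8883be89a8960) (nat_lit 1) (nat_lit 4) .nil) (nat_lit
  0xbc4829bad04c90c3a9ed58cb535020) (nat_lit 1) (nat_lit 4) .nil) (nat_lit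
  0xbc4889cacc1b850584d43a4b57b540) (nat_lit 1) (nat_lit 4) (.node .nil (nat_lit
  0xbc48d99ec17ae8a73122918b51a200) (nat_lit 1) (nat_lit 4) .nil)) (nat_lit
  0xbc4949aeca31da19406873cb548980) (nat_lit 1) (nat_lit 4) (.node (.node .nil (nat_lit
  0xbc4a19c2d27b8ec1a5466a2a458a80) (nat_lit 1) (nat_lit 4) .nil) (nat_lit
  0xbc4a399ac8609af0a9303caa4a3960) (nat_lit 1) (nat_lit 4) (.node .nil (nat_lit
  0xbc4ab9cad01314ea34e849aa40bc60) (nat_lit 1) (nat_lit 4) .nil)))))) (nat_lit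
  0xbc4b49a2c673d2259db2542a41b020) (nat_lit 1) (nat_lit 4) (.node (.node (.node (.node (.node (.node
  (.node .nil (nat_lit 0xbc4d4142d2239ac52c653d50f4cc20) (nat_lit 1) (nat_lit 4) .nil) (nat_lit
  0xbc4f40bad04492c215afa994b18a60) (nat_lit 1) (nat_lit 4) .nil) (nat_lit
  0xbc50d7c2d29ba8c5a935094c2190e0) (nat_lit 1) (nat_lit 4) (.node .nil (nat_lit
  0xbc533a4ace340ac59ea853da320820) (nat_lit 1) (nat_lit 4) .nil)) (nat_lit
  0xbc5545cacc7b9309d5a8288e119880) (nat_lit 1) (nat_lit 4) (.node (.node .nil (nat_lit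
  0xbc56353ad07c9acacd2820827a18a0) (nat_lit 1) (nat_lit 4) .nil) (nat_lit
  0xbc59494ec41147558528399d06bd40) (nat_lit 1) (nat_lit 4) (.node .nil (nat_lit
  0xbc5a41b2d07bab259ca2519349a020) (nat_lit 1) (nat_lit 4) .nil))) (nat_lit
  0xbc5c9812d3155a53aa88599921bc20) (nat_lit 1) (nat_lit 4) (.node (.node (.node (.node .nil (nat_lit
  0xbc5f444ad0ab1ae5a87309046494e0) (nat_lit 1) (nat_lit 4) .nil) (nat_lit
  0xbc609716d57cda4586863a24c18940) (nat_lit 1) (nat_lit 4) .nil) (nat_lit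
  0xbc654656c5790733a9265a20e68820) (nat_lit 1) (nat_lit 4) (.node .nil (nat_lit
  0xbc669acace3c1ac11a817a8a41ad00) (nat_lit 1) (nat_lit 4) .nil)) (nat_lit
  0xbc66ea8ec97d18d52e08388a491820) (nat_lit 1) (nat_lit 4) (.node (.node .nil (nat_lit
  0xbc670ab6d4426435a9cf098a4608e0) (nat_lit 1) (nat_lit 4) .nil) (nat_lit
  0xbc674ab2d00b8723092742ca46a9e0) (nat_lit 1) (nat_lit 4) (.node .nil (nat_lit
  0xbc6954cace7c08c0aa623986d2a160) (nat_lit 1) (nat_lit 4) .nil)))) (nat_lit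
  0xbc6a320acf819a859d2c538b3a4820) (nat_lit 1) (nat_lit 4) (.node (.node (.node (.node (.node .nil
  (nat_lit 0xbc6a62bad06c9ec585093d26410d40) (nat_lit 1) (nat_lit 4) .nil) (nat_lit
  0xbc6a7242d21382c48d68a18b353da0) (nat_lit 1) (nat_lit 4) .nil) (nat_lit
  0xbc6a99b2d05b9b27a28a1048519cc0) (nat_lit 1) (nat_lit 4) (.node .nil (nat_lit
  0xbc6aa24ad07b16e6d0261a0b338920) (nat_lit 1) (nat_lit 4) .nil)) (nat_lit
  0xbc6ac9a6c3435d452e4f3988580820) (nat_lit 1) (nat_lit 4) (.node (.node .nil (nat_lit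
  0xbc6ad286c732a8b6392883e6418a40) (nat_lit 3) (nat_lit 0) .nil) (nat_lit
  0xbc6af2cacca38d03a8435b66442420) (nat_lit 1) (nat_lit 4) (.node .nil (nat_lit
  0xbc6b29d2cd78e095a98808885718e0) (nat_lit 1) (nat_lit 4) .nil))) (nat_lit
  0xbc6b423ec2921260a9ae3b0b31c160) (nat_lit 1) (nat_lit 4) (.node (.node (.node (.node .nil (nat_lit
  0xbc6b42aacb785a78486261a644a1c0) (nat_lit 1) (nat_lit 4) .nil) (nat_lit
  0xbc6b49cace5406c43d2b31c8568440) (nat_lit 1) (nat_lit 4) .nil) (nat_lit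
  0xbc8289da30230ae58d3431daf50aa0) (nat_lit 1) (nat_lit 4) (.node .nil (nat_lit
  0xbc8453da2e5c14c7b52399a8445420) (nat_lit 1) (nat_lit 4) .nil)) (nat_lit
  0xbc8746d9905ba7179d22504a4aa0c0) (nat_lit 1) (nat_lit 4) (.node (.node .nil (nat_lit
  0xbc894559d06c5ec3cd0959835188a0) (nat_lit 1) (nat_lit 4) .nil) (nat_lit
  0xbc8a715a112382c5a926a22af1cda0) (nat_lit 1) (nat_lit 4) (.node .nil (nat_lit
  0xbc8cd9da117ba8c48d650d504508e0) (nat_lit 1) (nat_lit 4) .nil))))) (nat_lit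
  0xbc8e22d9d07c5ac20528a8e6b35140) (nat_lit 1) (nat_lit 4) (.node (.node (.node (.node (.node (.node .nil
  (nat_lit 0xbc8e51588f82da972988a9a911cc20) (nat_lit 1) (nat_lit 4) .nil) (nat_lit
  0xbc8f3a5a2c4b9b0599e8aa84409460) (nat_lit 1) (nat_lit 4) .nil) (nat_lit
  0xbc8f49d969611af88e08a84ae508c0) (nat_lit 1) (nat_lit 4) (.node .nil (nat_lit
  0xbc9014da301b1ae11275398aa7ae80) (nat_lit 1) (nat_lit 4) .nil)) (nat_lit
  0xbc90c558a6785b45cc953c229189c0) (nat_lit 1) (nat_lit 4) (.node (.node .nil (nat_lit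
  0xbc90e9d8c55d1a17a9353c60410d80) (nat_lit 1) (nat_lit 4) .nil) (nat_lit
  0xbc91425a11139ac1a555394d35bc20) (nat_lit 1) (nat_lit 4) (.node .nil (nat_lit
  0xbc92655a2c3b9706cea47d0a818820) (nat_lit 1) (nat_lit 4) .nil))) (nat_lit
  0xbc95445a2e7c04c5d493184a93b4c0) (nat_lit 1) (nat_lit 4) (.node (.node (.node (.node .nil (nat_lit
  0xbc9669d9d04452caa9af250a710c20) (nat_lit 1) (nat_lit 4) .nil) (nat_lit
  0xbc9811d9a74a2355a9ee818a498a80) (nat_lit 1) (nat_lit 4) .nil) (nat_lit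
  0xbc9a66586a78ab34c1683d0a48b820) (nat_lit 1) (nat_lit 4) (.node .nil (nat_lit
  0xbc9a91d9900bab132a883ac85989e0) (nat_lit 1) (nat_lit 4) .nil)) (nat_lit
  0xbc9ab9da2e2c2aca08c83a5e11a880) (nat_lit 1) (nat_lit 4) (.node (.node .nil (nat_lit
  0xbc9b48da6222aa35b9283982f640a0) (nat_lit 1) (nat_lit 4) .nil) (nat_lit
  0xbc9c19d8ed7d6082092c898ab1aa80) (nat_lit 1) (nat_lit 4) (.node .nil (nat_lit
  0xbc9f49da2cab890428eb4982d10ca0) (nat_lit 1) (nat_lit 4) .nil)))) (nat_lit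
  0xbca149d9154b5c7589f1614c41a820) (nat_lit 1) (nat_lit 4) (.node (.node (.node (.node (.node .nil
  (nat_lit 0xbca341daa879d8d22930714cb98820) (nat_lit 1) (nat_lit 4) .nil) (nat_lit
  0xbca65ad9907b8715a08a11a8969c20) (nat_lit 1) (nat_lit 4) .nil) (nat_lit
  0xbca9515a307b0ce4a9612b4e41cd00) (nat_lit 1) (nat_lit 4) (.node .nil (nat_lit
  0xbcaa17da119b8ec52c68698a249280) (nat_lit 1) (nat_lit 4) .nil)) (nat_lit
  0xbcaa30d9d04c50c595ed38944a1a60) (nat_lit 1) (nat_lit 4) (.node (.node .nil (nat_lit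
  0xbcaa49d990339b1088a743d341a960) (nat_lit 1) (nat_lit 4) .nil) (nat_lit
  0xbcaa59d92b73d0480e2d39a8c50820) (nat_lit 1) (nat_lit 4) (.node .nil (nat_lit
  0xbcaa68585320daa5b127450af74420) (nat_lit 1) (nat_lit 4) .nil))) (nat_lit
  0xbcaaa35a2c7b9102512d3cc6b28440) (nat_lit 1) (nat_lit 4) (.node (.node (.node (.node .nil (nat_lit
  0xbcaaf1da2ea41ac2a8274116698920) (nat_lit 1) (nat_lit 4) .nil) (nat_lit
  0xbcab055834594e67cd286b1c418a20) (nat_lit 1) (nat_lit 4) .nil) (nat_lit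
  0xbcab19da81798e55a8886b98910e00) (nat_lit 1) (nat_lit 4) (.node .nil (nat_lit
  0xbcab4159e48a50b629cd384b01ccc0) (nat_lit 1) (nat_lit 4) .nil)) (nat_lit
  0xbcab45da30530ee9bc48694c322420) (nat_lit 1) (nat_lit 4) (.node (.node .nil (nat_lit
  0xbcab4759437cda24c56741824830a0) (nat_lit 5) (nat_lit 4) .nil) (nat_lit
  0xbcc34b4910391a65a8b17b12e10ea0) (nat_lit 1) (nat_lit 4) (.node .nil (nat_lit
  0xbcc47b1550785ac34528a2e43255c0) (nat_lit 1) (nat_lit 4) .nil))))))) (nat_lit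
  0xbcc74b464f8058d5952839942a91c0) (nat_lit 1) (nat_lit 4) (.node (.node (.node (.node (.node (.node
  (.node (.node .nil (nat_lit 0xbcc8bb4a2d6060fa292831cb510dc0) (nat_lit 1) (nat_lit 4) .nil) (nat_lit
  0xbcc8cb2a265b8f47c9096c0b518820) (nat_lit 1) (nat_lit 4) .nil) (nat_lit
  0xbcc8fb2630a09ab6224a398b50b860) (nat_lit 1) (nat_lit 4) (.node .nil (nat_lit
  0xbcc94b222778ccc5a552834b570440) (nat_lit 1) (nat_lit 4) .nil)) (nat_lit
  0xbcca2b1e235216c6bd2e91aa485020) (nat_lit 1) (nat_lit 4) (.node (.node .nil (nat_lit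
  0xbcca7b0a307ad097298da06a41c8c0) (nat_lit 1) (nat_lit 4) .nil) (nat_lit
  0xbccb2b522a1b9a65c028132a479d20) (nat_lit 1) (nat_lit 4) (.node .nil (nat_lit
  0xbccb4b4a2f835c140ccb3a6a450980) (nat_lit 1) (nat_lit 4) .nil))) (nat_lit
  0xbccd4b49677b885888288558d1a920) (nat_lit 1) (nat_lit 4) (.node (.node (.node (.node .nil (nat_lit
  0xbcce5b09e48b8cc5a921ab6901c900) (nat_lit 1) (nat_lit 4) .nil) (nat_lit
  0xbcd14b28303956c6c895799c918a20) (nat_lit 1) (nat_lit 4) .nil) (nat_lit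
  0xbcd30b29d47c5a65caa43b028188a0) (nat_lit 1) (nat_lit 4) (.node .nil (nat_lit
  0xbcd54b104f839ac355093ac722c420) (nat_lit 1) (nat_lit 4) .nil)) (nat_lit
  0xbcd6fb48d0a20a4a892e3c5ac1a820) (nat_lit 1) (nat_lit 4) (.node (.node .nil (nat_lit
  0xbcd8fb0db0a3a3522828394cb90920) (nat_lit 1) (nat_lit 4) .nil) (nat_lit
  0xbcdb4b0d877a2b12a92e8116690820) (nat_lit 1) (nat_lit 4) (.node .nil (nat_lit
  0xbcdd0b49347d56c6aa253990110c80) (nat_lit 1) (nat_lit 4) .nil)))) (nat_lit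
  0xbcde4b48e5ab9ab60d2189a1450900) (nat_lit 1) (nat_lit 4) (.node (.node (.node (.node (.node .nil
  (nat_lit 0xbce11b4a952a4cc58dc8235e750820) (nat_lit 1) (nat_lit 4) .nil) (nat_lit
  0xbce29b0eae0c18d5aa87418a4909e0) (nat_lit 1) (nat_lit 4) .nil) (nat_lit
  0xbce2eb4aa9451ac30a0f0aca41a8e0) (nat_lit 1) (nat_lit 4) (.node .nil (nat_lit
  0xbce30b32b47a472119c83a8a46ac20) (nat_lit 1) (nat_lit 4) .nil)) (nat_lit
  0xbce34b36b03ba4352d21788a461900) (nat_lit 1) (nat_lit 4) (.node (.node .nil (nat_lit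
  0xbce47b54707b98d59109a184a89420) (nat_lit 1) (nat_lit 4) .nil) (nat_lit
  0xbce95b0a11225ab629c8298ef1c820) (nat_lit 1) (nat_lit 4) (.node .nil (nat_lit
  0xbcea1b0e2849dac329f072c8590a80) (nat_lit 1) (nat_lit 4) .nil))) (nat_lit
  0xbcea3b3c829396c69c28518b1a4120) (nat_lit 1) (nat_lit 4) (.node (.node (.node (.node .nil (nat_lit
  0xbcea6b28ac685f03c9285d224189c0) (nat_lit 1) (nat_lit 4) .nil) (nat_lit
  0xbcea7b48907992808daca38b150960) (nat_lit 1) (nat_lit 4) .nil) (nat_lit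
  0xbcea8b4a2173d8d588f4498851aa00) (nat_lit 1) (nat_lit 4) (.node .nil (nat_lit
  0xbceaab4092121a65d12e1b0b13bc20) (nat_lit 0) (nat_lit 0) .nil)) (nat_lit
  0xbceadb48ab33a878290963e2410c20) (nat_lit 1) (nat_lit 4) (.node (.node .nil (nat_lit
  0xbceafb04b0a28cc5b8623b6244a240) (nat_lit 1) (nat_lit 4) .nil) (nat_lit
  0xbceb0b1a347b84a1b1213c8855b500) (nat_lit 1) (nat_lit 4) (.node .nil (nat_lit
  0xbceb4b088f8302e4a9663a0b11c9a0) (nat_lit 1) (nat_lit 4) .nil))))) (nat_lit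
  0xbceb4b2e303a542935c878c8533020) (nat_lit 1) (nat_lit 4) (.node (.node (.node (.node (.node (.node .nil
  (nat_lit 0xbceb4b38a77c9ab6044381a2442540) (nat_lit 1) (nat_lit 4) .nil) (nat_lit
  0xbd0369b86f849a82a92c3896489aa0) (nat_lit 1) (nat_lit 4) .nil) (nat_lit
  0xbd05629da133a2c5a92493e681d600) (nat_lit 5) (nat_lit 4) (.node .nil (nat_lit
  0xbd056394907b90958d8d99a5155420) (nat_lit 1) (nat_lit 4) .nil)) (nat_lit
  0xbd05694e260b9aa5b0682c0e44d5e0) (nat_lit 1) (nat_lit 4) (.node (.node .nil (nat_lit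
  0xbd0569c90f838835a551384ad654c0) (nat_lit 1) (nat_lit 4) .nil) (nat_lit
  0xbd0769c9703b5ca8b04879824aa4a0) (nat_lit 1) (nat_lit 4) (.node .nil (nat_lit
  0xbd0967c9b09aa2b63922394d51a020) (nat_lit 1) (nat_lit 4) .nil))) (nat_lit
  0xbd0b638870799ac091289baaa8c960) (nat_lit 1) (nat_lit 4) (.node (.node (.node (.node .nil (nat_lit
  0xbd0d69ae2f8152c911a83d5ca18440) (nat_lit 1) (nat_lit 4) .nil) (nat_lit
  0xbd0f61162b73c6c8212aa9a446cc20) (nat_lit 1) (nat_lit 4) .nil) (nat_lit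
  0xbd116985a77b22e52d35818a219240) (nat_lit 1) (nat_lit 4) (.node .nil (nat_lit
  0xbd136819d37c56a6b2a83c8a410c20) (nat_lit 1) (nat_lit 4) .nil)) (nat_lit
  0xbd1569ca27791a24546b814ce4b020) (nat_lit 1) (nat_lit 4) (.node (.node .nil (nat_lit
  0xbd17624868639afa9d3051833888a0) (nat_lit 1) (nat_lit 4) .nil) (nat_lit
  0xbd17661a2a23933ac1a7448af18820) (nat_lit 1) (nat_lit 4) (.node .nil (nat_lit
  0xbd1767a4b09b8c4aaa483b62c08860) (nat_lit 5) (nat_lit 4) .nil)))) (nat_lit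
  0xbd1769b4277ba4caa0ca8246428a20) (nat_lit 1) (nat_lit 4) (.node (.node (.node (.node (.node .nil
  (nat_lit 0xbd196786309a1b52086e398ab4aa40) (nat_lit 1) (nat_lit 4) .nil) (nat_lit
  0xbd1b69985038eac4a9647c8a874420) (nat_lit 1) (nat_lit 4) .nil) (nat_lit
  0xbd1d6486111d4e85aa6c698a478a40) (nat_lit 1) (nat_lit 4) (.node .nil (nat_lit
  0xbd1d6831337d5b259a213a88518900) (nat_lit 1) (nat_lit 4) .nil)) (nat_lit
  0xbd1d68ca696d5ec59208194ca38820) (nat_lit 1) (nat_lit 4) (.node (.node .nil (nat_lit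
  0xbd1d69a2303d461595327914668980) (nat_lit 1) (nat_lit 4) .nil) (nat_lit
  0xbd1f65ca22a9c649a928704ac6c0c0) (nat_lit 1) (nat_lit 4) (.node .nil (nat_lit
  0xbd2167493514dac3a22a584a41bcc0) (nat_lit 1) (nat_lit 4) .nil))) (nat_lit
  0xbd23684ab37a44c1a9c4398285b4a0) (nat_lit 5) (nat_lit 4) (.node (.node (.node (.node .nil (nat_lit
  0xbd2563d63078528329ac9ac44195c0) (nat_lit 1) (nat_lit 4) .nil) (nat_lit
  0xbd276a952e5c1a47aa2811a4c19c20) (nat_lit 1) (nat_lit 4) .nil) (nat_lit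
  0xbd2b60be2592dac7286431e0848a60) (nat_lit 1) (nat_lit 4) (.node .nil (nat_lit
  0xbd2b6184ed4ba0c111e8898aa9ae40) (nat_lit 1) (nat_lit 4) .nil)) (nat_lit
  0xbd2b6341b22ae2a731280cde4188e0) (nat_lit 1) (nat_lit 4) (.node (.node .nil (nat_lit
  0xbd2b63c9507ad8d74509984a3208c0) (nat_lit 1) (nat_lit 4) .nil) (nat_lit
  0xbd2b644a24509275bdb3618301b8a0) (nat_lit 1) (nat_lit 4) (.node .nil (nat_lit
  0xbd2b65186c409b05cd2f248a78b820) (nat_lit 1) (nat_lit 4) .nil)))))) (nat_lit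
  0xbd2b66c9e38ba68128ec494c482c20) (nat_lit 1) (nat_lit 4) (.node (.node (.node (.node (.node (.node
  (.node .nil (nat_lit 0xbd2b678cd0988ac5a02a3c5a493920) (nat_lit 1) (nat_lit 4) .nil) (nat_lit
  0xbd2b682a337b866149253b1016ac80) (nat_lit 1) (nat_lit 4) .nil) (nat_lit
  0xbd2b6991303b9a5106267a1921ad40) (nat_lit 1) (nat_lit 4) (.node .nil (nat_lit
  0xbd2b69958f82d517348339a4940820) (nat_lit 1) (nat_lit 4) .nil)) (nat_lit
  0xbd2b69c647788245a8a880d2c339a0) (nat_lit 1) (nat_lit 4) (.node (.node .nil (nat_lit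
  0xbd6c19a0a6131ae1a9323c2245be80) (nat_lit 5) (nat_lit 4) .nil) (nat_lit
  0xbd6c229e2f839a958d8890664550c0) (nat_lit 1) (nat_lit 4) (.node .nil (nat_lit
  0xbd6c2395060b88c5a9319c24d1d1e0) (nat_lit 1) (nat_lit 4) .nil))) (nat_lit
  0xbd6c294db07ba235a544298e865020) (nat_lit 1) (nat_lit 4) (.node (.node (.node (.node .nil (nat_lit
  0xbd6c29c8813390a5b06d3bcb14d200) (nat_lit 1) (nat_lit 4) .nil) (nat_lit
  0xbd6c39c8b073ce20a54869a24a3160) (nat_lit 1) (nat_lit 4) .nil) (nat_lit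
  0xbd6c45c8506150f9992d3a9d41c420) (nat_lit 1) (nat_lit 4) (.node .nil (nat_lit
  0xbd6c511d70791ac8992892a8e0cc60) (nat_lit 1) (nat_lit 4) .nil)) (nat_lit
  0xbd6c69b6220aa4c4b9683d0851c1e0) (nat_lit 1) (nat_lit 4) (.node (.node .nil (nat_lit
  0xbd6c728a2a1b5cc4412ba1a647c820) (nat_lit 5) (nat_lit 4) .nil) (nat_lit
  0xbd6c89b88a7c8413c134598b11b580) (nat_lit 1) (nat_lit 4) (.node .nil (nat_lit
  0xbd6c98b66e7c24330a883aca462820) (nat_lit 1) (nat_lit 4) .nil)))) (nat_lit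
  0xbd6ca9ca2b799a3850474388562420) (nat_lit 1) (nat_lit 4) (.node (.node (.node (.node (.node .nil
  (nat_lit 0xbd6cb22627638cfa224a834b318820) (nat_lit 1) (nat_lit 4) .nil) (nat_lit
  0xbd6cb6347023a53a28c83a42f888a0) (nat_lit 1) (nat_lit 4) .nil) (nat_lit
  0xbd6cb7c82a9b9a4a41274186c28a20) (nat_lit 1) (nat_lit 4) (.node .nil (nat_lit
  0xbd6cb998a87b92ca1db054a2408860) (nat_lit 1) (nat_lit 4) .nil)) (nat_lit
  0xbd6cc22230585b47a552398b310dc0) (nat_lit 1) (nat_lit 4) (.node (.node .nil (nat_lit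
  0xbd6cd9ac9019e8c928c2724b17a020) (nat_lit 1) (nat_lit 4) .nil) (nat_lit
  0xbd6ce4a2117d1a159272394ca18980) (nat_lit 1) (nat_lit 4) (.node .nil (nat_lit
  0xbd6ce849331d0ec596286914678820) (nat_lit 1) (nat_lit 4) .nil))) (nat_lit
  0xbd6ce8b2693d0725aa01798a468900) (nat_lit 1) (nat_lit 4) (.node (.node (.node (.node .nil (nat_lit
  0xbd6ce986306d1e85992c1a88538a40) (nat_lit 1) (nat_lit 4) .nil) (nat_lit
  0xbd6cf24a26a0ceb629286c0b370440) (nat_lit 1) (nat_lit 4) .nil) (nat_lit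
  0xbd6d08ca740a5ac52dc7408a4199e0) (nat_lit 1) (nat_lit 4) (.node .nil (nat_lit
  0xbd6d174a897cd0c2aa0d3996209060) (nat_lit 1) (nat_lit 4) .nil)) (nat_lit
  0xbd6d22d2307a1616a8ce1266419d80) (nat_lit 1) (nat_lit 4) (.node (.node .nil (nat_lit
  0xbd6d3a1dc9645af22a089184b19420) (nat_lit 1) (nat_lit 4) .nil) (nat_lit
  0xbd6d40c9f0889a55a8c74258323a60) (nat_lit 1) (nat_lit 4) (.node .nil (nat_lit
  0xbd6d41b58a28a515c128399e19b880) (nat_lit 1) (nat_lit 4) .nil))))) (nat_lit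
  0xbd6d422a2d78a0c5c90931cb30b860) (nat_lit 1) (nat_lit 4) (.node (.node (.node (.node (.node (.node .nil
  (nat_lit 0xbd6d42ca2352d0673c2d3b26480920) (nat_lit 1) (nat_lit 4) .nil) (nat_lit
  0xbd6d4349447b8e1144a86cd301ad80) (nat_lit 1) (nat_lit 4) .nil) (nat_lit
  0xbd6d4410f00acac72553899b2189e0) (nat_lit 1) (nat_lit 4) (.node .nil (nat_lit
  0xbd6d4520c51b9ac14c923c6097ac20) (nat_lit 1) (nat_lit 4) .nil)) (nat_lit
  0xbd6d46c6467ae63729252410760820) (nat_lit 1) (nat_lit 4) (.node (.node .nil (nat_lit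
  0xbd6d488e704398d1192f0a8a492ce0) (nat_lit 1) (nat_lit 4) .nil) (nat_lit
  0xbd6d499c8c4adb0705e890cb130940) (nat_lit 1) (nat_lit 4) (.node .nil (nat_lit
  0xbd6d49be299382712a036188542da0) (nat_lit 1) (nat_lit 4) .nil))) (nat_lit
  0xbd6d49c0b26094f5b4e64a2241b820) (nat_lit 1) (nat_lit 4) (.node (.node (.node (.node .nil (nat_lit
  0xbd8243464e1c16c6a12a3ccb478aa0) (nat_lit 1) (nat_lit 4) .nil) (nat_lit
  0xbd827848537a8a35b926a21a4646a0) (nat_lit 1) (nat_lit 4) .nil) (nat_lit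
  0xbd8285ca301b8cc990542b4ea7a6a0) (nat_lit 1) (nat_lit 4) (.node .nil (nat_lit
  0xbd829129a563a2f44a8b39a041cea0) (nat_lit 1) (nat_lit 4) .nil)) (nat_lit
  0xbd82a9c1d21c5ac5d0a41192879ea0) (nat_lit 1) (nat_lit 4) (.node (.node .nil (nat_lit
  0xbd82d9c92b6128f82a2531d0e18aa0) (nat_lit 1) (nat_lit 4) .nil) (nat_lit
  0xbd8303a6347b5c3216489994b60aa0) (nat_lit 1) (nat_lit 4) (.node .nil (nat_lit
  0xbd83194e9061d2f589a8710a61aaa0) (nat_lit 1) (nat_lit 4) .nil)))) (nat_lit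
  0xbd833a10c77b9a34a962844b2622a0) (nat_lit 1) (nat_lit 4) (.node (.node (.node (.node (.node .nil
  (nat_lit 0xbd83450a28619af2cd30239671caa0) (nat_lit 1) (nat_lit 4) .nil) (nat_lit
  0xbd8346ba111ca6c328e84ac44796a0) (nat_lit 1) (nat_lit 4) .nil) (nat_lit
  0xbd8349ad107954393491389c961aa0) (nat_lit 1) (nat_lit 4) (.node .nil (nat_lit
  0xbd84b0b211538b2a3d09399a41d660) (nat_lit 1) (nat_lit 4) .nil)) (nat_lit
  0xbd84b44a302b94ca3433191e63d520) (nat_lit 1) (nat_lit 4) (.node (.node .nil (nat_lit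
  0xbd84b4c1927b9b1a2a6120ca735500) (nat_lit 1) (nat_lit 4) .nil) (nat_lit
  0xbd84b9c64c6b9f0a152831d4325420) (nat_lit 1) (nat_lit 4) (.node .nil (nat_lit
  0xbd84e326232518d5aa453cd0f85420) (nat_lit 1) (nat_lit 4) .nil))) (nat_lit
  0xbd84e63cf0950d3584888b4a91d540) (nat_lit 1) (nat_lit 4) (.node (.node (.node (.node .nil (nat_lit
  0xbd84e6c8257d26659d235320445620) (nat_lit 1) (nat_lit 4) .nil) (nat_lit
  0xbd84e991484d1ac5c5f0098722d4e0) (nat_lit 1) (nat_lit 4) .nil) (nat_lit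
  0xbd8543c92f82c647222a998ac6d420) (nat_lit 1) (nat_lit 4) (.node .nil (nat_lit
  0xbd854786279adaa73124814c81d640) (nat_lit 1) (nat_lit 4) .nil)) (nat_lit
  0xbd854819b33ae2c728687c8244d4a0) (nat_lit 1) (nat_lit 4) (.node (.node .nil (nat_lit
  0xbd854994707ad28711ac3864a8d4c0) (nat_lit 1) (nat_lit 4) .nil) (nat_lit
  0xbd8646ca300ba6c320aa12d34a9de0) (nat_lit 1) (nat_lit 4) (.node .nil (nat_lit
  0xbd86549a226208f5aa6e3ca8dac020) (nat_lit 1) (nat_lit 4) .nil)))))))) (nat_lit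
  0xbd8669954d63a0f3c5285d242a9020) (nat_lit 5) (nat_lit 4) (.node (.node (.node (.node (.node (.node
  (.node (.node (.node .nil (nat_lit 0xbd867825137b9a122a51a08aba9980) (nat_lit 1) (nat_lit 4) .nil)
  (nat_lit 0xbd8689c64e0c1ac590f44984aa95e0) (nat_lit 1) (nat_lit 4) .nil) (nat_lit
  0xbd86a5ba110c8cc9d1243b4a8a89e0) (nat_lit 1) (nat_lit 4) (.node .nil (nat_lit
  0xbd8703c8d4795415b5229c5c4aa180) (nat_lit 1) (nat_lit 4) .nil)) (nat_lit
  0xbd872750f064daf52d09894c4a8820) (nat_lit 1) (nat_lit 4) (.node (.node (.node .nil (nat_lit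
  0xbd873a2e277a8a193888819a9a8980) (nat_lit 1) (nat_lit 4) .nil) (nat_lit
  0xbd874341d20c56c6a8482cce4aa5e0) (nat_lit 1) (nat_lit 4) .nil) (nat_lit
  0xbd874449646244f89dd3518b0ab420) (nat_lit 1) (nat_lit 4) (.node .nil (nat_lit
  0xbd874990507b5c1495663a152ac580) (nat_lit 1) (nat_lit 4) .nil))) (nat_lit
  0xbd88189a6b535cc83d233c8b540a80) (nat_lit 1) (nat_lit 4) (.node (.node (.node (.node .nil (nat_lit
  0xbd8832ca304392c385af58a75a1940) (nat_lit 1) (nat_lit 4) .nil) (nat_lit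
  0xbd886886687b9a91a990150b559e40) (nat_lit 1) (nat_lit 4) .nil) (nat_lit
  0xbd8879a8af8398d34928a2e3510c20) (nat_lit 1) (nat_lit 4) (.node .nil (nat_lit
  0xbd8892ba2c148705aa863a2756bc20) (nat_lit 1) (nat_lit 4) .nil)) (nat_lit
  0xbd88d2b22e7c29209c6851a7548960) (nat_lit 1) (nat_lit 4) (.node (.node .nil (nat_lit
  0xbd88f988a7a25ac58dc181a3554900) (nat_lit 1) (nat_lit 4) .nil) (nat_lit
  0xbd8909c8b4385666a9097b235189c0) (nat_lit 1) (nat_lit 4) (.node .nil (nat_lit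
  0xbd8928d27073d475b448604b51a4c0) (nat_lit 1) (nat_lit 4) .nil)))) (nat_lit
  0xbd8942c232331ae52d220be751a0e0) (nat_lit 1) (nat_lit 4) (.node (.node (.node (.node (.node .nil
  (nat_lit 0xbd8948ca636a9e2438eb498b583020) (nat_lit 1) (nat_lit 4) .nil) (nat_lit
  0xbd89498cb07a0cb6082e3b63592920) (nat_lit 1) (nat_lit 4) .nil) (nat_lit
  0xbd8a32322e341325a9a23beb3a2020) (nat_lit 1) (nat_lit 4) (.node .nil (nat_lit
  0xbd8a79c88f824cb629c1a36b118900) (nat_lit 1) (nat_lit 4) .nil)) (nat_lit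
  0xbd8a88ca6278c2a5b13431ea4741a0) (nat_lit 1) (nat_lit 4) (.node (.node .nil (nat_lit
  0xbd8a9242327b06e3868859ab368940) (nat_lit 1) (nat_lit 4) .nil) (nat_lit
  0xbd8aa8a6615b8487d24c39aa41b600) (nat_lit 5) (nat_lit 4) (.node .nil (nat_lit
  0xbd8ac8be7091db44a16a70ea430820) (nat_lit 1) (nat_lit 4) .nil))) (nat_lit
  0xbd8ad24a3013a8c52c660a2b34bce0) (nat_lit 1) (nat_lit 4) (.node (.node (.node (.node .nil (nat_lit
  0xbd8af98c87a396668928832b192820) (nat_lit 1) (nat_lit 4) .nil) (nat_lit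
  0xbd8b09a8943a1ac5c82e79ab110d20) (nat_lit 1) (nat_lit 4) .nil) (nat_lit
  0xbd8b423a2c449b009d2f50ab319960) (nat_lit 1) (nat_lit 4) (.node .nil (nat_lit
  0xbd8b48ae6d49a0c929e81baa438440) (nat_lit 5) (nat_lit 4) .nil)) (nat_lit
  0xbd8b4988907858d30d093aeb1549c0) (nat_lit 1) (nat_lit 4) (.node (.node .nil (nat_lit
  0xbd8c39bdaa93a25241281558ba1c20) (nat_lit 1) (nat_lit 4) .nil) (nat_lit
  0xbd8c494c297b9a83aa0c5d4b410e20) (nat_lit 1) (nat_lit 4) (.node .nil (nat_lit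
  0xbd8c77ca309b82c1a545a5502591a0) (nat_lit 1) (nat_lit 4) .nil))))) (nat_lit
  0xbd8c89c96973ca48aa140d5ac188e0) (nat_lit 1) (nat_lit 4) (.node (.node (.node (.node (.node (.node .nil
  (nat_lit 0xbd8cc10e292b5d45aa043d5e894c20) (nat_lit 1) (nat_lit 4) .nil) (nat_lit
  0xbd8cd7486a7ce825c1212d4e48b100) (nat_lit 1) (nat_lit 4) .nil) (nat_lit
  0xbd8cf3b1d0a45b24254b9d46428820) (nat_lit 7) (nat_lit 0) (.node .nil (nat_lit
  0xbd8d10928a5a06c7c12e3d4b268a60) (nat_lit 1) (nat_lit 4) .nil)) (nat_lit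
  0xbd8d3a46503b04e5a5487d4a11b480) (nat_lit 1) (nat_lit 4) (.node (.node .nil (nat_lit
  0xbd8d4188e9695ec0aa088d5c49c960) (nat_lit 1) (nat_lit 4) .nil) (nat_lit
  0xbd8d442e2a205a7941336544f195c0) (nat_lit 1) (nat_lit 4) (.node .nil (nat_lit
  0xbd8d49b9907c8912a5433d56d40440) (nat_lit 1) (nat_lit 4) .nil))) (nat_lit
  0xbd8e11c9cc7c5105892da94c49aa80) (nat_lit 5) (nat_lit 4) (.node (.node (.node (.node .nil (nat_lit
  0xbd8e3621217b9b332a32aaca2a1200) (nat_lit 1) (nat_lit 4) .nil) (nat_lit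
  0xbd8e49b5e58ba4a1b128a8a1459820) (nat_lit 1) (nat_lit 4) .nil) (nat_lit
  0xbd8e59ca112310e4a96da868f188c0) (nat_lit 1) (nat_lit 4) (.node .nil (nat_lit
  0xbd8e654a304b90c24dedad02b10ca0) (nat_lit 1) (nat_lit 4) .nil)) (nat_lit
  0xbd8e932070515ab63e92acdc488820) (nat_lit 1) (nat_lit 4) (.node (.node .nil (nat_lit
  0xbd8ea4b450306445d268abcac1c5c0) (nat_lit 5) (nat_lit 4) .nil) (nat_lit
  0xbd8ec0b6237a654291c8a996a80a60) (nat_lit 1) (nat_lit 4) (.node .nil (nat_lit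
  0xbd8f19a2842a9ac5b872a99f048440) (nat_lit 1) (nat_lit 4) .nil)))) (nat_lit
  0xbd8f41498e5c11178c8da98a954c20) (nat_lit 1) (nat_lit 4) (.node (.node (.node (.node (.node .nil
  (nat_lit 0xbd8f45a22273da699532ab1411c080) (nat_lit 1) (nat_lit 4) .nil) (nat_lit
  0xbd8f4734cb14e4c82828ac4642bd20) (nat_lit 1) (nat_lit 4) .nil) (nat_lit
  0xbd90114a30238ec48d75694cf54e80) (nat_lit 1) (nat_lit 4) (.node .nil (nat_lit
  0xbd90399d22515ac5be35919c1a4080) (nat_lit 1) (nat_lit 4) .nil)) (nat_lit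
  0xbd9055498e7c0f15cd356868410cc0) (nat_lit 1) (nat_lit 4) (.node (.node .nil (nat_lit
  0xbd9069c9cc5c4f07a8956d029188a0) (nat_lit 1) (nat_lit 4) .nil) (nat_lit
  0xbd90959c647b9a69aa95930b088440) (nat_lit 1) (nat_lit 4) (.node .nil (nat_lit
  0xbd90f83573a1a4c885353b8a320940) (nat_lit 1) (nat_lit 4) .nil))) (nat_lit
  0xbd9107b63498e495a9953904671420) (nat_lit 1) (nat_lit 4) (.node (.node (.node (.node .nil (nat_lit
  0xbd91161e9073db33147592d4448820) (nat_lit 1) (nat_lit 4) .nil) (nat_lit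
  0xbd913a354f83a450c455399841a560) (nat_lit 1) (nat_lit 4) .nil) (nat_lit
  0xbd9141ca114b0ee209f5698ab9a820) (nat_lit 1) (nat_lit 4) (.node .nil (nat_lit
  0xbd91431e212a9ab6393594de219200) (nat_lit 1) (nat_lit 4) .nil)) (nat_lit
  0xbd9149b4307924252cb538d2e33220) (nat_lit 1) (nat_lit 4) (.node (.node .nil (nat_lit
  0xbd921595ea8b98d9c2a239a441a280) (nat_lit 1) (nat_lit 4) .nil) (nat_lit
  0xbd92418a2673ca85aaac3c1b49c820) (nat_lit 1) (nat_lit 4) (.node .nil (nat_lit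
  0xbd9256862a79e6b642a871a8320a40) (nat_lit 1) (nat_lit 4) .nil)))))) (nat_lit
  0xbd9277c6509b1ae29aa3a296440820) (nat_lit 1) (nat_lit 4) (.node (.node (.node (.node (.node (.node
  (.node .nil (nat_lit 0xbd92810ce67b9a40aab48c0ac94d60) (nat_lit 1) (nat_lit 4) .nil) (nat_lit
  0xbd92c9c826695f43aaa45c1c818a20) (nat_lit 5) (nat_lit 4) .nil) (nat_lit
  0xbd92f3b990a483159aa89a8a2191a0) (nat_lit 1) (nat_lit 4) (.node .nil (nat_lit
  0xbd9329d10a111ac5c2b11982e3bca0) (nat_lit 1) (nat_lit 4) .nil)) (nat_lit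
  0xbd933a4a303b88c41aab7a86d28440) (nat_lit 1) (nat_lit 4) (.node (.node .nil (nat_lit
  0xbd9346484a40d736c2af218a774420) (nat_lit 1) (nat_lit 4) .nil) (nat_lit
  0xbd93494d662b5cc8aaa80c1e410ce0) (nat_lit 1) (nat_lit 4) (.node .nil (nat_lit
  0xbd9349b1d07c45219aa53a9015b480) (nat_lit 5) (nat_lit 4) .nil))) (nat_lit
  0xbd9419944941dac5d60f71a4324680) (nat_lit 1) (nat_lit 4) (.node (.node (.node (.node .nil (nat_lit
  0xbd94372da624e2c955213c0afa0900) (nat_lit 1) (nat_lit 4) .nil) (nat_lit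
  0xbd94560509139736d61139a841be40) (nat_lit 1) (nat_lit 4) .nil) (nat_lit
  0xbd9477b1d09c4925d4c8a24ad18440) (nat_lit 1) (nat_lit 4) (.node .nil (nat_lit
  0xbd94d990665ba877d5286405289420) (nat_lit 1) (nat_lit 4) .nil)) (nat_lit
  0xbd94f3ca30a384c2d4c39a56143480) (nat_lit 1) (nat_lit 4) (.node (.node .nil (nat_lit
  0xbd95144a86784655d5331418469dc0) (nat_lit 4) (nat_lit 0) .nil) (nat_lit
  0xbd9525d22978d8d9d60821827708a0) (nat_lit 1) (nat_lit 4) (.node .nil (nat_lit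
  0xbd953a39903c9b11d4c57a50458820) (nat_lit 1) (nat_lit 4) .nil)))) (nat_lit
  0xbd9540be26921a22552e2c0eb1b260) (nat_lit 1) (nat_lit 4) (.node (.node (.node (.node (.node .nil
  (nat_lit 0xbd9546c9e98926b65602198ae3a020) (nat_lit 1) (nat_lit 4) .nil) (nat_lit
  0xbd9549c6507b02e454cb3a462291a0) (nat_lit 1) (nat_lit 4) .nil) (nat_lit
  0xbd9620ca306b9eca950920d4735260) (nat_lit 1) (nat_lit 4) (.node .nil (nat_lit
  0xbd962432117b9b2aa83331ca325120) (nat_lit 1) (nat_lit 4) .nil)) (nat_lit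
  0xbd9624c64c2b950ab661399e41d100) (nat_lit 1) (nat_lit 4) (.node (.node .nil (nat_lit
  0xbd9629c192538b1abd28191a63d020) (nat_lit 1) (nat_lit 4) .nil) (nat_lit
  0xbd96e1a9043502cac9313bcb0989a0) (nat_lit 5) (nat_lit 4) (.node .nil (nat_lit
  0xbd96e50e2d7d209acd88298e190880) (nat_lit 1) (nat_lit 4) .nil))) (nat_lit
  0xbd96e94df08d1a7a8ca66212450820) (nat_lit 1) (nat_lit 4) (.node (.node (.node (.node .nil (nat_lit
  0xbd96e9c8c145085aa8ef4c58d18a00) (nat_lit 1) (nat_lit 4) .nil) (nat_lit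
  0xbd97439a2f809a8a912c9c82a1b8a0) (nat_lit 1) (nat_lit 4) .nil) (nat_lit
  0xbd974795279886caaa28806446b8c0) (nat_lit 1) (nat_lit 4) (.node .nil (nat_lit
  0xbd974848733892aab1a4798a88b820) (nat_lit 1) (nat_lit 4) .nil)) (nat_lit
  0xbd974985b078a24aa06a394cc4ba40) (nat_lit 1) (nat_lit 4) (.node (.node .nil (nat_lit
  0xbd985419501a5b53c5d35ca8478820) (nat_lit 5) (nat_lit 4) .nil) (nat_lit
  0xbd986716241cc555a9093d2507b420) (nat_lit 1) (nat_lit 4) (.node .nil (nat_lit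
  0xbd98781233795554b568a19d208860) (nat_lit 1) (nat_lit 4) .nil))))) (nat_lit
  0xbd9899c9a809e352aa9071166189e0) (nat_lit 1) (nat_lit 4) (.node (.node (.node (.node (.node (.node .nil
  (nat_lit 0xbd98d1293009a955ca28238a71cde0) (nat_lit 1) (nat_lit 4) .nil) (nat_lit
  0xbd9903ac547b9b5928869a0a90c460) (nat_lit 1) (nat_lit 4) .nil) (nat_lit
  0xbd99150a8b0b93584da5399041c9e0) (nat_lit 1) (nat_lit 4) (.node .nil (nat_lit
  0xbd9929d1621b89589d28514cd7c020) (nat_lit 1) (nat_lit 4) .nil)) (nat_lit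
  0xbd993a49077b5d5595318094409860) (nat_lit 1) (nat_lit 4) (.node (.node .nil (nat_lit
  0xbd9944c8ed1a21552e6e898a279020) (nat_lit 1) (nat_lit 4) .nil) (nat_lit
  0xbd99494e25091b54092b31e0e1a9e0) (nat_lit 1) (nat_lit 4) (.node .nil (nat_lit
  0xbd9949a4d07a8b523a423c5ab0a060) (nat_lit 1) (nat_lit 4) .nil))) (nat_lit
  0xbd9a19c98e4c2b1229e7414cb18a80) (nat_lit 1) (nat_lit 4) (.node (.node (.node (.node .nil (nat_lit
  0xbd9a449e2b786aa8326891874289c0) (nat_lit 1) (nat_lit 4) .nil) (nat_lit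
  0xbd9a51ca305baac78887406899a8c0) (nat_lit 1) (nat_lit 4) .nil) (nat_lit
  0xbd9a614a117b2ae58d274502454ca0) (nat_lit 1) (nat_lit 4) (.node .nil (nat_lit
  0xbd9aa99cc313aa42d1289456c83c20) (nat_lit 1) (nat_lit 4) .nil)) (nat_lit
  0xbd9ac71df08ceb459028908aa19920) (nat_lit 1) (nat_lit 4) (.node (.node .nil (nat_lit
  0xbd9af82033a3aa952d923984419620) (nat_lit 1) (nat_lit 4) .nil) (nat_lit
  0xbd9b07a154992ac0c53238cae30960) (nat_lit 1) (nat_lit 4) (.node .nil (nat_lit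
  0xbd9b3a222f81aa25a8b23b92323020) (nat_lit 1) (nat_lit 4) .nil)))) (nat_lit
  0xbd9b409c45326ac1a9c893e045c660) (nat_lit 1) (nat_lit 4) (.node (.node (.node (.node (.node .nil
  (nat_lit 0xbd9b4549cc246b04cd67418af10c20) (nat_lit 5) (nat_lit 4) .nil) (nat_lit
  0xbd9b49a17078ea5884523918672540) (nat_lit 1) (nat_lit 4) .nil) (nat_lit
  0xbd9c2348e87d58d585308cc642d140) (nat_lit 1) (nat_lit 4) (.node .nil (nat_lit
  0xbd9c2612254d4d35a9e33b61245020) (nat_lit 1) (nat_lit 4) .nil)) (nat_lit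
  0xbd9c26a550256665c6480b0af1d0e0) (nat_lit 1) (nat_lit 4) (.node (.node .nil (nat_lit
  0xbd9c29bc23955ac59c855190985220) (nat_lit 1) (nat_lit 4) .nil) (nat_lit
  0xbd9cb1a8d0455a9a498f2c4e498820) (nat_lit 1) (nat_lit 4) (.node .nil (nat_lit
  0xbd9cb50de18d48ca4d263a0ad90a00) (nat_lit 1) (nat_lit 4) .nil))) (nat_lit
  0xbd9cb94e247d425a0ce849990509a0) (nat_lit 1) (nat_lit 4) (.node (.node (.node (.node .nil (nat_lit
  0xbd9cb9c90d35607a28b163d2118880) (nat_lit 1) (nat_lit 4) .nil) (nat_lit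
  0xbd9d43846f8552c129a8994c48ae40) (nat_lit 1) (nat_lit 4) .nil) (nat_lit
  0xbd9d47c9a79d6281106c818aa4ac20) (nat_lit 1) (nat_lit 4) (.node .nil (nat_lit
  0xbd9d4816333d5a41212a7864c1acc0) (nat_lit 1) (nat_lit 4) .nil)) (nat_lit
  0xbd9d4999307d46a132243c8286aca0) (nat_lit 1) (nat_lit 4) (.node (.node .nil (nat_lit
  0xbd9e49ba11ac9ac5a04a298f40a460) (nat_lit 1) (nat_lit 4) .nil) (nat_lit
  0xbd9e5998e4ab84352d288ca9063420) (nat_lit 1) (nat_lit 4) (.node .nil (nat_lit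
  0xbd9e649570aa1a389e6e5524460820) (nat_lit 1) (nat_lit 4) .nil))))))) (nat_lit
  0xbd9e86c1d2ac66c311343acaa08860) (nat_lit 1) (nat_lit 4) (.node (.node (.node (.node (.node (.node
  (.node (.node .nil (nat_lit 0xbd9e9509b0a92215ce8831cae1c980) (nat_lit 1) (nat_lit 4) .nil) (nat_lit
  0xbd9ea34a30ab96c6d0e44cc4809460) (nat_lit 1) (nat_lit 4) .nil) (nat_lit
  0xbd9ed94d28aba8128a30399641a980) (nat_lit 1) (nat_lit 4) (.node .nil (nat_lit
  0xbd9f19ca85a9921429ab23a0718980) (nat_lit 1) (nat_lit 4) .nil)) (nat_lit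
  0xbd9f24522daa6035a9d3394c261020) (nat_lit 1) (nat_lit 4) (.node (.node .nil (nat_lit
  0xbd9f412a2ba9da184925711061cd80) (nat_lit 1) (nat_lit 4) .nil) (nat_lit
  0xbd9f45c64eac0cc9a8a81352409c60) (nat_lit 1) (nat_lit 4) (.node .nil (nat_lit
  0xbd9f474942acc833c509598ad64020) (nat_lit 1) (nat_lit 4) .nil))) (nat_lit
  0xbda0161635791736a54819a4e38a80) (nat_lit 1) (nat_lit 4) (.node (.node (.node (.node .nil (nat_lit
  0xbda030c9b57a2275992e62844a1660) (nat_lit 1) (nat_lit 4) .nil) (nat_lit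
  0xbda049c8f52b5c80a8cc8a5f418960) (nat_lit 1) (nat_lit 4) .nil) (nat_lit
  0xbda05985f588dac5a54221a8772240) (nat_lit 1) (nat_lit 4) (.node .nil (nat_lit
  0xbda0894e35695e45a8d43a5cc10c20) (nat_lit 1) (nat_lit 4) .nil)) (nat_lit
  0xbda0c189757b9b48a8c40a4a89c8e0) (nat_lit 1) (nat_lit 4) (.node (.node .nil (nat_lit
  0xbda0d43c759068c219333a8ab889c0) (nat_lit 1) (nat_lit 4) .nil) (nat_lit
  0xbda119ae9523862919282a8ef6b020) (nat_lit 1) (nat_lit 4) (.node .nil (nat_lit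
  0xbda126d05543a6b6254f398241c4a0) (nat_lit 1) (nat_lit 4) .nil)))) (nat_lit
  0xbda1410c3573cac3a8c85a5a494e20) (nat_lit 1) (nat_lit 4) (.node (.node (.node (.node (.node .nil
  (nat_lit 0xbda145c91511d8d9a551718a323c20) (nat_lit 1) (nat_lit 4) .nil) (nat_lit
  0xbda14712355cda5799211299219d00) (nat_lit 1) (nat_lit 4) .nil) (nat_lit
  0xbda2121ab06a9e95b988148b319e80) (nat_lit 1) (nat_lit 4) (.node .nil (nat_lit
  0xbda26206a373d4c4352b3d0b380a40) (nat_lit 1) (nat_lit 4) .nil)) (nat_lit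
  0xbda2798eaf805ac58909a1885929c0) (nat_lit 5) (nat_lit 4) (.node (.node .nil (nat_lit
  0xbda282a6b0599aa7b2541ba6438820) (nat_lit 1) (nat_lit 4) .nil) (nat_lit
  0xbda2a2caad79e085d12c70e6430440) (nat_lit 1) (nat_lit 4) (.node .nil (nat_lit
  0xbda2c2aea24b834921ea39a641c1a0) (nat_lit 1) (nat_lit 4) .nil))) (nat_lit
  0xbda2f9caa7a218d3282e82c8518920) (nat_lit 1) (nat_lit 4) (.node (.node (.node (.node .nil (nat_lit
  0xbda3098ab43b8cb60d287b48554820) (nat_lit 1) (nat_lit 4) .nil) (nat_lit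
  0xbda32252ab7b9a2828e3484b3430c0) (nat_lit 8) (nat_lit 0) .nil) (nat_lit
  0xbda3424aa8535c71bc50618b35a420) (nat_lit 1) (nat_lit 4) (.node .nil (nat_lit
  0xbda342bea190c4c4a96831e6473600) (nat_lit 1) (nat_lit 4) .nil)) (nat_lit
  0xbda349aab07a5666c9c13b08510d00) (nat_lit 1) (nat_lit 4) (.node (.node .nil (nat_lit
  0xbda435d5302a9a69ba27431e4a0820) (nat_lit 1) (nat_lit 4) .nil) (nat_lit
  0xbda440d4d0124ea5b1c86c4b41be60) (nat_lit 1) (nat_lit 4) (.node .nil (nat_lit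
  0xbda499d46173dac596874194289200) (nat_lit 1) (nat_lit 4) .nil))))) (nat_lit
  0xbda4a756257cce41d02869a0c58920) (nat_lit 1) (nat_lit 4) (.node (.node (.node (.node (.node (.node .nil
  (nat_lit 0xbda4c9d44b338f4811286bc6a2c420) (nat_lit 1) (nat_lit 4) .nil) (nat_lit
  0xbda4f85633a11055a84d38d8e32420) (nat_lit 1) (nat_lit 4) .nil) (nat_lit
  0xbda507d5749b902884ad399241b140) (nat_lit 1) (nat_lit 4) (.node .nil (nat_lit
  0xbda51356827b9ab6286744ca14c080) (nat_lit 1) (nat_lit 4) .nil)) (nat_lit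
  0xbda53a542f80d0c52d2d390a670a20) (nat_lit 1) (nat_lit 4) (.node (.node .nil (nat_lit
  0xbda544d5e3884ec2aa6868964819c0) (nat_lit 1) (nat_lit 4) .nil) (nat_lit
  0xbda5465624515b333d2742dd018440) (nat_lit 1) (nat_lit 4) (.node .nil (nat_lit
  0xbda549d550799090c58d3b84321560) (nat_lit 1) (nat_lit 4) .nil))) (nat_lit
  0xbda61a98837b9a74284b648b182680) (nat_lit 1) (nat_lit 4) (.node (.node (.node (.node .nil (nat_lit
  0xbda63aba2c7c93052da809885a08e0) (nat_lit 1) (nat_lit 4) .nil) (nat_lit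
  0xbda66a8490535c25bce84d0b11b240) (nat_lit 1) (nat_lit 4) .nil) (nat_lit
  0xbda68abcad93a0a4b17439a2418440) (nat_lit 1) (nat_lit 4) (.node .nil (nat_lit
  0xbda69aca303386c09e8253c856a160) (nat_lit 1) (nat_lit 4) .nil)) (nat_lit
  0xbda6aaacb048da8951ec31e2470820) (nat_lit 1) (nat_lit 4) (.node (.node .nil (nat_lit
  0xbda6cac8a1798545a12a1ba243b600) (nat_lit 1) (nat_lit 4) .nil) (nat_lit
  0xbda6dac2324328e5a86f3888549820) (nat_lit 1) (nat_lit 4) (.node .nil (nat_lit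
  0xbda72ad0886a9ec1b930384b1588c0) (nat_lit 1) (nat_lit 4) .nil)))) (nat_lit
  0xbda74aa4a259c2c7aa4870e24341a0) (nat_lit 1) (nat_lit 4) (.node (.node (.node (.node (.node .nil
  (nat_lit 0xbda74ab22e141b2385265a0851bd40) (nat_lit 5) (nat_lit 4) .nil) (nat_lit
  0xbda74ac88b73d4983583118b141c20) (nat_lit 1) (nat_lit 4) .nil) (nat_lit
  0xbda950c64c7b9b012909190a63ae60) (nat_lit 5) (nat_lit 4) (.node .nil (nat_lit
  0xbda951aa217ac87748a86192d98a00) (nat_lit 1) (nat_lit 4) .nil)) (nat_lit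
  0xbda95310304898d59de854cb21ba20) (nat_lit 1) (nat_lit 4) (.node (.node .nil (nat_lit
  0xbda95441926b9f111433399441ad20) (nat_lit 1) (nat_lit 4) .nil) (nat_lit
  0xbda954ca30538ac13e6131da322d00) (nat_lit 1) (nat_lit 4) (.node .nil (nat_lit
  0xbda9550d1032da574cf14bd8490820) (nat_lit 1) (nat_lit 4) .nil))) (nat_lit
  0xbda9564943788d35c5250b504838e0) (nat_lit 1) (nat_lit 4) (.node (.node (.node (.node .nil (nat_lit
  0xbda956be2890a665a8903b0692b820) (nat_lit 1) (nat_lit 4) .nil) (nat_lit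
  0xbda9594ccd42e0c70d2f3c4a150880) (nat_lit 1) (nat_lit 4) .nil) (nat_lit
  0xbda959a4e5209ac5864389a0f43940) (nat_lit 1) (nat_lit 4) (.node .nil (nat_lit
  0xbda959b2112b9521352820de732c20) (nat_lit 1) (nat_lit 4) .nil)) (nat_lit
  0xbda959c9e48ac29729862a0f0189a0) (nat_lit 1) (nat_lit 4) (.node (.node .nil (nat_lit
  0xbdaa154a115b1ae7cc88394c910e80) (nat_lit 1) (nat_lit 4) .nil) (nat_lit
  0xbdaa16951010e6b6293121a4773e80) (nat_lit 1) (nat_lit 4) (.node .nil (nat_lit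
  0xbdaa199a2873d421b4f04c8a45b280) (nat_lit 1) (nat_lit 4) .nil)))))) (nat_lit
  0xbdaa2220b00ace37293269a33651e0) (nat_lit 1) (nat_lit 4) (.node (.node (.node (.node (.node (.node
  (.node .nil (nat_lit 0xbdaa22c88962daf71a083aa710d060) (nat_lit 1) (nat_lit 4) .nil) (nat_lit
  0xbdaa28b6667ae4c72547440851d020) (nat_lit 1) (nat_lit 4) .nil) (nat_lit
  0xbdaa299e2a1ad01740cd924a47d180) (nat_lit 1) (nat_lit 4) (.node .nil (nat_lit
  0xbdaa33492473dab616283cd50a0440) (nat_lit 1) (nat_lit 4) .nil)) (nat_lit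
  0xbdaa3411b0586227a933298f2a31c0) (nat_lit 1) (nat_lit 4) (.node (.node .nil (nat_lit
  0xbdaa39c2321312e09da6520a4a3d60) (nat_lit 1) (nat_lit 4) .nil) (nat_lit
  0xbdaa410d70695e88a92c099d494ce0) (nat_lit 1) (nat_lit 4) (.node .nil (nat_lit
  0xbdaa45c1d27c4cc9a0ea4b45419420) (nat_lit 1) (nat_lit 4) .nil))) (nat_lit
  0xbdaa47484334daa2b0283bd7484520) (nat_lit 1) (nat_lit 4) (.node (.node (.node (.node .nil (nat_lit
  0xbdaa5149cc4c5b020de83868b54cc0) (nat_lit 1) (nat_lit 4) .nil) (nat_lit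
  0xbdaa5584504118d9a92f19a8e3c640) (nat_lit 1) (nat_lit 4) .nil) (nat_lit
  0xbdaa57196d7ce0c89d0954a8219020) (nat_lit 5) (nat_lit 4) (.node .nil (nat_lit
  0xbdaa61c98e241b1489683d02f9a8a0) (nat_lit 5) (nat_lit 4) .nil)) (nat_lit
  0xbdaa6414e27a48c52dd38d24d1c020) (nat_lit 1) (nat_lit 4) (.node (.node .nil (nat_lit
  0xbdaa69862b6a9e783843650a442640) (nat_lit 1) (nat_lit 4) .nil) (nat_lit
  0xbdaa77b9909c8514292ba18612b480) (nat_lit 1) (nat_lit 4) (.node .nil (nat_lit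
  0xbdaa782cd37b5cc91482a45491a020) (nat_lit 1) (nat_lit 4) .nil)))) (nat_lit
  0xbdaa798a2f8216668c2ea30a454920) (nat_lit 1) (nat_lit 4) (.node (.node (.node (.node (.node .nil
  (nat_lit 0xbdaa8188302b5c43a934599ec9ca20) (nat_lit 1) (nat_lit 4) .nil) (nat_lit
  0xbdaa833a117c96c690b414d2a19c20) (nat_lit 1) (nat_lit 4) .nil) (nat_lit
  0xbdaa89ae2149c4a931f470ca433600) (nat_lit 1) (nat_lit 4) (.node .nil (nat_lit
  0xbdaa9648622a9b333a883ade18c080) (nat_lit 1) (nat_lit 4) .nil)) (nat_lit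
  0xbdaa994dab79a2c80a85239071a820) (nat_lit 1) (nat_lit 4) (.node (.node .nil (nat_lit
  0xbdaa99b22e4407252e8f088a4698e0) (nat_lit 1) (nat_lit 4) .nil) (nat_lit
  0xbdaaa0c9eb8a5a4851c83886c29a60) (nat_lit 1) (nat_lit 4) (.node .nil (nat_lit
  0xbdaaa6c64e7c26c350442ace81a420) (nat_lit 1) (nat_lit 4) .nil))) (nat_lit
  0xbdaaa9be22918284d16c1b8a43c1a0) (nat_lit 1) (nat_lit 4) (.node (.node (.node (.node .nil (nat_lit
  0xbdaab21ca97890ca1a0d92a331b820) (nat_lit 1) (nat_lit 4) .nil) (nat_lit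
  0xbdaab2b49018a41a292741a717b980) (nat_lit 1) (nat_lit 4) .nil) (nat_lit
  0xbdaab8ca6a089a3a40c83a485639e0) (nat_lit 1) (nat_lit 4) (.node .nil (nat_lit
  0xbdaab9a226608efa25526c0a40b860) (nat_lit 1) (nat_lit 4) .nil)) (nat_lit
  0xbdaac4c8c5105b4192683c60a5bdc0) (nat_lit 1) (nat_lit 4) (.node (.node .nil (nat_lit
  0xbdaac94cf073cb40a924899a810d60) (nat_lit 1) (nat_lit 4) .nil) (nat_lit
  0xbdaac9a62d58e147a24a31ca470440) (nat_lit 1) (nat_lit 4) (.node .nil (nat_lit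
  0xbdaad0ac70222859292e1198f89e60) (nat_lit 1) (nat_lit 4) .nil))))) (nat_lit
  0xbdaad5092579e8c44e2b712061c820) (nat_lit 1) (nat_lit 4) (.node (.node (.node (.node (.node (.node .nil
  (nat_lit 0xbdaad9ba2c34a90384625bca44a140) (nat_lit 1) (nat_lit 4) .nil) (nat_lit
  0xbdaae248a61d1a1125483c2337ad80) (nat_lit 1) (nat_lit 4) .nil) (nat_lit
  0xbdaae2a08a7d0ec140d26a6711ac20) (nat_lit 1) (nat_lit 4) (.node .nil (nat_lit
  0xbdaae89e706510f1292d918850ac60) (nat_lit 1) (nat_lit 4) .nil)) (nat_lit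
  0xbdaae9b6290d24311a07428a462de0) (nat_lit 1) (nat_lit 4) (.node (.node .nil (nat_lit
  0xbdaaf3c650a308e1a9259990d58440) (nat_lit 1) (nat_lit 4) .nil) (nat_lit
  0xbdaaf84953a0da20c4a83912673160) (nat_lit 1) (nat_lit 4) (.node .nil (nat_lit
  0xbdaaf9aa27a04cb64909834a410dc0) (nat_lit 1) (nat_lit 4) .nil))) (nat_lit
  0xbdab0391147a8ac4b971989b219820) (nat_lit 1) (nat_lit 4) (.node (.node (.node (.node .nil (nat_lit
  0xbdab07c834999a552c483b98322620) (nat_lit 1) (nat_lit 4) .nil) (nat_lit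
  0xbdab098e343a58d309c17aca492900) (nat_lit 1) (nat_lit 4) .nil) (nat_lit
  0xbdab112a887912c2c9b031d6e1cc20) (nat_lit 1) (nat_lit 4) (.node .nil (nat_lit
  0xbdab15ca81515a69bc683b1c249200) (nat_lit 1) (nat_lit 4) .nil)) (nat_lit
  0xbdab173e9094c67229216184b69500) (nat_lit 1) (nat_lit 4) (.node (.node .nil (nat_lit
  0xbdab24d1447a04c3c66e594d01b420) (nat_lit 1) (nat_lit 4) .nil) (nat_lit
  0xbdab2651f089d736a92271823220a0) (nat_lit 1) (nat_lit 4) (.node .nil (nat_lit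
  0xbdab29d223535c943d8b104a481cc0) (nat_lit 1) (nat_lit 4) .nil)))) (nat_lit
  0xbdab3a24477954c23646821cb1c420) (nat_lit 1) (nat_lit 4) (.node (.node (.node (.node (.node .nil
  (nat_lit 0xbdab3a31d03c4322a92379962411a0) (nat_lit 1) (nat_lit 4) .nil) (nat_lit
  0xbdab3a496f811a98858838c4e31540) (nat_lit 1) (nat_lit 4) .nil) (nat_lit
  0xbdab40c1922b9515b50931de320a60) (nat_lit 1) (nat_lit 4) (.node .nil (nat_lit
  0xbdab41a9ed8ba055c8e64a18198880) (nat_lit 1) (nat_lit 4) .nil)) (nat_lit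
  0xbdab4234aa63a4f5c0c74263308860) (nat_lit 1) (nat_lit 4) (.node (.node .nil (nat_lit
  0xbdab429c860b9035a54d94271609e0) (nat_lit 1) (nat_lit 4) .nil) (nat_lit
  0xbdab433d459398d5c4830ce09408e0) (nat_lit 1) (nat_lit 4) (.node .nil (nat_lit
  0xbdab4395af83a2a5b06498648488c0) (nat_lit 1) (nat_lit 4) .nil))) (nat_lit
  0xbdab44464c538b05bc3320da730920) (nat_lit 1) (nat_lit 4) (.node (.node (.node (.node .nil (nat_lit
  0xbdab44b2116b9f2596611914638900) (nat_lit 1) (nat_lit 4) .nil) (nat_lit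
  0xbdab450cc4438275ccaf64530909a0) (nat_lit 1) (nat_lit 4) .nil) (nat_lit
  0xbdab462428238d359e505346f28a20) (nat_lit 1) (nat_lit 4) (.node .nil (nat_lit
  0xbdab4690e34ba66585e58b11280940) (nat_lit 1) (nat_lit 4) .nil)) (nat_lit
  0xbdab4798679b9245a1aa8482c888a0) (nat_lit 1) (nat_lit 4) (.node (.node .nil (nat_lit
  0xbdab4805333b8685922c794ca68a40) (nat_lit 1) (nat_lit 4) .nil) (nat_lit
  0xbdab48a2691b8e159a126a88578980) (nat_lit 1) (nat_lit 4) (.node .nil (nat_lit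
  0xbdab494d013388958d912bced50a00) (nat_lit 1) (nat_lit 4) .nil))))))))))

theorem tI_closed : closedChk (cjap mul inv) cM_l2.gens tI = true := by decide +kernel

theorem tI_K5 : enum mul (fun x => bor (Nat.beq x one) (bor (!Nat.beq (mul x x) one) (tI.has x)))
    (cM.drop 5) one = true := by decide +kernel

theorem tI_rel : (tI.all fun k a b => force (cpow mul one cX a) fun y =>
    bif' (Nat.beq b 0) (Nat.beq k (cjap mul inv y cT))
      (band (Nat.beq (cpow mul one (mul y cT) b) one)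
        (!Nat.beq (force (mul y k) fun z => cpow mul one z b) one))) = true := by decide +kernel

theorem K5_mem_tI {g : M24} (hg : g ∈ K5) (ho : orderOf g = 2) : mcode g ∈ tI.keys := by
  have h1 := ((chkM_sound cM_chk).2.1.drop 5).enum_one gcM acM tI_K5 g hg
  rw [bor_eq, bor_eq, Bool.or_eq_true, Bool.or_eq_true, Bool.not_eq_true', ← gcM.code_mul,
    ← Bool.not_eq_true, gcM.eq_one_iff, gcM.eq_one_iff] at h1
  rcases h1 with h1 | h1 | h1
  · rw [h1, orderOf_one] at ho; omega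
  · exact absurd (by rw [← pow_two, ← ho, pow_orderOf_eq_one]) h1
  · exact T.has_sound h1

theorem conj_mem_tI {u g : M24} (hu : u ∈ H22) (h : mcode g ∈ tI.keys) :
    mcode (u * g * u⁻¹) ∈ tI.keys := by
  rw [H22_eq] at hu
  exact gcM.acCj.closed_sound tI_closed hu (x := toCj g) trivial h

theorem inj_five {α : Type*} {p q a b c : α} (h0 : p ≠ q) (h1 : a ≠ p) (h2 : a ≠ q) (h3 : b ≠ p)
    (h4 : b ≠ q) (h5 : c ≠ p) (h6 : c ≠ q) (hab : a ≠ b) (hac : a ≠ c) (hbc : b ≠ c) :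
    Function.Injective ![p, q, a, b, c] := by
  intro i j hij
  have := h0.symm; have := h1.symm; have := h2.symm; have := h3.symm; have := h4.symm
  have := h5.symm; have := h6.symm; have := hab.symm; have := hac.symm; have := hbc.symm
  fin_cases i <;> fin_cases j <;> first | rfl | exact absurd hij (by assumption)

theorem invol_mem_tI {g : M24} (hg : g ∈ H22) (h2 : orderOf g = 2) : mcode g ∈ tI.keys := by
  obtain ⟨g1, g2⟩ := mem_H22.1 hg
  obtain ⟨k, hk⟩ := class2A h2 fun h => h none g1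
  have h8 : (fixs g).card = 8 := by rw [hk, card_fixs_conj, card_fixs_zA]
  have h3 : 2 < (fixs (g : Equiv.Perm GolayPt) \ {none, some 0}).card := by
    have := le_card_sdiff ({none, some 0} : Finset GolayPt) (fixs (g : Equiv.Perm GolayPt))
    have := card_le_two (a := (none : GolayPt)) (b := some 0)
    omega
  obtain ⟨a, b, c, ha, hb, hc, hab, hac, hbc⟩ := two_lt_card_iff.1 h3
  simp only [mem_sdiff, mem_fixs, mem_insert, mem_singleton, not_or] at ha hb hc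
  obtain ⟨u, hu, e⟩ := trans_tuples (ι := Fin 5) (by simp) (x := ![none, some 0, a, b, c])
    (y := ![none, some 0, pt 1, pt 2, pt 3]) 
    (inj_five (by simp) ha.2.1 ha.2.2 hb.2.1 hb.2.2 hc.2.1 hc.2.2 hab hac hbc) (by decide +kernel)
  have hU : (⟨u, hu⟩ : M24) ∈ H22 := mem_H22.2 ⟨e 0, e 1⟩
  have hK : (⟨u, hu⟩ * g * (⟨u, hu⟩ : M24)⁻¹ : M24) ∈ K5 := by
    refine mem_K5.2 fun p hp => ?_
    obtain ⟨i, rfl⟩ := (by decide +kernel :
      ∀ p ∈ B5, ∃ i : Fin 5, ![none, some 0, pt 1, pt 2, pt 3] i = p) p hp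
    rw [← e i]
    have : (g : Equiv.Perm GolayPt) (![none, some 0, a, b, c] i) = ![none, some 0, a, b, c] i := by
      fin_cases i
      exacts [g1, g2, ha.1, hb.1, hc.1]
    simp [this]
  have ho : orderOf (⟨u, hu⟩ * g * (⟨u, hu⟩ : M24)⁻¹ : M24) = 2 := by
    rw [← h2]; exact (MulAut.conj (⟨u, hu⟩ : M24)).orderOf_eq g
  have := conj_mem_tI (inv_mem hU) (K5_mem_tI hK ho)
  rwa [show (⟨u, hu⟩ : M24)⁻¹ * (⟨u, hu⟩ * g * (⟨u, hu⟩ : M24)⁻¹) * (⟨u, hu⟩ : M24)⁻¹⁻¹ = g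
    by group] at this

theorem eq_conj_of_rel {u : M24} (hu : u ∈ H22) (h2 : orderOf u = 2)
    (h : ∀ a b : ℕ, (elt cX ^ a * elt cT) ^ b = 1 → (elt cX ^ a * u) ^ b = 1) :
    ∃ a : ℕ, u = elt cX ^ a * elt cT * (elt cX ^ a)⁻¹ := by
  obtain ⟨a, b, hm⟩ := T.mem_keys.1 (invol_mem_tI hu h2)
  have h1 := (T.all_iff _ _).1 tI_rel _ _ _ hm
  rw [force_eq, force_eq, bif'_eq, ← mcode_X, ← mcode_T, gcM.cpow_code, gcM.cjap_code,
    ← gcM.code_mul, ← gcM.code_mul, gcM.cpow_code, gcM.cpow_code] at h1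
  split_ifs at h1
  · exact ⟨a, gcM.inj (Nat.eq_of_beq_eq_true h1)⟩
  · simp only [band_eq, Bool.and_eq_true, Bool.not_eq_true', ← Bool.not_eq_true,
      gcM.eq_one_iff] at h1
    exact absurd (h a b h1.1) h1.2

theorem exists_conj_of_aut (α : MulAut H22) :
    ∃ d ∈ Dd, ∀ h : H22, (α h : M24) = d * h * d⁻¹ := by
  have : Fact (Nat.Prime 11) := ⟨by norm_num⟩
  set x : H22 := ⟨_, X_mem⟩
  set t : H22 := ⟨_, T_mem⟩
  have hX : elt cX ^ 11 = 1 := orderOf_X ▸ pow_orderOf_eq_one _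
  have ho : ∀ h : H22, orderOf (α h : M24) = orderOf (h : M24) := fun h => by
    rw [Subgroup.orderOf_coe, Subgroup.orderOf_coe, MulEquiv.orderOf_eq]
  obtain ⟨g, hg, hgx⟩ := exists_conj_mem_of_card' (p := 11) (Subgroup.zpowers_le.2 X_mem)
    (by rw [factorization_eq_of (a := 1) (m := 40320) card_H22 (by norm_num), Nat.card_zpowers,
      orderOf_X]; rfl) (α x).2 (n := 1)
    (by rw [pow_one, ← orderOf_X, ← ho x, pow_orderOf_eq_one])
  obtain ⟨k, hk⟩ := mem_powers_iff_mem_zpowers.2 hgx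
  have hN : ∀ j : ℕ, elt cN ^ j * elt cX * (elt cN ^ j)⁻¹ = elt cX ^ 2 ^ j := fun j => by
    induction j with
    | zero => simp
    | succ j ih =>
      calc elt cN ^ (j + 1) * elt cX * (elt cN ^ (j + 1))⁻¹ =
          elt cN * (elt cN ^ j * elt cX * (elt cN ^ j)⁻¹) * (elt cN)⁻¹ := by group
        _ = _ := by rw [ih, ← conj_pow, N_conj, ← pow_mul, ← pow_succ']
  obtain ⟨j, hj⟩ : ∃ j : ℕ, elt cX ^ 2 ^ j = elt cX ^ k := by
    have h0 : k % 11 ≠ 0 := fun e => by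
      have h1 : elt cX ^ k = 1 := by rw [pow_eq_pow_mod k hX, e, pow_zero]
      have h2 := (MulAut.conj g).orderOf_eq (α x : M24)
      rw [MulAut.conj_apply, ← hk, ho x, orderOf_X] at h2
      simp only [h1, orderOf_one] at h2
      omega
    obtain ⟨j, -, hj⟩ := (by decide : ∀ r < 11, r ≠ 0 → ∃ j < 10, 2 ^ j % 11 = r) _
      (Nat.mod_lt k (by norm_num)) h0
    exact ⟨j, by rw [pow_eq_pow_mod _ hX, hj, ← pow_eq_pow_mod _ hX]⟩
  set d := (elt cN ^ j)⁻¹ * g with hd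
  have hdD : d ∈ Dd := mul_mem (inv_mem (pow_mem N_mem j)) (H22_le_Dd hg)
  let β : H22 →* M24 := (MulAut.conj d).toMonoidHom.comp (H22.subtype.comp α.toMonoidHom)
  have hβ : ∀ h, β h = d * α h * d⁻¹ := fun _ => rfl
  have βx : β x = elt cX := by
    have h1 : g * α x * g⁻¹ = elt cN ^ j * elt cX * (elt cN ^ j)⁻¹ := by rw [hN, hj]; exact hk.symm
    rw [hβ, hd]
    calc (elt cN ^ j)⁻¹ * g * α x * ((elt cN ^ j)⁻¹ * g)⁻¹ =
        (elt cN ^ j)⁻¹ * (g * α x * g⁻¹) * elt cN ^ j := by group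
      _ = _ := by rw [h1]; group
  obtain ⟨a, ha⟩ := eq_conj_of_rel (u := β t) (Dd_conj hdD (α t).2)
    (((MulAut.conj d).orderOf_eq _).trans ((ho t).trans orderOf_T)) fun a b h => by
      have : (x ^ a * t) ^ b = 1 := Subtype.ext h
      rw [← βx, ← map_pow, ← map_mul, ← map_pow, this, map_one]
  let γ : H22 →* M24 := (MulAut.conj (elt cX ^ a)).toMonoidHom.comp H22.subtype
  have hγ : ∀ h, γ h = elt cX ^ a * h * (elt cX ^ a)⁻¹ := fun _ => rfl
  have hle : gen mcode [cX, cT] ≤ (β.eqLocus γ).map H22.subtype := gen_le fun s hs => by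
    simp only [List.mem_cons, List.not_mem_nil, or_false] at hs
    rcases hs with hs | hs
    · refine ⟨x, ?_, gcM.inj (mcode_X.trans hs.symm)⟩
      change β x = γ x
      rw [βx, hγ]
      change _ = elt cX ^ a * elt cX * _
      group
    · exact ⟨t, ha, gcM.inj (mcode_T.trans hs.symm)⟩
  refine ⟨d⁻¹ * elt cX ^ a, mul_mem (inv_mem hdD) (H22_le_Dd (pow_mem X_mem a)), fun h => ?_⟩
  obtain ⟨h', h1, h2⟩ := hle (H22_le_gen h.2)
  obtain rfl : h' = h := Subtype.ext h2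
  have h3 : d * α h' * d⁻¹ = elt cX ^ a * h' * (elt cX ^ a)⁻¹ := h1
  calc (α h' : M24) = d⁻¹ * (d * α h' * d⁻¹) * d := by group
    _ = _ := by rw [h3]; group

/-- Conjugation action of `Dd` on `M22`. -/
def conjDd : Dd →* MulAut H22 := H22.normalizerMonoidHom.comp (Subgroup.inclusion Dd_le_norm)

theorem conjDd_apply (d : Dd) (h : H22) : (conjDd d h : M24) = d * h * (d : M24)⁻¹ := rfl

theorem conjDd_bijective : Function.Bijective conjDd := by
  refine ⟨(injective_iff_map_eq_one _).2 fun d hd => Subtype.ext (Dd_cent d.2 fun x hx => ?_),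
    fun α => ?_⟩
  · have := conjDd_apply d ⟨x, hx⟩
    rw [hd] at this
    exact mul_inv_eq_iff_eq_mul.1 this.symm
  · obtain ⟨d, hd, h⟩ := exists_conj_of_aut α
    exact ⟨⟨d, hd⟩, MulEquiv.ext fun x => Subtype.ext (h x).symm⟩

theorem autM22 : Nonempty (MulAut ↥Spor.M22 ≃* ↥Dd) :=
  ⟨(MulAut.congr eH22).symm.trans (MulEquiv.ofBijective conjDd conjDd_bijective).symm⟩

end Cfsg.Agent.J4
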