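import Cfsg.Agent.J4.Bits
import Cfsg.Agent.Cl.SLCard
import Cfsg.Agent.GT.Basic
import Cfsg.Agent.GT.Notation

/-!
# Linear automorphisms of the exterior square of `𝔽₂⁵` preserving the decomposable vectors

Vectors are coded by numbers below `1024`.
-/

set_option autoImplicit false
set_option exponentiation.threshold 1100

namespace Cfsg.Agent.J4

open Cfsg.Agent.M24 Matrix

theorem exists_hom_SL_rel {G ι : Type*} [Group G] [Fintype ι] [DecidableEq ι]
    (R : G → (ι → ZMod 2) → (ι → ZMod 2) → Prop) (ex : ∀ g v, ∃ v', R g v v')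
    (uq : ∀ g v a b, R g v a → R g v b → a = b)
    (hadd : ∀ g u v a b c, R g u a → R g v b → R g (u + v) c → c = a + b)
    (hmul : ∀ g h u v w, R h u v → R g v w → R (g * h) u w) (hone : ∀ v, R 1 v v) :
    ∃ f : G →* SpecialLinearGroup ι (ZMod 2), ∀ g v, R g v ((f g).1 *ᵥ v) := by
  choose a ha using ex
  have h1 : ∀ g u v, a g (u + v) = a g u + a g v := fun g u v =>
    hadd g u v _ _ _ (ha g u) (ha g v) (ha g _)
  let L : G → (ι → ZMod 2) →ₗ[ZMod 2] (ι → ZMod 2) := fun g =>
    (AddMonoidHom.mk' (a g) (h1 g)).toZModLinearMap 2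
  have hL : ∀ g v, L g v = a g v := fun _ _ => rfl
  have h2 : ∀ g h, L (g * h) = L g ∘ₗ L h := fun g h => LinearMap.ext fun v =>
    uq (g * h) v _ _ (ha _ v) (hmul g h v _ _ (ha h v) (ha g _))
  have h3 : L 1 = LinearMap.id := LinearMap.ext fun v => uq 1 v _ _ (ha 1 v) (hone v)
  have h4 : ∀ g, (LinearMap.toMatrix' (L g)).det = 1 := fun g => by
    have : LinearMap.toMatrix' (L g) * LinearMap.toMatrix' (L g⁻¹) = 1 := by
      rw [← LinearMap.toMatrix'_comp, ← h2, mul_inv_cancel, h3, LinearMap.toMatrix'_id]
    have := congrArg det this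
    rw [det_mul, det_one] at this
    have h5 : ∀ x y : ZMod 2, x * y = 1 → x = 1 := by decide
    exact h5 _ _ this
  refine ⟨MonoidHom.mk' (fun g => ⟨LinearMap.toMatrix' (L g), h4 g⟩) fun g h => Subtype.ext ?_,
    fun g v => ?_⟩
  · change LinearMap.toMatrix' (L (g * h)) = LinearMap.toMatrix' (L g) * LinearMap.toMatrix' (L h)
    rw [h2, LinearMap.toMatrix'_comp]
  · change R g v (LinearMap.toMatrix' (L g) *ᵥ v)
    rw [LinearMap.toMatrix'_mulVec, hL]
    exact ha g v

theorem card_SL5 : Nat.card (SpecialLinearGroup (Fin 5) (ZMod 2)) = 9999360 := by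
  have hc := Cl.card_sl_mul (F := ZMod 2) 5 (by norm_num)
  simp only [ZMod.card, Fin.prod_univ_five] at hc
  exact (one_mul _).symm.trans (hc.trans (by norm_num))

/-- Bit `x` of `m`. -/
def tbt (m x : ℕ) : Bool := Nat.beq (Nat.land (Nat.shiftRight m x) (nat_lit 1)) (nat_lit 1)

theorem tb_eq (m x : ℕ) : tbt m x = m.testBit x := by
  have h : (m >>> x) &&& 1 = (m >>> x) % 2 := Nat.and_one_is_mod _
  rw [Bool.eq_iff_iff, Nat.testBit_eq_decide_div_mod_eq, decide_eq_true_iff, ← Nat.shiftRight_eq_div_pow,
    ← h, tbt, Nat.beq_eq]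
  rfl

/-- The set of decomposable vectors. -/
def dm : ℕ := nat_lit 0x182400420000810081810081000081280000148200004141000041410000414800840000120021210021000021002100880044002200110011001100110011609000000000060909090000000009090000a05000000a05000005050000050500000000c0300c03000000000303030300000000000000ff6999a555c3330fff
/-- `x` is decomposable. -/
def dec (x : ℕ) : Bool := tbt dm x
/-- The decomposable vectors. -/
def dL : List ℕ := [nat_lit 0, nat_lit 1, nat_lit 2, nat_lit 3, nat_lit 4, nat_lit 5, nat_lit 6, nat_lit 7, nat_lit 8, nat_lit 9,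
  nat_lit 10, nat_lit 11, nat_lit 16, nat_lit 17, nat_lit 20, nat_lit 21, nat_lit 24, nat_lit 25, nat_lit 30,
  nat_lit 31, nat_lit 32, nat_lit 34, nat_lit 36, nat_lit 38, nat_lit 40, nat_lit 42, nat_lit 45, nat_lit 47,
  nat_lit 48, nat_lit 51, nat_lit 52, nat_lit 55, nat_lit 56, nat_lit 59, nat_lit 61, nat_lit 62, nat_lit 64,
  nat_lit 65, nat_lit 66, nat_lit 67, nat_lit 68, nat_lit 69, nat_lit 70, nat_lit 71, nat_lit 128, nat_lit
  129, nat_lit 136, nat_lit 137, nat_lit 144, nat_lit 145, nat_lit 152, nat_lit 153, nat_lit 192, nat_lit 193,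
  nat_lit 202, nat_lit 203, nat_lit 212, nat_lit 213, nat_lit 222, nat_lit 223, nat_lit 256, nat_lit 258,
  nat_lit 264, nat_lit 266, nat_lit 288, nat_lit 290, nat_lit 296, nat_lit 298, nat_lit 320, nat_lit 322,
  nat_lit 329, nat_lit 331, nat_lit 356, nat_lit 358, nat_lit 365, nat_lit 367, nat_lit 384, nat_lit 387,
  nat_lit 392, nat_lit 395, nat_lit 432, nat_lit 435, nat_lit 440, nat_lit 443, nat_lit 448, nat_lit 451,
  nat_lit 457, nat_lit 458, nat_lit 500, nat_lit 503, nat_lit 509, nat_lit 510, nat_lit 512, nat_lit 516,
  nat_lit 528, nat_lit 532, nat_lit 544, nat_lit 548, nat_lit 560, nat_lit 564, nat_lit 576, nat_lit 580,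
  nat_lit 593, nat_lit 597, nat_lit 610, nat_lit 614, nat_lit 627, nat_lit 631, nat_lit 640, nat_lit 645,
  nat_lit 656, nat_lit 661, nat_lit 680, nat_lit 685, nat_lit 696, nat_lit 701, nat_lit 704, nat_lit 709,
  nat_lit 721, nat_lit 724, nat_lit 746, nat_lit 751, nat_lit 763, nat_lit 766, nat_lit 768, nat_lit 774,
  nat_lit 792, nat_lit 798, nat_lit 800, nat_lit 806, nat_lit 824, nat_lit 830, nat_lit 832, nat_lit 838,
  nat_lit 857, nat_lit 863, nat_lit 866, nat_lit 868, nat_lit 891, nat_lit 893, nat_lit 896, nat_lit 903,
  nat_lit 920, nat_lit 927, nat_lit 936, nat_lit 943, nat_lit 944, nat_lit 951, nat_lit 960, nat_lit 967,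
  nat_lit 985, nat_lit 990, nat_lit 1002, nat_lit 1005, nat_lit 1011, nat_lit 1012]
/-- The exterior squares of the hyperplanes. -/
def uL : List ℕ := [nat_lit
  0xffffffffffffffffffffffffffffffffffffffffffffffffffffffffffffffffffffffffffffffffffffffffffffffffffffffffffffffffffffffffffffffffffffffffffffffffffffffffffffffffffffffffffffffffffffffffffffffffffffffffffffffffffffffffffffffffffffffffffffffffffffffffffffffff,
  nat_lit
  0x10101010101010100000000000000000101010101010101000000000000000001010101010101010000000000000000010101010101010100000000000000000101010101010101000000000000000001010101010101010000000000000000010101010101010100000000000000000101010101010101,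
  nat_lit
  0x55000000550000005500000055000000000000000000000000000000000000005500000055000000550000005500000000000000000000000000000000000000550000005500000055000000550000000000000000000000000000000000000055000000550000005500000055,
  nat_lit
  0x4010040140100401000000000000000000000000000000004010040140100401401004014010040100000000000000000000000000000000401004014010040140100401401004010000000000000000000000000000000040100401401004014010040140100401000000000000000000000000000000004010040140100401,
  nat_lit
  0x33003300000000003300330000000000330033000000000033003300000000000000000000000000000000000000000000000000000000000000000000000000330033000000000033003300000000003300330000000000330033,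
  nat_lit
  0x2010201002010201000000000000000020102010020102010000000000000000000000000000000020102010020102010000000000000000201020100201020120102010020102010000000000000000201020100201020100000000000000000000000000000000201020100201020100000000000000002010201002010201,
  nat_lit
  0x99000000000099009900000000009900000000000000000000000000000000000000000000000000000000000000000099000000000099009900000000009900990000000000990099000000000099000000000000000000000000000000000000000000000000000000000000000000990000000000990099000000000099,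
  nat_lit
  0x80180108010080108018010801008010000000000000000080180108010080100000000000000000000000000000000080180108010080100000000000000000801801080100801080180108010080100000000000000000801801080100801000000000000000000000000000000000801801080100801,
  nat_lit
  0xf0f0000000000000f0f0000000000000f0f0000000000000f0f0000000000000f0f0000000000000f0f0000000000000f0f0000000000000f0f,
  nat_lit
  0x808040402020101000000000000000008080404020201010000000000000000080804040202010100000000000000000808040402020101000000000000000000000000000000000808040402020101000000000000000008080404020201010000000000000000080804040202010100000000000000000808040402020101,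
  nat_lit
  0xa500000000a50000a500000000a5000000000000000000000000000000000000a500000000a50000a500000000a500000000000000000000000000000000000000000000000000000000000000000000a500000000a50000a500000000a5000000000000000000000000000000000000a500000000a50000a500000000a5,
  nat_lit
  0x208001048020040120800104802004010000000000000000000000000000000020800104802004012080010480200401000000000000000020800104802004010000000000000000000000000000000020800104802004012080010480200401000000000000000000000000000000002080010480200401,
  nat_lit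
  0xc30000c300000000c30000c300000000c30000c300000000c30000c30000000000000000000000000000000000000000000000000000000000000000000000000000000000000000000000000000000000000000000000000000000000000000c30000c300000000c30000c300000000c30000c300000000c30000c3,
  nat_lit
  0x408080400102020100000000000000004080804001020201408080400102020100000000000000004080804001020201000000000000000040808040010202010000000000000000408080400102020100000000000000000000000000000000408080400102020100000000000000004080804001020201,
  nat_lit
  0x69000000000000696900000000000069690000000000006969000000000000690000000000000000000000000000000069000000000000696900000000000069000000000000000000000000000000000000000000000000000000000000000069000000000000696900000000000069,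
  nat_lit
  0x108204040200801000000000000000000000000000000000108204040200801000000000000000001082040402008010108204040200801000000000000000000000000000000000108204040200801010820404020080100000000000000000108204040200801000000000000000000000000000000000108204040200801,
  nat_lit 0xffffffffffffffff, nat_lit
  0x808080808080808000000000000000004040404040404040000000000000000020202020202020200000000000000000101010101010101000000000000000000808080808080808000000000000000004040404040404040000000000000000020202020202020200000000000000000101010101010101,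
  nat_lit
  0xaa000000aa00000055000000550000000000000000000000000000000000000000aa000000aa00000055000000550000000000000000000000000000000000000000aa000000aa00000055000000550000000000000000000000000000000000000000aa000000aa0000005500000055,
  nat_lit
  0x208208002082080000000000000000000000000000000000104104001041040080280200802802000000000000000000000000000000000040140100401401020800208208002080000000000000000000000000000000010400104104001048020080280200802000000000000000000000000000000004010040140100401,
  nat_lit
  0xcc00cc0000000000330033000000000000cc00cc000000000033003300000000000000000000000000000000000000000000000000000000000000000000000000000000cc00cc0000000000330033000000000000cc00cc0000000000330033,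
  nat_lit
  0x408040840804080000000000000000008040804804080400000000000000000000000000000000001020102102010200000000000000000020102012010201040804080040804080000000000000000804080400804080400000000000000000000000000000000102010200102010200000000000000002010201002010201,
  nat_lit
  0x660066000000000099009900000000000000000000000000000000000000000000000000000000000000000000000000006600660000000000990099000066000000000066009900000000009900000000000000000000000000000000000000000000000000000000000000000000660000000000660099000000000099,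
  nat_lit
  0x108001080108108020400204020420400000000000000000402004020402402000000000000000000000000000000000801008010801801000000000000000000108108010800108020420402040020400000000000000000402402040200402000000000000000000000000000000000801801080100801,
  nat_lit
  0xf0f00000000000000f0f0000000000000000f0f00000000000000f0f0000000000000000f0f00000000000000f0f0000000000000000f0f00000000000000f0f,
  nat_lit
  0x1010202040408080000000000000000020201010808040400000000000000000404080801010202000000000000000008080404020201010000000000000000000000000000000000101020204040808000000000000000002020101080804040000000000000000040408080101020200000000000000000808040402020101,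
  nat_lit
  0x5a00005a00000000a50000a5000000000000000000000000000000000000005a000000005a0000a500000000a5000000000000000000000000000000000000000000000000000000000000000000000000005a00005a00000000a50000a5000000000000000000000000000000000000005a000000005a0000a500000000a5,
  nat_lit
  0x40180200104208008024010020810400000000000000000000000000000000001042080040180200208104008024010000000000000000040100802104002080000000000000000000000000000000080200401208001041040020840100802000000000000000000000000000000002080010480200401,
  nat_lit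
  0x3c3c000000000000c3c300000000003c00003c00000000c30000c3000000000000000000000000000000000000000000000000000000000000000000000000000000000000000000000000000000000000000000000000000000000000000000000000003c3c000000000000c3c300000000003c00003c00000000c30000c3,
  nat_lit
  0x20101028040408000000000000000000102020140808040080404082010102000000000000000000408080410202010000000000000000020101020080404080000000000000000102020100408080400000000000000000000000000000000804040800201010200000000000000004080804001020201,
  nat_lit
  0x96960000000000006969000000000096000096000000006900006900000000000000000000000000000000000000960000000096000069000000006900000000000000000000000000000000000000000000000000000000000000000096000000000000966900000000000069,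
  nat_lit
  0x8010040202041080000000000000000000000000000000004020080101082040000000000000000020400108080140201080020404028010000000000000000000000000000000000801402020400108040280101080020400000000000000000204108080100402000000000000000000000000000000000108204040200801]
/-- Bases of the exterior squares of the hyperplanes. -/
def bL : List ℕ := [nat_lit 0x0, nat_lit 0x220120080030028020, nat_lit 0x220120040024022020, nat_lit 0x2201200c003402a020,
  nat_lit 0x210090040014011010, nat_lit 0x22416408003402d024, nat_lit 0x2301b0040034033030, nat_lit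
  0x2241640c003002f024, nat_lit 0x10808804000a009008, nat_lit 0x26212208003302a022, nat_lit
  0x2a812804002d02a028, nat_lit 0x2621220c0037028022, nat_lit 0x31809804001e019018, nat_lit
  0x26616608003702f026, nat_lit 0x2b81b804003d03b038, nat_lit 0x2661660c003302d026, nat_lit
  0x24014008006005004, nat_lit 0x224122081030028020, nat_lit 0x230128041024022020, nat_lit
  0x2241220c103402a020, nat_lit 0x230098042014011010, nat_lit 0x22016608103402d024, nat_lit
  0x2201b8041034033030, nat_lit 0x2201660c103002f024, nat_lit 0x12809804400a009008, nat_lit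
  0x26612008103302a022, nat_lit 0x2b812004102d02a028, nat_lit 0x2661200c1037028022, nat_lit
  0x33809004201e019018, nat_lit 0x26216408103702f026, nat_lit 0x2a81b004103d03b038, nat_lit
  0x2621640c103302d026]
/-- An indecomposable vector in each exterior square. -/
def b0L : List ℕ := [nat_lit 0, nat_lit 160, nat_lit 96, nat_lit 224, nat_lit 80, nat_lit 164, nat_lit 112, nat_lit 228, nat_lit
  72, nat_lit 162, nat_lit 104, nat_lit 226, nat_lit 88, nat_lit 166, nat_lit 120, nat_lit 230, nat_lit 12,
  nat_lit 161, nat_lit 97, nat_lit 225, nat_lit 82, nat_lit 165, nat_lit 113, nat_lit 229, nat_lit 76, nat_lit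
  163, nat_lit 105, nat_lit 227, nat_lit 90, nat_lit 167, nat_lit 121, nat_lit 231]
/-- The hyperplane of an indecomposable vector. -/
def qT : ℕ := nat_lit 0xf8cb94d66f36b80073465581ce02ca9bf25aa7e3602dad580cae5e39fd25cd67f78ca903146329808b5773efa10734636b8007156b2b808b767bafa103356b69808f567beda18f7773ada103146329809381c0724e5df254d7673ecb9aa6ebf0b80e03c20325e9780ccd567ddd25ae6fb3aca9601c270980e01d274b806c7e37cfa16c5f3f8fa1e03c2f0b80603d2f4980ec5e3fcda1ec7f378da1601c270980a01da0534e6e6e34f6670515ea03cacb667ea6e338fb99dd2df6880d78049df3d38da95380472880d381476a805fe257eea157814f2a80dbe25faea15be35feca1d7804f6880dfe357aca15380472880cb57f4f76f05246052466e5fbea7eba02c2a02c25bf3ddfd2d9580495804fefb97ada93088030880b8cb13cea134a8034a803ccb1b8ea1b0a80b0a8038eb1bcca1b4880b4880bceb138ca13088030880c001875ace0630037bc66d4bdd8e6bab7a59af6358e7bed4ad9ed63af5a5f5ade40008339c602100b39d60630037bc6063003fdf78a721bbfe78a7213bff78e521bfde78e521b7bd602100339c602100ab4bd3feef6d7a57dfe70601892a4ac0300d0b423beffaf4adfdde7ed5a596a5a020085094240100d8d734c7215cf634c72154952c0300d0b42c030058f73cc521dcd63cc521d4b5240100509424010098d7b3dfef5ee637fee73ddff98f6bfbee7dae6300318a518cc6000e7084a539c001086308442000eb4b54e6216f6a54e6216f4b5ca621eb6a5ca62163294c6000e7084c6000e7294420006308442000f39de77bce35ac635ac65695ad2b4a90a4290a426339ce718ca5084a5084c631842108000000000080010042000420004200040108020080200802000021084000840008400084210000000000000000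
/-- The exterior square of the kernel of `f`. -/
noncomputable def um (f : ℕ) : ℕ := lget uL (nat_lit 0) f
/-- Membership in the exterior square of the kernel of `f`. -/
noncomputable def inU (f x : ℕ) : Bool := tbt (um f) x
/-- A basis matrix. -/
noncomputable def bm (f : ℕ) : ℕ := lget bL (nat_lit 0) f
/-- A base vector. -/
noncomputable def b0 (f : ℕ) : ℕ := lget b0L (nat_lit 0) f

theorem um_chk : nall 32 (fun f => force (um f) fun u => force (bm f) fun c => force (b0 f) fun b =>
    band (Nat.blt u (2 ^ 1024)) (bor (Nat.beq f 0)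
      (band (Nat.beq u (orAll 64 fun x => force (lin c x) (Nat.shiftLeft 1)))
        (band (band (Nat.blt b 1024) (!dec b)) (nall 6 fun j => force (fld c j) fun x =>
          band (Nat.blt x 1024) (band (dec x) (dec (Nat.xor b x)))))))) = true := by
  decide +kernel

theorem um_zero : um 0 = 2 ^ 1024 - 1 := by decide +kernel

theorem dL_chk : ball (fun x => bor (!dec x) (lany dL (Nat.beq x))) 10 0 = true := by
  decide +kernel

theorem qT_chk : ball (fun b => bor (dec b) (force (ap qT b) fun f => force (um f) fun u =>
    band (!Nat.beq f 0) (lall dL fun x => bor (!dec (Nat.xor b x)) (tbt u x)))) 10 0 = true := by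
  decide +kernel

theorem geo_chk : nall 32 (fun a => force (um a) fun u => nall 32 fun b => force (um b) fun v =>
    force (Nat.land u v) fun m => band (bor (!Nat.beq m u) (bor (Nat.beq b 0) (Nat.beq a b)))
      (band (Nat.beq (Nat.land m (um (Nat.xor a b))) m) (nall 32 fun c =>
        bor (!Nat.beq (Nat.land m (um c)) m) (bor (bor (bor (Nat.beq a 0) (Nat.beq b 0))
          (bor (Nat.beq a b) (Nat.beq c 0))) (bor (bor (Nat.beq c a) (Nat.beq c b))
            (Nat.beq c (Nat.xor a b))))))) = true := by
  decide +kernel

theorem ker_chk : nall 10 (fun j => force (Nat.shiftLeft 1 j) fun e => ball (fun y =>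
    bor (lany uL fun u => band (tbt u e) (!tbt u y)) (bor (Nat.beq y 0) (Nat.beq y e))) 10 0) = true := by
  decide +kernel

theorem um_facts {f : ℕ} (hf : f < 32) : um f < 2 ^ 1024 ∧ (f ≠ 0 →
    (∀ x, inU f x = true ↔ ∃ c < 64, lin (bm f) c = x) ∧ b0 f < 1024 ∧ dec (b0 f) = false ∧
      ∀ j < 6, fld (bm f) j < 1024 ∧ dec (fld (bm f) j) = true ∧
        dec (b0 f ^^^ fld (bm f) j) = true) := by
  have h := (nall_iff _ _).1 um_chk f hf
  simp only [force_eq, band_eq, bor_eq, Bool.and_eq_true, Bool.or_eq_true, Nat.blt_eq, Nat.beq_eq,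
    nall_iff, Bool.not_eq_true'] at h
  refine ⟨h.1, fun h0 => ?_⟩
  obtain ⟨h1, ⟨h2, h3⟩, h4⟩ := h.2.resolve_left h0
  refine ⟨fun x => ?_, h2, h3, h4⟩
  rw [inU, tb_eq, h1, testBit_orAll]
  refine exists_congr fun c => and_congr_right fun _ => ?_
  have : Nat.shiftLeft 1 (lin (bm f) c) = 2 ^ lin (bm f) c := Nat.one_shiftLeft _
  rw [this, Nat.testBit_two_pow, decide_eq_true_iff]

theorem inU_lt {f x : ℕ} (hf : f < 32) (h : inU f x = true) : x < 1024 := by
  by_contra hx
  rw [inU, tb_eq, Nat.testBit_lt_two_pow ((um_facts hf).1.trans_le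
    (Nat.pow_le_pow_right (by norm_num) (by omega)))] at h
  exact absurd h (by simp)

theorem inU_zero {x : ℕ} (hx : x < 1024) : inU 0 x = true := by
  rw [inU, tb_eq, um_zero, Nat.testBit_two_pow_sub_one]
  simpa using hx

theorem xor_lt10 {a b : ℕ} (ha : a < 1024) (hb : b < 1024) : a ^^^ b < 1024 :=
  Nat.xor_lt_two_pow (n := 10) ha hb

theorem land_eq_of {a b : ℕ} (ha : a < 2 ^ 1024) (h : ∀ x < 1024, tbt a x = true → tbt b x = true) :
    Nat.land a b = a := by
  refine Nat.eq_of_testBit_eq fun x => ?_
  have : Nat.land a b = a &&& b := rfl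
  rw [this, Nat.testBit_and]
  cases e : a.testBit x
  · rfl
  · have hx : x < 1024 := by
      by_contra hx
      rw [Nat.testBit_lt_two_pow (ha.trans_le (Nat.pow_le_pow_right (by norm_num) (by omega)))] at e
      exact absurd e (by simp)
    have := h x hx (by rw [tb_eq, e])
    rw [tb_eq] at this
    rw [this]; rfl

theorem tb_land (a b x : ℕ) : tbt (Nat.land a b) x = (tbt a x && tbt b x) := by
  have : Nat.land a b = a &&& b := rfl
  rw [tb_eq, tb_eq, tb_eq, this, Nat.testBit_and]

theorem geo {a b : ℕ} (ha : a < 32) (hb : b < 32) :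
    ((∀ x < 1024, inU a x = true → inU b x = true) → b = 0 ∨ a = b) ∧
    (∀ x, inU a x = true → inU b x = true → inU (a ^^^ b) x = true) ∧
    ∀ c < 32, (∀ x < 1024, inU a x = true → inU b x = true → inU c x = true) →
      a = 0 ∨ b = 0 ∨ a = b ∨ c = 0 ∨ c = a ∨ c = b ∨ c = a ^^^ b := by
  have h := (nall_iff _ _).1 geo_chk a ha
  rw [force_eq] at h
  have h := (nall_iff _ _).1 h b hb
  simp only [force_eq, band_eq, bor_eq, Bool.and_eq_true, Bool.or_eq_true, Nat.beq_eq,
    nall_iff, Bool.not_eq_true', ← Bool.not_eq_true] at h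
  obtain ⟨h1, h2, h3⟩ := h
  refine ⟨fun k => h1.resolve_left (not_not.2 (land_eq_of (um_facts ha).1 k)), fun x k1 k2 => ?_,
    fun c hc k => ?_⟩
  · have : tbt (Nat.land (um a) (um b)) x = true := by
      rw [tb_land]; exact Bool.and_eq_true_iff.2 ⟨k1, k2⟩
    rw [← h2, tb_land] at this
    exact (Bool.and_eq_true_iff.1 this).2
  · have := (h3 c hc).resolve_left (not_not.2 (land_eq_of
      (lt_of_le_of_lt Nat.and_le_left (um_facts ha).1) fun x hx e => by
        rw [tb_land] at e
        exact k x hx (Bool.and_eq_true_iff.1 e).1 (Bool.and_eq_true_iff.1 e).2))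
    have e : Nat.xor a b = a ^^^ b := rfl
    rw [e] at this
    tauto

theorem inU_inj {a b : ℕ} (ha : a < 32) (hb : b < 32) (h : ∀ x < 1024, inU a x = inU b x) :
    a = b := by
  rcases (geo ha hb).1 (fun x hx e => h x hx ▸ e) with e | e
  · rcases (geo hb ha).1 (fun x hx e => (h x hx).symm ▸ e) with e' | e'
    · rw [e, e']
    · exact e'.symm
  · exact e

theorem chow_sub {σ : ℕ → ℕ} (h1 : ∀ x < 1024, σ x < 1024)
    (h2 : ∀ x < 1024, ∀ y < 1024, σ (x ^^^ y) = σ x ^^^ σ y) (h3 : ∀ x < 1024, dec (σ x) = dec x)
    {f : ℕ} (hf : f < 32) (h0 : f ≠ 0) :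
    ∃ f' < 32, f' ≠ 0 ∧ ∀ x, inU f x = true → inU f' (σ x) = true := by
  obtain ⟨u1, u2, u3, u4⟩ := (um_facts hf).2 h0
  have hq := ball_zero qT_chk (σ (b0 f)) (h1 _ u2)
  rw [h3 _ u2, u3] at hq
  simp only [force_eq, band_eq, bor_eq, Bool.and_eq_true, Bool.or_eq_true, Nat.beq_eq, lall_iff,
    Bool.not_eq_true', ← Bool.not_eq_true, Bool.false_eq_true, false_or] at hq
  obtain ⟨q1, q2⟩ := hq
  have hlt : ap qT (σ (b0 f)) < 32 := by rw [ap_eq]; exact apw_lt (w := 5) rfl _ _
  refine ⟨_, hlt, q1, fun x hx => ?_⟩
  obtain ⟨v1, -⟩ := (um_facts hlt).2 q1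
  obtain ⟨c, hc, rfl⟩ := (u1 x).1 hx
  have hl : ∀ c < 64, lin (bm f) c < 1024 := fun c hc => inU_lt hf ((u1 _).2 ⟨c, hc, rfl⟩)
  refine bits_induction (n := 6) (P := fun c => inU (ap qT (σ (b0 f))) (σ (lin (bm f) c)) = true)
    ?_ (fun i hi => ?_) (fun x hx y hy k1 k2 => ?_) c hc
  · have := h2 0 (by norm_num) 0 (by norm_num)
    rw [Nat.xor_self, Nat.xor_self] at this
    rw [lin_zero, this]
    exact (v1 _).2 ⟨0, by norm_num, lin_zero _⟩
  · obtain ⟨w1, w2, w3⟩ := u4 i hi
    rw [lin_pow _ (by omega)]
    have hd := ball_zero dL_chk _ (h1 _ w1)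
    rw [h3 _ w1, w2] at hd
    simp only [bor_eq, Bool.not_true, Bool.false_or, lany_iff, Nat.beq_eq] at hd
    obtain ⟨y, hy, e⟩ := hd
    refine (q2 _ (e ▸ hy)).resolve_left (not_not.2 ?_)
    have e' : Nat.xor (σ (b0 f)) (σ (fld (bm f) i)) = σ (b0 f) ^^^ σ (fld (bm f) i) := rfl
    rw [e', ← h2 _ u2 _ w1, h3 _ (xor_lt10 u2 w1), w3]
  · rw [lin_xor, h2 _ (hl x hx) _ (hl y hy)]
    obtain ⟨a, ha, e1⟩ := (v1 _).1 k1
    obtain ⟨b, hb, e2⟩ := (v1 _).1 k2
    exact (v1 _).2 ⟨a ^^^ b, Nat.xor_lt_two_pow (n := 6) ha hb, by rw [lin_xor, e1, e2]⟩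

/-- Code of a vector of length five. -/
def enc (v : Fin 5 → ZMod 2) : ℕ :=
  (v 0).val + 2 * (v 1).val + 4 * (v 2).val + 8 * (v 3).val + 16 * (v 4).val

theorem enc_facts : (∀ v, enc v < 32) ∧ (∀ u v, enc u = enc v → u = v) ∧
    (∀ u v, enc (u + v) = enc u ^^^ enc v) ∧ ∀ f < 32, ∃ v, enc v = f := by
  decide +kernel

open Cfsg.Agent.GT Subgroup in
/-- A group normalising `A` and preserving the decomposable vectors acts on `𝔽₂⁵`. -/
theorem chow {G : Type*} [Group G] {A : Subgroup G} {ψ : ℕ → G}
    (hm : ∀ x < 1024, ∀ y < 1024, ψ (x ^^^ y) = ψ x * ψ y)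
    (hi : ∀ x < 1024, ∀ y < 1024, ψ x = ψ y → x = y)
    (hA : ∀ a, a ∈ A ↔ ∃ x < 1024, ψ x = a)
    (hd : ∀ n ∈ N[A], ∀ x < 1024, ∀ y < 1024, n * ψ x * n⁻¹ = ψ y → dec y = dec x) :
    ∃ f : N[A] →* SpecialLinearGroup (Fin 5) (ZMod 2), ∀ n, f n = 1 → (n : G) ∈ C[A] := by
  obtain ⟨e1, e2, e3, e4⟩ := enc_facts
  have hσ : ∀ (n : N[A]) (x : ℕ), ∃ y, x < 1024 → y < 1024 ∧ (n : G) * ψ x * (n : G)⁻¹ = ψ y := by
    intro n x
    by_cases hx : x < 1024
    · obtain ⟨y, hy, e⟩ := (hA _).1 (conj_mem_of_mem_norm n.2 ((hA _).2 ⟨x, hx, rfl⟩))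
      exact ⟨y, fun _ => ⟨hy, e.symm⟩⟩
    · exact ⟨0, fun h => absurd h hx⟩
  choose σ hσ using hσ
  have s1 : ∀ n, ∀ x < 1024, σ n x < 1024 := fun n x hx => (hσ n x hx).1
  have s2 : ∀ n : N[A], ∀ x < 1024, (n : G) * ψ x * (n : G)⁻¹ = ψ (σ n x) := fun n x hx => (hσ n x hx).2
  have s3 : ∀ n, ∀ x < 1024, ∀ y < 1024, σ n (x ^^^ y) = σ n x ^^^ σ n y := fun n x hx y hy =>
    hi _ (s1 n _ (xor_lt10 hx hy)) _ (xor_lt10 (s1 n x hx) (s1 n y hy)) (by
      rw [← s2 n _ (xor_lt10 hx hy), hm _ (s1 n x hx) _ (s1 n y hy), ← s2 n x hx, ← s2 n y hy,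
        hm x hx y hy]; group)
  have s4 : ∀ n, ∀ x < 1024, dec (σ n x) = dec x := fun n x hx =>
    hd n n.2 x hx _ (s1 n x hx) (s2 n x hx)
  have s5 : ∀ m n, ∀ x < 1024, σ (m * n) x = σ m (σ n x) := fun m n x hx =>
    hi _ (s1 _ x hx) _ (s1 m _ (s1 n x hx)) (by
      rw [← s2 _ x hx, ← s2 m _ (s1 n x hx), ← s2 n x hx, coe_mul]; group)
  have s6 : ∀ x < 1024, σ 1 x = x := fun x hx =>
    hi _ (s1 _ x hx) _ hx (by rw [← s2 _ x hx]; simp)
  have s7 : ∀ n, ∀ x < 1024, σ n (σ n⁻¹ x) = x := fun n x hx => by
    rw [← s5 _ _ x hx, mul_inv_cancel, s6 x hx]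
  have s8 : ∀ n, ∀ x < 1024, σ n⁻¹ (σ n x) = x := fun n x hx => by
    rw [← s5 _ _ x hx, inv_mul_cancel, s6 x hx]
  let R : N[A] → ℕ → ℕ → Prop := fun n a b => ∀ x < 1024, inU a x = inU b (σ n x)
  have r0 : ∀ n, R n 0 0 := fun n x hx => by rw [inU_zero hx, inU_zero (s1 n x hx)]
  have ru : ∀ n a, ∀ b < 32, ∀ c < 32, R n a b → R n a c → b = c := fun n a b hb c hc k1 k2 =>
    inU_inj hb hc fun y hy => by
      rw [← s7 n y hy, ← k1 _ (s1 _ y hy), ← k2 _ (s1 _ y hy)]
  have ri : ∀ n c, ∀ a < 32, ∀ b < 32, R n a c → R n b c → a = b := fun n c a ha b hb k1 k2 =>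
    inU_inj ha hb fun x hx => by rw [k1 x hx, k2 x hx]
  have rx : ∀ n, ∀ a < 32, ∃ b < 32, R n a b := by
    intro n a ha
    by_cases h0 : a = 0
    · exact ⟨0, by norm_num, h0 ▸ r0 n⟩
    obtain ⟨b, hb, b0, k1⟩ := chow_sub (s1 n) (s3 n) (s4 n) ha h0
    obtain ⟨c, hc, c0, k2⟩ := chow_sub (s1 n⁻¹) (s3 n⁻¹) (s4 n⁻¹) hb b0
    obtain rfl : a = c := ((geo ha hc).1 fun x hx e => by
      have := k2 _ (k1 x e)
      rwa [s8 n x hx] at this).resolve_left c0
    refine ⟨b, hb, fun x hx => Bool.eq_iff_iff.2 ⟨k1 x, fun e => ?_⟩⟩
    have := k2 _ e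
    rwa [s8 n x hx] at this
  have ra : ∀ n, ∀ a < 32, ∀ b < 32, ∀ a' < 32, ∀ b' < 32, ∀ c < 32,
      R n a a' → R n b b' → R n (a ^^^ b) c → c = a' ^^^ b' := by
    intro n a ha b hb a' ha' b' hb' c hc k1 k2 k3
    have hab : a ^^^ b < 32 := Nat.xor_lt_two_pow (n := 5) ha hb
    have z0 : (0 : ℕ) < 32 := by norm_num
    have c1 : a = 0 → c = a' ^^^ b' := by
      rintro rfl
      rw [Nat.zero_xor] at k3
      rw [ru n 0 a' ha' 0 z0 k1 (r0 n), Nat.zero_xor, ru n b c hc b' hb' k3 k2]
    have c2 : b = 0 → c = a' ^^^ b' := by
      rintro rfl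
      rw [Nat.xor_zero] at k3
      rw [ru n 0 b' hb' 0 z0 k2 (r0 n), Nat.xor_zero, ru n a c hc a' ha' k3 k1]
    have c3 : a = b → c = a' ^^^ b' := by
      rintro rfl
      rw [Nat.xor_self] at k3
      rw [ru n a a' ha' b' hb' k1 k2, Nat.xor_self, ru n 0 c hc 0 z0 k3 (r0 n)]
    rcases (geo ha' hb').2.2 c hc (fun y hy m1 m2 => by
      rw [← s7 n y hy] at m1 m2 ⊢
      rw [← k1 _ (s1 _ y hy)] at m1
      rw [← k2 _ (s1 _ y hy)] at m2
      rw [← k3 _ (s1 _ y hy)]
      exact (geo ha hb).2.1 _ m1 m2) with e | e | e | e | e | e | e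
    · exact c1 (ri n 0 a ha 0 z0 (e ▸ k1) (r0 n))
    · exact c2 (ri n 0 b hb 0 z0 (e ▸ k2) (r0 n))
    · exact c3 (ri n b' a ha b hb (e ▸ k1) k2)
    · exact c3 (Nat.eq_of_xor_eq_zero (ri n 0 _ hab 0 z0 (e ▸ k3) (r0 n)))
    · have := ri n a' _ hab a ha (e ▸ k3) k1
      exact c2 (by simpa using congrArg (a ^^^ ·) this)
    · have := ri n b' _ hab b hb (e ▸ k3) k2
      exact c1 (by simpa using congrArg (· ^^^ b) this)
    · exact e
  obtain ⟨f, hf⟩ := exists_hom_SL_rel (fun (n : N[A]) (u v : Fin 5 → ZMod 2) => R n (enc u) (enc v))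
    (fun n v => by
      obtain ⟨b, hb, k⟩ := rx n _ (e1 v)
      obtain ⟨w, rfl⟩ := e4 b hb
      exact ⟨w, k⟩)
    (fun n v a b k1 k2 => e2 a b (ru n _ _ (e1 a) _ (e1 b) k1 k2))
    (fun n u v a b c k1 k2 k3 => e2 _ _ (by
      rw [e3] at k3 ⊢
      exact ra n _ (e1 u) _ (e1 v) _ (e1 a) _ (e1 b) _ (e1 c) k1 k2 k3))
    (fun m n u v w k1 k2 x hx => by rw [s5 m n x hx, k1 x hx, k2 _ (s1 n x hx)])
    (fun v x hx => by rw [s6 x hx])
  refine ⟨f, fun n hn => ?_⟩
  have hR : ∀ a < 32, R n a a := fun a ha => by
    obtain ⟨v, rfl⟩ := e4 a ha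
    have := hf n v
    rw [hn] at this
    have e : (1 : SpecialLinearGroup (Fin 5) (ZMod 2)).1 *ᵥ v = v := one_mulVec v
    rwa [e] at this
  have h00 : σ n 0 = 0 := by
    have := s3 n 0 (by norm_num) 0 (by norm_num)
    rwa [Nat.xor_self, Nat.xor_self] at this
  have hfix : ∀ x < 2 ^ 10, σ n x = x := by
    refine bits_induction h00 (fun j hj => ?_) fun x hx y hy k1 k2 => by rw [s3 n x hx y hy, k1, k2]
    have hj' : 2 ^ j < 1024 := Nat.pow_lt_pow_right (a := 2) (by norm_num) hj
    have k := (nall_iff _ _).1 ker_chk j hj
    have e : Nat.shiftLeft 1 j = 2 ^ j := Nat.one_shiftLeft _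
    rw [force_eq, e] at k
    have k := ball_zero k _ (s1 n _ hj')
    simp only [band_eq, bor_eq, Bool.and_eq_true, Bool.or_eq_true, Nat.beq_eq, lany_iff,
      Bool.not_eq_true', ← Bool.not_eq_true] at k
    rcases k with ⟨u, hu, k1, k2⟩ | k | k
    · obtain ⟨a, ha, rfl⟩ : ∃ a < 32, um a = u := by
        have : ∀ u ∈ uL, ∃ a < 32, um a = u := by decide +kernel
        exact this u hu
      exact absurd ((hR a ha _ hj').symm.trans k1) k2
    · have := s8 n _ hj'
      rw [k, ← h00, s8 n 0 (by norm_num)] at this
      exact absurd this (by positivity)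
    · exact k
  rw [mem_centralizer_iff]
  intro a ha
  obtain ⟨x, hx, rfl⟩ := (hA a).1 ha
  have := s2 n x hx
  rw [hfix x hx] at this
  exact (mul_inv_eq_iff_eq_mul.1 this).symm

end Cfsg.Agent.J4
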