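import Cfsg.Agent.J4.VC

/-!
# Groups of type `J₄`: certificates for the fusion in the subgroup `2¹¹`
-/

set_option autoImplicit false

namespace Cfsg.Agent.J4

open Cfsg.Agent.M24 Cfsg.Agent.TT Cfsg.Agent.GT Subgroup

/-- Every key of `t` which is not a root is the image of a key of smaller rank. -/
noncomputable def forChk (ap : ℕ → ℕ → ℕ) (gens : List ℕ) (root : ℕ → Bool) (t : T) : Bool :=
  t.all fun k a b => bor (root k)
    (band (lnth gens (fun s => Nat.beq (ap s b) k) (Nat.land a (nat_lit 15)))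
      (t.find b fun a' _ => Nat.ble (Nat.succ a') a))

theorem for_ind {ap : ℕ → ℕ → ℕ} {gens : List ℕ} {root : ℕ → Bool} {t : T} (h : forChk ap gens root t = true)
    {P : ℕ → Prop} (h0 : ∀ k, root k = true → P k) (hs : ∀ s ∈ gens, ∀ k, P k → P (ap s k)) : ∀ k ∈ t.keys, P k := by
  have key : ∀ a k b, (k, a, b) ∈ t.ents → P k := by
    intro a
    induction a using Nat.strong_induction_on with
    | _ a ih =>
      intro k b hm
      have h1 := (T.all_iff _ _).1 h _ _ _ hm
      simp only [bor_eq, band_eq, Bool.or_eq_true, Bool.and_eq_true] at h1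
      rcases h1 with h1 | ⟨h1, h2⟩
      · exact h0 k h1
      · obtain ⟨s, hs', e⟩ := lnth_sound h1
        obtain ⟨a', b', hm', hlt⟩ := T.find_sound h2
        rw [← Nat.eq_of_beq_eq_true e]
        exact hs s hs' b (ih a' (Nat.le_of_ble_eq_true hlt) b b' hm')
  intro k hk
  obtain ⟨a, b, hm⟩ := T.mem_keys.1 hk
  exact key a k b hm

def tJ0_0 : T := (.node (.node (.node (.node (.node (.node (.node (.node .nil (nat_lit 0) (nat_lit 0) (nat_lit
  0) .nil) (nat_lit 1) (nat_lit 0) (nat_lit 1) .nil) (nat_lit 2) (nat_lit 38) (nat_lit 1) (.node .nil (nat_lit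
  3) (nat_lit 134) (nat_lit 2) .nil)) (nat_lit 4) (nat_lit 423) (nat_lit 6) (.node (.node .nil (nat_lit 5)
  (nat_lit 1351) (nat_lit 12) .nil) (nat_lit 6) (nat_lit 183) (nat_lit 9) (.node .nil (nat_lit 7) (nat_lit
  359) (nat_lit 3) .nil))) (nat_lit 8) (nat_lit 663) (nat_lit 11) (.node (.node (.node .nil (nat_lit 9)
  (nat_lit 55) (nat_lit 1) .nil) (nat_lit 10) (nat_lit 727) (nat_lit 4) (.node .nil (nat_lit 11) (nat_lit 375)
  (nat_lit 14) .nil)) (nat_lit 12) (nat_lit 999) (nat_lit 13) (.node (.node .nil (nat_lit 13) (nat_lit 647)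
  (nat_lit 7) .nil) (nat_lit 14) (nat_lit 151) (nat_lit 2) (.node .nil (nat_lit 15) (nat_lit 1015) (nat_lit 8)
  .nil)))) (nat_lit 16) (nat_lit 168) (nat_lit 2) (.node (.node (.node (.node .nil (nat_lit 17) (nat_lit 263)
  (nat_lit 24) .nil) (nat_lit 18) (nat_lit 1367) (nat_lit 29) (.node .nil (nat_lit 19) (nat_lit 455) (nat_lit
  23) .nil)) (nat_lit 20) (nat_lit 0) (nat_lit 20) (.node (.node .nil (nat_lit 21) (nat_lit 695) (nat_lit 30)
  .nil) (nat_lit 22) (nat_lit 200) (nat_lit 9) (.node .nil (nat_lit 23) (nat_lit 359) (nat_lit 17) .nil)))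
  (nat_lit 24) (nat_lit 151) (nat_lit 25) (.node (.node (.node .nil (nat_lit 25) (nat_lit 56) (nat_lit 20)
  .nil) (nat_lit 26) (nat_lit 455) (nat_lit 22) (.node .nil (nat_lit 27) (nat_lit 744) (nat_lit 4) .nil))
  (nat_lit 28) (nat_lit 1144) (nat_lit 47) (.node (.node .nil (nat_lit 29) (nat_lit 1079) (nat_lit 21) .nil)
  (nat_lit 30) (nat_lit 407) (nat_lit 16) (.node .nil (nat_lit 31) (nat_lit 775) (nat_lit 26) .nil)))))
  (nat_lit 32) (nat_lit 72) (nat_lit 1) (.node (.node (.node (.node (.node .nil (nat_lit 33) (nat_lit 535)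
  (nat_lit 41) .nil) (nat_lit 34) (nat_lit 343) (nat_lit 44) (.node .nil (nat_lit 35) (nat_lit 1159) (nat_lit
  38) .nil)) (nat_lit 36) (nat_lit 792) (nat_lit 26) (.node (.node .nil (nat_lit 37) (nat_lit 1127) (nat_lit
  47) .nil) (nat_lit 38) (nat_lit 807) (nat_lit 42) (.node .nil (nat_lit 39) (nat_lit 231) (nat_lit 32)
  .nil))) (nat_lit 40) (nat_lit 38) (nat_lit 20) (.node (.node (.node .nil (nat_lit 41) (nat_lit 439) (nat_lit
  34) .nil) (nat_lit 42) (nat_lit 487) (nat_lit 39) (.node .nil (nat_lit 43) (nat_lit 438) (nat_lit 22) .nil))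
  (nat_lit 44) (nat_lit 247) (nat_lit 46) (.node (.node .nil (nat_lit 45) (nat_lit 1110) (nat_lit 27) .nil)
  (nat_lit 46) (nat_lit 134) (nat_lit 25) (.node .nil (nat_lit 47) (nat_lit 759) (nat_lit 43) .nil))))
  (nat_lit 48) (nat_lit 214) (nat_lit 32) (.node (.node (.node (.node .nil (nat_lit 49) (nat_lit 1383)
  (nat_lit 59) .nil) (nat_lit 50) (nat_lit 519) (nat_lit 62) (.node .nil (nat_lit 51) (nat_lit 327) (nat_lit
  52) .nil)) (nat_lit 52) (nat_lit 231) (nat_lit 55) (.node (.node .nil (nat_lit 53) (nat_lit 679) (nat_lit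
  61) .nil) (nat_lit 54) (nat_lit 1032) (nat_lit 8) (.node .nil (nat_lit 55) (nat_lit 120) (nat_lit 40)
  .nil))) (nat_lit 56) (nat_lit 1064) (nat_lit 53) (.node (.node (.node .nil (nat_lit 57) (nat_lit 471)
  (nat_lit 48) .nil) (nat_lit 58) (nat_lit 1047) (nat_lit 53) (.node .nil (nat_lit 59) (nat_lit 1095) (nat_lit
  63) .nil)) (nat_lit 60) (nat_lit 102) (nat_lit 40) (.node (.node .nil (nat_lit 61) (nat_lit 392) (nat_lit
  14) .nil) (nat_lit 62) (nat_lit 423) (nat_lit 51) (.node .nil (nat_lit 63) (nat_lit 712) (nat_lit 30)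
  .nil)))))) (nat_lit 64) (nat_lit 0) (nat_lit 64) (.node (.node (.node (.node (.node (.node .nil (nat_lit 65)
  (nat_lit 0) (nat_lit 65) .nil) (nat_lit 66) (nat_lit 102) (nat_lit 65) (.node .nil (nat_lit 67) (nat_lit
  566) (nat_lit 66) .nil)) (nat_lit 68) (nat_lit 85) (nat_lit 64) (.node (.node .nil (nat_lit 69) (nat_lit 85)
  (nat_lit 65) .nil) (nat_lit 70) (nat_lit 549) (nat_lit 66) (.node .nil (nat_lit 71) (nat_lit 1254) (nat_lit
  78) .nil))) (nat_lit 72) (nat_lit 33) (nat_lit 64) (.node (.node (.node .nil (nat_lit 73) (nat_lit 33)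
  (nat_lit 65) .nil) (nat_lit 74) (nat_lit 470) (nat_lit 69) (.node .nil (nat_lit 75) (nat_lit 1942) (nat_lit
  70) .nil)) (nat_lit 76) (nat_lit 16) (nat_lit 64) (.node (.node .nil (nat_lit 77) (nat_lit 277) (nat_lit 73)
  .nil) (nat_lit 78) (nat_lit 294) (nat_lit 73) (.node .nil (nat_lit 79) (nat_lit 1718) (nat_lit 74) .nil))))
  (nat_lit 80) (nat_lit 600) (nat_lit 66) (.node (.node (.node (.node .nil (nat_lit 81) (nat_lit 963) (nat_lit
  1094) .nil) (nat_lit 82) (nat_lit 771) (nat_lit 1093) (.node .nil (nat_lit 83) (nat_lit 0) (nat_lit 83)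
  .nil)) (nat_lit 84) (nat_lit 2133) (nat_lit 80) (.node (.node .nil (nat_lit 85) (nat_lit 2805) (nat_lit 81)
  .nil) (nat_lit 86) (nat_lit 328) (nat_lit 73) (.node .nil (nat_lit 87) (nat_lit 85) (nat_lit 83) .nil)))
  (nat_lit 88) (nat_lit 2097) (nat_lit 80) (.node (.node (.node .nil (nat_lit 89) (nat_lit 1235) (nat_lit 78)
  .nil) (nat_lit 90) (nat_lit 1157) (nat_lit 94) (.node .nil (nat_lit 91) (nat_lit 131) (nat_lit 76) .nil))
  (nat_lit 92) (nat_lit 2080) (nat_lit 80) (.node (.node .nil (nat_lit 93) (nat_lit 1699) (nat_lit 74) .nil)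
  (nat_lit 94) (nat_lit 259) (nat_lit 73) (.node .nil (nat_lit 95) (nat_lit 195) (nat_lit 72) .nil)))))
  (nat_lit 96) (nat_lit 136) (nat_lit 65) (.node (.node (.node (.node (.node .nil (nat_lit 97) (nat_lit 102)
  (nat_lit 83) .nil) (nat_lit 98) (nat_lit 2822) (nat_lit 81) (.node .nil (nat_lit 99) (nat_lit 1585) (nat_lit
  1131) .nil)) (nat_lit 100) (nat_lit 1109) (nat_lit 1120) (.node (.node .nil (nat_lit 101) (nat_lit 114)
  (nat_lit 76) .nil) (nat_lit 102) (nat_lit 1752) (nat_lit 74) (.node .nil (nat_lit 103) (nat_lit 1174)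
  (nat_lit 94) .nil))) (nat_lit 104) (nat_lit 705) (nat_lit 96) (.node (.node (.node .nil (nat_lit 105)
  (nat_lit 326) (nat_lit 87) .nil) (nat_lit 106) (nat_lit 3240) (nat_lit 103) (.node .nil (nat_lit 107)
  (nat_lit 1398) (nat_lit 86) .nil)) (nat_lit 108) (nat_lit 357) (nat_lit 1128) (.node (.node .nil (nat_lit
  109) (nat_lit 168) (nat_lit 76) .nil) (nat_lit 110) (nat_lit 3302) (nat_lit 89) (.node .nil (nat_lit 111)
  (nat_lit 1605) (nat_lit 1131) .nil)))) (nat_lit 112) (nat_lit 726) (nat_lit 96) (.node (.node (.node (.node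
  .nil (nat_lit 113) (nat_lit 3942) (nat_lit 99) .nil) (nat_lit 114) (nat_lit 136) (nat_lit 83) (.node .nil
  (nat_lit 115) (nat_lit 835) (nat_lit 1124) .nil)) (nat_lit 116) (nat_lit 1414) (nat_lit 108) (.node (.node
  .nil (nat_lit 117) (nat_lit 3457) (nat_lit 125) .nil) (nat_lit 118) (nat_lit 232) (nat_lit 72) (.node .nil
  (nat_lit 119) (nat_lit 1091) (nat_lit 1120) .nil))) (nat_lit 120) (nat_lit 1461) (nat_lit 1148) (.node
  (.node (.node .nil (nat_lit 121) (nat_lit 3206) (nat_lit 103) .nil) (nat_lit 122) (nat_lit 438) (nat_lit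
  101) (.node .nil (nat_lit 123) (nat_lit 504) (nat_lit 69) .nil)) (nat_lit 124) (nat_lit 2486) (nat_lit 104)
  (.node (.node .nil (nat_lit 125) (nat_lit 1288) (nat_lit 78) .nil) (nat_lit 126) (nat_lit 261) (nat_lit
  1146) (.node .nil (nat_lit 127) (nat_lit 1208) (nat_lit 94) .nil)))))))
def tJ0_1 : T := (.node (.node (.node (.node (.node (.node (.node .nil (nat_lit 129) (nat_lit 1735) (nat_lit
  74) .nil) (nat_lit 130) (nat_lit 4135) (nat_lit 79) (.node .nil (nat_lit 131) (nat_lit 487) (nat_lit 69)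
  .nil)) (nat_lit 132) (nat_lit 1959) (nat_lit 70) (.node (.node .nil (nat_lit 133) (nat_lit 151) (nat_lit 76)
  .nil) (nat_lit 134) (nat_lit 311) (nat_lit 73) (.node .nil (nat_lit 135) (nat_lit 1975) (nat_lit 67) .nil)))
  (nat_lit 136) (nat_lit 4423) (nat_lit 75) (.node (.node (.node .nil (nat_lit 137) (nat_lit 119) (nat_lit 65)
  .nil) (nat_lit 138) (nat_lit 311) (nat_lit 68) (.node .nil (nat_lit 139) (nat_lit 1271) (nat_lit 78) .nil))
  (nat_lit 140) (nat_lit 1223) (nat_lit 77) (.node (.node .nil (nat_lit 141) (nat_lit 3335) (nat_lit 71) .nil)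
  (nat_lit 142) (nat_lit 583) (nat_lit 66) (.node .nil (nat_lit 143) (nat_lit 215) (nat_lit 72) .nil))))
  (nat_lit 144) (nat_lit 2583) (nat_lit 82) (.node (.node (.node (.node .nil (nat_lit 145) (nat_lit 4823)
  (nat_lit 88) .nil) (nat_lit 146) (nat_lit 1984) (nat_lit 142) (.node .nil (nat_lit 147) (nat_lit 343)
  (nat_lit 87) .nil)) (nat_lit 148) (nat_lit 4855) (nat_lit 84) (.node (.node .nil (nat_lit 149) (nat_lit
  1191) (nat_lit 94) .nil) (nat_lit 150) (nat_lit 471) (nat_lit 91) (.node .nil (nat_lit 151) (nat_lit 2018)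
  (nat_lit 142) .nil))) (nat_lit 152) (nat_lit 3319) (nat_lit 89) (.node (.node (.node .nil (nat_lit 153)
  (nat_lit 119) (nat_lit 83) .nil) (nat_lit 154) (nat_lit 1296) (nat_lit 134) (.node .nil (nat_lit 155)
  (nat_lit 4807) (nat_lit 92) .nil)) (nat_lit 156) (nat_lit 320) (nat_lit 128) (.node (.node .nil (nat_lit
  157) (nat_lit 4288) (nat_lit 1153) .nil) (nat_lit 158) (nat_lit 2151) (nat_lit 80) (.node .nil (nat_lit 159)
  (nat_lit 1330) (nat_lit 134) .nil))))) (nat_lit 160) (nat_lit 3959) (nat_lit 99) (.node (.node (.node (.node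
  (.node .nil (nat_lit 161) (nat_lit 385) (nat_lit 153) .nil) (nat_lit 162) (nat_lit 1431) (nat_lit 108)
  (.node .nil (nat_lit 163) (nat_lit 4183) (nat_lit 102) .nil)) (nat_lit 164) (nat_lit 455) (nat_lit 101)
  (.node (.node .nil (nat_lit 165) (nat_lit 3558) (nat_lit 159) .nil) (nat_lit 166) (nat_lit 6679) (nat_lit
  106) (.node .nil (nat_lit 167) (nat_lit 743) (nat_lit 96) .nil))) (nat_lit 168) (nat_lit 2503) (nat_lit 104)
  (.node (.node (.node .nil (nat_lit 169) (nat_lit 4582) (nat_lit 151) .nil) (nat_lit 170) (nat_lit 3223)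
  (nat_lit 103) (.node .nil (nat_lit 171) (nat_lit 551) (nat_lit 109) .nil)) (nat_lit 172) (nat_lit 6759)
  (nat_lit 110) (.node (.node .nil (nat_lit 173) (nat_lit 3143) (nat_lit 100) .nil) (nat_lit 174) (nat_lit
  359) (nat_lit 97) (.node .nil (nat_lit 175) (nat_lit 3494) (nat_lit 154) .nil)))) (nat_lit 176) (nat_lit
  7671) (nat_lit 113) (.node (.node (.node (.node .nil (nat_lit 177) (nat_lit 625) (nat_lit 137) .nil)
  (nat_lit 178) (nat_lit 599) (nat_lit 126) (.node .nil (nat_lit 179) (nat_lit 2915) (nat_lit 1156) .nil))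
  (nat_lit 180) (nat_lit 2627) (nat_lit 1155) (.node (.node .nil (nat_lit 181) (nat_lit 3479) (nat_lit 125)
  .nil) (nat_lit 182) (nat_lit 3719) (nat_lit 120) (.node .nil (nat_lit 183) (nat_lit 455) (nat_lit 114)
  .nil))) (nat_lit 184) (nat_lit 337) (nat_lit 128) (.node (.node (.node .nil (nat_lit 185) (nat_lit 2035)
  (nat_lit 142) .nil) (nat_lit 186) (nat_lit 6803) (nat_lit 141) (.node .nil (nat_lit 187) (nat_lit 2609)
  (nat_lit 1155) .nil)) (nat_lit 188) (nat_lit 3395) (nat_lit 139) (.node (.node .nil (nat_lit 189) (nat_lit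
  481) (nat_lit 133) .nil) (nat_lit 190) (nat_lit 659) (nat_lit 137) (.node .nil (nat_lit 191) (nat_lit 6631)
  (nat_lit 121) .nil)))))) (nat_lit 192) (nat_lit 2728) (nat_lit 640) (.node (.node (.node (.node (.node
  (.node .nil (nat_lit 193) (nat_lit 18616) (nat_lit 672) .nil) (nat_lit 194) (nat_lit 19640) (nat_lit 656)
  (.node .nil (nat_lit 195) (nat_lit 16504) (nat_lit 688) .nil)) (nat_lit 196) (nat_lit 16376) (nat_lit 667)
  (.node (.node .nil (nat_lit 197) (nat_lit 19208) (nat_lit 699) .nil) (nat_lit 198) (nat_lit 18648) (nat_lit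
  651) (.node .nil (nat_lit 199) (nat_lit 3236) (nat_lit 192) .nil))) (nat_lit 200) (nat_lit 18776) (nat_lit
  694) (.node (.node (.node .nil (nat_lit 201) (nat_lit 3336) (nat_lit 662) .nil) (nat_lit 202) (nat_lit
  17160) (nat_lit 678) (.node .nil (nat_lit 203) (nat_lit 19304) (nat_lit 646) .nil)) (nat_lit 204) (nat_lit
  19512) (nat_lit 685) (.node (.node .nil (nat_lit 205) (nat_lit 16184) (nat_lit 653) .nil) (nat_lit 206)
  (nat_lit 3253) (nat_lit 192) (.node .nil (nat_lit 207) (nat_lit 18744) (nat_lit 669) .nil)))) (nat_lit 208)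
  (nat_lit 3048) (nat_lit 642) (.node (.node (.node (.node .nil (nat_lit 209) (nat_lit 18968) (nat_lit 674)
  .nil) (nat_lit 210) (nat_lit 20376) (nat_lit 658) (.node .nil (nat_lit 211) (nat_lit 17221) (nat_lit 221)
  .nil)) (nat_lit 212) (nat_lit 17912) (nat_lit 665) (.node (.node .nil (nat_lit 213) (nat_lit 20920) (nat_lit
  697) .nil) (nat_lit 214) (nat_lit 18888) (nat_lit 649) (.node .nil (nat_lit 215) (nat_lit 3016) (nat_lit
  681) .nil))) (nat_lit 216) (nat_lit 18712) (nat_lit 692) (.node (.node (.node .nil (nat_lit 217) (nat_lit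
  2984) (nat_lit 660) .nil) (nat_lit 218) (nat_lit 17688) (nat_lit 676) (.node .nil (nat_lit 219) (nat_lit
  19848) (nat_lit 644) .nil)) (nat_lit 220) (nat_lit 18136) (nat_lit 687) (.node (.node .nil (nat_lit 221)
  (nat_lit 13736) (nat_lit 655) .nil) (nat_lit 222) (nat_lit 2856) (nat_lit 703) (.node .nil (nat_lit 223)
  (nat_lit 18440) (nat_lit 671) .nil))))) (nat_lit 224) (nat_lit 3016) (nat_lit 641) (.node (.node (.node
  (.node (.node .nil (nat_lit 225) (nat_lit 19060) (nat_lit 230) .nil) (nat_lit 226) (nat_lit 19976) (nat_lit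
  657) (.node .nil (nat_lit 227) (nat_lit 17144) (nat_lit 689) .nil)) (nat_lit 228) (nat_lit 14760) (nat_lit
  666) (.node (.node .nil (nat_lit 229) (nat_lit 18472) (nat_lit 698) .nil) (nat_lit 230) (nat_lit 15912)
  (nat_lit 650) (.node .nil (nat_lit 231) (nat_lit 2984) (nat_lit 682) .nil))) (nat_lit 232) (nat_lit 20744)
  (nat_lit 695) (.node (.node (.node .nil (nat_lit 233) (nat_lit 3176) (nat_lit 663) .nil) (nat_lit 234)
  (nat_lit 17880) (nat_lit 679) (.node .nil (nat_lit 235) (nat_lit 19784) (nat_lit 647) .nil)) (nat_lit 236)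
  (nat_lit 19448) (nat_lit 684) (.node (.node .nil (nat_lit 237) (nat_lit 16696) (nat_lit 652) .nil) (nat_lit
  238) (nat_lit 3080) (nat_lit 700) (.node .nil (nat_lit 239) (nat_lit 20760) (nat_lit 668) .nil)))) (nat_lit
  240) (nat_lit 3144) (nat_lit 643) (.node (.node (.node (.node .nil (nat_lit 241) (nat_lit 19016) (nat_lit
  675) .nil) (nat_lit 242) (nat_lit 20945) (nat_lit 1218) (.node .nil (nat_lit 243) (nat_lit 17720) (nat_lit
  691) .nil)) (nat_lit 244) (nat_lit 16312) (nat_lit 664) (.node (.node .nil (nat_lit 245) (nat_lit 20856)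
  (nat_lit 696) .nil) (nat_lit 246) (nat_lit 19040) (nat_lit 230) (.node .nil (nat_lit 247) (nat_lit 3336)
  (nat_lit 680) .nil))) (nat_lit 248) (nat_lit 18040) (nat_lit 693) (.node (.node (.node .nil (nat_lit 249)
  (nat_lit 2888) (nat_lit 661) .nil) (nat_lit 250) (nat_lit 15208) (nat_lit 677) (.node .nil (nat_lit 251)
  (nat_lit 16856) (nat_lit 645) .nil)) (nat_lit 252) (nat_lit 20936) (nat_lit 686) (.node (.node .nil (nat_lit
  253) (nat_lit 16632) (nat_lit 654) .nil) (nat_lit 254) (nat_lit 2728) (nat_lit 702) (.node .nil (nat_lit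
  255) (nat_lit 18808) (nat_lit 670) .nil)))))))
def tJ0_2 : T := (.node (.node (.node (.node (.node (.node (.node .nil (nat_lit 257) (nat_lit 679) (nat_lit
  138) .nil) (nat_lit 258) (nat_lit 583) (nat_lit 143) (.node .nil (nat_lit 259) (nat_lit 519) (nat_lit 133)
  .nil)) (nat_lit 260) (nat_lit 1367) (nat_lit 134) (.node (.node .nil (nat_lit 261) (nat_lit 2355) (nat_lit
  262) .nil) (nat_lit 262) (nat_lit 679) (nat_lit 137) (.node .nil (nat_lit 263) (nat_lit 1767) (nat_lit 131)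
  .nil))) (nat_lit 264) (nat_lit 3415) (nat_lit 139) (.node (.node (.node .nil (nat_lit 265) (nat_lit 4151)
  (nat_lit 129) .nil) (nat_lit 266) (nat_lit 4439) (nat_lit 132) (.node .nil (nat_lit 267) (nat_lit 2055)
  (nat_lit 142) .nil)) (nat_lit 268) (nat_lit 6823) (nat_lit 141) (.node (.node .nil (nat_lit 269) (nat_lit
  4503) (nat_lit 135) .nil) (nat_lit 270) (nat_lit 7879) (nat_lit 130) (.node .nil (nat_lit 271) (nat_lit
  8215) (nat_lit 136) .nil)))) (nat_lit 272) (nat_lit 4519) (nat_lit 146) (.node (.node (.node (.node .nil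
  (nat_lit 273) (nat_lit 6775) (nat_lit 152) .nil) (nat_lit 274) (nat_lit 4673) (nat_lit 267) (.node .nil
  (nat_lit 275) (nat_lit 4599) (nat_lit 151) .nil)) (nat_lit 276) (nat_lit 8919) (nat_lit 148) (.node (.node
  .nil (nat_lit 277) (nat_lit 4871) (nat_lit 158) .nil) (nat_lit 278) (nat_lit 8871) (nat_lit 155) (.node .nil
  (nat_lit 279) (nat_lit 8887) (nat_lit 145) .nil))) (nat_lit 280) (nat_lit 423) (nat_lit 153) (.node (.node
  (.node .nil (nat_lit 281) (nat_lit 679) (nat_lit 147) .nil) (nat_lit 282) (nat_lit 951) (nat_lit 150) (.node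
  .nil (nat_lit 283) (nat_lit 711) (nat_lit 156) .nil)) (nat_lit 284) (nat_lit 3025) (nat_lit 1285) (.node
  (.node .nil (nat_lit 285) (nat_lit 3255) (nat_lit 149) .nil) (nat_lit 286) (nat_lit 4034) (nat_lit 1311)
  (.node .nil (nat_lit 287) (nat_lit 2321) (nat_lit 262) .nil))))) (nat_lit 288) (nat_lit 7943) (nat_lit 163)
  (.node (.node (.node (.node (.node .nil (nat_lit 289) (nat_lit 8439) (nat_lit 169) .nil) (nat_lit 290)
  (nat_lit 11031) (nat_lit 172) (.node .nil (nat_lit 291) (nat_lit 8304) (nat_lit 269) .nil)) (nat_lit 292)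
  (nat_lit 6112) (nat_lit 1290) (.node (.node .nil (nat_lit 293) (nat_lit 4656) (nat_lit 267) .nil) (nat_lit
  294) (nat_lit 6647) (nat_lit 170) (.node .nil (nat_lit 295) (nat_lit 7687) (nat_lit 160) .nil))) (nat_lit
  296) (nat_lit 5703) (nat_lit 168) (.node (.node (.node .nil (nat_lit 297) (nat_lit 3703) (nat_lit 162) .nil)
  (nat_lit 298) (nat_lit 2535) (nat_lit 167) (.node .nil (nat_lit 299) (nat_lit 3843) (nat_lit 1320) .nil))
  (nat_lit 300) (nat_lit 711) (nat_lit 174) (.node (.node .nil (nat_lit 301) (nat_lit 919) (nat_lit 164) .nil)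
  (nat_lit 302) (nat_lit 775) (nat_lit 161) (.node .nil (nat_lit 303) (nat_lit 1095) (nat_lit 171) .nil))))
  (nat_lit 304) (nat_lit 2215) (nat_lit 177) (.node (.node (.node (.node .nil (nat_lit 305) (nat_lit 3809)
  (nat_lit 1320) .nil) (nat_lit 306) (nat_lit 2295) (nat_lit 190) (.node .nil (nat_lit 307) (nat_lit 5011)
  (nat_lit 304) .nil)) (nat_lit 308) (nat_lit 935) (nat_lit 183) (.node (.node .nil (nat_lit 309) (nat_lit
  967) (nat_lit 189) .nil) (nat_lit 310) (nat_lit 743) (nat_lit 184) (.node .nil (nat_lit 311) (nat_lit 1159)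
  (nat_lit 178) .nil))) (nat_lit 312) (nat_lit 10454) (nat_lit 292) (.node (.node (.node .nil (nat_lit 313)
  (nat_lit 11767) (nat_lit 176) .nil) (nat_lit 314) (nat_lit 7015) (nat_lit 181) (.node .nil (nat_lit 315)
  (nat_lit 8928) (nat_lit 277) .nil)) (nat_lit 316) (nat_lit 6919) (nat_lit 188) (.node (.node .nil (nat_lit
  317) (nat_lit 7383) (nat_lit 182) .nil) (nat_lit 318) (nat_lit 6087) (nat_lit 179) (.node .nil (nat_lit 319)
  (nat_lit 4631) (nat_lit 185) .nil)))))) (nat_lit 320) (nat_lit 1575) (nat_lit 832) (.node (.node (.node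
  (.node (.node (.node .nil (nat_lit 321) (nat_lit 12647) (nat_lit 842) .nil) (nat_lit 322) (nat_lit 9719)
  (nat_lit 847) (.node .nil (nat_lit 323) (nat_lit 13383) (nat_lit 837) .nil)) (nat_lit 324) (nat_lit 8759)
  (nat_lit 838) (.node (.node .nil (nat_lit 325) (nat_lit 2183) (nat_lit 844) .nil) (nat_lit 326) (nat_lit
  13431) (nat_lit 841) (.node .nil (nat_lit 327) (nat_lit 9191) (nat_lit 835) .nil))) (nat_lit 328) (nat_lit
  5479) (nat_lit 843) (.node (.node (.node .nil (nat_lit 329) (nat_lit 12951) (nat_lit 833) .nil) (nat_lit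
  330) (nat_lit 2007) (nat_lit 836) (.node .nil (nat_lit 331) (nat_lit 14098) (nat_lit 1379) .nil)) (nat_lit
  332) (nat_lit 9783) (nat_lit 845) (.node (.node .nil (nat_lit 333) (nat_lit 9751) (nat_lit 839) .nil)
  (nat_lit 334) (nat_lit 12327) (nat_lit 834) (.node .nil (nat_lit 335) (nat_lit 2039) (nat_lit 840) .nil))))
  (nat_lit 336) (nat_lit 12503) (nat_lit 850) (.node (.node (.node (.node .nil (nat_lit 337) (nat_lit 2199)
  (nat_lit 856) .nil) (nat_lit 338) (nat_lit 13223) (nat_lit 861) (.node .nil (nat_lit 339) (nat_lit 11431)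
  (nat_lit 855) .nil)) (nat_lit 340) (nat_lit 1975) (nat_lit 852) (.node (.node .nil (nat_lit 341) (nat_lit
  12439) (nat_lit 862) .nil) (nat_lit 342) (nat_lit 7287) (nat_lit 859) (.node .nil (nat_lit 343) (nat_lit
  14710) (nat_lit 382) .nil))) (nat_lit 344) (nat_lit 13507) (nat_lit 332) (.node (.node (.node .nil (nat_lit
  345) (nat_lit 9367) (nat_lit 851) .nil) (nat_lit 346) (nat_lit 11975) (nat_lit 854) (.node .nil (nat_lit
  347) (nat_lit 2320) (nat_lit 377) .nil)) (nat_lit 348) (nat_lit 9431) (nat_lit 863) (.node (.node .nil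
  (nat_lit 349) (nat_lit 14247) (nat_lit 853) .nil) (nat_lit 350) (nat_lit 1879) (nat_lit 848) (.node .nil
  (nat_lit 351) (nat_lit 14023) (nat_lit 858) .nil))))) (nat_lit 352) (nat_lit 10881) (nat_lit 1393) (.node
  (.node (.node (.node (.node .nil (nat_lit 353) (nat_lit 14647) (nat_lit 873) .nil) (nat_lit 354) (nat_lit
  2007) (nat_lit 876) (.node .nil (nat_lit 355) (nat_lit 12215) (nat_lit 870) .nil)) (nat_lit 356) (nat_lit
  13111) (nat_lit 869) (.node (.node .nil (nat_lit 357) (nat_lit 10695) (nat_lit 879) .nil) (nat_lit 358)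
  (nat_lit 14071) (nat_lit 874) (.node .nil (nat_lit 359) (nat_lit 1975) (nat_lit 864) .nil))) (nat_lit 360)
  (nat_lit 2320) (nat_lit 1354) (.node (.node (.node .nil (nat_lit 361) (nat_lit 14487) (nat_lit 866) .nil)
  (nat_lit 362) (nat_lit 10055) (nat_lit 871) (.node .nil (nat_lit 363) (nat_lit 11447) (nat_lit 877) .nil))
  (nat_lit 364) (nat_lit 12690) (nat_lit 324) (.node (.node .nil (nat_lit 365) (nat_lit 2279) (nat_lit 868)
  .nil) (nat_lit 366) (nat_lit 13063) (nat_lit 865) (.node .nil (nat_lit 367) (nat_lit 7991) (nat_lit 875)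
  .nil)))) (nat_lit 368) (nat_lit 14304) (nat_lit 1362) (.node (.node (.node (.node .nil (nat_lit 369)
  (nat_lit 9527) (nat_lit 891) .nil) (nat_lit 370) (nat_lit 14007) (nat_lit 894) (.node .nil (nat_lit 371)
  (nat_lit 1591) (nat_lit 884) .nil)) (nat_lit 372) (nat_lit 10839) (nat_lit 887) (.node (.node .nil (nat_lit
  373) (nat_lit 12023) (nat_lit 893) .nil) (nat_lit 374) (nat_lit 2295) (nat_lit 888) (.node .nil (nat_lit
  375) (nat_lit 12407) (nat_lit 882) .nil))) (nat_lit 376) (nat_lit 12471) (nat_lit 890) (.node (.node (.node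
  .nil (nat_lit 377) (nat_lit 1799) (nat_lit 880) .nil) (nat_lit 378) (nat_lit 14183) (nat_lit 885) (.node
  .nil (nat_lit 379) (nat_lit 10807) (nat_lit 895) .nil)) (nat_lit 380) (nat_lit 2071) (nat_lit 892) (.node
  (.node .nil (nat_lit 381) (nat_lit 11239) (nat_lit 886) .nil) (nat_lit 382) (nat_lit 11458) (nat_lit 342)
  (.node .nil (nat_lit 383) (nat_lit 12839) (nat_lit 889) .nil)))))))
def tJ0_3 : T := (.node (.node (.node (.node (.node (.node (.node .nil (nat_lit 385) (nat_lit 20407) (nat_lit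
  202) .nil) (nat_lit 386) (nat_lit 21703) (nat_lit 207) (.node .nil (nat_lit 387) (nat_lit 22087) (nat_lit
  197) .nil)) (nat_lit 388) (nat_lit 21607) (nat_lit 198) (.node (.node .nil (nat_lit 389) (nat_lit 22263)
  (nat_lit 204) .nil) (nat_lit 390) (nat_lit 3815) (nat_lit 201) (.node .nil (nat_lit 391) (nat_lit 19671)
  (nat_lit 195) .nil))) (nat_lit 392) (nat_lit 22151) (nat_lit 203) (.node (.node (.node .nil (nat_lit 393)
  (nat_lit 21575) (nat_lit 193) .nil) (nat_lit 394) (nat_lit 19543) (nat_lit 196) (.node .nil (nat_lit 395)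
  (nat_lit 3767) (nat_lit 206) .nil)) (nat_lit 396) (nat_lit 19335) (nat_lit 205) (.node (.node .nil (nat_lit
  397) (nat_lit 3751) (nat_lit 199) .nil) (nat_lit 398) (nat_lit 22327) (nat_lit 194) (.node .nil (nat_lit
  399) (nat_lit 21735) (nat_lit 200) .nil)))) (nat_lit 400) (nat_lit 22807) (nat_lit 210) (.node (.node (.node
  (.node .nil (nat_lit 401) (nat_lit 21671) (nat_lit 216) .nil) (nat_lit 402) (nat_lit 17239) (nat_lit 221)
  (.node .nil (nat_lit 403) (nat_lit 3527) (nat_lit 215) .nil)) (nat_lit 404) (nat_lit 21063) (nat_lit 212)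
  (.node (.node .nil (nat_lit 405) (nat_lit 3367) (nat_lit 222) .nil) (nat_lit 406) (nat_lit 22423) (nat_lit
  219) (.node .nil (nat_lit 407) (nat_lit 21895) (nat_lit 209) .nil))) (nat_lit 408) (nat_lit 3495) (nat_lit
  217) (.node (.node (.node .nil (nat_lit 409) (nat_lit 20503) (nat_lit 211) .nil) (nat_lit 410) (nat_lit
  21815) (nat_lit 214) (.node .nil (nat_lit 411) (nat_lit 21207) (nat_lit 220) .nil)) (nat_lit 412) (nat_lit
  21415) (nat_lit 223) (.node (.node .nil (nat_lit 413) (nat_lit 22983) (nat_lit 213) .nil) (nat_lit 414)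
  (nat_lit 3559) (nat_lit 208) (.node .nil (nat_lit 415) (nat_lit 20871) (nat_lit 218) .nil))))) (nat_lit 416)
  (nat_lit 20391) (nat_lit 227) (.node (.node (.node (.node (.node .nil (nat_lit 417) (nat_lit 3687) (nat_lit
  233) .nil) (nat_lit 418) (nat_lit 22215) (nat_lit 236) (.node .nil (nat_lit 419) (nat_lit 19095) (nat_lit
  230) .nil)) (nat_lit 420) (nat_lit 21447) (nat_lit 229) (.node (.node .nil (nat_lit 421) (nat_lit 22919)
  (nat_lit 239) .nil) (nat_lit 422) (nat_lit 21031) (nat_lit 234) (.node .nil (nat_lit 423) (nat_lit 3527)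
  (nat_lit 224) .nil))) (nat_lit 424) (nat_lit 22903) (nat_lit 232) (.node (.node (.node .nil (nat_lit 425)
  (nat_lit 22519) (nat_lit 226) .nil) (nat_lit 426) (nat_lit 3495) (nat_lit 231) (.node .nil (nat_lit 427)
  (nat_lit 19879) (nat_lit 237) .nil)) (nat_lit 428) (nat_lit 3591) (nat_lit 238) (.node (.node .nil (nat_lit
  429) (nat_lit 18215) (nat_lit 228) .nil) (nat_lit 430) (nat_lit 21991) (nat_lit 225) (.node .nil (nat_lit
  431) (nat_lit 22391) (nat_lit 235) .nil)))) (nat_lit 432) (nat_lit 21943) (nat_lit 241) (.node (.node (.node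
  (.node .nil (nat_lit 433) (nat_lit 20071) (nat_lit 251) .nil) (nat_lit 434) (nat_lit 3271) (nat_lit 254)
  (.node .nil (nat_lit 435) (nat_lit 19479) (nat_lit 244) .nil)) (nat_lit 436) (nat_lit 3815) (nat_lit 247)
  (.node (.node .nil (nat_lit 437) (nat_lit 19815) (nat_lit 253) .nil) (nat_lit 438) (nat_lit 21143) (nat_lit
  248) (.node .nil (nat_lit 439) (nat_lit 23015) (nat_lit 242) .nil))) (nat_lit 440) (nat_lit 18503) (nat_lit
  250) (.node (.node (.node .nil (nat_lit 441) (nat_lit 3655) (nat_lit 240) .nil) (nat_lit 442) (nat_lit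
  22967) (nat_lit 245) (.node .nil (nat_lit 443) (nat_lit 21751) (nat_lit 255) .nil)) (nat_lit 444) (nat_lit
  22999) (nat_lit 252) (.node (.node .nil (nat_lit 445) (nat_lit 21975) (nat_lit 246) .nil) (nat_lit 446)
  (nat_lit 20887) (nat_lit 243) (.node .nil (nat_lit 447) (nat_lit 3399) (nat_lit 249) .nil)))))) (nat_lit
  448) (nat_lit 2775) (nat_lit 768) (.node (.node (.node (.node (.node (.node .nil (nat_lit 449) (nat_lit
  19704) (nat_lit 480) .nil) (nat_lit 450) (nat_lit 20145) (nat_lit 491) (.node .nil (nat_lit 451) (nat_lit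
  17328) (nat_lit 509) .nil)) (nat_lit 452) (nat_lit 18536) (nat_lit 475) (.node (.node .nil (nat_lit 453)
  (nat_lit 3287) (nat_lit 780) .nil) (nat_lit 454) (nat_lit 14775) (nat_lit 777) (.node .nil (nat_lit 455)
  (nat_lit 20200) (nat_lit 491) .nil))) (nat_lit 456) (nat_lit 19863) (nat_lit 779) (.node (.node (.node .nil
  (nat_lit 457) (nat_lit 17895) (nat_lit 769) .nil) (nat_lit 458) (nat_lit 3351) (nat_lit 772) (.node .nil
  (nat_lit 459) (nat_lit 18055) (nat_lit 782) .nil)) (nat_lit 460) (nat_lit 16727) (nat_lit 781) (.node (.node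
  .nil (nat_lit 461) (nat_lit 18151) (nat_lit 775) .nil) (nat_lit 462) (nat_lit 17384) (nat_lit 509) (.node
  .nil (nat_lit 463) (nat_lit 3303) (nat_lit 776) .nil)))) (nat_lit 464) (nat_lit 19655) (nat_lit 786) (.node
  (.node (.node (.node .nil (nat_lit 465) (nat_lit 17735) (nat_lit 792) .nil) (nat_lit 466) (nat_lit 3063)
  (nat_lit 797) (.node .nil (nat_lit 467) (nat_lit 21127) (nat_lit 791) .nil)) (nat_lit 468) (nat_lit 16327)
  (nat_lit 788) (.node (.node .nil (nat_lit 469) (nat_lit 19223) (nat_lit 798) .nil) (nat_lit 470) (nat_lit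
  15975) (nat_lit 795) (.node .nil (nat_lit 471) (nat_lit 3031) (nat_lit 785) .nil))) (nat_lit 472) (nat_lit
  2999) (nat_lit 793) (.node (.node (.node .nil (nat_lit 473) (nat_lit 19143) (nat_lit 787) .nil) (nat_lit
  474) (nat_lit 19319) (nat_lit 790) (.node .nil (nat_lit 475) (nat_lit 15223) (nat_lit 796) .nil)) (nat_lit
  476) (nat_lit 19368) (nat_lit 495) (.node (.node .nil (nat_lit 477) (nat_lit 2871) (nat_lit 789) .nil)
  (nat_lit 478) (nat_lit 16647) (nat_lit 784) (.node .nil (nat_lit 479) (nat_lit 19527) (nat_lit 794)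
  .nil))))) (nat_lit 480) (nat_lit 16519) (nat_lit 803) (.node (.node (.node (.node (.node .nil (nat_lit 481)
  (nat_lit 21239) (nat_lit 809) .nil) (nat_lit 482) (nat_lit 18983) (nat_lit 812) (.node .nil (nat_lit 483)
  (nat_lit 3031) (nat_lit 806) .nil)) (nat_lit 484) (nat_lit 20103) (nat_lit 805) (.node (.node .nil (nat_lit
  485) (nat_lit 16391) (nat_lit 815) .nil) (nat_lit 486) (nat_lit 2999) (nat_lit 810) (.node .nil (nat_lit
  487) (nat_lit 18903) (nat_lit 800) .nil))) (nat_lit 488) (nat_lit 18727) (nat_lit 808) (.node (.node (.node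
  .nil (nat_lit 489) (nat_lit 3191) (nat_lit 802) .nil) (nat_lit 490) (nat_lit 17399) (nat_lit 807) (.node
  .nil (nat_lit 491) (nat_lit 16935) (nat_lit 813) .nil)) (nat_lit 492) (nat_lit 3095) (nat_lit 814) (.node
  (.node .nil (nat_lit 493) (nat_lit 18455) (nat_lit 804) .nil) (nat_lit 494) (nat_lit 20119) (nat_lit 801)
  (.node .nil (nat_lit 495) (nat_lit 16199) (nat_lit 811) .nil)))) (nat_lit 496) (nat_lit 18631) (nat_lit 817)
  (.node (.node (.node (.node .nil (nat_lit 497) (nat_lit 3159) (nat_lit 827) .nil) (nat_lit 498) (nat_lit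
  18199) (nat_lit 830) (.node .nil (nat_lit 499) (nat_lit 19991) (nat_lit 820) .nil)) (nat_lit 500) (nat_lit
  3351) (nat_lit 823) (.node (.node .nil (nat_lit 501) (nat_lit 18663) (nat_lit 829) .nil) (nat_lit 502)
  (nat_lit 18487) (nat_lit 824) (.node .nil (nat_lit 503) (nat_lit 18119) (nat_lit 818) .nil))) (nat_lit 504)
  (nat_lit 17271) (nat_lit 826) (.node (.node (.node .nil (nat_lit 505) (nat_lit 19799) (nat_lit 816) .nil)
  (nat_lit 506) (nat_lit 18791) (nat_lit 821) (.node .nil (nat_lit 507) (nat_lit 2903) (nat_lit 831) .nil))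
  (nat_lit 508) (nat_lit 19463) (nat_lit 828) (.node (.node .nil (nat_lit 509) (nat_lit 13799) (nat_lit 822)
  .nil) (nat_lit 510) (nat_lit 2775) (nat_lit 819) (.node .nil (nat_lit 511) (nat_lit 18759) (nat_lit 825)
  .nil)))))))
def tJ0_4 : T := (.node (.node (.node (.node (.node (.node (.node .nil (nat_lit 513) (nat_lit 8231) (nat_lit
  266) .nil) (nat_lit 514) (nat_lit 12167) (nat_lit 271) (.node .nil (nat_lit 515) (nat_lit 5319) (nat_lit
  261) .nil)) (nat_lit 516) (nat_lit 2375) (nat_lit 262) (.node (.node .nil (nat_lit 517) (nat_lit 11095)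
  (nat_lit 268) .nil) (nat_lit 518) (nat_lit 7895) (nat_lit 265) (.node .nil (nat_lit 519) (nat_lit 1031)
  (nat_lit 259) .nil))) (nat_lit 520) (nat_lit 4711) (nat_lit 267) (.node (.node (.node .nil (nat_lit 521)
  (nat_lit 1271) (nat_lit 257) .nil) (nat_lit 522) (nat_lit 3623) (nat_lit 260) (.node .nil (nat_lit 523)
  (nat_lit 11943) (nat_lit 270) .nil)) (nat_lit 524) (nat_lit 8327) (nat_lit 269) (.node (.node .nil (nat_lit
  525) (nat_lit 4199) (nat_lit 263) .nil) (nat_lit 526) (nat_lit 1127) (nat_lit 258) (.node .nil (nat_lit 527)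
  (nat_lit 6951) (nat_lit 264) .nil)))) (nat_lit 528) (nat_lit 8583) (nat_lit 274) (.node (.node (.node (.node
  .nil (nat_lit 529) (nat_lit 839) (nat_lit 280) .nil) (nat_lit 530) (nat_lit 6695) (nat_lit 285) (.node .nil
  (nat_lit 531) (nat_lit 12743) (nat_lit 279) .nil)) (nat_lit 532) (nat_lit 12258) (nat_lit 524) (.node (.node
  .nil (nat_lit 533) (nat_lit 7783) (nat_lit 286) .nil) (nat_lit 534) (nat_lit 1319) (nat_lit 283) (.node .nil
  (nat_lit 535) (nat_lit 11047) (nat_lit 273) .nil))) (nat_lit 536) (nat_lit 1271) (nat_lit 281) (.node (.node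
  (.node .nil (nat_lit 537) (nat_lit 8455) (nat_lit 275) .nil) (nat_lit 538) (nat_lit 12456) (nat_lit 548)
  (.node .nil (nat_lit 539) (nat_lit 5400) (nat_lit 516) .nil)) (nat_lit 540) (nat_lit 5255) (nat_lit 287)
  (.node (.node .nil (nat_lit 541) (nat_lit 8951) (nat_lit 277) .nil) (nat_lit 542) (nat_lit 8343) (nat_lit
  272) (.node .nil (nat_lit 543) (nat_lit 1671) (nat_lit 282) .nil))))) (nat_lit 544) (nat_lit 12200) (nat_lit
  513) (.node (.node (.node (.node (.node .nil (nat_lit 545) (nat_lit 7367) (nat_lit 297) .nil) (nat_lit 546)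
  (nat_lit 1319) (nat_lit 300) (.node .nil (nat_lit 547) (nat_lit 10999) (nat_lit 294) .nil)) (nat_lit 548)
  (nat_lit 8551) (nat_lit 293) (.node (.node .nil (nat_lit 549) (nat_lit 1760) (nat_lit 519) .nil) (nat_lit
  550) (nat_lit 5719) (nat_lit 298) (.node .nil (nat_lit 551) (nat_lit 11991) (nat_lit 288) .nil))) (nat_lit
  552) (nat_lit 9336) (nat_lit 567) (.node (.node (.node .nil (nat_lit 553) (nat_lit 12803) (nat_lit 541)
  .nil) (nat_lit 554) (nat_lit 11783) (nat_lit 295) (.node .nil (nat_lit 555) (nat_lit 1639) (nat_lit 301)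
  .nil)) (nat_lit 556) (nat_lit 1415) (nat_lit 302) (.node (.node .nil (nat_lit 557) (nat_lit 9654) (nat_lit
  539) .nil) (nat_lit 558) (nat_lit 12375) (nat_lit 289) (.node .nil (nat_lit 559) (nat_lit 7543) (nat_lit
  299) .nil)))) (nat_lit 560) (nat_lit 7495) (nat_lit 305) (.node (.node (.node (.node .nil (nat_lit 561)
  (nat_lit 12775) (nat_lit 315) .nil) (nat_lit 562) (nat_lit 10407) (nat_lit 318) (.node .nil (nat_lit 563)
  (nat_lit 1504) (nat_lit 529) .nil)) (nat_lit 564) (nat_lit 1792) (nat_lit 1558) (.node (.node .nil (nat_lit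
  565) (nat_lit 10499) (nat_lit 1537) .nil) (nat_lit 566) (nat_lit 8712) (nat_lit 520) (.node .nil (nat_lit
  567) (nat_lit 5191) (nat_lit 306) .nil))) (nat_lit 568) (nat_lit 11271) (nat_lit 314) (.node (.node (.node
  .nil (nat_lit 569) (nat_lit 5031) (nat_lit 304) .nil) (nat_lit 570) (nat_lit 1703) (nat_lit 309) (.node .nil
  (nat_lit 571) (nat_lit 8503) (nat_lit 319) .nil)) (nat_lit 572) (nat_lit 8675) (nat_lit 520) (.node (.node
  .nil (nat_lit 573) (nat_lit 1367) (nat_lit 310) .nil) (nat_lit 574) (nat_lit 7219) (nat_lit 522) (.node .nil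
  (nat_lit 575) (nat_lit 12312) (nat_lit 542) .nil)))))) (nat_lit 576) (nat_lit 903) (nat_lit 704) (.node
  (.node (.node (.node (.node (.node .nil (nat_lit 577) (nat_lit 9224) (nat_lit 608) .nil) (nat_lit 578)
  (nat_lit 8775) (nat_lit 719) (.node .nil (nat_lit 579) (nat_lit 5633) (nat_lit 602) .nil)) (nat_lit 580)
  (nat_lit 6999) (nat_lit 710) (.node (.node .nil (nat_lit 581) (nat_lit 6455) (nat_lit 716) .nil) (nat_lit
  582) (nat_lit 1591) (nat_lit 713) (.node .nil (nat_lit 583) (nat_lit 9976) (nat_lit 619) .nil))) (nat_lit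
  584) (nat_lit 3687) (nat_lit 715) (.node (.node (.node .nil (nat_lit 585) (nat_lit 11255) (nat_lit 705)
  .nil) (nat_lit 586) (nat_lit 10072) (nat_lit 614) (.node .nil (nat_lit 587) (nat_lit 1735) (nat_lit 718)
  .nil)) (nat_lit 588) (nat_lit 7335) (nat_lit 717) (.node (.node .nil (nat_lit 589) (nat_lit 1607) (nat_lit
  711) .nil) (nat_lit 590) (nat_lit 7319) (nat_lit 706) (.node .nil (nat_lit 591) (nat_lit 11543) (nat_lit
  712) .nil)))) (nat_lit 592) (nat_lit 8375) (nat_lit 722) (.node (.node (.node (.node .nil (nat_lit 593)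
  (nat_lit 9111) (nat_lit 728) .nil) (nat_lit 594) (nat_lit 1159) (nat_lit 733) (.node .nil (nat_lit 595)
  (nat_lit 9383) (nat_lit 727) .nil)) (nat_lit 596) (nat_lit 919) (nat_lit 724) (.node (.node .nil (nat_lit
  597) (nat_lit 8040) (nat_lit 633) .nil) (nat_lit 598) (nat_lit 8263) (nat_lit 731) (.node .nil (nat_lit 599)
  (nat_lit 5575) (nat_lit 721) .nil))) (nat_lit 600) (nat_lit 9879) (nat_lit 729) (.node (.node (.node .nil
  (nat_lit 601) (nat_lit 1623) (nat_lit 723) .nil) (nat_lit 602) (nat_lit 2471) (nat_lit 726) (.node .nil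
  (nat_lit 603) (nat_lit 8816) (nat_lit 629) .nil)) (nat_lit 604) (nat_lit 7143) (nat_lit 735) (.node (.node
  .nil (nat_lit 605) (nat_lit 8535) (nat_lit 725) .nil) (nat_lit 606) (nat_lit 8023) (nat_lit 720) (.node .nil
  (nat_lit 607) (nat_lit 1655) (nat_lit 730) .nil))))) (nat_lit 608) (nat_lit 5079) (nat_lit 739) (.node
  (.node (.node (.node (.node .nil (nat_lit 609) (nat_lit 8487) (nat_lit 745) .nil) (nat_lit 610) (nat_lit
  10004) (nat_lit 612) (.node .nil (nat_lit 611) (nat_lit 1303) (nat_lit 742) .nil)) (nat_lit 612) (nat_lit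
  5688) (nat_lit 602) (.node (.node .nil (nat_lit 613) (nat_lit 1351) (nat_lit 751) .nil) (nat_lit 614)
  (nat_lit 5751) (nat_lit 746) (.node .nil (nat_lit 615) (nat_lit 7927) (nat_lit 736) .nil))) (nat_lit 616)
  (nat_lit 1639) (nat_lit 744) (.node (.node (.node .nil (nat_lit 617) (nat_lit 9927) (nat_lit 738) .nil)
  (nat_lit 618) (nat_lit 11015) (nat_lit 743) (.node .nil (nat_lit 619) (nat_lit 5650) (nat_lit 602) .nil))
  (nat_lit 620) (nat_lit 11207) (nat_lit 750) (.node (.node .nil (nat_lit 621) (nat_lit 7063) (nat_lit 740)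
  .nil) (nat_lit 622) (nat_lit 1447) (nat_lit 737) (.node .nil (nat_lit 623) (nat_lit 5623) (nat_lit 747)
  .nil)))) (nat_lit 624) (nat_lit 9207) (nat_lit 753) (.node (.node (.node (.node .nil (nat_lit 625) (nat_lit
  1079) (nat_lit 763) .nil) (nat_lit 626) (nat_lit 5239) (nat_lit 766) (.node .nil (nat_lit 627) (nat_lit
  11079) (nat_lit 756) .nil)) (nat_lit 628) (nat_lit 5511) (nat_lit 759) (.node (.node .nil (nat_lit 629)
  (nat_lit 4791) (nat_lit 765) .nil) (nat_lit 630) (nat_lit 7352) (nat_lit 584) (.node .nil (nat_lit 631)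
  (nat_lit 1303) (nat_lit 754) .nil))) (nat_lit 632) (nat_lit 8856) (nat_lit 629) (.node (.node (.node .nil
  (nat_lit 633) (nat_lit 4263) (nat_lit 752) .nil) (nat_lit 634) (nat_lit 1399) (nat_lit 757) (.node .nil
  (nat_lit 635) (nat_lit 8983) (nat_lit 767) .nil)) (nat_lit 636) (nat_lit 1351) (nat_lit 764) (.node (.node
  .nil (nat_lit 637) (nat_lit 9958) (nat_lit 619) .nil) (nat_lit 638) (nat_lit 10439) (nat_lit 755) (.node
  .nil (nat_lit 639) (nat_lit 6727) (nat_lit 761) .nil)))))))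
def tJ0_5 : T := (.node (.node (.node (.node (.node (.node (.node .nil (nat_lit 641) (nat_lit 2503) (nat_lit
  330) .nil) (nat_lit 642) (nat_lit 2535) (nat_lit 335) (.node .nil (nat_lit 643) (nat_lit 2631) (nat_lit 325)
  .nil)) (nat_lit 644) (nat_lit 16663) (nat_lit 326) (.node (.node .nil (nat_lit 645) (nat_lit 13527) (nat_lit
  332) .nil) (nat_lit 646) (nat_lit 16151) (nat_lit 329) (.node .nil (nat_lit 647) (nat_lit 16599) (nat_lit
  323) .nil))) (nat_lit 648) (nat_lit 17575) (nat_lit 331) (.node (.node (.node .nil (nat_lit 649) (nat_lit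
  15735) (nat_lit 321) .nil) (nat_lit 650) (nat_lit 12711) (nat_lit 324) (.node .nil (nat_lit 651) (nat_lit
  15463) (nat_lit 334) .nil)) (nat_lit 652) (nat_lit 13447) (nat_lit 333) (.node (.node .nil (nat_lit 653)
  (nat_lit 12967) (nat_lit 327) .nil) (nat_lit 654) (nat_lit 13399) (nat_lit 322) (.node .nil (nat_lit 655)
  (nat_lit 9847) (nat_lit 328) .nil)))) (nat_lit 656) (nat_lit 16471) (nat_lit 338) (.node (.node (.node
  (.node .nil (nat_lit 657) (nat_lit 16807) (nat_lit 344) .nil) (nat_lit 658) (nat_lit 17126) (nat_lit 689)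
  (.node .nil (nat_lit 659) (nat_lit 18167) (nat_lit 343) .nil)) (nat_lit 660) (nat_lit 2471) (nat_lit 340)
  (.node (.node .nil (nat_lit 661) (nat_lit 2375) (nat_lit 350) .nil) (nat_lit 662) (nat_lit 2823) (nat_lit
  347) (.node .nil (nat_lit 663) (nat_lit 2663) (nat_lit 337) .nil))) (nat_lit 664) (nat_lit 13079) (nat_lit
  345) (.node (.node (.node .nil (nat_lit 665) (nat_lit 14433) (nat_lit 1712) .nil) (nat_lit 666) (nat_lit
  11479) (nat_lit 342) (.node .nil (nat_lit 667) (nat_lit 13127) (nat_lit 348) .nil)) (nat_lit 668) (nat_lit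
  17527) (nat_lit 351) (.node (.node .nil (nat_lit 669) (nat_lit 15559) (nat_lit 341) .nil) (nat_lit 670)
  (nat_lit 15639) (nat_lit 336) (.node .nil (nat_lit 671) (nat_lit 15127) (nat_lit 346) .nil))))) (nat_lit
  672) (nat_lit 15367) (nat_lit 355) (.node (.node (.node (.node (.node .nil (nat_lit 673) (nat_lit 17975)
  (nat_lit 361) .nil) (nat_lit 674) (nat_lit 15831) (nat_lit 364) (.node .nil (nat_lit 675) (nat_lit 15873)
  (nat_lit 650) .nil)) (nat_lit 676) (nat_lit 14199) (nat_lit 357) (.node (.node .nil (nat_lit 677) (nat_lit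
  12039) (nat_lit 367) .nil) (nat_lit 678) (nat_lit 13697) (nat_lit 655) (.node .nil (nat_lit 679) (nat_lit
  14407) (nat_lit 352) .nil))) (nat_lit 680) (nat_lit 2823) (nat_lit 360) (.node (.node (.node .nil (nat_lit
  681) (nat_lit 2503) (nat_lit 354) .nil) (nat_lit 682) (nat_lit 2471) (nat_lit 359) (.node .nil (nat_lit 683)
  (nat_lit 2791) (nat_lit 365) .nil)) (nat_lit 684) (nat_lit 16279) (nat_lit 366) (.node (.node .nil (nat_lit
  685) (nat_lit 16343) (nat_lit 356) .nil) (nat_lit 686) (nat_lit 17776) (nat_lit 1680) (.node .nil (nat_lit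
  687) (nat_lit 14679) (nat_lit 363) .nil)))) (nat_lit 688) (nat_lit 13239) (nat_lit 369) (.node (.node (.node
  (.node .nil (nat_lit 689) (nat_lit 13680) (nat_lit 655) .nil) (nat_lit 690) (nat_lit 14727) (nat_lit 382)
  (.node .nil (nat_lit 691) (nat_lit 14279) (nat_lit 372) .nil)) (nat_lit 692) (nat_lit 15527) (nat_lit 375)
  (.node (.node .nil (nat_lit 693) (nat_lit 14535) (nat_lit 381) .nil) (nat_lit 694) (nat_lit 15607) (nat_lit
  376) (.node .nil (nat_lit 695) (nat_lit 17511) (nat_lit 370) .nil))) (nat_lit 696) (nat_lit 17671) (nat_lit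
  378) (.node (.node (.node .nil (nat_lit 697) (nat_lit 17751) (nat_lit 368) .nil) (nat_lit 698) (nat_lit
  15175) (nat_lit 373) (.node .nil (nat_lit 699) (nat_lit 16039) (nat_lit 383) .nil)) (nat_lit 700) (nat_lit
  2567) (nat_lit 380) (.node (.node .nil (nat_lit 701) (nat_lit 2807) (nat_lit 374) .nil) (nat_lit 702)
  (nat_lit 2231) (nat_lit 371) (.node .nil (nat_lit 703) (nat_lit 2343) (nat_lit 377) .nil)))))) (nat_lit 704)
  (nat_lit 408) (nat_lit 128) (.node (.node (.node (.node (.node (.node .nil (nat_lit 705) (nat_lit 6981)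
  (nat_lit 710) .nil) (nat_lit 706) (nat_lit 3652) (nat_lit 715) (.node .nil (nat_lit 707) (nat_lit 7302)
  (nat_lit 706) .nil)) (nat_lit 708) (nat_lit 6438) (nat_lit 716) (.node (.node .nil (nat_lit 709) (nat_lit
  4081) (nat_lit 1764) .nil) (nat_lit 710) (nat_lit 3432) (nat_lit 139) (.node .nil (nat_lit 711) (nat_lit
  885) (nat_lit 704) .nil))) (nat_lit 712) (nat_lit 7400) (nat_lit 182) (.node (.node (.node .nil (nat_lit
  713) (nat_lit 868) (nat_lit 704) .nil) (nat_lit 714) (nat_lit 5585) (nat_lit 747) (.node .nil (nat_lit 715)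
  (nat_lit 1384) (nat_lit 134) .nil)) (nat_lit 716) (nat_lit 3089) (nat_lit 1773) (.node (.node .nil (nat_lit
  717) (nat_lit 3670) (nat_lit 715) .nil) (nat_lit 718) (nat_lit 984) (nat_lit 189) (.node .nil (nat_lit 719)
  (nat_lit 4736) (nat_lit 765) .nil)))) (nat_lit 720) (nat_lit 4246) (nat_lit 752) (.node (.node (.node (.node
  .nil (nat_lit 721) (nat_lit 2437) (nat_lit 726) .nil) (nat_lit 722) (nat_lit 4536) (nat_lit 146) (.node .nil
  (nat_lit 723) (nat_lit 885) (nat_lit 724) .nil)) (nat_lit 724) (nat_lit 440) (nat_lit 153) (.node (.node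
  .nil (nat_lit 725) (nat_lit 4648) (nat_lit 185) .nil) (nat_lit 726) (nat_lit 696) (nat_lit 137) (.node .nil
  (nat_lit 727) (nat_lit 5222) (nat_lit 766) .nil))) (nat_lit 728) (nat_lit 4961) (nat_lit 1785) (.node (.node
  (.node .nil (nat_lit 729) (nat_lit 5494) (nat_lit 759) .nil) (nat_lit 730) (nat_lit 936) (nat_lit 164)
  (.node .nil (nat_lit 731) (nat_lit 4456) (nat_lit 132) .nil)) (nat_lit 732) (nat_lit 7048) (nat_lit 175)
  (.node (.node .nil (nat_lit 733) (nat_lit 600) (nat_lit 143) .nil) (nat_lit 734) (nat_lit 6710) (nat_lit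
  761) (.node .nil (nat_lit 735) (nat_lit 3576) (nat_lit 159) .nil))))) (nat_lit 736) (nat_lit 4168) (nat_lit
  129) (.node (.node (.node (.node (.node .nil (nat_lit 737) (nat_lit 792) (nat_lit 161) .nil) (nat_lit 738)
  (nat_lit 5558) (nat_lit 721) (.node .nil (nat_lit 739) (nat_lit 2232) (nat_lit 177) .nil)) (nat_lit 740)
  (nat_lit 3512) (nat_lit 154) (.node (.node .nil (nat_lit 741) (nat_lit 7126) (nat_lit 735) .nil) (nat_lit
  742) (nat_lit 696) (nat_lit 138) (.node .nil (nat_lit 743) (nat_lit 6664) (nat_lit 170) .nil))) (nat_lit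
  744) (nat_lit 902) (nat_lit 724) (.node (.node (.node .nil (nat_lit 745) (nat_lit 4616) (nat_lit 151) .nil)
  (nat_lit 746) (nat_lit 2552) (nat_lit 167) (.node .nil (nat_lit 747) (nat_lit 2454) (nat_lit 726) .nil))
  (nat_lit 748) (nat_lit 9094) (nat_lit 728) (.node (.node .nil (nat_lit 749) (nat_lit 3288) (nat_lit 140)
  .nil) (nat_lit 750) (nat_lit 6936) (nat_lit 188) (.node .nil (nat_lit 751) (nat_lit 728) (nat_lit 156)
  .nil)))) (nat_lit 752) (nat_lit 1784) (nat_lit 131) (.node (.node (.node (.node .nil (nat_lit 753) (nat_lit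
  5062) (nat_lit 739) .nil) (nat_lit 754) (nat_lit 696) (nat_lit 147) (.node .nil (nat_lit 755) (nat_lit 6104)
  (nat_lit 179) .nil)) (nat_lit 756) (nat_lit 6792) (nat_lit 152) (.node (.node .nil (nat_lit 757) (nat_lit
  760) (nat_lit 184) .nil) (nat_lit 758) (nat_lit 6742) (nat_lit 749) (.node .nil (nat_lit 759) (nat_lit 2401)
  (nat_lit 726) .nil))) (nat_lit 760) (nat_lit 7032) (nat_lit 181) (.node (.node (.node .nil (nat_lit 761)
  (nat_lit 3272) (nat_lit 149) .nil) (nat_lit 762) (nat_lit 7112) (nat_lit 165) (.node .nil (nat_lit 763)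
  (nat_lit 536) (nat_lit 133) .nil)) (nat_lit 764) (nat_lit 728) (nat_lit 174) (.node (.node .nil (nat_lit
  765) (nat_lit 2072) (nat_lit 142) .nil) (nat_lit 766) (nat_lit 2312) (nat_lit 190) (.node .nil (nat_lit 767)
  (nat_lit 4888) (nat_lit 158) .nil)))))))
def tJ0_6 : T := (.node (.node (.node (.node (.node (.node (.node .nil (nat_lit 769) (nat_lit 14424) (nat_lit
  352) .nil) (nat_lit 770) (nat_lit 15656) (nat_lit 336) (.node .nil (nat_lit 771) (nat_lit 17768) (nat_lit
  368) .nil)) (nat_lit 772) (nat_lit 2840) (nat_lit 347) (.node (.node .nil (nat_lit 773) (nat_lit 14264)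
  (nat_lit 379) .nil) (nat_lit 774) (nat_lit 16710) (nat_lit 781) (.node .nil (nat_lit 775) (nat_lit 14696)
  (nat_lit 363) .nil))) (nat_lit 776) (nat_lit 2753) (nat_lit 768) (.node (.node (.node .nil (nat_lit 777)
  (nat_lit 11496) (nat_lit 342) .nil) (nat_lit 778) (nat_lit 17544) (nat_lit 358) (.node .nil (nat_lit 779)
  (nat_lit 16680) (nat_lit 326) .nil)) (nat_lit 780) (nat_lit 2736) (nat_lit 768) (.node (.node .nil (nat_lit
  781) (nat_lit 13464) (nat_lit 333) .nil) (nat_lit 782) (nat_lit 14552) (nat_lit 381) (.node .nil (nat_lit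
  783) (nat_lit 17704) (nat_lit 349) .nil)))) (nat_lit 784) (nat_lit 13416) (nat_lit 322) (.node (.node (.node
  (.node .nil (nat_lit 785) (nat_lit 2520) (nat_lit 354) .nil) (nat_lit 786) (nat_lit 16488) (nat_lit 338)
  (.node .nil (nat_lit 787) (nat_lit 15957) (nat_lit 795) .nil)) (nat_lit 788) (nat_lit 13096) (nat_lit 345)
  (.node (.node .nil (nat_lit 789) (nat_lit 2360) (nat_lit 377) .nil) (nat_lit 790) (nat_lit 16168) (nat_lit
  329) (.node .nil (nat_lit 791) (nat_lit 17992) (nat_lit 361) .nil))) (nat_lit 792) (nat_lit 14296) (nat_lit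
  372) (.node (.node (.node .nil (nat_lit 793) (nat_lit 2488) (nat_lit 340) .nil) (nat_lit 794) (nat_lit
  16360) (nat_lit 356) (.node .nil (nat_lit 795) (nat_lit 12728) (nat_lit 324) .nil)) (nat_lit 796) (nat_lit
  12056) (nat_lit 367) (.node (.node .nil (nat_lit 797) (nat_lit 2552) (nat_lit 335) .nil) (nat_lit 798)
  (nat_lit 16056) (nat_lit 383) (.node .nil (nat_lit 799) (nat_lit 17254) (nat_lit 826) .nil))))) (nat_lit
  800) (nat_lit 15752) (nat_lit 321) (.node (.node (.node (.node (.node .nil (nat_lit 801) (nat_lit 16900)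
  (nat_lit 813) .nil) (nat_lit 802) (nat_lit 2680) (nat_lit 337) (.node .nil (nat_lit 803) (nat_lit 13256)
  (nat_lit 369) .nil)) (nat_lit 804) (nat_lit 15144) (nat_lit 346) (.node (.node .nil (nat_lit 805) (nat_lit
  16881) (nat_lit 813) .nil) (nat_lit 806) (nat_lit 2520) (nat_lit 330) (.node .nil (nat_lit 807) (nat_lit
  13816) (nat_lit 362) .nil))) (nat_lit 808) (nat_lit 15544) (nat_lit 375) (.node (.node (.node .nil (nat_lit
  809) (nat_lit 18184) (nat_lit 343) .nil) (nat_lit 810) (nat_lit 2488) (nat_lit 359) (.node .nil (nat_lit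
  811) (nat_lit 12984) (nat_lit 327) .nil)) (nat_lit 812) (nat_lit 15848) (nat_lit 364) (.node (.node .nil
  (nat_lit 813) (nat_lit 13544) (nat_lit 332) .nil) (nat_lit 814) (nat_lit 2584) (nat_lit 380) (.node .nil
  (nat_lit 815) (nat_lit 13144) (nat_lit 348) .nil)))) (nat_lit 816) (nat_lit 16616) (nat_lit 323) (.node
  (.node (.node (.node .nil (nat_lit 817) (nat_lit 15384) (nat_lit 355) .nil) (nat_lit 818) (nat_lit 14664)
  (nat_lit 339) (.node .nil (nat_lit 819) (nat_lit 2248) (nat_lit 371) .nil)) (nat_lit 820) (nat_lit 16824)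
  (nat_lit 344) (.node (.node .nil (nat_lit 821) (nat_lit 15624) (nat_lit 376) .nil) (nat_lit 822) (nat_lit
  9864) (nat_lit 328) (.node .nil (nat_lit 823) (nat_lit 2840) (nat_lit 360) .nil))) (nat_lit 824) (nat_lit
  15192) (nat_lit 373) (.node (.node (.node .nil (nat_lit 825) (nat_lit 15576) (nat_lit 341) .nil) (nat_lit
  826) (nat_lit 13744) (nat_lit 822) (.node .nil (nat_lit 827) (nat_lit 2648) (nat_lit 325) .nil)) (nat_lit
  828) (nat_lit 16296) (nat_lit 366) (.node (.node .nil (nat_lit 829) (nat_lit 15480) (nat_lit 334) .nil)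
  (nat_lit 830) (nat_lit 14744) (nat_lit 382) (.node .nil (nat_lit 831) (nat_lit 2392) (nat_lit 350)
  .nil)))))) (nat_lit 832) (nat_lit 856) (nat_lit 256) (.node (.node (.node (.node (.node (.node .nil (nat_lit
  833) (nat_lit 9174) (nat_lit 835) .nil) (nat_lit 834) (nat_lit 8360) (nat_lit 272) (.node .nil (nat_lit 835)
  (nat_lit 5048) (nat_lit 304) .nil)) (nat_lit 836) (nat_lit 1336) (nat_lit 283) (.node (.node .nil (nat_lit
  837) (nat_lit 9702) (nat_lit 847) .nil) (nat_lit 838) (nat_lit 4728) (nat_lit 267) (.node .nil (nat_lit 839)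
  (nat_lit 5445) (nat_lit 843) .nil))) (nat_lit 840) (nat_lit 1384) (nat_lit 310) (.node (.node (.node .nil
  (nat_lit 841) (nat_lit 9734) (nat_lit 839) .nil) (nat_lit 842) (nat_lit 8741) (nat_lit 838) (.node .nil
  (nat_lit 843) (nat_lit 2392) (nat_lit 262) .nil)) (nat_lit 844) (nat_lit 1557) (nat_lit 832) (.node (.node
  .nil (nat_lit 845) (nat_lit 5462) (nat_lit 843) .nil) (nat_lit 846) (nat_lit 11528) (nat_lit 317) (.node
  .nil (nat_lit 847) (nat_lit 5428) (nat_lit 843) .nil)))) (nat_lit 848) (nat_lit 1144) (nat_lit 258) (.node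
  (.node (.node (.node .nil (nat_lit 849) (nat_lit 11702) (nat_lit 883) .nil) (nat_lit 850) (nat_lit 8600)
  (nat_lit 274) (.node .nil (nat_lit 851) (nat_lit 5208) (nat_lit 306) .nil)) (nat_lit 852) (nat_lit 1288)
  (nat_lit 281) (.node (.node .nil (nat_lit 853) (nat_lit 10790) (nat_lit 895) .nil) (nat_lit 854) (nat_lit
  7912) (nat_lit 265) (.node .nil (nat_lit 855) (nat_lit 7253) (nat_lit 859) .nil))) (nat_lit 856) (nat_lit
  1574) (nat_lit 884) (.node (.node (.node .nil (nat_lit 857) (nat_lit 10822) (nat_lit 887) .nil) (nat_lit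
  858) (nat_lit 10472) (nat_lit 292) (.node .nil (nat_lit 859) (nat_lit 3640) (nat_lit 260) .nil)) (nat_lit
  860) (nat_lit 1832) (nat_lit 303) (.node (.node .nil (nat_lit 861) (nat_lit 9510) (nat_lit 891) .nil)
  (nat_lit 862) (nat_lit 8520) (nat_lit 319) (.node .nil (nat_lit 863) (nat_lit 5272) (nat_lit 287) .nil)))))
  (nat_lit 864) (nat_lit 1288) (nat_lit 257) (.node (.node (.node (.node (.node .nil (nat_lit 865) (nat_lit
  9350) (nat_lit 851) .nil) (nat_lit 866) (nat_lit 11064) (nat_lit 273) (.node .nil (nat_lit 867) (nat_lit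
  7512) (nat_lit 305) .nil)) (nat_lit 868) (nat_lit 1688) (nat_lit 282) (.node (.node .nil (nat_lit 869)
  (nat_lit 9414) (nat_lit 863) .nil) (nat_lit 870) (nat_lit 8248) (nat_lit 266) (.node .nil (nat_lit 871)
  (nat_lit 5736) (nat_lit 298) .nil))) (nat_lit 872) (nat_lit 1861) (nat_lit 1892) (.node (.node (.node .nil
  (nat_lit 873) (nat_lit 11414) (nat_lit 855) .nil) (nat_lit 874) (nat_lit 10549) (nat_lit 1894) (.node .nil
  (nat_lit 875) (nat_lit 4216) (nat_lit 263) .nil)) (nat_lit 876) (nat_lit 1336) (nat_lit 300) (.node (.node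
  .nil (nat_lit 877) (nat_lit 7270) (nat_lit 859) .nil) (nat_lit 878) (nat_lit 11192) (nat_lit 316) (.node
  .nil (nat_lit 879) (nat_lit 6312) (nat_lit 284) .nil)))) (nat_lit 880) (nat_lit 1048) (nat_lit 259) (.node
  (.node (.node (.node .nil (nat_lit 881) (nat_lit 11638) (nat_lit 867) .nil) (nat_lit 882) (nat_lit 8472)
  (nat_lit 275) (.node .nil (nat_lit 883) (nat_lit 7572) (nat_lit 1911) .nil)) (nat_lit 884) (nat_lit 856)
  (nat_lit 280) (.node (.node .nil (nat_lit 885) (nat_lit 10678) (nat_lit 879) .nil) (nat_lit 886) (nat_lit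
  6968) (nat_lit 264) (.node .nil (nat_lit 887) (nat_lit 6389) (nat_lit 1915) .nil))) (nat_lit 888) (nat_lit
  1720) (nat_lit 309) (.node (.node (.node .nil (nat_lit 889) (nat_lit 8968) (nat_lit 277) .nil) (nat_lit 890)
  (nat_lit 8568) (nat_lit 293) (.node .nil (nat_lit 891) (nat_lit 5336) (nat_lit 261) .nil)) (nat_lit 892)
  (nat_lit 1432) (nat_lit 302) (.node (.node .nil (nat_lit 893) (nat_lit 7974) (nat_lit 875) .nil) (nat_lit
  894) (nat_lit 10424) (nat_lit 318) (.node .nil (nat_lit 895) (nat_lit 6372) (nat_lit 1915) .nil)))))))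
def tJ0_7 : T := (.node (.node (.node (.node (.node (.node (.node .nil (nat_lit 897) (nat_lit 3831) (nat_lit
  458) .nil) (nat_lit 898) (nat_lit 3799) (nat_lit 463) (.node .nil (nat_lit 899) (nat_lit 3783) (nat_lit 453)
  .nil)) (nat_lit 900) (nat_lit 18231) (nat_lit 454) (.node (.node .nil (nat_lit 901) (nat_lit 19895) (nat_lit
  460) .nil) (nat_lit 902) (nat_lit 21047) (nat_lit 457) (.node .nil (nat_lit 903) (nat_lit 20599) (nat_lit
  451) .nil))) (nat_lit 904) (nat_lit 21159) (nat_lit 459) (.node (.node (.node .nil (nat_lit 905) (nat_lit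
  21480) (nat_lit 918) .nil) (nat_lit 906) (nat_lit 21495) (nat_lit 452) (.node .nil (nat_lit 907) (nat_lit
  20663) (nat_lit 462) .nil)) (nat_lit 908) (nat_lit 21223) (nat_lit 461) (.node (.node .nil (nat_lit 909)
  (nat_lit 22727) (nat_lit 455) .nil) (nat_lit 910) (nat_lit 22679) (nat_lit 450) (.node .nil (nat_lit 911)
  (nat_lit 22439) (nat_lit 456) .nil)))) (nat_lit 912) (nat_lit 3575) (nat_lit 466) (.node (.node (.node
  (.node .nil (nat_lit 913) (nat_lit 3511) (nat_lit 472) .nil) (nat_lit 914) (nat_lit 3383) (nat_lit 477)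
  (.node .nil (nat_lit 915) (nat_lit 3543) (nat_lit 471) .nil)) (nat_lit 916) (nat_lit 19495) (nat_lit 468)
  (.node (.node .nil (nat_lit 917) (nat_lit 19831) (nat_lit 478) .nil) (nat_lit 918) (nat_lit 18519) (nat_lit
  475) (.node .nil (nat_lit 919) (nat_lit 20903) (nat_lit 465) .nil))) (nat_lit 920) (nat_lit 22055) (nat_lit
  473) (.node (.node (.node .nil (nat_lit 921) (nat_lit 22248) (nat_lit 916) .nil) (nat_lit 922) (nat_lit
  19191) (nat_lit 470) (.node .nil (nat_lit 923) (nat_lit 21256) (nat_lit 900) .nil)) (nat_lit 924) (nat_lit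
  22279) (nat_lit 479) (.node (.node .nil (nat_lit 925) (nat_lit 22103) (nat_lit 469) .nil) (nat_lit 926)
  (nat_lit 22343) (nat_lit 464) (.node .nil (nat_lit 927) (nat_lit 22167) (nat_lit 474) .nil))))) (nat_lit
  928) (nat_lit 3543) (nat_lit 483) (.node (.node (.node (.node (.node .nil (nat_lit 929) (nat_lit 3703)
  (nat_lit 489) .nil) (nat_lit 930) (nat_lit 3607) (nat_lit 492) (.node .nil (nat_lit 931) (nat_lit 3511)
  (nat_lit 486) .nil)) (nat_lit 932) (nat_lit 19559) (nat_lit 485) (.node (.node .nil (nat_lit 933) (nat_lit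
  19351) (nat_lit 495) .nil) (nat_lit 934) (nat_lit 20679) (nat_lit 490) (.node .nil (nat_lit 935) (nat_lit
  19687) (nat_lit 480) .nil))) (nat_lit 936) (nat_lit 21687) (nat_lit 488) (.node (.node (.node .nil (nat_lit
  937) (nat_lit 21911) (nat_lit 482) .nil) (nat_lit 938) (nat_lit 21831) (nat_lit 487) (.node .nil (nat_lit
  939) (nat_lit 21431) (nat_lit 493) .nil)) (nat_lit 940) (nat_lit 22647) (nat_lit 494) (.node (.node .nil
  (nat_lit 941) (nat_lit 22631) (nat_lit 484) .nil) (nat_lit 942) (nat_lit 23025) (nat_lit 1950) (.node .nil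
  (nat_lit 943) (nat_lit 20183) (nat_lit 491) .nil)))) (nat_lit 944) (nat_lit 3671) (nat_lit 497) (.node
  (.node (.node (.node .nil (nat_lit 945) (nat_lit 3415) (nat_lit 507) .nil) (nat_lit 946) (nat_lit 3319)
  (nat_lit 510) (.node .nil (nat_lit 947) (nat_lit 3831) (nat_lit 500) .nil)) (nat_lit 948) (nat_lit 21191)
  (nat_lit 503) (.node (.node .nil (nat_lit 949) (nat_lit 17367) (nat_lit 509) .nil) (nat_lit 950) (nat_lit
  20519) (nat_lit 504) (.node .nil (nat_lit 951) (nat_lit 21072) (nat_lit 1959) .nil))) (nat_lit 952) (nat_lit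
  20648) (nat_lit 949) (.node (.node (.node .nil (nat_lit 953) (nat_lit 21591) (nat_lit 496) .nil) (nat_lit
  954) (nat_lit 21623) (nat_lit 501) (.node .nil (nat_lit 955) (nat_lit 21719) (nat_lit 511) .nil)) (nat_lit
  956) (nat_lit 22231) (nat_lit 508) (.node (.node .nil (nat_lit 957) (nat_lit 21463) (nat_lit 502) .nil)
  (nat_lit 958) (nat_lit 22535) (nat_lit 499) (.node .nil (nat_lit 959) (nat_lit 22407) (nat_lit 505)
  .nil)))))) (nat_lit 960) (nat_lit 1543) (nat_lit 512) (.node (.node (.node (.node (.node (.node .nil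
  (nat_lit 961) (nat_lit 7239) (nat_lit 522) .nil) (nat_lit 962) (nat_lit 11223) (nat_lit 527) (.node .nil
  (nat_lit 963) (nat_lit 14503) (nat_lit 517) .nil)) (nat_lit 964) (nat_lit 11959) (nat_lit 518) (.node (.node
  .nil (nat_lit 965) (nat_lit 12279) (nat_lit 524) .nil) (nat_lit 966) (nat_lit 1959) (nat_lit 521) (.node
  .nil (nat_lit 967) (nat_lit 9495) (nat_lit 515) .nil))) (nat_lit 968) (nat_lit 15111) (nat_lit 523) (.node
  (.node (.node .nil (nat_lit 969) (nat_lit 12183) (nat_lit 513) .nil) (nat_lit 970) (nat_lit 5383) (nat_lit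
  516) (.node .nil (nat_lit 971) (nat_lit 1863) (nat_lit 526) .nil)) (nat_lit 972) (nat_lit 7959) (nat_lit
  525) (.node (.node .nil (nat_lit 973) (nat_lit 1783) (nat_lit 519) .nil) (nat_lit 974) (nat_lit 15335)
  (nat_lit 514) (.node .nil (nat_lit 975) (nat_lit 8695) (nat_lit 520) .nil)))) (nat_lit 976) (nat_lit 10755)
  (nat_lit 1991) (.node (.node (.node (.node .nil (nat_lit 977) (nat_lit 1959) (nat_lit 536) .nil) (nat_lit
  978) (nat_lit 12823) (nat_lit 541) (.node .nil (nat_lit 979) (nat_lit 14209) (nat_lit 2027) .nil)) (nat_lit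
  980) (nat_lit 15431) (nat_lit 532) (.node (.node .nil (nat_lit 981) (nat_lit 12295) (nat_lit 542) .nil)
  (nat_lit 982) (nat_lit 9584) (nat_lit 970) (.node .nil (nat_lit 983) (nat_lit 1543) (nat_lit 529) .nil)))
  (nat_lit 984) (nat_lit 12391) (nat_lit 537) (.node (.node (.node .nil (nat_lit 985) (nat_lit 15991) (nat_lit
  531) .nil) (nat_lit 986) (nat_lit 1991) (nat_lit 534) (.node .nil (nat_lit 987) (nat_lit 9399) (nat_lit 540)
  .nil)) (nat_lit 988) (nat_lit 2144) (nat_lit 960) (.node (.node .nil (nat_lit 989) (nat_lit 9619) (nat_lit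
  970) .nil) (nat_lit 990) (nat_lit 12487) (nat_lit 528) (.node .nil (nat_lit 991) (nat_lit 15591) (nat_lit
  538) .nil))))) (nat_lit 992) (nat_lit 11400) (nat_lit 961) (.node (.node (.node (.node (.node .nil (nat_lit
  993) (nat_lit 16023) (nat_lit 553) .nil) (nat_lit 994) (nat_lit 2055) (nat_lit 556) (.node .nil (nat_lit
  995) (nat_lit 10039) (nat_lit 550) .nil)) (nat_lit 996) (nat_lit 2311) (nat_lit 549) (.node (.node .nil
  (nat_lit 997) (nat_lit 11671) (nat_lit 559) .nil) (nat_lit 998) (nat_lit 9640) (nat_lit 970) (.node .nil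
  (nat_lit 999) (nat_lit 15351) (nat_lit 544) .nil))) (nat_lit 1000) (nat_lit 12931) (nat_lit 1023) (.node
  (.node (.node .nil (nat_lit 1001) (nat_lit 1991) (nat_lit 546) .nil) (nat_lit 1002) (nat_lit 15159) (nat_lit
  551) (.node .nil (nat_lit 1003) (nat_lit 13208) (nat_lit 967) .nil)) (nat_lit 1004) (nat_lit 15442) (nat_lit
  965) (.node (.node .nil (nat_lit 1005) (nat_lit 12008) (nat_lit 972) .nil) (nat_lit 1006) (nat_lit 11511)
  (nat_lit 545) (.node .nil (nat_lit 1007) (nat_lit 2263) (nat_lit 555) .nil)))) (nat_lit 1008) (nat_lit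
  14630) (nat_lit 992) (.node (.node (.node (.node .nil (nat_lit 1009) (nat_lit 12423) (nat_lit 571) .nil)
  (nat_lit 1010) (nat_lit 11367) (nat_lit 574) (.node .nil (nat_lit 1011) (nat_lit 2311) (nat_lit 564) .nil))
  (nat_lit 1012) (nat_lit 9319) (nat_lit 567) (.node (.node .nil (nat_lit 1013) (nat_lit 2023) (nat_lit 573)
  .nil) (nat_lit 1014) (nat_lit 14567) (nat_lit 568) (.node .nil (nat_lit 1015) (nat_lit 13991) (nat_lit 562)
  .nil))) (nat_lit 1016) (nat_lit 2161) (nat_lit 960) (.node (.node (.node .nil (nat_lit 1017) (nat_lit 11377)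
  (nat_lit 961) .nil) (nat_lit 1018) (nat_lit 13296) (nat_lit 998) (.node .nil (nat_lit 1019) (nat_lit 13318)
  (nat_lit 998) .nil)) (nat_lit 1020) (nat_lit 12583) (nat_lit 572) (.node (.node .nil (nat_lit 1021) (nat_lit
  12615) (nat_lit 566) .nil) (nat_lit 1022) (nat_lit 2119) (nat_lit 563) (.node .nil (nat_lit 1023) (nat_lit
  9159) (nat_lit 569) .nil)))))))
def tJ0_8 : T := (.node (.node (.node (.node (.node (.node (.node .nil (nat_lit 1025) (nat_lit 16) (nat_lit 1)
  .nil) (nat_lit 1026) (nat_lit 86) (nat_lit 1025) (.node .nil (nat_lit 1027) (nat_lit 246) (nat_lit 1026)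
  .nil)) (nat_lit 1028) (nat_lit 567) (nat_lit 1030) (.node (.node .nil (nat_lit 1029) (nat_lit 1399) (nat_lit
  1036) .nil) (nat_lit 1030) (nat_lit 295) (nat_lit 1033) (.node .nil (nat_lit 1031) (nat_lit 503) (nat_lit
  1027) .nil))) (nat_lit 1032) (nat_lit 839) (nat_lit 1035) (.node (.node (.node .nil (nat_lit 1033) (nat_lit
  103) (nat_lit 1025) .nil) (nat_lit 1034) (nat_lit 903) (nat_lit 1028) (.node .nil (nat_lit 1035) (nat_lit
  519) (nat_lit 1038) .nil)) (nat_lit 1036) (nat_lit 1175) (nat_lit 1037) (.node (.node .nil (nat_lit 1037)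
  (nat_lit 823) (nat_lit 1031) .nil) (nat_lit 1038) (nat_lit 263) (nat_lit 1026) (.node .nil (nat_lit 1039)
  (nat_lit 1191) (nat_lit 1032) .nil)))) (nat_lit 1040) (nat_lit 280) (nat_lit 1026) (.node (.node (.node
  (.node .nil (nat_lit 1041) (nat_lit 311) (nat_lit 1048) .nil) (nat_lit 1042) (nat_lit 1415) (nat_lit 1053)
  (.node .nil (nat_lit 1043) (nat_lit 503) (nat_lit 1047) .nil)) (nat_lit 1044) (nat_lit 18) (nat_lit 20)
  (.node (.node .nil (nat_lit 1045) (nat_lit 871) (nat_lit 1054) .nil) (nat_lit 1046) (nat_lit 312) (nat_lit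
  1033) (.node .nil (nat_lit 1047) (nat_lit 407) (nat_lit 1041) .nil))) (nat_lit 1048) (nat_lit 215) (nat_lit
  1049) (.node (.node (.node .nil (nat_lit 1049) (nat_lit 88) (nat_lit 1044) .nil) (nat_lit 1050) (nat_lit
  599) (nat_lit 1046) (.node .nil (nat_lit 1051) (nat_lit 920) (nat_lit 1028) .nil)) (nat_lit 1052) (nat_lit
  1320) (nat_lit 1071) (.node (.node .nil (nat_lit 1053) (nat_lit 1255) (nat_lit 1045) .nil) (nat_lit 1054)
  (nat_lit 551) (nat_lit 1040) (.node .nil (nat_lit 1055) (nat_lit 951) (nat_lit 1050) .nil))))) (nat_lit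
  1056) (nat_lit 120) (nat_lit 1025) (.node (.node (.node (.node (.node .nil (nat_lit 1057) (nat_lit 567)
  (nat_lit 1065) .nil) (nat_lit 1058) (nat_lit 391) (nat_lit 1068) (.node .nil (nat_lit 1059) (nat_lit 1335)
  (nat_lit 1062) .nil)) (nat_lit 1060) (nat_lit 968) (nat_lit 1050) (.node (.node .nil (nat_lit 1061) (nat_lit
  1303) (nat_lit 1071) .nil) (nat_lit 1062) (nat_lit 983) (nat_lit 1066) (.node .nil (nat_lit 1063) (nat_lit
  343) (nat_lit 1056) .nil))) (nat_lit 1064) (nat_lit 70) (nat_lit 1044) (.node (.node (.node .nil (nat_lit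
  1065) (nat_lit 487) (nat_lit 1058) .nil) (nat_lit 1066) (nat_lit 631) (nat_lit 1063) (.node .nil (nat_lit
  1067) (nat_lit 582) (nat_lit 1046) .nil)) (nat_lit 1068) (nat_lit 295) (nat_lit 1070) (.node (.node .nil
  (nat_lit 1069) (nat_lit 1286) (nat_lit 1051) .nil) (nat_lit 1070) (nat_lit 198) (nat_lit 1049) (.node .nil
  (nat_lit 1071) (nat_lit 935) (nat_lit 1067) .nil)))) (nat_lit 1072) (nat_lit 326) (nat_lit 1056) (.node
  (.node (.node (.node .nil (nat_lit 1073) (nat_lit 1431) (nat_lit 1083) .nil) (nat_lit 1074) (nat_lit 551)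
  (nat_lit 1086) (.node .nil (nat_lit 1075) (nat_lit 375) (nat_lit 1076) .nil)) (nat_lit 1076) (nat_lit 279)
  (nat_lit 1079) (.node (.node .nil (nat_lit 1077) (nat_lit 855) (nat_lit 1085) .nil) (nat_lit 1078) (nat_lit
  1208) (nat_lit 1032) (.node .nil (nat_lit 1079) (nat_lit 184) (nat_lit 1064) .nil))) (nat_lit 1080) (nat_lit
  1240) (nat_lit 1077) (.node (.node (.node .nil (nat_lit 1081) (nat_lit 615) (nat_lit 1072) .nil) (nat_lit
  1082) (nat_lit 1223) (nat_lit 1077) (.node .nil (nat_lit 1083) (nat_lit 1271) (nat_lit 1087) .nil)) (nat_lit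
  1084) (nat_lit 166) (nat_lit 1064) (.node (.node .nil (nat_lit 1085) (nat_lit 536) (nat_lit 1038) .nil)
  (nat_lit 1086) (nat_lit 471) (nat_lit 1075) (.node .nil (nat_lit 1087) (nat_lit 888) (nat_lit 1054)
  .nil)))))) (nat_lit 1088) (nat_lit 293) (nat_lit 1092) (.node (.node (.node (.node (.node (.node .nil
  (nat_lit 1089) (nat_lit 789) (nat_lit 1093) .nil) (nat_lit 1090) (nat_lit 981) (nat_lit 1094) (.node .nil
  (nat_lit 1091) (nat_lit 2838) (nat_lit 1090) .nil)) (nat_lit 1092) (nat_lit 67) (nat_lit 83) (.node (.node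
  .nil (nat_lit 1093) (nat_lit 145) (nat_lit 1101) .nil) (nat_lit 1094) (nat_lit 214) (nat_lit 1101) (.node
  .nil (nat_lit 1095) (nat_lit 1656) (nat_lit 1131) .nil))) (nat_lit 1096) (nat_lit 163) (nat_lit 1119) (.node
  (.node (.node .nil (nat_lit 1097) (nat_lit 197) (nat_lit 1101) .nil) (nat_lit 1098) (nat_lit 513) (nat_lit
  66) (.node .nil (nat_lit 1099) (nat_lit 998) (nat_lit 1094) .nil)) (nat_lit 1100) (nat_lit 211) (nat_lit
  1115) (.node (.node .nil (nat_lit 1101) (nat_lit 16) (nat_lit 65) .nil) (nat_lit 1102) (nat_lit 934)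
  (nat_lit 1097) (.node .nil (nat_lit 1103) (nat_lit 1830) (nat_lit 1098) .nil)))) (nat_lit 1104) (nat_lit
  2872) (nat_lit 1090) (.node (.node (.node (.node .nil (nat_lit 1105) (nat_lit 1877) (nat_lit 1109) .nil)
  (nat_lit 1106) (nat_lit 421) (nat_lit 1110) (.node .nil (nat_lit 1107) (nat_lit 277) (nat_lit 1111) .nil))
  (nat_lit 1108) (nat_lit 1478) (nat_lit 1148) (.node (.node .nil (nat_lit 1109) (nat_lit 531) (nat_lit 66)
  .nil) (nat_lit 1110) (nat_lit 67) (nat_lit 65) (.node .nil (nat_lit 1111) (nat_lit 67) (nat_lit 64) .nil)))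
  (nat_lit 1112) (nat_lit 2116) (nat_lit 80) (.node (.node (.node .nil (nat_lit 1113) (nat_lit 1558) (nat_lit
  1143) .nil) (nat_lit 1114) (nat_lit 179) (nat_lit 1101) (.node .nil (nat_lit 1115) (nat_lit 33) (nat_lit 83)
  .nil)) (nat_lit 1116) (nat_lit 2662) (nat_lit 1144) (.node (.node .nil (nat_lit 1117) (nat_lit 1811)
  (nat_lit 1098) .nil) (nat_lit 1118) (nat_lit 885) (nat_lit 1114) (.node .nil (nat_lit 1119) (nat_lit 16)
  (nat_lit 83) .nil))))) (nat_lit 1120) (nat_lit 242) (nat_lit 73) (.node (.node (.node (.node (.node .nil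
  (nat_lit 1121) (nat_lit 178) (nat_lit 72) .nil) (nat_lit 1122) (nat_lit 3776) (nat_lit 1134) (.node .nil
  (nat_lit 1123) (nat_lit 1574) (nat_lit 1106) .nil)) (nat_lit 1124) (nat_lit 162) (nat_lit 1101) (.node
  (.node .nil (nat_lit 1125) (nat_lit 182) (nat_lit 1119) .nil) (nat_lit 1126) (nat_lit 1864) (nat_lit 1098)
  (.node .nil (nat_lit 1127) (nat_lit 2515) (nat_lit 112) .nil))) (nat_lit 1128) (nat_lit 50) (nat_lit 65)
  (.node (.node (.node .nil (nat_lit 1129) (nat_lit 50) (nat_lit 64) .nil) (nat_lit 1130) (nat_lit 1894)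
  (nat_lit 1109) (.node .nil (nat_lit 1131) (nat_lit 438) (nat_lit 1110) .nil)) (nat_lit 1132) (nat_lit 754)
  (nat_lit 1093) (.node (.node .nil (nat_lit 1133) (nat_lit 230) (nat_lit 1115) .nil) (nat_lit 1134) (nat_lit
  1512) (nat_lit 1148) (.node .nil (nat_lit 1135) (nat_lit 902) (nat_lit 1114) .nil)))) (nat_lit 1136)
  (nat_lit 1126) (nat_lit 1120) (.node (.node (.node (.node .nil (nat_lit 1137) (nat_lit 3440) (nat_lit 125)
  .nil) (nat_lit 1138) (nat_lit 419) (nat_lit 101) (.node .nil (nat_lit 1139) (nat_lit 1793) (nat_lit 123)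
  .nil)) (nat_lit 1140) (nat_lit 1441) (nat_lit 1148) (.node (.node .nil (nat_lit 1141) (nat_lit 2680)
  (nat_lit 1144) .nil) (nat_lit 1142) (nat_lit 146) (nat_lit 1119) (.node .nil (nat_lit 1143) (nat_lit 408)
  (nat_lit 1128) .nil))) (nat_lit 1144) (nat_lit 854) (nat_lit 1124) (.node (.node (.node .nil (nat_lit 1145)
  (nat_lit 1928) (nat_lit 1109) .nil) (nat_lit 1146) (nat_lit 50) (nat_lit 83) (.node .nil (nat_lit 1147)
  (nat_lit 824) (nat_lit 1093) .nil)) (nat_lit 1148) (nat_lit 374) (nat_lit 1128) (.node (.node .nil (nat_lit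
  1149) (nat_lit 1622) (nat_lit 1131) .nil) (nat_lit 1150) (nat_lit 243) (nat_lit 1129) (.node .nil (nat_lit
  1151) (nat_lit 339) (nat_lit 1128) .nil)))))))
def tJ0_9 : T := (.node (.node (.node (.node (.node (.node (.node .nil (nat_lit 1153) (nat_lit 1847) (nat_lit
  1098) .nil) (nat_lit 1154) (nat_lit 4279) (nat_lit 1103) (.node .nil (nat_lit 1155) (nat_lit 807) (nat_lit
  1093) .nil)) (nat_lit 1156) (nat_lit 1015) (nat_lit 1094) (.node (.node .nil (nat_lit 1157) (nat_lit 368)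
  (nat_lit 153) .nil) (nat_lit 1158) (nat_lit 951) (nat_lit 1097) (.node .nil (nat_lit 1159) (nat_lit 5991)
  (nat_lit 1091) .nil))) (nat_lit 1160) (nat_lit 2887) (nat_lit 1099) (.node (.node (.node .nil (nat_lit 1161)
  (nat_lit 2599) (nat_lit 1089) .nil) (nat_lit 1162) (nat_lit 311) (nat_lit 1092) (.node .nil (nat_lit 1163)
  (nat_lit 2759) (nat_lit 1102) .nil)) (nat_lit 1164) (nat_lit 231) (nat_lit 1101) (.node (.node .nil (nat_lit
  1165) (nat_lit 4023) (nat_lit 1095) .nil) (nat_lit 1166) (nat_lit 2855) (nat_lit 1090) (.node .nil (nat_lit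
  1167) (nat_lit 487) (nat_lit 1096) .nil)))) (nat_lit 1168) (nat_lit 642) (nat_lit 137) (.node (.node (.node
  (.node .nil (nat_lit 1169) (nat_lit 4839) (nat_lit 1112) .nil) (nat_lit 1170) (nat_lit 3378) (nat_lit 139)
  (.node .nil (nat_lit 1171) (nat_lit 295) (nat_lit 1111) .nil)) (nat_lit 1172) (nat_lit 3735) (nat_lit 1108)
  (.node (.node .nil (nat_lit 1173) (nat_lit 608) (nat_lit 137) .nil) (nat_lit 1174) (nat_lit 247) (nat_lit
  1115) (.node .nil (nat_lit 1175) (nat_lit 3344) (nat_lit 139) .nil))) (nat_lit 1176) (nat_lit 2896) (nat_lit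
  1156) (.node (.node (.node .nil (nat_lit 1177) (nat_lit 354) (nat_lit 128) .nil) (nat_lit 1178) (nat_lit
  455) (nat_lit 1110) (.node .nil (nat_lit 1179) (nat_lit 4464) (nat_lit 135) .nil)) (nat_lit 1180) (nat_lit
  199) (nat_lit 1119) (.node (.node .nil (nat_lit 1181) (nat_lit 1911) (nat_lit 1109) .nil) (nat_lit 1182)
  (nat_lit 6039) (nat_lit 1104) (.node .nil (nat_lit 1183) (nat_lit 919) (nat_lit 1114) .nil))))) (nat_lit
  1184) (nat_lit 2246) (nat_lit 1168) (.node (.node (.node (.node (.node .nil (nat_lit 1185) (nat_lit 263)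
  (nat_lit 1129) .nil) (nat_lit 1186) (nat_lit 2567) (nat_lit 1132) (.node .nil (nat_lit 1187) (nat_lit 4343)
  (nat_lit 1126) .nil)) (nat_lit 1188) (nat_lit 503) (nat_lit 1125) (.node (.node .nil (nat_lit 1189) (nat_lit
  2727) (nat_lit 1135) .nil) (nat_lit 1190) (nat_lit 4359) (nat_lit 1130) (.node .nil (nat_lit 1191) (nat_lit
  1143) (nat_lit 1120) .nil))) (nat_lit 1192) (nat_lit 391) (nat_lit 1128) (.node (.node (.node .nil (nat_lit
  1193) (nat_lit 6838) (nat_lit 1175) .nil) (nat_lit 1194) (nat_lit 2166) (nat_lit 1173) (.node .nil (nat_lit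
  1195) (nat_lit 515) (nat_lit 1180) .nil)) (nat_lit 1196) (nat_lit 3799) (nat_lit 1134) (.node (.node .nil
  (nat_lit 1197) (nat_lit 871) (nat_lit 1124) .nil) (nat_lit 1198) (nat_lit 567) (nat_lit 1121) (.node .nil
  (nat_lit 1199) (nat_lit 1639) (nat_lit 1131) .nil)))) (nat_lit 1200) (nat_lit 4483) (nat_lit 135) (.node
  (.node (.node (.node .nil (nat_lit 1201) (nat_lit 1347) (nat_lit 134) .nil) (nat_lit 1202) (nat_lit 499)
  (nat_lit 133) (.node .nil (nat_lit 1203) (nat_lit 3361) (nat_lit 139) .nil)) (nat_lit 1204) (nat_lit 1025)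
  (nat_lit 1164) (.node (.node .nil (nat_lit 1205) (nat_lit 3975) (nat_lit 1149) .nil) (nat_lit 1206) (nat_lit
  2001) (nat_lit 142) (.node .nil (nat_lit 1207) (nat_lit 371) (nat_lit 128) .nil))) (nat_lit 1208) (nat_lit
  279) (nat_lit 1146) (.node (.node (.node .nil (nat_lit 1209) (nat_lit 3159) (nat_lit 1136) .nil) (nat_lit
  1210) (nat_lit 5783) (nat_lit 1141) (.node .nil (nat_lit 1211) (nat_lit 1043) (nat_lit 1164) .nil)) (nat_lit
  1212) (nat_lit 1495) (nat_lit 1148) (.node (.node .nil (nat_lit 1213) (nat_lit 471) (nat_lit 1142) .nil)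
  (nat_lit 1214) (nat_lit 1313) (nat_lit 134) (.node .nil (nat_lit 1215) (nat_lit 4407) (nat_lit 1145)
  .nil)))))) (nat_lit 1216) (nat_lit 3112) (nat_lit 1664) (.node (.node (.node (.node (.node (.node .nil
  (nat_lit 1217) (nat_lit 17592) (nat_lit 1696) .nil) (nat_lit 1218) (nat_lit 17800) (nat_lit 1680) (.node
  .nil (nat_lit 1219) (nat_lit 14456) (nat_lit 1712) .nil)) (nat_lit 1220) (nat_lit 15080) (nat_lit 1691)
  (.node (.node .nil (nat_lit 1221) (nat_lit 20216) (nat_lit 1723) .nil) (nat_lit 1222) (nat_lit 20438)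
  (nat_lit 1229) (.node .nil (nat_lit 1223) (nat_lit 2888) (nat_lit 1707) .nil))) (nat_lit 1224) (nat_lit
  18344) (nat_lit 1718) (.node (.node (.node .nil (nat_lit 1225) (nat_lit 3208) (nat_lit 1686) .nil) (nat_lit
  1226) (nat_lit 16984) (nat_lit 1702) (.node .nil (nat_lit 1227) (nat_lit 20017) (nat_lit 251) .nil))
  (nat_lit 1228) (nat_lit 18376) (nat_lit 1709) (.node (.node .nil (nat_lit 1229) (nat_lit 17184) (nat_lit
  221) .nil) (nat_lit 1230) (nat_lit 3144) (nat_lit 1725) (.node .nil (nat_lit 1231) (nat_lit 18936) (nat_lit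
  1693) .nil)))) (nat_lit 1232) (nat_lit 2920) (nat_lit 1666) (.node (.node (.node (.node .nil (nat_lit 1233)
  (nat_lit 18248) (nat_lit 1698) .nil) (nat_lit 1234) (nat_lit 19384) (nat_lit 1682) (.node .nil (nat_lit
  1235) (nat_lit 17656) (nat_lit 1714) .nil)) (nat_lit 1236) (nat_lit 17848) (nat_lit 1689) (.node (.node .nil
  (nat_lit 1237) (nat_lit 20312) (nat_lit 1721) .nil) (nat_lit 1238) (nat_lit 19032) (nat_lit 1673) (.node
  .nil (nat_lit 1239) (nat_lit 3176) (nat_lit 1705) .nil))) (nat_lit 1240) (nat_lit 19000) (nat_lit 1716)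
  (.node (.node (.node .nil (nat_lit 1241) (nat_lit 2952) (nat_lit 1684) .nil) (nat_lit 1242) (nat_lit 17204)
  (nat_lit 221) (.node .nil (nat_lit 1243) (nat_lit 20008) (nat_lit 1668) .nil)) (nat_lit 1244) (nat_lit
  19912) (nat_lit 1711) (.node (.node .nil (nat_lit 1245) (nat_lit 16568) (nat_lit 1679) .nil) (nat_lit 1246)
  (nat_lit 3048) (nat_lit 1727) (.node .nil (nat_lit 1247) (nat_lit 18552) (nat_lit 1695) .nil))))) (nat_lit
  1248) (nat_lit 2856) (nat_lit 1665) (.node (.node (.node (.node (.node .nil (nat_lit 1249) (nat_lit 20728)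
  (nat_lit 1697) .nil) (nat_lit 1250) (nat_lit 18280) (nat_lit 1681) (.node .nil (nat_lit 1251) (nat_lit
  16248) (nat_lit 1713) .nil)) (nat_lit 1252) (nat_lit 17464) (nat_lit 1690) (.node (.node .nil (nat_lit 1253)
  (nat_lit 19576) (nat_lit 1722) .nil) (nat_lit 1254) (nat_lit 18856) (nat_lit 1674) (.node .nil (nat_lit
  1255) (nat_lit 2952) (nat_lit 1706) .nil))) (nat_lit 1256) (nat_lit 19077) (nat_lit 230) (.node (.node
  (.node .nil (nat_lit 1257) (nat_lit 3112) (nat_lit 1687) .nil) (nat_lit 1258) (nat_lit 17096) (nat_lit 1703)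
  (.node .nil (nat_lit 1259) (nat_lit 19240) (nat_lit 1671) .nil)) (nat_lit 1260) (nat_lit 19944) (nat_lit
  1708) (.node (.node .nil (nat_lit 1261) (nat_lit 17176) (nat_lit 1676) .nil) (nat_lit 1262) (nat_lit 2920)
  (nat_lit 1724) (.node .nil (nat_lit 1263) (nat_lit 20470) (nat_lit 1242) .nil)))) (nat_lit 1264) (nat_lit
  3253) (nat_lit 254) (.node (.node (.node (.node .nil (nat_lit 1265) (nat_lit 18920) (nat_lit 1699) .nil)
  (nat_lit 1266) (nat_lit 20808) (nat_lit 1683) (.node .nil (nat_lit 1267) (nat_lit 14920) (nat_lit 1715)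
  .nil)) (nat_lit 1268) (nat_lit 17016) (nat_lit 1688) (.node (.node .nil (nat_lit 1269) (nat_lit 20053)
  (nat_lit 251) .nil) (nat_lit 1270) (nat_lit 18680) (nat_lit 1672) (.node .nil (nat_lit 1271) (nat_lit 3208)
  (nat_lit 1704) .nil))) (nat_lit 1272) (nat_lit 18824) (nat_lit 1717) (.node (.node (.node .nil (nat_lit
  1273) (nat_lit 3236) (nat_lit 254) .nil) (nat_lit 1274) (nat_lit 16440) (nat_lit 1701) (.node .nil (nat_lit
  1275) (nat_lit 19720) (nat_lit 1669) .nil)) (nat_lit 1276) (nat_lit 20036) (nat_lit 251) (.node (.node .nil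
  (nat_lit 1277) (nat_lit 16120) (nat_lit 1678) .nil) (nat_lit 1278) (nat_lit 3080) (nat_lit 1726) (.node .nil
  (nat_lit 1279) (nat_lit 18584) (nat_lit 1694) .nil)))))))
def tJ0_10 : T := (.node (.node (.node (.node (.node (.node (.node .nil (nat_lit 1281) (nat_lit 647) (nat_lit
  1162) .nil) (nat_lit 1282) (nat_lit 983) (nat_lit 1167) (.node .nil (nat_lit 1283) (nat_lit 743) (nat_lit
  1157) .nil)) (nat_lit 1284) (nat_lit 2775) (nat_lit 1158) (.node (.node .nil (nat_lit 1285) (nat_lit 1063)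
  (nat_lit 1164) .nil) (nat_lit 1286) (nat_lit 3043) (nat_lit 1285) (.node .nil (nat_lit 1287) (nat_lit 2338)
  (nat_lit 262) .nil))) (nat_lit 1288) (nat_lit 4691) (nat_lit 267) (.node (.node (.node .nil (nat_lit 1289)
  (nat_lit 4311) (nat_lit 1153) .nil) (nat_lit 1290) (nat_lit 2935) (nat_lit 1156) (.node .nil (nat_lit 1291)
  (nat_lit 6007) (nat_lit 1166) .nil)) (nat_lit 1292) (nat_lit 7767) (nat_lit 1165) (.node (.node .nil
  (nat_lit 1293) (nat_lit 10279) (nat_lit 1159) .nil) (nat_lit 1294) (nat_lit 8055) (nat_lit 1154) (.node .nil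
  (nat_lit 1295) (nat_lit 6055) (nat_lit 1160) .nil)))) (nat_lit 1296) (nat_lit 6887) (nat_lit 1170) (.node
  (.node (.node (.node .nil (nat_lit 1297) (nat_lit 6071) (nat_lit 1176) .nil) (nat_lit 1298) (nat_lit 4375)
  (nat_lit 1181) (.node .nil (nat_lit 1299) (nat_lit 6129) (nat_lit 1290) .nil)) (nat_lit 1300) (nat_lit 7415)
  (nat_lit 1172) (.node (.node .nil (nat_lit 1301) (nat_lit 10327) (nat_lit 1182) .nil) (nat_lit 1302)
  (nat_lit 8279) (nat_lit 1179) (.node .nil (nat_lit 1303) (nat_lit 8903) (nat_lit 1169) .nil))) (nat_lit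
  1304) (nat_lit 775) (nat_lit 1177) (.node (.node (.node .nil (nat_lit 1305) (nat_lit 647) (nat_lit 1171)
  .nil) (nat_lit 1306) (nat_lit 567) (nat_lit 1174) (.node .nil (nat_lit 1307) (nat_lit 535) (nat_lit 1180)
  .nil)) (nat_lit 1308) (nat_lit 2743) (nat_lit 1183) (.node (.node .nil (nat_lit 1309) (nat_lit 2183)
  (nat_lit 1173) .nil) (nat_lit 1310) (nat_lit 2263) (nat_lit 1168) (.node .nil (nat_lit 1311) (nat_lit 1671)
  (nat_lit 1178) .nil))))) (nat_lit 1312) (nat_lit 8119) (nat_lit 1187) (.node (.node (.node (.node (.node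
  .nil (nat_lit 1313) (nat_lit 10336) (nat_lit 1295) .nil) (nat_lit 1314) (nat_lit 7479) (nat_lit 1196) (.node
  .nil (nat_lit 1315) (nat_lit 8135) (nat_lit 1190) .nil)) (nat_lit 1316) (nat_lit 5863) (nat_lit 1189) (.node
  (.node .nil (nat_lit 1317) (nat_lit 3991) (nat_lit 1199) .nil) (nat_lit 1318) (nat_lit 4903) (nat_lit 1194)
  (.node .nil (nat_lit 1319) (nat_lit 5095) (nat_lit 1184) .nil))) (nat_lit 1320) (nat_lit 1527) (nat_lit
  1192) (.node (.node (.node .nil (nat_lit 1321) (nat_lit 3826) (nat_lit 1320) .nil) (nat_lit 1322) (nat_lit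
  3175) (nat_lit 1191) (.node .nil (nat_lit 1323) (nat_lit 2695) (nat_lit 1197) .nil)) (nat_lit 1324) (nat_lit
  1111) (nat_lit 1198) (.node (.node .nil (nat_lit 1325) (nat_lit 999) (nat_lit 1188) .nil) (nat_lit 1326)
  (nat_lit 615) (nat_lit 1185) (.node .nil (nat_lit 1327) (nat_lit 1031) (nat_lit 1195) .nil)))) (nat_lit
  1328) (nat_lit 3591) (nat_lit 1201) (.node (.node (.node (.node .nil (nat_lit 1329) (nat_lit 2999) (nat_lit
  1211) .nil) (nat_lit 1330) (nat_lit 3527) (nat_lit 1214) (.node .nil (nat_lit 1331) (nat_lit 2967) (nat_lit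
  1204) .nil)) (nat_lit 1332) (nat_lit 807) (nat_lit 1207) (.node (.node .nil (nat_lit 1333) (nat_lit 951)
  (nat_lit 1213) .nil) (nat_lit 1334) (nat_lit 615) (nat_lit 1208) (.node .nil (nat_lit 1335) (nat_lit 999)
  (nat_lit 1202) .nil))) (nat_lit 1336) (nat_lit 10087) (nat_lit 1210) (.node (.node (.node .nil (nat_lit
  1337) (nat_lit 8295) (nat_lit 1200) .nil) (nat_lit 1338) (nat_lit 7703) (nat_lit 1205) (.node .nil (nat_lit
  1339) (nat_lit 8199) (nat_lit 1215) .nil)) (nat_lit 1340) (nat_lit 3751) (nat_lit 1212) (.node (.node .nil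
  (nat_lit 1341) (nat_lit 4551) (nat_lit 1206) .nil) (nat_lit 1342) (nat_lit 6855) (nat_lit 1203) (.node .nil
  (nat_lit 1343) (nat_lit 6551) (nat_lit 1209) .nil)))))) (nat_lit 1344) (nat_lit 2103) (nat_lit 1856) (.node
  (.node (.node (.node (.node (.node .nil (nat_lit 1345) (nat_lit 12871) (nat_lit 1866) .nil) (nat_lit 1346)
  (nat_lit 9079) (nat_lit 1871) (.node .nil (nat_lit 1347) (nat_lit 12887) (nat_lit 1861) .nil)) (nat_lit
  1348) (nat_lit 12631) (nat_lit 1862) (.node (.node .nil (nat_lit 1349) (nat_lit 2295) (nat_lit 1868) .nil)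
  (nat_lit 1350) (nat_lit 13847) (nat_lit 1865) (.node .nil (nat_lit 1351) (nat_lit 11351) (nat_lit 1859)
  .nil))) (nat_lit 1352) (nat_lit 9687) (nat_lit 1867) (.node (.node (.node .nil (nat_lit 1353) (nat_lit
  14583) (nat_lit 1857) .nil) (nat_lit 1354) (nat_lit 1831) (nat_lit 1860) (.node .nil (nat_lit 1355) (nat_lit
  12359) (nat_lit 1870) .nil)) (nat_lit 1356) (nat_lit 13335) (nat_lit 1869) (.node (.node .nil (nat_lit 1357)
  (nat_lit 10135) (nat_lit 1863) .nil) (nat_lit 1358) (nat_lit 14519) (nat_lit 1858) (.node .nil (nat_lit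
  1359) (nat_lit 1911) (nat_lit 1864) .nil)))) (nat_lit 1360) (nat_lit 12135) (nat_lit 1874) (.node (.node
  (.node (.node .nil (nat_lit 1361) (nat_lit 2103) (nat_lit 1880) .nil) (nat_lit 1362) (nat_lit 10855)
  (nat_lit 1885) (.node .nil (nat_lit 1363) (nat_lit 10864) (nat_lit 1393) .nil)) (nat_lit 1364) (nat_lit
  1943) (nat_lit 1876) (.node (.node .nil (nat_lit 1365) (nat_lit 12673) (nat_lit 324) .nil) (nat_lit 1366)
  (nat_lit 10263) (nat_lit 1883) (.node .nil (nat_lit 1367) (nat_lit 14151) (nat_lit 1873) .nil))) (nat_lit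
  1368) (nat_lit 11719) (nat_lit 1881) (.node (.node (.node .nil (nat_lit 1369) (nat_lit 9809) (nat_lit 328)
  .nil) (nat_lit 1370) (nat_lit 12087) (nat_lit 1878) (.node .nil (nat_lit 1371) (nat_lit 2210) (nat_lit 371)
  .nil)) (nat_lit 1372) (nat_lit 7831) (nat_lit 1887) (.node (.node .nil (nat_lit 1373) (nat_lit 13015)
  (nat_lit 1877) .nil) (nat_lit 1374) (nat_lit 2279) (nat_lit 1872) (.node .nil (nat_lit 1375) (nat_lit 13879)
  (nat_lit 1882) .nil))))) (nat_lit 1376) (nat_lit 9826) (nat_lit 328) (.node (.node (.node (.node (.node .nil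
  (nat_lit 1377) (nat_lit 14358) (nat_lit 1363) .nil) (nat_lit 1378) (nat_lit 2192) (nat_lit 320) (.node .nil
  (nat_lit 1379) (nat_lit 10567) (nat_lit 1894) .nil)) (nat_lit 1380) (nat_lit 11895) (nat_lit 1893) (.node
  (.node .nil (nat_lit 1381) (nat_lit 10231) (nat_lit 1903) .nil) (nat_lit 1382) (nat_lit 12656) (nat_lit 324)
  (.node .nil (nat_lit 1383) (nat_lit 1943) (nat_lit 1888) .nil))) (nat_lit 1384) (nat_lit 2210) (nat_lit 320)
  (.node (.node (.node .nil (nat_lit 1385) (nat_lit 13975) (nat_lit 1890) .nil) (nat_lit 1386) (nat_lit 9792)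
  (nat_lit 328) (.node .nil (nat_lit 1387) (nat_lit 13479) (nat_lit 1901) .nil)) (nat_lit 1388) (nat_lit
  11607) (nat_lit 1902) (.node (.node .nil (nat_lit 1389) (nat_lit 1879) (nat_lit 1892) .nil) (nat_lit 1390)
  (nat_lit 13488) (nat_lit 332) (.node .nil (nat_lit 1391) (nat_lit 9479) (nat_lit 1899) .nil)))) (nat_lit
  1392) (nat_lit 13638) (nat_lit 1376) (.node (.node (.node (.node .nil (nat_lit 1393) (nat_lit 6423) (nat_lit
  1915) .nil) (nat_lit 1394) (nat_lit 14081) (nat_lit 1379) (.node .nil (nat_lit 1395) (nat_lit 2071) (nat_lit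
  1908) .nil)) (nat_lit 1396) (nat_lit 7607) (nat_lit 1911) (.node (.node .nil (nat_lit 1397) (nat_lit 13159)
  (nat_lit 1917) .nil) (nat_lit 1398) (nat_lit 2183) (nat_lit 1912) (.node .nil (nat_lit 1399) (nat_lit 14039)
  (nat_lit 1906) .nil))) (nat_lit 1400) (nat_lit 11847) (nat_lit 1914) (.node (.node (.node .nil (nat_lit
  1401) (nat_lit 2039) (nat_lit 1904) .nil) (nat_lit 1402) (nat_lit 13895) (nat_lit 1909) (.node .nil (nat_lit
  1403) (nat_lit 9303) (nat_lit 1919) .nil)) (nat_lit 1404) (nat_lit 1911) (nat_lit 1916) (.node (.node .nil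
  (nat_lit 1405) (nat_lit 12535) (nat_lit 1910) .nil) (nat_lit 1406) (nat_lit 10615) (nat_lit 1907) (.node
  .nil (nat_lit 1407) (nat_lit 13558) (nat_lit 1386) .nil)))))))
def tJ0_11 : T := (.node (.node (.node (.node (.node (.node (.node .nil (nat_lit 1409) (nat_lit 20247)
  (nat_lit 1226) .nil) (nat_lit 1410) (nat_lit 21863) (nat_lit 1231) (.node .nil (nat_lit 1411) (nat_lit
  22743) (nat_lit 1221) .nil)) (nat_lit 1412) (nat_lit 22823) (nat_lit 1222) (.node (.node .nil (nat_lit 1413)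
  (nat_lit 21367) (nat_lit 1228) .nil) (nat_lit 1414) (nat_lit 3719) (nat_lit 1225) (.node .nil (nat_lit 1415)
  (nat_lit 17927) (nat_lit 1219) .nil))) (nat_lit 1416) (nat_lit 22567) (nat_lit 1227) (.node (.node (.node
  .nil (nat_lit 1417) (nat_lit 20775) (nat_lit 1217) .nil) (nat_lit 1418) (nat_lit 18407) (nat_lit 1220)
  (.node .nil (nat_lit 1419) (nat_lit 3655) (nat_lit 1230) .nil)) (nat_lit 1420) (nat_lit 20455) (nat_lit
  1229) (.node (.node .nil (nat_lit 1421) (nat_lit 3399) (nat_lit 1223) .nil) (nat_lit 1422) (nat_lit 20967)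
  (nat_lit 1218) (.node .nil (nat_lit 1423) (nat_lit 21335) (nat_lit 1224) .nil)))) (nat_lit 1424) (nat_lit
  22183) (nat_lit 1234) (.node (.node (.node (.node .nil (nat_lit 1425) (nat_lit 21927) (nat_lit 1240) .nil)
  (nat_lit 1426) (nat_lit 19751) (nat_lit 1245) (.node .nil (nat_lit 1427) (nat_lit 3687) (nat_lit 1239)
  .nil)) (nat_lit 1428) (nat_lit 20999) (nat_lit 1236) (.node (.node .nil (nat_lit 1429) (nat_lit 3559)
  (nat_lit 1246) .nil) (nat_lit 1430) (nat_lit 22551) (nat_lit 1243) (.node .nil (nat_lit 1431) (nat_lit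
  21271) (nat_lit 1233) .nil))) (nat_lit 1432) (nat_lit 3463) (nat_lit 1241) (.node (.node (.node .nil
  (nat_lit 1433) (nat_lit 20839) (nat_lit 1235) .nil) (nat_lit 1434) (nat_lit 21959) (nat_lit 1238) (.node
  .nil (nat_lit 1435) (nat_lit 22455) (nat_lit 1244) .nil)) (nat_lit 1436) (nat_lit 21511) (nat_lit 1247)
  (.node (.node .nil (nat_lit 1437) (nat_lit 22775) (nat_lit 1237) .nil) (nat_lit 1438) (nat_lit 3431)
  (nat_lit 1232) (.node .nil (nat_lit 1439) (nat_lit 20487) (nat_lit 1242) .nil))))) (nat_lit 1440) (nat_lit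
  19415) (nat_lit 1251) (.node (.node (.node (.node (.node .nil (nat_lit 1441) (nat_lit 3623) (nat_lit 1257)
  .nil) (nat_lit 1442) (nat_lit 22487) (nat_lit 1260) (.node .nil (nat_lit 1443) (nat_lit 21799) (nat_lit
  1254) .nil)) (nat_lit 1444) (nat_lit 22295) (nat_lit 1253) (.node (.node .nil (nat_lit 1445) (nat_lit 22839)
  (nat_lit 1263) .nil) (nat_lit 1446) (nat_lit 20343) (nat_lit 1258) (.node .nil (nat_lit 1447) (nat_lit 3367)
  (nat_lit 1248) .nil))) (nat_lit 1448) (nat_lit 22007) (nat_lit 1256) (.node (.node (.node .nil (nat_lit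
  1449) (nat_lit 21303) (nat_lit 1250) .nil) (nat_lit 1450) (nat_lit 3463) (nat_lit 1255) (.node .nil (nat_lit
  1451) (nat_lit 20423) (nat_lit 1261) .nil)) (nat_lit 1452) (nat_lit 3431) (nat_lit 1262) (.node (.node .nil
  (nat_lit 1453) (nat_lit 20695) (nat_lit 1252) .nil) (nat_lit 1454) (nat_lit 22887) (nat_lit 1249) (.node
  .nil (nat_lit 1455) (nat_lit 22119) (nat_lit 1259) .nil)))) (nat_lit 1456) (nat_lit 21847) (nat_lit 1265)
  (.node (.node (.node (.node .nil (nat_lit 1457) (nat_lit 22359) (nat_lit 1275) .nil) (nat_lit 1458) (nat_lit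
  3591) (nat_lit 1278) (.node .nil (nat_lit 1459) (nat_lit 20279) (nat_lit 1268) .nil)) (nat_lit 1460)
  (nat_lit 3719) (nat_lit 1271) (.node (.node .nil (nat_lit 1461) (nat_lit 19271) (nat_lit 1277) .nil)
  (nat_lit 1462) (nat_lit 21767) (nat_lit 1272) (.node .nil (nat_lit 1463) (nat_lit 22935) (nat_lit 1266)
  .nil))) (nat_lit 1464) (nat_lit 19607) (nat_lit 1274) (.node (.node (.node .nil (nat_lit 1465) (nat_lit
  3767) (nat_lit 1264) .nil) (nat_lit 1466) (nat_lit 22599) (nat_lit 1269) (.node .nil (nat_lit 1467) (nat_lit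
  21543) (nat_lit 1279) .nil)) (nat_lit 1468) (nat_lit 22583) (nat_lit 1276) (.node (.node .nil (nat_lit 1469)
  (nat_lit 21639) (nat_lit 1270) .nil) (nat_lit 1470) (nat_lit 18311) (nat_lit 1267) (.node .nil (nat_lit
  1471) (nat_lit 3751) (nat_lit 1273) .nil)))))) (nat_lit 1472) (nat_lit 3127) (nat_lit 1792) (.node (.node
  (.node (.node (.node (.node .nil (nat_lit 1473) (nat_lit 17960) (nat_lit 1504) .nil) (nat_lit 1474) (nat_lit
  19399) (nat_lit 1807) (.node .nil (nat_lit 1475) (nat_lit 16263) (nat_lit 1797) .nil)) (nat_lit 1476)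
  (nat_lit 18695) (nat_lit 1798) (.node (.node .nil (nat_lit 1477) (nat_lit 2903) (nat_lit 1804) .nil)
  (nat_lit 1478) (nat_lit 17479) (nat_lit 1801) (.node .nil (nat_lit 1479) (nat_lit 20327) (nat_lit 1795)
  .nil))) (nat_lit 1480) (nat_lit 20163) (nat_lit 491) (.node (.node (.node .nil (nat_lit 1481) (nat_lit
  17111) (nat_lit 1793) .nil) (nat_lit 1482) (nat_lit 3223) (nat_lit 1796) (.node .nil (nat_lit 1483) (nat_lit
  18839) (nat_lit 1806) .nil)) (nat_lit 1484) (nat_lit 17346) (nat_lit 509) (.node (.node .nil (nat_lit 1485)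
  (nat_lit 19927) (nat_lit 1799) .nil) (nat_lit 1486) (nat_lit 18599) (nat_lit 1794) (.node .nil (nat_lit
  1487) (nat_lit 3159) (nat_lit 1800) .nil)))) (nat_lit 1488) (nat_lit 17815) (nat_lit 1810) (.node (.node
  (.node (.node .nil (nat_lit 1489) (nat_lit 14935) (nat_lit 1816) .nil) (nat_lit 1490) (nat_lit 2935)
  (nat_lit 1821) (.node .nil (nat_lit 1491) (nat_lit 19111) (nat_lit 1815) .nil)) (nat_lit 1492) (nat_lit
  17047) (nat_lit 1812) (.node (.node .nil (nat_lit 1493) (nat_lit 20231) (nat_lit 1822) .nil) (nat_lit 1494)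
  (nat_lit 18871) (nat_lit 1819) (.node .nil (nat_lit 1495) (nat_lit 3191) (nat_lit 1809) .nil))) (nat_lit
  1496) (nat_lit 2967) (nat_lit 1817) (.node (.node (.node .nil (nat_lit 1497) (nat_lit 19127) (nat_lit 1811)
  .nil) (nat_lit 1498) (nat_lit 21175) (nat_lit 1814) (.node .nil (nat_lit 1499) (nat_lit 16455) (nat_lit
  1820) .nil)) (nat_lit 1500) (nat_lit 20551) (nat_lit 1823) (.node (.node .nil (nat_lit 1501) (nat_lit 3063)
  (nat_lit 1813) .nil) (nat_lit 1502) (nat_lit 16135) (nat_lit 1808) (.node .nil (nat_lit 1503) (nat_lit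
  18391) (nat_lit 1818) .nil))))) (nat_lit 1504) (nat_lit 14471) (nat_lit 1827) (.node (.node (.node (.node
  (.node .nil (nat_lit 1505) (nat_lit 20823) (nat_lit 1833) .nil) (nat_lit 1506) (nat_lit 18263) (nat_lit
  1836) (.node .nil (nat_lit 1507) (nat_lit 2871) (nat_lit 1830) .nil)) (nat_lit 1508) (nat_lit 20135)
  (nat_lit 1829) (.node (.node .nil (nat_lit 1509) (nat_lit 15095) (nat_lit 1839) .nil) (nat_lit 1510)
  (nat_lit 2967) (nat_lit 1834) (.node .nil (nat_lit 1511) (nat_lit 19170) (nat_lit 470) .nil))) (nat_lit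
  1512) (nat_lit 19152) (nat_lit 470) (.node (.node (.node .nil (nat_lit 1513) (nat_lit 3127) (nat_lit 1826)
  .nil) (nat_lit 1514) (nat_lit 16999) (nat_lit 1831) (.node .nil (nat_lit 1515) (nat_lit 19735) (nat_lit
  1837) .nil)) (nat_lit 1516) (nat_lit 2935) (nat_lit 1838) (.node (.node .nil (nat_lit 1517) (nat_lit 18567)
  (nat_lit 1828) .nil) (nat_lit 1518) (nat_lit 20087) (nat_lit 1825) (.node .nil (nat_lit 1519) (nat_lit
  18103) (nat_lit 1835) .nil)))) (nat_lit 1520) (nat_lit 17607) (nat_lit 1841) (.node (.node (.node (.node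
  .nil (nat_lit 1521) (nat_lit 3303) (nat_lit 1851) .nil) (nat_lit 1522) (nat_lit 17287) (nat_lit 1854) (.node
  .nil (nat_lit 1523) (nat_lit 18295) (nat_lit 1844) .nil)) (nat_lit 1524) (nat_lit 3223) (nat_lit 1847)
  (.node (.node .nil (nat_lit 1525) (nat_lit 20584) (nat_lit 1528) .nil) (nat_lit 1526) (nat_lit 19591)
  (nat_lit 1848) (.node .nil (nat_lit 1527) (nat_lit 17863) (nat_lit 1842) .nil))) (nat_lit 1528) (nat_lit
  17319) (nat_lit 1850) (.node (.node (.node .nil (nat_lit 1529) (nat_lit 19255) (nat_lit 1840) .nil) (nat_lit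
  1530) (nat_lit 18359) (nat_lit 1845) (.node .nil (nat_lit 1531) (nat_lit 3287) (nat_lit 1855) .nil))
  (nat_lit 1532) (nat_lit 19959) (nat_lit 1852) (.node (.node .nil (nat_lit 1533) (nat_lit 16583) (nat_lit
  1846) .nil) (nat_lit 1534) (nat_lit 3095) (nat_lit 1843) (.node .nil (nat_lit 1535) (nat_lit 18951) (nat_lit
  1849) .nil)))))))
def tJ0_12 : T := (.node (.node (.node (.node (.node (.node (.node .nil (nat_lit 1537) (nat_lit 6151) (nat_lit
  1290) .nil) (nat_lit 1538) (nat_lit 10359) (nat_lit 1295) (.node .nil (nat_lit 1539) (nat_lit 3063) (nat_lit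
  1285) .nil)) (nat_lit 1540) (nat_lit 6327) (nat_lit 1286) (.node (.node .nil (nat_lit 1541) (nat_lit 11863)
  (nat_lit 1292) .nil) (nat_lit 1542) (nat_lit 8071) (nat_lit 1289) (.node .nil (nat_lit 1543) (nat_lit 1367)
  (nat_lit 1283) .nil))) (nat_lit 1544) (nat_lit 10295) (nat_lit 1291) (.node (.node (.node .nil (nat_lit
  1545) (nat_lit 1223) (nat_lit 1281) .nil) (nat_lit 1546) (nat_lit 5927) (nat_lit 1284) (.node .nil (nat_lit
  1547) (nat_lit 12071) (nat_lit 1294) .nil)) (nat_lit 1548) (nat_lit 12785) (nat_lit 541) (.node (.node .nil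
  (nat_lit 1549) (nat_lit 5287) (nat_lit 1287) .nil) (nat_lit 1550) (nat_lit 1703) (nat_lit 1282) (.node .nil
  (nat_lit 1551) (nat_lit 8615) (nat_lit 1288) .nil)))) (nat_lit 1552) (nat_lit 8151) (nat_lit 1298) (.node
  (.node (.node (.node .nil (nat_lit 1553) (nat_lit 1415) (nat_lit 1304) .nil) (nat_lit 1554) (nat_lit 4935)
  (nat_lit 1309) (.node .nil (nat_lit 1555) (nat_lit 12759) (nat_lit 1303) .nil)) (nat_lit 1556) (nat_lit
  11559) (nat_lit 1300) (.node (.node .nil (nat_lit 1557) (nat_lit 5127) (nat_lit 1310) .nil) (nat_lit 1558)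
  (nat_lit 1063) (nat_lit 1307) (.node .nil (nat_lit 1559) (nat_lit 10375) (nat_lit 1297) .nil))) (nat_lit
  1560) (nat_lit 1223) (nat_lit 1305) (.node (.node (.node .nil (nat_lit 1561) (nat_lit 8657) (nat_lit 520)
  .nil) (nat_lit 1562) (nat_lit 11832) (nat_lit 1572) (.node .nil (nat_lit 1563) (nat_lit 5879) (nat_lit 1308)
  .nil)) (nat_lit 1564) (nat_lit 4055) (nat_lit 1311) (.node (.node .nil (nat_lit 1565) (nat_lit 12241)
  (nat_lit 524) .nil) (nat_lit 1566) (nat_lit 11143) (nat_lit 1296) (.node .nil (nat_lit 1567) (nat_lit 1111)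
  (nat_lit 1306) .nil))))) (nat_lit 1568) (nat_lit 10536) (nat_lit 1537) (.node (.node (.node (.node (.node
  .nil (nat_lit 1569) (nat_lit 6336) (nat_lit 1539) .nil) (nat_lit 1570) (nat_lit 1504) (nat_lit 512) (.node
  .nil (nat_lit 1571) (nat_lit 8999) (nat_lit 1318) .nil)) (nat_lit 1572) (nat_lit 7719) (nat_lit 1317) (.node
  (.node .nil (nat_lit 1573) (nat_lit 1523) (nat_lit 529) .nil) (nat_lit 1574) (nat_lit 5344) (nat_lit 516)
  (.node .nil (nat_lit 1575) (nat_lit 12103) (nat_lit 1312) .nil))) (nat_lit 1576) (nat_lit 3863) (nat_lit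
  1320) (.node (.node (.node .nil (nat_lit 1577) (nat_lit 11623) (nat_lit 1314) .nil) (nat_lit 1578) (nat_lit
  8640) (nat_lit 520) (.node .nil (nat_lit 1579) (nat_lit 1735) (nat_lit 1325) .nil)) (nat_lit 1580) (nat_lit
  1175) (nat_lit 1326) (.node (.node .nil (nat_lit 1581) (nat_lit 10167) (nat_lit 1316) .nil) (nat_lit 1582)
  (nat_lit 11592) (nat_lit 1596) (.node .nil (nat_lit 1583) (nat_lit 5799) (nat_lit 1323) .nil)))) (nat_lit
  1584) (nat_lit 5363) (nat_lit 516) (.node (.node (.node (.node .nil (nat_lit 1585) (nat_lit 12151) (nat_lit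
  1339) .nil) (nat_lit 1586) (nat_lit 10726) (nat_lit 1569) (.node .nil (nat_lit 1587) (nat_lit 1463) (nat_lit
  1332) .nil)) (nat_lit 1588) (nat_lit 1523) (nat_lit 512) (.node (.node .nil (nat_lit 1589) (nat_lit 8391)
  (nat_lit 1341) .nil) (nat_lit 1590) (nat_lit 13831) (nat_lit 1336) (.node .nil (nat_lit 1591) (nat_lit 7079)
  (nat_lit 1330) .nil))) (nat_lit 1592) (nat_lit 11799) (nat_lit 1338) (.node (.node (.node .nil (nat_lit
  1593) (nat_lit 7159) (nat_lit 1328) .nil) (nat_lit 1594) (nat_lit 1671) (nat_lit 1333) (.node .nil (nat_lit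
  1595) (nat_lit 9542) (nat_lit 1574) .nil)) (nat_lit 1596) (nat_lit 7431) (nat_lit 1340) (.node (.node .nil
  (nat_lit 1597) (nat_lit 1175) (nat_lit 1334) .nil) (nat_lit 1598) (nat_lit 6215) (nat_lit 1331) (.node .nil
  (nat_lit 1599) (nat_lit 12231) (nat_lit 1337) .nil)))))) (nat_lit 1600) (nat_lit 1495) (nat_lit 1728) (.node
  (.node (.node (.node (.node (.node .nil (nat_lit 1601) (nat_lit 10647) (nat_lit 1738) .nil) (nat_lit 1602)
  (nat_lit 8183) (nat_lit 1743) (.node .nil (nat_lit 1603) (nat_lit 6295) (nat_lit 1733) .nil)) (nat_lit 1604)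
  (nat_lit 8834) (nat_lit 629) (.node (.node .nil (nat_lit 1605) (nat_lit 5847) (nat_lit 1740) .nil) (nat_lit
  1606) (nat_lit 1143) (nat_lit 1737) (.node .nil (nat_lit 1607) (nat_lit 6536) (nat_lit 1643) .nil)))
  (nat_lit 1608) (nat_lit 5975) (nat_lit 1739) (.node (.node (.node .nil (nat_lit 1609) (nat_lit 9255)
  (nat_lit 1729) .nil) (nat_lit 1610) (nat_lit 9984) (nat_lit 612) (.node .nil (nat_lit 1611) (nat_lit 1687)
  (nat_lit 1742) .nil)) (nat_lit 1612) (nat_lit 7864) (nat_lit 1645) (.node (.node .nil (nat_lit 1613)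
  (nat_lit 1649) (nat_lit 596) .nil) (nat_lit 1614) (nat_lit 5175) (nat_lit 1730) (.node .nil (nat_lit 1615)
  (nat_lit 8423) (nat_lit 1736) .nil)))) (nat_lit 1616) (nat_lit 11175) (nat_lit 1746) (.node (.node (.node
  (.node .nil (nat_lit 1617) (nat_lit 6247) (nat_lit 1752) .nil) (nat_lit 1618) (nat_lit 1607) (nat_lit 1757)
  (.node .nil (nat_lit 1619) (nat_lit 10935) (nat_lit 1751) .nil)) (nat_lit 1620) (nat_lit 1447) (nat_lit
  1748) (.node (.node .nil (nat_lit 1621) (nat_lit 9127) (nat_lit 1758) .nil) (nat_lit 1622) (nat_lit 6199)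
  (nat_lit 1755) (.node .nil (nat_lit 1623) (nat_lit 7651) (nat_lit 1652) .nil))) (nat_lit 1624) (nat_lit
  7639) (nat_lit 1753) (.node (.node (.node .nil (nat_lit 1625) (nat_lit 1617) (nat_lit 576) .nil) (nat_lit
  1626) (nat_lit 6514) (nat_lit 1643) (.node .nil (nat_lit 1627) (nat_lit 7751) (nat_lit 1756) .nil)) (nat_lit
  1628) (nat_lit 5543) (nat_lit 1759) (.node (.node .nil (nat_lit 1629) (nat_lit 10967) (nat_lit 1749) .nil)
  (nat_lit 1630) (nat_lit 9144) (nat_lit 1663) (.node .nil (nat_lit 1631) (nat_lit 1767) (nat_lit 1754)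
  .nil))))) (nat_lit 1632) (nat_lit 7207) (nat_lit 1763) (.node (.node (.node (.node (.node .nil (nat_lit
  1633) (nat_lit 10583) (nat_lit 1769) .nil) (nat_lit 1634) (nat_lit 9943) (nat_lit 1772) (.node .nil (nat_lit
  1635) (nat_lit 1255) (nat_lit 1766) .nil)) (nat_lit 1636) (nat_lit 9895) (nat_lit 1765) (.node (.node .nil
  (nat_lit 1637) (nat_lit 1095) (nat_lit 1775) .nil) (nat_lit 1638) (nat_lit 6615) (nat_lit 1770) (.node .nil
  (nat_lit 1639) (nat_lit 8103) (nat_lit 1760) .nil))) (nat_lit 1640) (nat_lit 1495) (nat_lit 1768) (.node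
  (.node (.node .nil (nat_lit 1641) (nat_lit 10021) (nat_lit 612) .nil) (nat_lit 1642) (nat_lit 9031) (nat_lit
  1767) (.node .nil (nat_lit 1643) (nat_lit 3127) (nat_lit 1773) .nil)) (nat_lit 1644) (nat_lit 7463) (nat_lit
  1774) (.node (.node .nil (nat_lit 1645) (nat_lit 4119) (nat_lit 1764) .nil) (nat_lit 1646) (nat_lit 1207)
  (nat_lit 1761) (.node .nil (nat_lit 1647) (nat_lit 9912) (nat_lit 1628) .nil)))) (nat_lit 1648) (nat_lit
  10664) (nat_lit 1603) (.node (.node (.node (.node .nil (nat_lit 1649) (nat_lit 1399) (nat_lit 1787) .nil)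
  (nat_lit 1650) (nat_lit 6497) (nat_lit 1643) (.node .nil (nat_lit 1651) (nat_lit 8791) (nat_lit 1780) .nil))
  (nat_lit 1652) (nat_lit 3927) (nat_lit 1783) (.node (.node .nil (nat_lit 1653) (nat_lit 10311) (nat_lit
  1789) .nil) (nat_lit 1654) (nat_lit 7847) (nat_lit 1784) (.node .nil (nat_lit 1655) (nat_lit 1255) (nat_lit
  1778) .nil))) (nat_lit 1656) (nat_lit 8807) (nat_lit 1786) (.node (.node (.node .nil (nat_lit 1657) (nat_lit
  5667) (nat_lit 602) .nil) (nat_lit 1658) (nat_lit 1207) (nat_lit 1781) (.node .nil (nat_lit 1659) (nat_lit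
  10152) (nat_lit 1605) .nil)) (nat_lit 1660) (nat_lit 1815) (nat_lit 1788) (.node (.node .nil (nat_lit 1661)
  (nat_lit 6487) (nat_lit 1782) .nil) (nat_lit 1662) (nat_lit 11127) (nat_lit 1779) (.node .nil (nat_lit 1663)
  (nat_lit 4999) (nat_lit 1785) .nil)))))))
def tJ0_13 : T := (.node (.node (.node (.node (.node (.node (.node .nil (nat_lit 1665) (nat_lit 2343) (nat_lit
  1354) .nil) (nat_lit 1666) (nat_lit 2407) (nat_lit 1359) (.node .nil (nat_lit 1667) (nat_lit 2807) (nat_lit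
  1349) .nil)) (nat_lit 1668) (nat_lit 16834) (nat_lit 645) (.node (.node .nil (nat_lit 1669) (nat_lit 16535)
  (nat_lit 1356) .nil) (nat_lit 1670) (nat_lit 18071) (nat_lit 1353) (.node .nil (nat_lit 1671) (nat_lit
  16087) (nat_lit 1347) .nil))) (nat_lit 1672) (nat_lit 15495) (nat_lit 1355) (.node (.node (.node .nil
  (nat_lit 1673) (nat_lit 15891) (nat_lit 650) .nil) (nat_lit 1674) (nat_lit 15703) (nat_lit 1348) (.node .nil
  (nat_lit 1675) (nat_lit 18007) (nat_lit 1358) .nil)) (nat_lit 1676) (nat_lit 13715) (nat_lit 655) (.node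
  (.node .nil (nat_lit 1677) (nat_lit 14599) (nat_lit 1351) .nil) (nat_lit 1678) (nat_lit 12903) (nat_lit
  1346) (.node .nil (nat_lit 1679) (nat_lit 13351) (nat_lit 1352) .nil)))) (nat_lit 1680) (nat_lit 14327)
  (nat_lit 1362) (.node (.node (.node (.node .nil (nat_lit 1681) (nat_lit 14887) (nat_lit 1368) .nil) (nat_lit
  1682) (nat_lit 16215) (nat_lit 1373) (.node .nil (nat_lit 1683) (nat_lit 17623) (nat_lit 1367) .nil))
  (nat_lit 1684) (nat_lit 2439) (nat_lit 1364) (.node (.node .nil (nat_lit 1685) (nat_lit 2791) (nat_lit 1374)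
  .nil) (nat_lit 1686) (nat_lit 2695) (nat_lit 1371) (.node .nil (nat_lit 1687) (nat_lit 2599) (nat_lit 1361)
  .nil))) (nat_lit 1688) (nat_lit 13607) (nat_lit 1369) (.node (.node (.node .nil (nat_lit 1689) (nat_lit
  14375) (nat_lit 1363) .nil) (nat_lit 1690) (nat_lit 13927) (nat_lit 1366) (.node .nil (nat_lit 1691)
  (nat_lit 11911) (nat_lit 1372) .nil)) (nat_lit 1692) (nat_lit 17431) (nat_lit 1375) (.node (.node .nil
  (nat_lit 1693) (nat_lit 15799) (nat_lit 1365) .nil) (nat_lit 1694) (nat_lit 15287) (nat_lit 1360) (.node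
  .nil (nat_lit 1695) (nat_lit 15239) (nat_lit 1370) .nil))))) (nat_lit 1696) (nat_lit 14119) (nat_lit 1379)
  (.node (.node (.node (.node (.node .nil (nat_lit 1697) (nat_lit 17495) (nat_lit 1385) .nil) (nat_lit 1698)
  (nat_lit 14823) (nat_lit 1388) (.node .nil (nat_lit 1699) (nat_lit 15767) (nat_lit 1382) .nil)) (nat_lit
  1700) (nat_lit 13911) (nat_lit 1381) (.node (.node .nil (nat_lit 1701) (nat_lit 13175) (nat_lit 1391) .nil)
  (nat_lit 1702) (nat_lit 13575) (nat_lit 1386) (.node .nil (nat_lit 1703) (nat_lit 13655) (nat_lit 1376)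
  .nil))) (nat_lit 1704) (nat_lit 2695) (nat_lit 1384) (.node (.node (.node .nil (nat_lit 1705) (nat_lit 2663)
  (nat_lit 1378) .nil) (nat_lit 1706) (nat_lit 2439) (nat_lit 1383) (.node .nil (nat_lit 1707) (nat_lit 2375)
  (nat_lit 1389) .nil)) (nat_lit 1708) (nat_lit 16775) (nat_lit 1390) (.node (.node .nil (nat_lit 1709)
  (nat_lit 15047) (nat_lit 1380) .nil) (nat_lit 1710) (nat_lit 17831) (nat_lit 1377) (.node .nil (nat_lit
  1711) (nat_lit 16743) (nat_lit 1387) .nil)))) (nat_lit 1712) (nat_lit 10903) (nat_lit 1393) (.node (.node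
  (.node (.node .nil (nat_lit 1713) (nat_lit 13031) (nat_lit 1403) .nil) (nat_lit 1714) (nat_lit 14167)
  (nat_lit 1406) (.node .nil (nat_lit 1715) (nat_lit 11735) (nat_lit 1396) .nil)) (nat_lit 1716) (nat_lit
  15856) (nat_lit 650) (.node (.node .nil (nat_lit 1717) (nat_lit 15671) (nat_lit 1405) .nil) (nat_lit 1718)
  (nat_lit 14983) (nat_lit 1400) (.node .nil (nat_lit 1719) (nat_lit 17559) (nat_lit 1394) .nil))) (nat_lit
  1720) (nat_lit 17447) (nat_lit 1402) (.node (.node (.node .nil (nat_lit 1721) (nat_lit 17063) (nat_lit 1392)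
  .nil) (nat_lit 1722) (nat_lit 16407) (nat_lit 1397) (.node .nil (nat_lit 1723) (nat_lit 16951) (nat_lit
  1407) .nil)) (nat_lit 1724) (nat_lit 2407) (nat_lit 1404) (.node (.node .nil (nat_lit 1725) (nat_lit 2631)
  (nat_lit 1398) .nil) (nat_lit 1726) (nat_lit 2567) (nat_lit 1395) (.node .nil (nat_lit 1727) (nat_lit 2535)
  (nat_lit 1401) .nil)))))) (nat_lit 1728) (nat_lit 824) (nat_lit 1152) (.node (.node (.node (.node (.node
  (.node .nil (nat_lit 1729) (nat_lit 5112) (nat_lit 1184) .nil) (nat_lit 1730) (nat_lit 2280) (nat_lit 1168)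
  (.node .nil (nat_lit 1731) (nat_lit 5158) (nat_lit 1730) .nil)) (nat_lit 1732) (nat_lit 5830) (nat_lit 1740)
  (.node (.node .nil (nat_lit 1733) (nat_lit 3016) (nat_lit 1211) .nil) (nat_lit 1734) (nat_lit 5912) (nat_lit
  1163) (.node .nil (nat_lit 1735) (nat_lit 1048) (nat_lit 1195) .nil))) (nat_lit 1736) (nat_lit 4568)
  (nat_lit 1206) (.node (.node (.node .nil (nat_lit 1737) (nat_lit 584) (nat_lit 1174) .nil) (nat_lit 1738)
  (nat_lit 6278) (nat_lit 1733) (.node .nil (nat_lit 1739) (nat_lit 2792) (nat_lit 1158) .nil)) (nat_lit 1740)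
  (nat_lit 2712) (nat_lit 1197) (.node (.node .nil (nat_lit 1741) (nat_lit 5958) (nat_lit 1739) .nil) (nat_lit
  1742) (nat_lit 968) (nat_lit 1213) (.node .nil (nat_lit 1743) (nat_lit 4392) (nat_lit 1181) .nil))))
  (nat_lit 1744) (nat_lit 5766) (nat_lit 1776) (.node (.node (.node (.node .nil (nat_lit 1745) (nat_lit 4225)
  (nat_lit 752) .nil) (nat_lit 1746) (nat_lit 6904) (nat_lit 1170) (.node .nil (nat_lit 1747) (nat_lit 1016)
  (nat_lit 1202) .nil)) (nat_lit 1748) (nat_lit 792) (nat_lit 1177) (.node (.node .nil (nat_lit 1749) (nat_lit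
  6568) (nat_lit 1209) .nil) (nat_lit 1750) (nat_lit 3889) (nat_lit 1783) (.node .nil (nat_lit 1751) (nat_lit
  6465) (nat_lit 1782) .nil))) (nat_lit 1752) (nat_lit 2984) (nat_lit 1204) (.node (.node (.node .nil (nat_lit
  1753) (nat_lit 3910) (nat_lit 1783) .nil) (nat_lit 1754) (nat_lit 1016) (nat_lit 1188) (.node .nil (nat_lit
  1755) (nat_lit 2952) (nat_lit 1156) .nil)) (nat_lit 1756) (nat_lit 4008) (nat_lit 1199) (.node (.node .nil
  (nat_lit 1757) (nat_lit 868) (nat_lit 724) .nil) (nat_lit 1758) (nat_lit 4982) (nat_lit 1785) (.node .nil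
  (nat_lit 1759) (nat_lit 2420) (nat_lit 726) .nil))))) (nat_lit 1760) (nat_lit 4328) (nat_lit 1153) (.node
  (.node (.node (.node (.node .nil (nat_lit 1761) (nat_lit 632) (nat_lit 1185) .nil) (nat_lit 1762) (nat_lit
  8006) (nat_lit 1745) (.node .nil (nat_lit 1763) (nat_lit 3608) (nat_lit 1201) .nil)) (nat_lit 1764) (nat_lit
  1688) (nat_lit 1178) (.node (.node .nil (nat_lit 1765) (nat_lit 5526) (nat_lit 1759) .nil) (nat_lit 1766)
  (nat_lit 664) (nat_lit 1162) (.node .nil (nat_lit 1767) (nat_lit 4920) (nat_lit 1194) .nil))) (nat_lit 1768)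
  (nat_lit 824) (nat_lit 1207) (.node (.node (.node .nil (nat_lit 1769) (nat_lit 6176) (nat_lit 1755) .nil)
  (nat_lit 1770) (nat_lit 3192) (nat_lit 1191) (.node .nil (nat_lit 1771) (nat_lit 7622) (nat_lit 1750) .nil))
  (nat_lit 1772) (nat_lit 5605) (nat_lit 747) (.node (.node .nil (nat_lit 1773) (nat_lit 1080) (nat_lit 1164)
  .nil) (nat_lit 1774) (nat_lit 3768) (nat_lit 1212) (.node .nil (nat_lit 1775) (nat_lit 552) (nat_lit 1180)
  .nil)))) (nat_lit 1776) (nat_lit 2648) (nat_lit 1155) (.node (.node (.node (.node .nil (nat_lit 1777)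
  (nat_lit 7190) (nat_lit 1763) .nil) (nat_lit 1778) (nat_lit 664) (nat_lit 1171) (.node .nil (nat_lit 1779)
  (nat_lit 6872) (nat_lit 1203) .nil)) (nat_lit 1780) (nat_lit 4756) (nat_lit 765) (.node (.node .nil (nat_lit
  1781) (nat_lit 632) (nat_lit 1208) .nil) (nat_lit 1782) (nat_lit 3110) (nat_lit 1773) (.node .nil (nat_lit
  1783) (nat_lit 1544) (nat_lit 1192) .nil))) (nat_lit 1784) (nat_lit 4102) (nat_lit 1764) (.node (.node
  (.node .nil (nat_lit 1785) (nat_lit 2200) (nat_lit 1173) .nil) (nat_lit 1786) (nat_lit 4773) (nat_lit 765)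
  (.node .nil (nat_lit 1787) (nat_lit 760) (nat_lit 1157) .nil)) (nat_lit 1788) (nat_lit 1061) (nat_lit 763)
  (.node (.node .nil (nat_lit 1789) (nat_lit 6024) (nat_lit 1166) .nil) (nat_lit 1790) (nat_lit 3544) (nat_lit
  1214) (.node .nil (nat_lit 1791) (nat_lit 6598) (nat_lit 1770) .nil)))))))
def tJ0_14 : T := (.node (.node (.node (.node (.node (.node (.node .nil (nat_lit 1793) (nat_lit 13672)
  (nat_lit 1376) .nil) (nat_lit 1794) (nat_lit 15304) (nat_lit 1360) (.node .nil (nat_lit 1795) (nat_lit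
  17080) (nat_lit 1392) .nil)) (nat_lit 1796) (nat_lit 2712) (nat_lit 1371) (.node (.node .nil (nat_lit 1797)
  (nat_lit 13048) (nat_lit 1403) .nil) (nat_lit 1798) (nat_lit 15512) (nat_lit 1355) (.node .nil (nat_lit
  1799) (nat_lit 16760) (nat_lit 1387) .nil))) (nat_lit 1800) (nat_lit 2648) (nat_lit 1398) (.node (.node
  (.node .nil (nat_lit 1801) (nat_lit 13944) (nat_lit 1366) .nil) (nat_lit 1802) (nat_lit 15784) (nat_lit
  1382) (.node .nil (nat_lit 1803) (nat_lit 17416) (nat_lit 1350) .nil)) (nat_lit 1804) (nat_lit 2392)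
  (nat_lit 1389) (.node (.node .nil (nat_lit 1805) (nat_lit 13864) (nat_lit 1357) .nil) (nat_lit 1806)
  (nat_lit 15688) (nat_lit 1405) (.node .nil (nat_lit 1807) (nat_lit 16232) (nat_lit 1373) .nil)))) (nat_lit
  1808) (nat_lit 12920) (nat_lit 1346) (.node (.node (.node (.node .nil (nat_lit 1809) (nat_lit 2680) (nat_lit
  1378) .nil) (nat_lit 1810) (nat_lit 14344) (nat_lit 1362) (.node .nil (nat_lit 1811) (nat_lit 15937)
  (nat_lit 795) .nil)) (nat_lit 1812) (nat_lit 13624) (nat_lit 1369) (.node (.node .nil (nat_lit 1813)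
  (nat_lit 2552) (nat_lit 1401) .nil) (nat_lit 1814) (nat_lit 18088) (nat_lit 1353) (.node .nil (nat_lit 1815)
  (nat_lit 15920) (nat_lit 795) .nil))) (nat_lit 1816) (nat_lit 11752) (nat_lit 1396) (.node (.node (.node
  .nil (nat_lit 1817) (nat_lit 2456) (nat_lit 1364) .nil) (nat_lit 1818) (nat_lit 15064) (nat_lit 1380) (.node
  .nil (nat_lit 1819) (nat_lit 15720) (nat_lit 1348) .nil)) (nat_lit 1820) (nat_lit 13192) (nat_lit 1391)
  (.node (.node .nil (nat_lit 1821) (nat_lit 2424) (nat_lit 1359) .nil) (nat_lit 1822) (nat_lit 16968)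
  (nat_lit 1407) (.node .nil (nat_lit 1823) (nat_lit 17302) (nat_lit 1850) .nil))))) (nat_lit 1824) (nat_lit
  16072) (nat_lit 1345) (.node (.node (.node (.node (.node .nil (nat_lit 1825) (nat_lit 16864) (nat_lit 813)
  .nil) (nat_lit 1826) (nat_lit 2616) (nat_lit 1361) (.node .nil (nat_lit 1827) (nat_lit 10920) (nat_lit 1393)
  .nil)) (nat_lit 1828) (nat_lit 15256) (nat_lit 1370) (.node (.node .nil (nat_lit 1829) (nat_lit 16917)
  (nat_lit 813) .nil) (nat_lit 1830) (nat_lit 2360) (nat_lit 1354) (.node .nil (nat_lit 1831) (nat_lit 13592)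
  (nat_lit 1386) .nil))) (nat_lit 1832) (nat_lit 17030) (nat_lit 1812) (.node (.node (.node .nil (nat_lit
  1833) (nat_lit 17640) (nat_lit 1367) .nil) (nat_lit 1834) (nat_lit 2456) (nat_lit 1383) (.node .nil (nat_lit
  1835) (nat_lit 14616) (nat_lit 1351) .nil)) (nat_lit 1836) (nat_lit 14840) (nat_lit 1388) (.node (.node .nil
  (nat_lit 1837) (nat_lit 16552) (nat_lit 1356) .nil) (nat_lit 1838) (nat_lit 2424) (nat_lit 1404) (.node .nil
  (nat_lit 1839) (nat_lit 11928) (nat_lit 1372) .nil)))) (nat_lit 1840) (nat_lit 16104) (nat_lit 1347) (.node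
  (.node (.node (.node .nil (nat_lit 1841) (nat_lit 14136) (nat_lit 1379) .nil) (nat_lit 1842) (nat_lit 14392)
  (nat_lit 1363) (.node .nil (nat_lit 1843) (nat_lit 2584) (nat_lit 1395) .nil)) (nat_lit 1844) (nat_lit
  14904) (nat_lit 1368) (.node (.node .nil (nat_lit 1845) (nat_lit 15000) (nat_lit 1400) .nil) (nat_lit 1846)
  (nat_lit 13368) (nat_lit 1352) (.node .nil (nat_lit 1847) (nat_lit 2712) (nat_lit 1384) .nil))) (nat_lit
  1848) (nat_lit 16424) (nat_lit 1397) (.node (.node (.node .nil (nat_lit 1849) (nat_lit 15816) (nat_lit 1365)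
  .nil) (nat_lit 1850) (nat_lit 13780) (nat_lit 822) (.node .nil (nat_lit 1851) (nat_lit 2753) (nat_lit 819)
  .nil)) (nat_lit 1852) (nat_lit 16792) (nat_lit 1390) (.node (.node .nil (nat_lit 1853) (nat_lit 18024)
  (nat_lit 1358) .nil) (nat_lit 1854) (nat_lit 13761) (nat_lit 822) (.node .nil (nat_lit 1855) (nat_lit 2736)
  (nat_lit 819) .nil)))))) (nat_lit 1856) (nat_lit 1480) (nat_lit 1280) (.node (.node (.node (.node (.node
  (.node .nil (nat_lit 1857) (nat_lit 11334) (nat_lit 1859) .nil) (nat_lit 1858) (nat_lit 11160) (nat_lit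
  1296) (.node .nil (nat_lit 1859) (nat_lit 7176) (nat_lit 1328) .nil)) (nat_lit 1860) (nat_lit 1080) (nat_lit
  1307) (.node (.node .nil (nat_lit 1861) (nat_lit 9062) (nat_lit 1871) .nil) (nat_lit 1862) (nat_lit 8721)
  (nat_lit 838) (.node .nil (nat_lit 1863) (nat_lit 5816) (nat_lit 1323) .nil))) (nat_lit 1864) (nat_lit 1192)
  (nat_lit 1334) (.node (.node (.node .nil (nat_lit 1865) (nat_lit 10118) (nat_lit 1863) .nil) (nat_lit 1866)
  (nat_lit 9016) (nat_lit 1318) (.node .nil (nat_lit 1867) (nat_lit 5408) (nat_lit 843) .nil)) (nat_lit 1868)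
  (nat_lit 1752) (nat_lit 1325) (.node (.node .nil (nat_lit 1869) (nat_lit 9670) (nat_lit 1867) .nil) (nat_lit
  1870) (nat_lit 8408) (nat_lit 1341) (.node .nil (nat_lit 1871) (nat_lit 4952) (nat_lit 1309) .nil))))
  (nat_lit 1872) (nat_lit 1720) (nat_lit 1282) (.node (.node (.node (.node .nil (nat_lit 1873) (nat_lit 10598)
  (nat_lit 1907) .nil) (nat_lit 1874) (nat_lit 8168) (nat_lit 1298) (.node .nil (nat_lit 1875) (nat_lit 7096)
  (nat_lit 1330) .nil)) (nat_lit 1876) (nat_lit 1240) (nat_lit 1305) (.node (.node .nil (nat_lit 1877)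
  (nat_lit 9286) (nat_lit 1919) .nil) (nat_lit 1878) (nat_lit 8088) (nat_lit 1289) (.node .nil (nat_lit 1879)
  (nat_lit 7528) (nat_lit 1321) .nil))) (nat_lit 1880) (nat_lit 1480) (nat_lit 1332) (.node (.node (.node .nil
  (nat_lit 1881) (nat_lit 7590) (nat_lit 1911) .nil) (nat_lit 1882) (nat_lit 10184) (nat_lit 1316) (.node .nil
  (nat_lit 1883) (nat_lit 5944) (nat_lit 1284) .nil)) (nat_lit 1884) (nat_lit 1784) (nat_lit 1327) (.node
  (.node .nil (nat_lit 1885) (nat_lit 6406) (nat_lit 1915) .nil) (nat_lit 1886) (nat_lit 10952) (nat_lit 1343)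
  (.node .nil (nat_lit 1887) (nat_lit 4072) (nat_lit 1311) .nil))))) (nat_lit 1888) (nat_lit 1240) (nat_lit
  1281) (.node (.node (.node (.node (.node .nil (nat_lit 1889) (nat_lit 11302) (nat_lit 1875) .nil) (nat_lit
  1890) (nat_lit 10392) (nat_lit 1297) (.node .nil (nat_lit 1891) (nat_lit 6264) (nat_lit 1329) .nil))
  (nat_lit 1892) (nat_lit 1128) (nat_lit 1306) (.node (.node .nil (nat_lit 1893) (nat_lit 7814) (nat_lit 1887)
  .nil) (nat_lit 1894) (nat_lit 6168) (nat_lit 1290) (.node .nil (nat_lit 1895) (nat_lit 6584) (nat_lit 1322)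
  .nil))) (nat_lit 1896) (nat_lit 1752) (nat_lit 1335) (.node (.node (.node .nil (nat_lit 1897) (nat_lit
  11654) (nat_lit 1879) .nil) (nat_lit 1898) (nat_lit 9240) (nat_lit 1319) (.node .nil (nat_lit 1899) (nat_lit
  5304) (nat_lit 1287) .nil)) (nat_lit 1900) (nat_lit 1848) (nat_lit 1324) (.node (.node .nil (nat_lit 1901)
  (nat_lit 9763) (nat_lit 845) .nil) (nat_lit 1902) (nat_lit 7448) (nat_lit 1340) (.node .nil (nat_lit 1903)
  (nat_lit 5896) (nat_lit 1308) .nil)))) (nat_lit 1904) (nat_lit 1384) (nat_lit 1283) (.node (.node (.node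
  (.node .nil (nat_lit 1905) (nat_lit 10630) (nat_lit 1891) .nil) (nat_lit 1906) (nat_lit 10488) (nat_lit
  1299) (.node .nil (nat_lit 1907) (nat_lit 6232) (nat_lit 1331) .nil)) (nat_lit 1908) (nat_lit 1432) (nat_lit
  1304) (.node (.node .nil (nat_lit 1909) (nat_lit 10214) (nat_lit 1903) .nil) (nat_lit 1910) (nat_lit 8632)
  (nat_lit 1288) (.node .nil (nat_lit 1911) (nat_lit 3880) (nat_lit 1320) .nil))) (nat_lit 1912) (nat_lit
  1557) (nat_lit 884) (.node (.node (.node .nil (nat_lit 1913) (nat_lit 10982) (nat_lit 1895) .nil) (nat_lit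
  1914) (nat_lit 7736) (nat_lit 1317) (.node .nil (nat_lit 1915) (nat_lit 3080) (nat_lit 1285) .nil)) (nat_lit
  1916) (nat_lit 1192) (nat_lit 1326) (.node (.node .nil (nat_lit 1917) (nat_lit 9462) (nat_lit 1899) .nil)
  (nat_lit 1918) (nat_lit 11112) (nat_lit 1342) (.node .nil (nat_lit 1919) (nat_lit 5144) (nat_lit 1310)
  .nil)))))))
def tJ0_15 : T := (.node (.node (.node (.node (.node (.node (.node .nil (nat_lit 1921) (nat_lit 3735) (nat_lit
  1482) .nil) (nat_lit 1922) (nat_lit 3671) (nat_lit 1487) (.node .nil (nat_lit 1923) (nat_lit 3415) (nat_lit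
  1477) .nil)) (nat_lit 1924) (nat_lit 20711) (nat_lit 1478) (.node (.node .nil (nat_lit 1925) (nat_lit 20615)
  (nat_lit 1484) .nil) (nat_lit 1926) (nat_lit 20359) (nat_lit 1481) (.node .nil (nat_lit 1927) (nat_lit
  19431) (nat_lit 1475) .nil))) (nat_lit 1928) (nat_lit 21783) (nat_lit 1483) (.node (.node (.node .nil
  (nat_lit 1929) (nat_lit 21111) (nat_lit 1473) .nil) (nat_lit 1930) (nat_lit 21655) (nat_lit 1476) (.node
  .nil (nat_lit 1931) (nat_lit 21559) (nat_lit 1486) .nil)) (nat_lit 1932) (nat_lit 22471) (nat_lit 1485)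
  (.node (.node .nil (nat_lit 1933) (nat_lit 22791) (nat_lit 1479) .nil) (nat_lit 1934) (nat_lit 22199)
  (nat_lit 1474) (.node .nil (nat_lit 1935) (nat_lit 22695) (nat_lit 1480) .nil)))) (nat_lit 1936) (nat_lit
  3447) (nat_lit 1490) (.node (.node (.node (.node .nil (nat_lit 1937) (nat_lit 3479) (nat_lit 1496) .nil)
  (nat_lit 1938) (nat_lit 3575) (nat_lit 1501) (.node .nil (nat_lit 1939) (nat_lit 3703) (nat_lit 1495) .nil))
  (nat_lit 1940) (nat_lit 20295) (nat_lit 1492) (.node (.node .nil (nat_lit 1941) (nat_lit 19287) (nat_lit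
  1502) .nil) (nat_lit 1942) (nat_lit 19623) (nat_lit 1499) (.node .nil (nat_lit 1943) (nat_lit 18327)
  (nat_lit 1489) .nil))) (nat_lit 1944) (nat_lit 22039) (nat_lit 1497) (.node (.node (.node .nil (nat_lit
  1945) (nat_lit 22023) (nat_lit 1491) .nil) (nat_lit 1946) (nat_lit 21400) (nat_lit 1956) (.node .nil
  (nat_lit 1947) (nat_lit 22855) (nat_lit 1500) .nil)) (nat_lit 1948) (nat_lit 21383) (nat_lit 1503) (.node
  (.node .nil (nat_lit 1949) (nat_lit 22759) (nat_lit 1493) .nil) (nat_lit 1950) (nat_lit 20983) (nat_lit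
  1488) (.node .nil (nat_lit 1951) (nat_lit 22705) (nat_lit 943) .nil))))) (nat_lit 1952) (nat_lit 3383)
  (nat_lit 1507) (.node (.node (.node (.node (.node .nil (nat_lit 1953) (nat_lit 3639) (nat_lit 1513) .nil)
  (nat_lit 1954) (nat_lit 3447) (nat_lit 1516) (.node .nil (nat_lit 1955) (nat_lit 3479) (nat_lit 1510) .nil))
  (nat_lit 1956) (nat_lit 18423) (nat_lit 1509) (.node (.node .nil (nat_lit 1957) (nat_lit 20624) (nat_lit
  949) .nil) (nat_lit 1958) (nat_lit 20263) (nat_lit 1514) (.node .nil (nat_lit 1959) (nat_lit 17943) (nat_lit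
  1504) .nil))) (nat_lit 1960) (nat_lit 22071) (nat_lit 1512) (.node (.node (.node .nil (nat_lit 1961)
  (nat_lit 21287) (nat_lit 1506) .nil) (nat_lit 1962) (nat_lit 21096) (nat_lit 1959) (.node .nil (nat_lit
  1963) (nat_lit 21527) (nat_lit 1517) .nil)) (nat_lit 1964) (nat_lit 22615) (nat_lit 1518) (.node (.node .nil
  (nat_lit 1965) (nat_lit 22663) (nat_lit 1508) .nil) (nat_lit 1966) (nat_lit 22951) (nat_lit 1505) (.node
  .nil (nat_lit 1967) (nat_lit 22375) (nat_lit 1515) .nil)))) (nat_lit 1968) (nat_lit 3799) (nat_lit 1521)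
  (.node (.node (.node (.node .nil (nat_lit 1969) (nat_lit 3783) (nat_lit 1531) .nil) (nat_lit 1970) (nat_lit
  3607) (nat_lit 1534) (.node .nil (nat_lit 1971) (nat_lit 3735) (nat_lit 1524) .nil)) (nat_lit 1972) (nat_lit
  21015) (nat_lit 1527) (.node (.node .nil (nat_lit 1973) (nat_lit 19767) (nat_lit 1533) .nil) (nat_lit 1974)
  (nat_lit 20567) (nat_lit 1528) (.node .nil (nat_lit 1975) (nat_lit 20535) (nat_lit 1522) .nil))) (nat_lit
  1976) (nat_lit 21351) (nat_lit 1530) (.node (.node (.node .nil (nat_lit 1977) (nat_lit 20791) (nat_lit 1520)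
  .nil) (nat_lit 1978) (nat_lit 22871) (nat_lit 1525) (.node .nil (nat_lit 1979) (nat_lit 21879) (nat_lit
  1535) .nil)) (nat_lit 1980) (nat_lit 22503) (nat_lit 1532) (.node (.node .nil (nat_lit 1981) (nat_lit 22311)
  (nat_lit 1526) .nil) (nat_lit 1982) (nat_lit 21319) (nat_lit 1523) (.node .nil (nat_lit 1983) (nat_lit
  22135) (nat_lit 1529) .nil)))))) (nat_lit 1984) (nat_lit 2087) (nat_lit 1536) (.node (.node (.node (.node
  (.node (.node .nil (nat_lit 1985) (nat_lit 10247) (nat_lit 1546) .nil) (nat_lit 1986) (nat_lit 12519)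
  (nat_lit 1551) (.node .nil (nat_lit 1987) (nat_lit 15015) (nat_lit 1541) .nil)) (nat_lit 1988) (nat_lit
  11880) (nat_lit 2011) (.node (.node .nil (nat_lit 1989) (nat_lit 16007) (nat_lit 1548) .nil) (nat_lit 1990)
  (nat_lit 1927) (nat_lit 1545) (.node .nil (nat_lit 1991) (nat_lit 6359) (nat_lit 1539) .nil))) (nat_lit
  1992) (nat_lit 15030) (nat_lit 1988) (.node (.node (.node .nil (nat_lit 1993) (nat_lit 10519) (nat_lit 1537)
  .nil) (nat_lit 1994) (nat_lit 10711) (nat_lit 1540) (.node .nil (nat_lit 1995) (nat_lit 2144) (nat_lit 983)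
  .nil)) (nat_lit 1996) (nat_lit 9447) (nat_lit 1549) (.node (.node .nil (nat_lit 1997) (nat_lit 2023)
  (nat_lit 1543) .nil) (nat_lit 1998) (nat_lit 13959) (nat_lit 1538) (.node .nil (nat_lit 1999) (nat_lit
  13000) (nat_lit 2013) .nil)))) (nat_lit 2000) (nat_lit 9047) (nat_lit 1554) (.node (.node (.node (.node .nil
  (nat_lit 2001) (nat_lit 1927) (nat_lit 1560) .nil) (nat_lit 2002) (nat_lit 15415) (nat_lit 1565) (.node .nil
  (nat_lit 2003) (nat_lit 12592) (nat_lit 975) .nil)) (nat_lit 2004) (nat_lit 14791) (nat_lit 1556) (.node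
  (.node .nil (nat_lit 2005) (nat_lit 13288) (nat_lit 2041) .nil) (nat_lit 2006) (nat_lit 10199) (nat_lit
  1563) (.node .nil (nat_lit 2007) (nat_lit 2055) (nat_lit 1553) .nil))) (nat_lit 2008) (nat_lit 12567)
  (nat_lit 1561) (.node (.node (.node .nil (nat_lit 2009) (nat_lit 14870) (nat_lit 2039) .nil) (nat_lit 2010)
  (nat_lit 1815) (nat_lit 1558) (.node .nil (nat_lit 2011) (nat_lit 7799) (nat_lit 1564) .nil)) (nat_lit 2012)
  (nat_lit 1847) (nat_lit 1567) (.node (.node .nil (nat_lit 2013) (nat_lit 9271) (nat_lit 1557) .nil) (nat_lit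
  2014) (nat_lit 12119) (nat_lit 1552) (.node .nil (nat_lit 2015) (nat_lit 14967) (nat_lit 1562) .nil)))))
  (nat_lit 2016) (nat_lit 12855) (nat_lit 1571) (.node (.node (.node (.node (.node .nil (nat_lit 2017)
  (nat_lit 14855) (nat_lit 1577) .nil) (nat_lit 2018) (nat_lit 1895) (nat_lit 1580) (.node .nil (nat_lit 2019)
  (nat_lit 9559) (nat_lit 1574) .nil)) (nat_lit 2020) (nat_lit 2135) (nat_lit 1573) (.node (.node .nil
  (nat_lit 2021) (nat_lit 10103) (nat_lit 1583) .nil) (nat_lit 2022) (nat_lit 12551) (nat_lit 1578) (.node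
  .nil (nat_lit 2023) (nat_lit 14055) (nat_lit 1568) .nil))) (nat_lit 2024) (nat_lit 7559) (nat_lit 1576)
  (.node (.node (.node .nil (nat_lit 2025) (nat_lit 2119) (nat_lit 1570) .nil) (nat_lit 2026) (nat_lit 15271)
  (nat_lit 1575) (.node .nil (nat_lit 2027) (nat_lit 10776) (nat_lit 1991) .nil)) (nat_lit 2028) (nat_lit
  14807) (nat_lit 1582) (.node (.node .nil (nat_lit 2029) (nat_lit 11815) (nat_lit 1572) .nil) (nat_lit 2030)
  (nat_lit 10743) (nat_lit 1569) (.node .nil (nat_lit 2031) (nat_lit 2161) (nat_lit 983) .nil)))) (nat_lit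
  2032) (nat_lit 15319) (nat_lit 1585) (.node (.node (.node (.node .nil (nat_lit 2033) (nat_lit 13271)
  (nat_lit 1595) .nil) (nat_lit 2034) (nat_lit 9601) (nat_lit 970) (.node .nil (nat_lit 2035) (nat_lit 2135)
  (nat_lit 1588) .nil)) (nat_lit 2036) (nat_lit 11287) (nat_lit 1591) (.node (.node .nil (nat_lit 2037)
  (nat_lit 1895) (nat_lit 1597) .nil) (nat_lit 2038) (nat_lit 14951) (nat_lit 1592) (.node .nil (nat_lit 2039)
  (nat_lit 11688) (nat_lit 2024) .nil))) (nat_lit 2040) (nat_lit 2263) (nat_lit 1594) (.node (.node (.node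
  .nil (nat_lit 2041) (nat_lit 9575) (nat_lit 1584) .nil) (nat_lit 2042) (nat_lit 12343) (nat_lit 1589) (.node
  .nil (nat_lit 2043) (nat_lit 15399) (nat_lit 1599) .nil)) (nat_lit 2044) (nat_lit 11575) (nat_lit 1596)
  (.node (.node .nil (nat_lit 2045) (nat_lit 14230) (nat_lit 2027) .nil) (nat_lit 2046) (nat_lit 2087)
  (nat_lit 1587) (.node .nil (nat_lit 2047) (nat_lit 11319) (nat_lit 1593) .nil)))))))
def tJ0 : T := (.node (.node (.node (.node tJ0_0 (nat_lit 128) (nat_lit 103) (nat_lit 64) tJ0_1) (nat_lit 256)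
  (nat_lit 391) (nat_lit 128) (.node tJ0_2 (nat_lit 384) (nat_lit 3271) (nat_lit 192) tJ0_3)) (nat_lit 512)
  (nat_lit 839) (nat_lit 256) (.node (.node tJ0_4 (nat_lit 640) (nat_lit 2231) (nat_lit 320) tJ0_5) (nat_lit
  768) (nat_lit 2248) (nat_lit 320) (.node tJ0_6 (nat_lit 896) (nat_lit 3319) (nat_lit 448) tJ0_7))) (nat_lit
  1024) (nat_lit 0) (nat_lit 1024) (.node (.node (.node tJ0_8 (nat_lit 1152) (nat_lit 402) (nat_lit 153)
  tJ0_9) (nat_lit 1280) (nat_lit 807) (nat_lit 1152) (.node tJ0_10 (nat_lit 1408) (nat_lit 3623) (nat_lit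
  1216) tJ0_11)) (nat_lit 1536) (nat_lit 1463) (nat_lit 1280) (.node (.node tJ0_12 (nat_lit 1664) (nat_lit
  2599) (nat_lit 1344) tJ0_13) (nat_lit 1792) (nat_lit 2616) (nat_lit 1344) (.node tJ0_14 (nat_lit 1920)
  (nat_lit 3639) (nat_lit 1472) tJ0_15))))
/-- Table of orbits. -/
def clT0 : ℕ := nat_lit 0x54555556556545556555554555565455555656554555554555656555565555565555555555554466555555555555644655555555555546465555555555556666555455565554555655545554555655565556555455545556555655565556555665556555455545555455565556555455556555455565554555565556555655565554655555655455655555545655554555655655555445555655556565555556646455555555555555556644555555555555555546645555555555555555666655545655455555655455555455656555655555455554565555656555565555565565565555544555555465555565545565555554565555455655556565555556545565555554556555545545565565555565555445555655655556555565555665555565555454555554565565555545565555545565455555656555565555565554556556554555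556555546555545556556555555455456555565555655556555555554664555564645555555555555555664455555555555555555555666654555565455555565455554565555556565555454555555656555565655555565565555645555455545565555556554555565545565545556555565555655556545556555655545555655545556555456555655545554555555655565556555623232222322333222323223322222332222222333223323222222222222222215655555455456555455555655554565555545455655555655545455554555554555555555555664455555555555546645555555555556464555555555555444455565554555655545556555655545554555455565556555455545554555455544555455565556555565554555455565555455565554555655554555455545554555645555545565545555556545555655545545555566555545555454555555446465555555555555555446655555555555555556446555555555555555544445556545565555545565555565545455545555565555654555545455554555554554554555556655555564555554556554555555654555565545555454555555456554555555655455556556554554555554555566555545545555455554555544555554555565655555654554555556554555556554565555545455554555554555655455455655555455556455556555455455555565565455554555545555455555555644655554646555555555555555544665555555555555555555544445655554565555554565555654555555454555565655555545455554545555554554555546555565556554555555455655554556554556555455554555545555456555455545556555545556555455565455545556555655555545554555455542323222232233322232322332222233222222233322332322222222222222220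
def tR0_0 : T := (.node (.node (.node (.node (.node (.node (.node .nil (nat_lit 64) (nat_lit 0) (nat_lit 64)
  .nil) (nat_lit 65) (nat_lit 12148) (nat_lit 200) (.node .nil (nat_lit 66) (nat_lit 8177) (nat_lit 116)
  .nil)) (nat_lit 67) (nat_lit 13137) (nat_lit 117) (.node (.node .nil (nat_lit 68) (nat_lit 19) (nat_lit 64)
  .nil) (nat_lit 69) (nat_lit 13410) (nat_lit 1244) (.node .nil (nat_lit 70) (nat_lit 3313) (nat_lit 1136)
  .nil))) (nat_lit 71) (nat_lit 13478) (nat_lit 164) (.node (.node (.node .nil (nat_lit 72) (nat_lit 2835)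
  (nat_lit 76) .nil) (nat_lit 73) (nat_lit 4882) (nat_lit 252) (.node .nil (nat_lit 74) (nat_lit 11889)
  (nat_lit 1148) .nil)) (nat_lit 75) (nat_lit 12082) (nat_lit 1219) (.node (.node .nil (nat_lit 76) (nat_lit
  772) (nat_lit 201) .nil) (nat_lit 77) (nat_lit 13379) (nat_lit 1097) (.node .nil (nat_lit 78) (nat_lit 7537)
  (nat_lit 120) .nil)))) (nat_lit 79) (nat_lit 18326) (nat_lit 156) (.node (.node (.node (.node .nil (nat_lit
  80) (nat_lit 2628) (nat_lit 206) .nil) (nat_lit 81) (nat_lit 13314) (nat_lit 1224) (.node .nil (nat_lit 82)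
  (nat_lit 3265) (nat_lit 1124) .nil)) (nat_lit 83) (nat_lit 13494) (nat_lit 164) (.node (.node .nil (nat_lit
  84) (nat_lit 4580) (nat_lit 192) .nil) (nat_lit 85) (nat_lit 12164) (nat_lit 200) (.node .nil (nat_lit 86)
  (nat_lit 8001) (nat_lit 96) .nil))) (nat_lit 87) (nat_lit 13025) (nat_lit 97) (.node (.node (.node .nil
  (nat_lit 88) (nat_lit 788) (nat_lit 201) .nil) (nat_lit 89) (nat_lit 13283) (nat_lit 1117) (.node .nil
  (nat_lit 90) (nat_lit 7505) (nat_lit 108) .nil)) (nat_lit 91) (nat_lit 18342) (nat_lit 156) (.node (.node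
  .nil (nat_lit 92) (nat_lit 2867) (nat_lit 88) .nil) (nat_lit 93) (nat_lit 4818) (nat_lit 232) .nil))))
  (nat_lit 94) (nat_lit 11873) (nat_lit 1128) (.node (.node (.node (.node (.node .nil (nat_lit 95) (nat_lit
  11906) (nat_lit 1239) .nil) (nat_lit 96) (nat_lit 2931) (nat_lit 100) (.node .nil (nat_lit 97) (nat_lit
  5042) (nat_lit 1216) .nil)) (nat_lit 98) (nat_lit 11569) (nat_lit 84) (.node (.node .nil (nat_lit 99)
  (nat_lit 12322) (nat_lit 255) .nil) (nat_lit 100) (nat_lit 804) (nat_lit 201) (.node .nil (nat_lit 101)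
  (nat_lit 11843) (nat_lit 1121) .nil))) (nat_lit 102) (nat_lit 7681) (nat_lit 1104) (.node (.node (.node .nil
  (nat_lit 103) (nat_lit 19366) (nat_lit 1160) .nil) (nat_lit 104) (nat_lit 4596) (nat_lit 192) (.node .nil
  (nat_lit 105) (nat_lit 12180) (nat_lit 200) .nil)) (nat_lit 106) (nat_lit 8785) (nat_lit 1116) (.node (.node
  .nil (nat_lit 107) (nat_lit 13297) (nat_lit 1117) .nil) (nat_lit 108) (nat_lit 2644) (nat_lit 206) .nil)))
  (nat_lit 109) (nat_lit 11666) (nat_lit 224) (.node (.node (.node (.node .nil (nat_lit 110) (nat_lit 2881)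
  (nat_lit 88) .nil) (nat_lit 111) (nat_lit 16838) (nat_lit 1200) (.node .nil (nat_lit 112) (nat_lit 820)
  (nat_lit 201) .nil)) (nat_lit 113) (nat_lit 12051) (nat_lit 1141) (.node (.node .nil (nat_lit 114) (nat_lit
  7665) (nat_lit 1092) .nil) (nat_lit 115) (nat_lit 19382) (nat_lit 1160) (.node .nil (nat_lit 116) (nat_lit
  2995) (nat_lit 112) .nil))) (nat_lit 117) (nat_lit 5090) (nat_lit 1236) (.node (.node (.node .nil (nat_lit
  118) (nat_lit 33) (nat_lit 64) .nil) (nat_lit 119) (nat_lit 12626) (nat_lit 235) (.node .nil (nat_lit 120)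
  (nat_lit 2660) (nat_lit 206) .nil)) (nat_lit 121) (nat_lit 11938) (nat_lit 244) (.node (.node .nil (nat_lit
  122) (nat_lit 2849) (nat_lit 76) .nil) (nat_lit 123) (nat_lit 16854) (nat_lit 1200) .nil))))) (nat_lit 124)
  (nat_lit 4612) (nat_lit 192) (.node (.node (.node (.node (.node (.node .nil (nat_lit 125) (nat_lit 12196)
  (nat_lit 200) .nil) (nat_lit 126) (nat_lit 8689) (nat_lit 1096) (.node .nil (nat_lit 127) (nat_lit 13393)
  (nat_lit 1097) .nil)) (nat_lit 128) (nat_lit 1668) (nat_lit 384) (.node (.node .nil (nat_lit 129) (nat_lit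
  6448) (nat_lit 265) .nil) (nat_lit 130) (nat_lit 10244) (nat_lit 396) (.node .nil (nat_lit 131) (nat_lit
  9825) (nat_lit 1186) .nil))) (nat_lit 132) (nat_lit 5698) (nat_lit 1192) (.node (.node (.node .nil (nat_lit
  133) (nat_lit 10772) (nat_lit 390) .nil) (nat_lit 134) (nat_lit 9843) (nat_lit 1186) (.node .nil (nat_lit
  135) (nat_lit 23795) (nat_lit 163) .nil)) (nat_lit 136) (nat_lit 6228) (nat_lit 391) (.node (.node .nil
  (nat_lit 137) (nat_lit 5473) (nat_lit 168) .nil) (nat_lit 138) (nat_lit 3508) (nat_lit 395) .nil))) (nat_lit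
  139) (nat_lit 9586) (nat_lit 162) (.node (.node (.node (.node .nil (nat_lit 140) (nat_lit 5491) (nat_lit
  168) .nil) (nat_lit 141) (nat_lit 16817) (nat_lit 1196) (.node .nil (nat_lit 142) (nat_lit 24147) (nat_lit
  1194) .nil)) (nat_lit 143) (nat_lit 15824) (nat_lit 258) (.node (.node .nil (nat_lit 144) (nat_lit 5746)
  (nat_lit 1212) .nil) (nat_lit 145) (nat_lit 10788) (nat_lit 390) (.node .nil (nat_lit 146) (nat_lit 9875)
  (nat_lit 1206) .nil))) (nat_lit 147) (nat_lit 23779) (nat_lit 183) (.node (.node (.node .nil (nat_lit 148)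
  (nat_lit 1684) (nat_lit 384) .nil) (nat_lit 149) (nat_lit 6672) (nat_lit 285) (.node .nil (nat_lit 150)
  (nat_lit 10260) (nat_lit 396) .nil)) (nat_lit 151) (nat_lit 9889) (nat_lit 1206) (.node (.node .nil (nat_lit
  152) (nat_lit 5523) (nat_lit 188) .nil) (nat_lit 153) (nat_lit 15953) (nat_lit 1208) .nil)))) (nat_lit 154)
  (nat_lit 24163) (nat_lit 1214) (.node (.node (.node (.node (.node .nil (nat_lit 155) (nat_lit 17840)
  (nat_lit 278) .nil) (nat_lit 156) (nat_lit 6244) (nat_lit 391) (.node .nil (nat_lit 157) (nat_lit 5537)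
  (nat_lit 188) .nil)) (nat_lit 158) (nat_lit 3524) (nat_lit 395) (.node (.node .nil (nat_lit 159) (nat_lit
  9634) (nat_lit 182) .nil) (nat_lit 160) (nat_lit 6260) (nat_lit 391) (.node .nil (nat_lit 161) (nat_lit
  5601) (nat_lit 1152) .nil))) (nat_lit 162) (nat_lit 3540) (nat_lit 395) (.node (.node (.node .nil (nat_lit
  163) (nat_lit 9778) (nat_lit 1182) .nil) (nat_lit 164) (nat_lit 5251) (nat_lit 128) (.node .nil (nat_lit
  165) (nat_lit 17809) (nat_lit 132) .nil)) (nat_lit 166) (nat_lit 24115) (nat_lit 1154) (.node (.node .nil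
  (nat_lit 167) (nat_lit 20480) (nat_lit 298) .nil) (nat_lit 168) (nat_lit 1700) (nat_lit 384) .nil)))
  (nat_lit 169) (nat_lit 5840) (nat_lit 289) (.node (.node (.node (.node .nil (nat_lit 170) (nat_lit 10276)
  (nat_lit 396) .nil) (nat_lit 171) (nat_lit 9361) (nat_lit 138) (.node .nil (nat_lit 172) (nat_lit 5426)
  (nat_lit 148) .nil)) (nat_lit 173) (nat_lit 10804) (nat_lit 390) (.node (.node .nil (nat_lit 174) (nat_lit
  9731) (nat_lit 1162) .nil) (nat_lit 175) (nat_lit 23731) (nat_lit 139) (.node .nil (nat_lit 176) (nat_lit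
  5443) (nat_lit 148) .nil))) (nat_lit 177) (nat_lit 17825) (nat_lit 144) (.node (.node (.node .nil (nat_lit
  178) (nat_lit 24131) (nat_lit 1174) .nil) (nat_lit 179) (nat_lit 20336) (nat_lit 318) (.node .nil (nat_lit
  180) (nat_lit 6276) (nat_lit 391) .nil)) (nat_lit 181) (nat_lit 5649) (nat_lit 1172) (.node (.node .nil
  (nat_lit 182) (nat_lit 3556) (nat_lit 395) .nil) (nat_lit 183) (nat_lit 9746) (nat_lit 1162) .nil))))))
def tR0_1 : T := (.node (.node (.node (.node (.node (.node (.node .nil (nat_lit 185) (nat_lit 10820) (nat_lit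
  390) .nil) (nat_lit 186) (nat_lit 9795) (nat_lit 1182) (.node .nil (nat_lit 187) (nat_lit 23747) (nat_lit
  159) .nil)) (nat_lit 188) (nat_lit 1716) (nat_lit 384) (.node (.node .nil (nat_lit 189) (nat_lit 5568)
  (nat_lit 309) .nil) (nat_lit 190) (nat_lit 10292) (nat_lit 396) (.node .nil (nat_lit 191) (nat_lit 9537)
  (nat_lit 158) .nil))) (nat_lit 192) (nat_lit 1492) (nat_lit 320) (.node (.node (.node .nil (nat_lit 193)
  (nat_lit 5936) (nat_lit 393) .nil) (nat_lit 194) (nat_lit 18112) (nat_lit 398) (.node .nil (nat_lit 195)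
  (nat_lit 5105) (nat_lit 1236) .nil)) (nat_lit 196) (nat_lit 15974) (nat_lit 181) (.node (.node .nil (nat_lit
  197) (nat_lit 3282) (nat_lit 1124) .nil) (nat_lit 198) (nat_lit 9137) (nat_lit 209) .nil))) (nat_lit 199)
  (nat_lit 7220) (nat_lit 330) (.node (.node (.node (.node .nil (nat_lit 200) (nat_lit 4835) (nat_lit 232)
  .nil) (nat_lit 201) (nat_lit 210) (nat_lit 68) (.node .nil (nat_lit 202) (nat_lit 7874) (nat_lit 110) .nil))
  (nat_lit 203) (nat_lit 12577) (nat_lit 220) (.node (.node .nil (nat_lit 204) (nat_lit 24017) (nat_lit 1243)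
  .nil) (nat_lit 205) (nat_lit 8835) (nat_lit 1261) (.node .nil (nat_lit 206) (nat_lit 721) (nat_lit 1241)
  .nil))) (nat_lit 207) (nat_lit 10464) (nat_lit 386) (.node (.node (.node .nil (nat_lit 208) (nat_lit 15990)
  (nat_lit 181) .nil) (nat_lit 209) (nat_lit 3330) (nat_lit 1136) (.node .nil (nat_lit 210) (nat_lit 8913)
  (nat_lit 197) .nil)) (nat_lit 211) (nat_lit 7236) (nat_lit 330) (.node (.node .nil (nat_lit 212) (nat_lit
  1508) (nat_lit 320) .nil) (nat_lit 213) (nat_lit 6032) (nat_lit 413) .nil)))) (nat_lit 214) (nat_lit 18048)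
  (nat_lit 410) (.node (.node (.node (.node (.node .nil (nat_lit 215) (nat_lit 5057) (nat_lit 1216) .nil)
  (nat_lit 216) (nat_lit 23985) (nat_lit 1231) (.node .nil (nat_lit 217) (nat_lit 8739) (nat_lit 1273) .nil))
  (nat_lit 218) (nat_lit 3380) (nat_lit 325) (.node (.node .nil (nat_lit 219) (nat_lit 10672) (nat_lit 406)
  .nil) (nat_lit 220) (nat_lit 4899) (nat_lit 252) (.node .nil (nat_lit 221) (nat_lit 7348) (nat_lit 335)
  .nil))) (nat_lit 222) (nat_lit 833) (nat_lit 201) (.node (.node (.node .nil (nat_lit 223) (nat_lit 12209)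
  (nat_lit 200) .nil) (nat_lit 224) (nat_lit 4627) (nat_lit 192) (.node .nil (nat_lit 225) (nat_lit 7364)
  (nat_lit 335) .nil)) (nat_lit 226) (nat_lit 8098) (nat_lit 1106) (.node (.node .nil (nat_lit 227) (nat_lit
  13171) (nat_lit 195) .nil) (nat_lit 228) (nat_lit 23969) (nat_lit 243) .nil))) (nat_lit 229) (nat_lit 8131)
  (nat_lit 1221) (.node (.node (.node (.node .nil (nat_lit 230) (nat_lit 3396) (nat_lit 325) .nil) (nat_lit
  231) (nat_lit 9696) (nat_lit 426) (.node .nil (nat_lit 232) (nat_lit 1524) (nat_lit 320) .nil)) (nat_lit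
  233) (nat_lit 6160) (nat_lit 417) (.node (.node .nil (nat_lit 234) (nat_lit 19344) (nat_lit 422) .nil)
  (nat_lit 235) (nat_lit 4913) (nat_lit 252) (.node .nil (nat_lit 236) (nat_lit 14678) (nat_lit 1185) .nil)))
  (nat_lit 237) (nat_lit 2898) (nat_lit 88) (.node (.node (.node .nil (nat_lit 238) (nat_lit 8753) (nat_lit
  1273) .nil) (nat_lit 239) (nat_lit 7252) (nat_lit 330) (.node .nil (nat_lit 240) (nat_lit 23761) (nat_lit
  231) .nil)) (nat_lit 241) (nat_lit 8275) (nat_lit 1233) (.node (.node .nil (nat_lit 242) (nat_lit 3412)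
  (nat_lit 325) .nil) (nat_lit 243) (nat_lit 9936) (nat_lit 446) .nil))))) (nat_lit 244) (nat_lit 4755)
  (nat_lit 212) (.node (.node (.node (.node (.node (.node .nil (nat_lit 245) (nat_lit 7380) (nat_lit 335)
  .nil) (nat_lit 246) (nat_lit 8258) (nat_lit 1094) (.node .nil (nat_lit 247) (nat_lit 13059) (nat_lit 215)
  .nil)) (nat_lit 248) (nat_lit 14694) (nat_lit 1185) (.node (.node .nil (nat_lit 249) (nat_lit 739) (nat_lit
  1241) .nil) (nat_lit 250) (nat_lit 8849) (nat_lit 1261) (.node .nil (nat_lit 251) (nat_lit 7268) (nat_lit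
  330) .nil))) (nat_lit 252) (nat_lit 1540) (nat_lit 320) (.node (.node (.node .nil (nat_lit 253) (nat_lit
  6384) (nat_lit 437) .nil) (nat_lit 254) (nat_lit 18144) (nat_lit 434) (.node .nil (nat_lit 255) (nat_lit
  4849) (nat_lit 232) .nil)) (nat_lit 256) (nat_lit 2320) (nat_lit 512) (.node (.node .nil (nat_lit 257)
  (nat_lit 4288) (nat_lit 521) .nil) (nat_lit 258) (nat_lit 5587) (nat_lit 309) .nil))) (nat_lit 259) (nat_lit
  11504) (nat_lit 519) (.node (.node (.node (.node .nil (nat_lit 260) (nat_lit 6738) (nat_lit 1437) .nil)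
  (nat_lit 261) (nat_lit 24499) (nat_lit 306) (.node .nil (nat_lit 262) (nat_lit 13510) (nat_lit 164) .nil))
  (nat_lit 263) (nat_lit 3970) (nat_lit 1463) (.node (.node .nil (nat_lit 264) (nat_lit 16006) (nat_lit 181)
  .nil) (nat_lit 265) (nat_lit 2082) (nat_lit 1448) (.node .nil (nat_lit 266) (nat_lit 10018) (nat_lit 1410)
  .nil))) (nat_lit 267) (nat_lit 18358) (nat_lit 156) (.node (.node (.node .nil (nat_lit 268) (nat_lit 10403)
  (nat_lit 1339) .nil) (nat_lit 269) (nat_lit 16022) (nat_lit 181) (.node .nil (nat_lit 270) (nat_lit 10946)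
  (nat_lit 402) .nil)) (nat_lit 271) (nat_lit 5874) (nat_lit 1415) (.node (.node .nil (nat_lit 272) (nat_lit
  6642) (nat_lit 1417) .nil) (nat_lit 273) (nat_lit 24467) (nat_lit 294) .nil)))) (nat_lit 274) (nat_lit
  13526) (nat_lit 164) (.node (.node (.node (.node (.node .nil (nat_lit 275) (nat_lit 3922) (nat_lit 1443)
  .nil) (nat_lit 276) (nat_lit 22420) (nat_lit 768) (.node .nil (nat_lit 277) (nat_lit 9986) (nat_lit 1420)
  .nil)) (nat_lit 278) (nat_lit 5859) (nat_lit 289) (.node (.node .nil (nat_lit 279) (nat_lit 13542) (nat_lit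
  164) .nil) (nat_lit 280) (nat_lit 10195) (nat_lit 1327) (.node .nil (nat_lit 281) (nat_lit 16038) (nat_lit
  181) .nil))) (nat_lit 282) (nat_lit 10834) (nat_lit 390) (.node (.node (.node .nil (nat_lit 283) (nat_lit
  5794) (nat_lit 1427) .nil) (nat_lit 284) (nat_lit 16054) (nat_lit 181) (.node .nil (nat_lit 285) (nat_lit
  2130) (nat_lit 1468) .nil)) (nat_lit 286) (nat_lit 10098) (nat_lit 1430) (.node (.node .nil (nat_lit 287)
  (nat_lit 18374) (nat_lit 156) .nil) (nat_lit 288) (nat_lit 14710) (nat_lit 1185) .nil))) (nat_lit 289)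
  (nat_lit 1842) (nat_lit 404) (.node (.node (.node (.node .nil (nat_lit 290) (nat_lit 9954) (nat_lit 446)
  .nil) (nat_lit 291) (nat_lit 19398) (nat_lit 1160) (.node .nil (nat_lit 292) (nat_lit 10003) (nat_lit 1299)
  .nil)) (nat_lit 293) (nat_lit 14726) (nat_lit 1185) (.node (.node .nil (nat_lit 294) (nat_lit 11298)
  (nat_lit 1454) .nil) (nat_lit 295) (nat_lit 6610) (nat_lit 443) (.node .nil (nat_lit 296) (nat_lit 22436)
  (nat_lit 768) .nil))) (nat_lit 297) (nat_lit 10722) (nat_lit 420) (.node (.node (.node .nil (nat_lit 298)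
  (nat_lit 6691) (nat_lit 285) .nil) (nat_lit 299) (nat_lit 16870) (nat_lit 1200) (.node .nil (nat_lit 300)
  (nat_lit 6178) (nat_lit 417) .nil)) (nat_lit 301) (nat_lit 11472) (nat_lit 555) (.node (.node .nil (nat_lit
  302) (nat_lit 16886) (nat_lit 1200) .nil) (nat_lit 303) (nat_lit 3570) (nat_lit 395) .nil))))))
def tR0_2 : T := (.node (.node (.node (.node (.node (.node (.node .nil (nat_lit 305) (nat_lit 14742) (nat_lit
  1185) .nil) (nat_lit 306) (nat_lit 11346) (nat_lit 1466) (.node .nil (nat_lit 307) (nat_lit 6706) (nat_lit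
  431) .nil)) (nat_lit 308) (nat_lit 14758) (nat_lit 1185) (.node (.node .nil (nat_lit 309) (nat_lit 1730)
  (nat_lit 384) .nil) (nat_lit 310) (nat_lit 7152) (nat_lit 573) (.node .nil (nat_lit 311) (nat_lit 19414)
  (nat_lit 1160) .nil))) (nat_lit 312) (nat_lit 6402) (nat_lit 437) (.node (.node (.node .nil (nat_lit 313)
  (nat_lit 24307) (nat_lit 270) .nil) (nat_lit 314) (nat_lit 16902) (nat_lit 1200) (.node .nil (nat_lit 315)
  (nat_lit 3682) (nat_lit 415) .nil)) (nat_lit 316) (nat_lit 22452) (nat_lit 768) (.node (.node .nil (nat_lit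
  317) (nat_lit 10514) (nat_lit 432) .nil) (nat_lit 318) (nat_lit 6467) (nat_lit 265) .nil))) (nat_lit 319)
  (nat_lit 16918) (nat_lit 1200) (.node (.node (.node (.node .nil (nat_lit 320) (nat_lit 416) (nat_lit 640)
  .nil) (nat_lit 321) (nat_lit 28516) (nat_lit 968) (.node .nil (nat_lit 322) (nat_lit 29379) (nat_lit 369)
  .nil)) (nat_lit 323) (nat_lit 23028) (nat_lit 964) (.node (.node .nil (nat_lit 324) (nat_lit 28212) (nat_lit
  974) .nil) (nat_lit 325) (nat_lit 944) (nat_lit 643) (.node .nil (nat_lit 326) (nat_lit 27472) (nat_lit 644)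
  .nil))) (nat_lit 327) (nat_lit 27860) (nat_lit 970) (.node (.node (.node .nil (nat_lit 328) (nat_lit 28004)
  (nat_lit 967) .nil) (nat_lit 329) (nat_lit 27620) (nat_lit 975) (.node .nil (nat_lit 330) (nat_lit 2593)
  (nat_lit 1404) .nil)) (nat_lit 331) (nat_lit 29920) (nat_lit 648) (.node (.node .nil (nat_lit 332) (nat_lit
  22852) (nat_lit 969) .nil) (nat_lit 333) (nat_lit 22692) (nat_lit 961) .nil)))) (nat_lit 334) (nat_lit
  29140) (nat_lit 965) (.node (.node (.node (.node (.node .nil (nat_lit 335) (nat_lit 2611) (nat_lit 1404)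
  .nil) (nat_lit 336) (nat_lit 28228) (nat_lit 974) (.node .nil (nat_lit 337) (nat_lit 1104) (nat_lit 663)
  .nil)) (nat_lit 338) (nat_lit 27488) (nat_lit 656) (.node (.node .nil (nat_lit 339) (nat_lit 27876) (nat_lit
  970) .nil) (nat_lit 340) (nat_lit 560) (nat_lit 660) (.node .nil (nat_lit 341) (nat_lit 28532) (nat_lit 968)
  .nil))) (nat_lit 342) (nat_lit 29347) (nat_lit 357) (.node (.node (.node .nil (nat_lit 343) (nat_lit 23044)
  (nat_lit 964) .nil) (nat_lit 344) (nat_lit 22868) (nat_lit 969) (.node .nil (nat_lit 345) (nat_lit 22708)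
  (nat_lit 961) .nil)) (nat_lit 346) (nat_lit 29156) (nat_lit 965) (.node (.node .nil (nat_lit 347) (nat_lit
  2563) (nat_lit 1384) .nil) (nat_lit 348) (nat_lit 28020) (nat_lit 967) .nil))) (nat_lit 349) (nat_lit 27636)
  (nat_lit 975) (.node (.node (.node (.node .nil (nat_lit 350) (nat_lit 2577) (nat_lit 1384) .nil) (nat_lit
  351) (nat_lit 29936) (nat_lit 668) (.node .nil (nat_lit 352) (nat_lit 28036) (nat_lit 967) .nil)) (nat_lit
  353) (nat_lit 27652) (nat_lit 975) (.node (.node .nil (nat_lit 354) (nat_lit 2177) (nat_lit 340) .nil)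
  (nat_lit 355) (nat_lit 29840) (nat_lit 672) (.node .nil (nat_lit 356) (nat_lit 22884) (nat_lit 969) .nil)))
  (nat_lit 357) (nat_lit 22724) (nat_lit 961) (.node (.node (.node .nil (nat_lit 358) (nat_lit 29172) (nat_lit
  965) .nil) (nat_lit 359) (nat_lit 2531) (nat_lit 1364) (.node .nil (nat_lit 360) (nat_lit 576) (nat_lit 680)
  .nil)) (nat_lit 361) (nat_lit 28548) (nat_lit 968) (.node (.node .nil (nat_lit 362) (nat_lit 29315) (nat_lit
  345) .nil) (nat_lit 363) (nat_lit 23060) (nat_lit 964) .nil))))) (nat_lit 364) (nat_lit 28244) (nat_lit 974)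
  (.node (.node (.node (.node (.node (.node .nil (nat_lit 365) (nat_lit 1136) (nat_lit 683) .nil) (nat_lit
  366) (nat_lit 27504) (nat_lit 684) (.node .nil (nat_lit 367) (nat_lit 27892) (nat_lit 970) .nil)) (nat_lit
  368) (nat_lit 22900) (nat_lit 969) (.node (.node .nil (nat_lit 369) (nat_lit 22740) (nat_lit 961) .nil)
  (nat_lit 370) (nat_lit 29188) (nat_lit 965) (.node .nil (nat_lit 371) (nat_lit 2499) (nat_lit 1344) .nil)))
  (nat_lit 372) (nat_lit 28052) (nat_lit 967) (.node (.node (.node .nil (nat_lit 373) (nat_lit 27668) (nat_lit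
  975) .nil) (nat_lit 374) (nat_lit 1553) (nat_lit 320) (.node .nil (nat_lit 375) (nat_lit 29824) (nat_lit
  692) .nil)) (nat_lit 376) (nat_lit 28260) (nat_lit 974) (.node (.node .nil (nat_lit 377) (nat_lit 1168)
  (nat_lit 703) .nil) (nat_lit 378) (nat_lit 27520) (nat_lit 696) .nil))) (nat_lit 379) (nat_lit 27908)
  (nat_lit 970) (.node (.node (.node (.node .nil (nat_lit 380) (nat_lit 592) (nat_lit 700) .nil) (nat_lit 381)
  (nat_lit 28564) (nat_lit 968) (.node .nil (nat_lit 382) (nat_lit 29283) (nat_lit 333) .nil)) (nat_lit 383)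
  (nat_lit 23076) (nat_lit 964) (.node (.node .nil (nat_lit 384) (nat_lit 436) (nat_lit 640) .nil) (nat_lit
  385) (nat_lit 10963) (nat_lit 402) (.node .nil (nat_lit 386) (nat_lit 3937) (nat_lit 1443) .nil))) (nat_lit
  387) (nat_lit 18390) (nat_lit 156) (.node (.node (.node .nil (nat_lit 388) (nat_lit 14774) (nat_lit 1185)
  .nil) (nat_lit 389) (nat_lit 10691) (nat_lit 406) (.node .nil (nat_lit 390) (nat_lit 4116) (nat_lit 642)
  .nil)) (nat_lit 391) (nat_lit 2035) (nat_lit 1428) (.node (.node .nil (nat_lit 392) (nat_lit 24369) (nat_lit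
  425) .nil) (nat_lit 393) (nat_lit 1889) (nat_lit 424) .nil)))) (nat_lit 394) (nat_lit 16934) (nat_lit 1200)
  (.node (.node (.node (.node (.node .nil (nat_lit 395) (nat_lit 964) (nat_lit 643) .nil) (nat_lit 396)
  (nat_lit 3875) (nat_lit 1439) (.node .nil (nat_lit 397) (nat_lit 6914) (nat_lit 256) .nil)) (nat_lit 398)
  (nat_lit 6051) (nat_lit 413) (.node (.node .nil (nat_lit 399) (nat_lit 11313) (nat_lit 1454) .nil) (nat_lit
  400) (nat_lit 14790) (nat_lit 1185) (.node .nil (nat_lit 401) (nat_lit 10483) (nat_lit 386) .nil))) (nat_lit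
  402) (nat_lit 4132) (nat_lit 642) (.node (.node (.node .nil (nat_lit 403) (nat_lit 1987) (nat_lit 1408)
  .nil) (nat_lit 404) (nat_lit 452) (nat_lit 640) (.node .nil (nat_lit 405) (nat_lit 10851) (nat_lit 390)
  .nil)) (nat_lit 406) (nat_lit 3985) (nat_lit 1463) (.node (.node .nil (nat_lit 407) (nat_lit 18406) (nat_lit
  156) .nil) (nat_lit 408) (nat_lit 3827) (nat_lit 1419) .nil))) (nat_lit 409) (nat_lit 11092) (nat_lit 641)
  (.node (.node (.node (.node .nil (nat_lit 410) (nat_lit 5955) (nat_lit 393) .nil) (nat_lit 411) (nat_lit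
  11361) (nat_lit 1466) (.node .nil (nat_lit 412) (nat_lit 24337) (nat_lit 445) .nil)) (nat_lit 413) (nat_lit
  1937) (nat_lit 444) (.node (.node .nil (nat_lit 414) (nat_lit 16950) (nat_lit 1200) .nil) (nat_lit 415)
  (nat_lit 980) (nat_lit 643) (.node .nil (nat_lit 416) (nat_lit 24449) (nat_lit 1409) .nil))) (nat_lit 417)
  (nat_lit 2001) (nat_lit 1408) (.node (.node (.node .nil (nat_lit 418) (nat_lit 13558) (nat_lit 164) .nil)
  (nat_lit 419) (nat_lit 996) (nat_lit 643) (.node .nil (nat_lit 420) (nat_lit 4003) (nat_lit 1463) .nil))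
  (nat_lit 421) (nat_lit 11108) (nat_lit 641) (.node (.node .nil (nat_lit 422) (nat_lit 6289) (nat_lit 391)
  .nil) (nat_lit 423) (nat_lit 10865) (nat_lit 390) .nil))))))
def tR0_3 : T := (.node (.node (.node (.node (.node (.node (.node .nil (nat_lit 425) (nat_lit 11043) (nat_lit
  442) .nil) (nat_lit 426) (nat_lit 3585) (nat_lit 395) (.node .nil (nat_lit 427) (nat_lit 19430) (nat_lit
  1160) .nil)) (nat_lit 428) (nat_lit 16070) (nat_lit 181) (.node (.node .nil (nat_lit 429) (nat_lit 9971)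
  (nat_lit 446) .nil) (nat_lit 430) (nat_lit 4148) (nat_lit 642) (.node .nil (nat_lit 431) (nat_lit 2147)
  (nat_lit 1468) .nil))) (nat_lit 432) (nat_lit 3955) (nat_lit 1443) (.node (.node (.node .nil (nat_lit 433)
  (nat_lit 11124) (nat_lit 641) .nil) (nat_lit 434) (nat_lit 6129) (nat_lit 403) (.node .nil (nat_lit 435)
  (nat_lit 10977) (nat_lit 402) .nil)) (nat_lit 436) (nat_lit 24417) (nat_lit 1429) (.node (.node .nil
  (nat_lit 437) (nat_lit 2049) (nat_lit 1428) .nil) (nat_lit 438) (nat_lit 13574) (nat_lit 164) .nil)))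
  (nat_lit 439) (nat_lit 1012) (nat_lit 643) (.node (.node (.node (.node .nil (nat_lit 440) (nat_lit 16086)
  (nat_lit 181) .nil) (nat_lit 441) (nat_lit 9715) (nat_lit 426) (.node .nil (nat_lit 442) (nat_lit 4164)
  (nat_lit 642) .nil)) (nat_lit 443) (nat_lit 2099) (nat_lit 1448) (.node (.node .nil (nat_lit 444) (nat_lit
  484) (nat_lit 640) .nil) (nat_lit 445) (nat_lit 10995) (nat_lit 430) (.node .nil (nat_lit 446) (nat_lit
  3697) (nat_lit 415) .nil))) (nat_lit 447) (nat_lit 11520) (nat_lit 827) (.node (.node (.node .nil (nat_lit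
  448) (nat_lit 7793) (nat_lit 1495) .nil) (nat_lit 449) (nat_lit 24196) (nat_lit 584) (.node .nil (nat_lit
  450) (nat_lit 20356) (nat_lit 588) .nil)) (nat_lit 451) (nat_lit 25681) (nat_lit 1492) (.node (.node .nil
  (nat_lit 452) (nat_lit 25554) (nat_lit 508) .nil) (nat_lit 453) (nat_lit 21345) (nat_lit 466) .nil))))
  (nat_lit 454) (nat_lit 27204) (nat_lit 578) (.node (.node (.node (.node (.node .nil (nat_lit 455) (nat_lit
  26848) (nat_lit 909) .nil) (nat_lit 456) (nat_lit 27136) (nat_lit 911) (.node .nil (nat_lit 457) (nat_lit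
  26996) (nat_lit 591) .nil)) (nat_lit 458) (nat_lit 3056) (nat_lit 897) (.node (.node .nil (nat_lit 459)
  (nat_lit 25232) (nat_lit 904) .nil) (nat_lit 460) (nat_lit 26096) (nat_lit 901) (.node .nil (nat_lit 461)
  (nat_lit 23360) (nat_lit 908) .nil))) (nat_lit 462) (nat_lit 25136) (nat_lit 907) (.node (.node (.node .nil
  (nat_lit 463) (nat_lit 7568) (nat_lit 898) .nil) (nat_lit 464) (nat_lit 25170) (nat_lit 488) (.node .nil
  (nat_lit 465) (nat_lit 24816) (nat_lit 919) .nil)) (nat_lit 466) (nat_lit 7760) (nat_lit 912) (.node (.node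
  .nil (nat_lit 467) (nat_lit 26864) (nat_lit 921) .nil) (nat_lit 468) (nat_lit 11984) (nat_lit 916) .nil)))
  (nat_lit 469) (nat_lit 24212) (nat_lit 584) (.node (.node (.node (.node .nil (nat_lit 470) (nat_lit 20372)
  (nat_lit 588) .nil) (nat_lit 471) (nat_lit 25649) (nat_lit 1472) (.node .nil (nat_lit 472) (nat_lit 25936)
  (nat_lit 913) .nil)) (nat_lit 473) (nat_lit 23408) (nat_lit 920) (.node (.node .nil (nat_lit 474) (nat_lit
  25520) (nat_lit 927) .nil) (nat_lit 475) (nat_lit 23472) (nat_lit 918) (.node .nil (nat_lit 476) (nat_lit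
  27152) (nat_lit 923) .nil))) (nat_lit 477) (nat_lit 8321) (nat_lit 458) (.node (.node (.node .nil (nat_lit
  478) (nat_lit 26356) (nat_lit 587) .nil) (nat_lit 479) (nat_lit 25616) (nat_lit 924) (.node .nil (nat_lit
  480) (nat_lit 27316) (nat_lit 583) .nil)) (nat_lit 481) (nat_lit 26560) (nat_lit 942) (.node (.node .nil
  (nat_lit 482) (nat_lit 26372) (nat_lit 587) .nil) (nat_lit 483) (nat_lit 8338) (nat_lit 458) .nil)))))
  (nat_lit 484) (nat_lit 25536) (nat_lit 941) (.node (.node (.node (.node (.node (.node .nil (nat_lit 485)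
  (nat_lit 21568) (nat_lit 932) .nil) (nat_lit 486) (nat_lit 20994) (nat_lit 463) (.node .nil (nat_lit 487)
  (nat_lit 23488) (nat_lit 938) .nil)) (nat_lit 488) (nat_lit 12352) (nat_lit 936) (.node (.node .nil (nat_lit
  489) (nat_lit 24228) (nat_lit 584) .nil) (nat_lit 490) (nat_lit 20388) (nat_lit 588) (.node .nil (nat_lit
  491) (nat_lit 25569) (nat_lit 508) .nil))) (nat_lit 492) (nat_lit 25666) (nat_lit 1472) (.node (.node (.node
  .nil (nat_lit 493) (nat_lit 25840) (nat_lit 939) .nil) (nat_lit 494) (nat_lit 27220) (nat_lit 578) (.node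
  .nil (nat_lit 495) (nat_lit 26912) (nat_lit 933) .nil)) (nat_lit 496) (nat_lit 25152) (nat_lit 953) (.node
  (.node .nil (nat_lit 497) (nat_lit 7728) (nat_lit 944) .nil) (nat_lit 498) (nat_lit 24768) (nat_lit 951)
  .nil))) (nat_lit 499) (nat_lit 23504) (nat_lit 958) (.node (.node (.node (.node .nil (nat_lit 500) (nat_lit
  27332) (nat_lit 583) .nil) (nat_lit 501) (nat_lit 26576) (nat_lit 954) (.node .nil (nat_lit 502) (nat_lit
  26388) (nat_lit 587) .nil)) (nat_lit 503) (nat_lit 24832) (nat_lit 948) (.node (.node .nil (nat_lit 504)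
  (nat_lit 25698) (nat_lit 1492) .nil) (nat_lit 505) (nat_lit 25888) (nat_lit 959) (.node .nil (nat_lit 506)
  (nat_lit 27236) (nat_lit 578) .nil))) (nat_lit 507) (nat_lit 23457) (nat_lit 1516) (.node (.node (.node .nil
  (nat_lit 508) (nat_lit 12656) (nat_lit 956) .nil) (nat_lit 509) (nat_lit 24244) (nat_lit 584) (.node .nil
  (nat_lit 510) (nat_lit 20404) (nat_lit 588) .nil)) (nat_lit 511) (nat_lit 25185) (nat_lit 488) (.node (.node
  .nil (nat_lit 512) (nat_lit 608) (nat_lit 960) .nil) (nat_lit 513) (nat_lit 22912) (nat_lit 969) .nil))))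
  (nat_lit 514) (nat_lit 21586) (nat_lit 531) (.node (.node (.node (.node (.node .nil (nat_lit 515) (nat_lit
  27793) (nat_lit 1569) .nil) (nat_lit 516) (nat_lit 27920) (nat_lit 970) (.node .nil (nat_lit 517) (nat_lit
  29107) (nat_lit 566) .nil)) (nat_lit 518) (nat_lit 23088) (nat_lit 964) (.node (.node .nil (nat_lit 519)
  (nat_lit 4496) (nat_lit 973) .nil) (nat_lit 520) (nat_lit 22371) (nat_lit 1595) (.node .nil (nat_lit 521)
  (nat_lit 1200) (nat_lit 966) .nil))) (nat_lit 522) (nat_lit 22752) (nat_lit 961) (.node (.node (.node .nil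
  (nat_lit 523) (nat_lit 28337) (nat_lit 553) .nil) (nat_lit 524) (nat_lit 29200) (nat_lit 965) (.node .nil
  (nat_lit 525) (nat_lit 22321) (nat_lit 1583) .nil)) (nat_lit 526) (nat_lit 7025) (nat_lit 1580) (.node
  (.node .nil (nat_lit 527) (nat_lit 27536) (nat_lit 962) .nil) (nat_lit 528) (nat_lit 28128) (nat_lit 990)
  .nil))) (nat_lit 529) (nat_lit 29059) (nat_lit 546) (.node (.node (.node (.node .nil (nat_lit 530) (nat_lit
  23008) (nat_lit 976) .nil) (nat_lit 531) (nat_lit 7952) (nat_lit 985) (.node .nil (nat_lit 532) (nat_lit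
  21364) (nat_lit 448) .nil)) (nat_lit 533) (nat_lit 23200) (nat_lit 989) (.node (.node .nil (nat_lit 534)
  (nat_lit 7139) (nat_lit 549) .nil) (nat_lit 535) (nat_lit 27809) (nat_lit 1589) (.node .nil (nat_lit 536)
  (nat_lit 29088) (nat_lit 977) .nil))) (nat_lit 537) (nat_lit 22385) (nat_lit 1595) (.node (.node (.node .nil
  (nat_lit 538) (nat_lit 21488) (nat_lit 991) .nil) (nat_lit 539) (nat_lit 27408) (nat_lit 982) (.node .nil
  (nat_lit 540) (nat_lit 22339) (nat_lit 1583) .nil)) (nat_lit 541) (nat_lit 20624) (nat_lit 978) (.node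
  (.node .nil (nat_lit 542) (nat_lit 23184) (nat_lit 981) .nil) (nat_lit 543) (nat_lit 4528) (nat_lit 988)
  .nil))))))
def tR0_4 : T := (.node (.node (.node (.node (.node (.node (.node .nil (nat_lit 545) (nat_lit 20720) (nat_lit
  1006) .nil) (nat_lit 546) (nat_lit 22528) (nat_lit 1001) (.node .nil (nat_lit 547) (nat_lit 28705) (nat_lit
  1537) .nil)) (nat_lit 548) (nat_lit 28688) (nat_lit 1005) (.node (.node .nil (nat_lit 549) (nat_lit 2448)
  (nat_lit 996) .nil) (nat_lit 550) (nat_lit 21680) (nat_lit 995) (.node .nil (nat_lit 551) (nat_lit 28160)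
  (nat_lit 1002) .nil))) (nat_lit 552) (nat_lit 21380) (nat_lit 448) (.node (.node (.node .nil (nat_lit 553)
  (nat_lit 21536) (nat_lit 993) .nil) (nat_lit 554) (nat_lit 22354) (nat_lit 1583) (.node .nil (nat_lit 555)
  (nat_lit 4305) (nat_lit 521) .nil)) (nat_lit 556) (nat_lit 27824) (nat_lit 994) (.node (.node .nil (nat_lit
  557) (nat_lit 29811) (nat_lit 542) .nil) (nat_lit 558) (nat_lit 21632) (nat_lit 1004) .nil))) (nat_lit 559)
  (nat_lit 8032) (nat_lit 997) (.node (.node (.node (.node .nil (nat_lit 560) (nat_lit 28736) (nat_lit 1017)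
  .nil) (nat_lit 561) (nat_lit 21601) (nat_lit 531) (.node .nil (nat_lit 562) (nat_lit 22048) (nat_lit 1015)
  .nil)) (nat_lit 563) (nat_lit 28144) (nat_lit 1022) (.node (.node .nil (nat_lit 564) (nat_lit 22227)
  (nat_lit 1543) .nil) (nat_lit 565) (nat_lit 20928) (nat_lit 1018) (.node .nil (nat_lit 566) (nat_lit 22608)
  (nat_lit 1021) .nil))) (nat_lit 567) (nat_lit 28753) (nat_lit 1557) (.node (.node (.node .nil (nat_lit 568)
  (nat_lit 27840) (nat_lit 1014) .nil) (nat_lit 569) (nat_lit 29411) (nat_lit 522) (.node .nil (nat_lit 570)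
  (nat_lit 1424) (nat_lit 1016) .nil)) (nat_lit 571) (nat_lit 8208) (nat_lit 1009) (.node (.node .nil (nat_lit
  572) (nat_lit 21396) (nat_lit 448) .nil) (nat_lit 573) (nat_lit 2480) (nat_lit 1013) .nil)))) (nat_lit 574)
  (nat_lit 22402) (nat_lit 1595) (.node (.node (.node (.node (.node .nil (nat_lit 575) (nat_lit 27361)
  (nat_lit 541) .nil) (nat_lit 576) (nat_lit 4960) (nat_lit 832) (.node .nil (nat_lit 577) (nat_lit 14806)
  (nat_lit 1185) .nil)) (nat_lit 578) (nat_lit 19446) (nat_lit 1160) (.node (.node .nil (nat_lit 579) (nat_lit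
  18422) (nat_lit 156) .nil) (nat_lit 580) (nat_lit 14822) (nat_lit 1185) (.node .nil (nat_lit 581) (nat_lit
  16102) (nat_lit 181) .nil))) (nat_lit 582) (nat_lit 15844) (nat_lit 258) (.node (.node (.node .nil (nat_lit
  583) (nat_lit 19462) (nat_lit 1160) .nil) (nat_lit 584) (nat_lit 10532) (nat_lit 263) (.node .nil (nat_lit
  585) (nat_lit 17860) (nat_lit 271) .nil)) (nat_lit 586) (nat_lit 16966) (nat_lit 1200) (.node (.node .nil
  (nat_lit 587) (nat_lit 13590) (nat_lit 164) .nil) (nat_lit 588) (nat_lit 6484) (nat_lit 265) .nil)))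
  (nat_lit 589) (nat_lit 9280) (nat_lit 844) (.node (.node (.node (.node .nil (nat_lit 590) (nat_lit 13606)
  (nat_lit 164) .nil) (nat_lit 591) (nat_lit 16982) (nat_lit 1200) (.node .nil (nat_lit 592) (nat_lit 14838)
  (nat_lit 1185) .nil)) (nat_lit 593) (nat_lit 16118) (nat_lit 181) (.node (.node .nil (nat_lit 594) (nat_lit
  15860) (nat_lit 258) .nil) (nat_lit 595) (nat_lit 19478) (nat_lit 1160) (.node .nil (nat_lit 596) (nat_lit
  6784) (nat_lit 852) .nil))) (nat_lit 597) (nat_lit 14854) (nat_lit 1185) (.node (.node (.node .nil (nat_lit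
  598) (nat_lit 19494) (nat_lit 1160) .nil) (nat_lit 599) (nat_lit 18438) (nat_lit 156) (.node .nil (nat_lit
  600) (nat_lit 6500) (nat_lit 265) .nil)) (nat_lit 601) (nat_lit 10736) (nat_lit 856) (.node (.node .nil
  (nat_lit 602) (nat_lit 13622) (nat_lit 164) .nil) (nat_lit 603) (nat_lit 16998) (nat_lit 1200) .nil)))))
  (nat_lit 604) (nat_lit 10548) (nat_lit 263) (.node (.node (.node (.node (.node (.node .nil (nat_lit 605)
  (nat_lit 17876) (nat_lit 271) .nil) (nat_lit 606) (nat_lit 17014) (nat_lit 1200) (.node .nil (nat_lit 607)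
  (nat_lit 13638) (nat_lit 164) .nil)) (nat_lit 608) (nat_lit 10564) (nat_lit 263) (.node (.node .nil (nat_lit
  609) (nat_lit 17892) (nat_lit 271) .nil) (nat_lit 610) (nat_lit 13654) (nat_lit 164) (.node .nil (nat_lit
  611) (nat_lit 17030) (nat_lit 1200) .nil))) (nat_lit 612) (nat_lit 6516) (nat_lit 265) (.node (.node (.node
  .nil (nat_lit 613) (nat_lit 10752) (nat_lit 868) .nil) (nat_lit 614) (nat_lit 17046) (nat_lit 1200) (.node
  .nil (nat_lit 615) (nat_lit 13670) (nat_lit 164) .nil)) (nat_lit 616) (nat_lit 6816) (nat_lit 872) (.node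
  (.node .nil (nat_lit 617) (nat_lit 16134) (nat_lit 181) .nil) (nat_lit 618) (nat_lit 18454) (nat_lit 156)
  .nil))) (nat_lit 619) (nat_lit 19510) (nat_lit 1160) (.node (.node (.node (.node .nil (nat_lit 620) (nat_lit
  16150) (nat_lit 181) .nil) (nat_lit 621) (nat_lit 14870) (nat_lit 1185) (.node .nil (nat_lit 622) (nat_lit
  15876) (nat_lit 258) .nil)) (nat_lit 623) (nat_lit 18470) (nat_lit 156) (.node (.node .nil (nat_lit 624)
  (nat_lit 6532) (nat_lit 265) .nil) (nat_lit 625) (nat_lit 11392) (nat_lit 880) (.node .nil (nat_lit 626)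
  (nat_lit 17062) (nat_lit 1200) .nil))) (nat_lit 627) (nat_lit 13686) (nat_lit 164) (.node (.node (.node .nil
  (nat_lit 628) (nat_lit 10580) (nat_lit 263) .nil) (nat_lit 629) (nat_lit 17908) (nat_lit 271) (.node .nil
  (nat_lit 630) (nat_lit 13702) (nat_lit 164) .nil)) (nat_lit 631) (nat_lit 17078) (nat_lit 1200) (.node
  (.node .nil (nat_lit 632) (nat_lit 16166) (nat_lit 181) .nil) (nat_lit 633) (nat_lit 14886) (nat_lit 1185)
  .nil)))) (nat_lit 634) (nat_lit 12720) (nat_lit 888) (.node (.node (.node (.node (.node .nil (nat_lit 635)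
  (nat_lit 18486) (nat_lit 156) .nil) (nat_lit 636) (nat_lit 6880) (nat_lit 892) (.node .nil (nat_lit 637)
  (nat_lit 16182) (nat_lit 181) .nil)) (nat_lit 638) (nat_lit 18502) (nat_lit 156) (.node (.node .nil (nat_lit
  639) (nat_lit 19526) (nat_lit 1160) .nil) (nat_lit 640) (nat_lit 52) (nat_lit 64) (.node .nil (nat_lit 641)
  (nat_lit 4177) (nat_lit 642) .nil))) (nat_lit 642) (nat_lit 1154) (nat_lit 683) (.node (.node (.node .nil
  (nat_lit 643) (nat_lit 228) (nat_lit 68) .nil) (nat_lit 644) (nat_lit 20788) (nat_lit 78) (.node .nil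
  (nat_lit 645) (nat_lit 8980) (nat_lit 70) .nil)) (nat_lit 646) (nat_lit 21924) (nat_lit 66) (.node (.node
  .nil (nat_lit 647) (nat_lit 24644) (nat_lit 74) .nil) (nat_lit 648) (nat_lit 25458) (nat_lit 1700) .nil)))
  (nat_lit 649) (nat_lit 26512) (nat_lit 710) (.node (.node (.node (.node .nil (nat_lit 650) (nat_lit 24868)
  (nat_lit 75) .nil) (nat_lit 651) (nat_lit 25972) (nat_lit 67) (.node .nil (nat_lit 652) (nat_lit 12420)
  (nat_lit 73) .nil)) (nat_lit 653) (nat_lit 25012) (nat_lit 65) (.node (.node .nil (nat_lit 654) (nat_lit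
  26164) (nat_lit 69) .nil) (nat_lit 655) (nat_lit 25265) (nat_lit 652) (.node .nil (nat_lit 656) (nat_lit
  20804) (nat_lit 78) .nil))) (nat_lit 657) (nat_lit 8996) (nat_lit 70) (.node (.node (.node .nil (nat_lit
  658) (nat_lit 21940) (nat_lit 66) .nil) (nat_lit 659) (nat_lit 24660) (nat_lit 74) (.node .nil (nat_lit 660)
  (nat_lit 68) (nat_lit 64) .nil)) (nat_lit 661) (nat_lit 4195) (nat_lit 642) (.node (.node .nil (nat_lit 662)
  (nat_lit 1186) (nat_lit 703) .nil) (nat_lit 663) (nat_lit 244) (nat_lit 68) .nil))))))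
def tR0_5 : T := (.node (.node (.node (.node (.node (.node (.node .nil (nat_lit 665) (nat_lit 25028) (nat_lit
  65) .nil) (nat_lit 666) (nat_lit 26180) (nat_lit 69) (.node .nil (nat_lit 667) (nat_lit 25313) (nat_lit 664)
  .nil)) (nat_lit 668) (nat_lit 25506) (nat_lit 1712) (.node (.node .nil (nat_lit 669) (nat_lit 26528)
  (nat_lit 722) .nil) (nat_lit 670) (nat_lit 24884) (nat_lit 75) (.node .nil (nat_lit 671) (nat_lit 25988)
  (nat_lit 67) .nil))) (nat_lit 672) (nat_lit 25330) (nat_lit 664) (.node (.node (.node .nil (nat_lit 673)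
  (nat_lit 27040) (nat_lit 750) .nil) (nat_lit 674) (nat_lit 24900) (nat_lit 75) (.node .nil (nat_lit 675)
  (nat_lit 26004) (nat_lit 67) .nil)) (nat_lit 676) (nat_lit 12452) (nat_lit 73) (.node (.node .nil (nat_lit
  677) (nat_lit 25044) (nat_lit 65) .nil) (nat_lit 678) (nat_lit 26196) (nat_lit 69) .nil))) (nat_lit 679)
  (nat_lit 25473) (nat_lit 1700) (.node (.node (.node (.node .nil (nat_lit 680) (nat_lit 84) (nat_lit 64)
  .nil) (nat_lit 681) (nat_lit 4065) (nat_lit 1706) (.node .nil (nat_lit 682) (nat_lit 1378) (nat_lit 1687)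
  .nil)) (nat_lit 683) (nat_lit 260) (nat_lit 68) (.node (.node .nil (nat_lit 684) (nat_lit 20820) (nat_lit
  78) .nil) (nat_lit 685) (nat_lit 9012) (nat_lit 70) (.node .nil (nat_lit 686) (nat_lit 21956) (nat_lit 66)
  .nil))) (nat_lit 687) (nat_lit 24676) (nat_lit 74) (.node (.node (.node .nil (nat_lit 688) (nat_lit 12468)
  (nat_lit 73) .nil) (nat_lit 689) (nat_lit 25060) (nat_lit 65) (.node .nil (nat_lit 690) (nat_lit 26212)
  (nat_lit 69) .nil)) (nat_lit 691) (nat_lit 25491) (nat_lit 1700) (.node (.node .nil (nat_lit 692) (nat_lit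
  25282) (nat_lit 652) .nil) (nat_lit 693) (nat_lit 27056) (nat_lit 762) .nil)))) (nat_lit 694) (nat_lit
  24916) (nat_lit 75) (.node (.node (.node (.node (.node .nil (nat_lit 695) (nat_lit 26020) (nat_lit 67) .nil)
  (nat_lit 696) (nat_lit 20836) (nat_lit 78) (.node .nil (nat_lit 697) (nat_lit 9028) (nat_lit 70) .nil))
  (nat_lit 698) (nat_lit 21972) (nat_lit 66) (.node (.node .nil (nat_lit 699) (nat_lit 24692) (nat_lit 74)
  .nil) (nat_lit 700) (nat_lit 100) (nat_lit 64) (.node .nil (nat_lit 701) (nat_lit 4017) (nat_lit 1726)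
  .nil))) (nat_lit 702) (nat_lit 1362) (nat_lit 1667) (.node (.node (.node .nil (nat_lit 703) (nat_lit 276)
  (nat_lit 68) .nil) (nat_lit 704) (nat_lit 5284) (nat_lit 128) (.node .nil (nat_lit 705) (nat_lit 18196)
  (nat_lit 136) .nil)) (nat_lit 706) (nat_lit 15732) (nat_lit 140) (.node (.node .nil (nat_lit 707) (nat_lit
  13718) (nat_lit 164) .nil) (nat_lit 708) (nat_lit 26691) (nat_lit 1751) .nil))) (nat_lit 709) (nat_lit
  23812) (nat_lit 134) (.node (.node (.node (.node .nil (nat_lit 710) (nat_lit 13734) (nat_lit 164) .nil)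
  (nat_lit 711) (nat_lit 9380) (nat_lit 138) (.node .nil (nat_lit 712) (nat_lit 16198) (nat_lit 181) .nil))
  (nat_lit 713) (nat_lit 14902) (nat_lit 1185) (.node (.node .nil (nat_lit 714) (nat_lit 19542) (nat_lit 1160)
  .nil) (nat_lit 715) (nat_lit 18518) (nat_lit 156) (.node .nil (nat_lit 716) (nat_lit 14918) (nat_lit 1185)
  .nil))) (nat_lit 717) (nat_lit 16214) (nat_lit 181) (.node (.node (.node .nil (nat_lit 718) (nat_lit 18534)
  (nat_lit 156) .nil) (nat_lit 719) (nat_lit 19558) (nat_lit 1160) (.node .nil (nat_lit 720) (nat_lit 26643)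
  (nat_lit 1731) .nil)) (nat_lit 721) (nat_lit 23828) (nat_lit 134) (.node (.node .nil (nat_lit 722) (nat_lit
  13750) (nat_lit 164) .nil) (nat_lit 723) (nat_lit 9396) (nat_lit 138) .nil))))) (nat_lit 724) (nat_lit 5300)
  (nat_lit 128) (.node (.node (.node (.node (.node (.node .nil (nat_lit 725) (nat_lit 18212) (nat_lit 136)
  .nil) (nat_lit 726) (nat_lit 15748) (nat_lit 140) (.node .nil (nat_lit 727) (nat_lit 13766) (nat_lit 164)
  .nil)) (nat_lit 728) (nat_lit 14934) (nat_lit 1185) (.node (.node .nil (nat_lit 729) (nat_lit 16230)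
  (nat_lit 181) .nil) (nat_lit 730) (nat_lit 18550) (nat_lit 156) (.node .nil (nat_lit 731) (nat_lit 19574)
  (nat_lit 1160) .nil))) (nat_lit 732) (nat_lit 16246) (nat_lit 181) (.node (.node (.node .nil (nat_lit 733)
  (nat_lit 14950) (nat_lit 1185) .nil) (nat_lit 734) (nat_lit 19590) (nat_lit 1160) (.node .nil (nat_lit 735)
  (nat_lit 18566) (nat_lit 156) .nil)) (nat_lit 736) (nat_lit 14966) (nat_lit 1185) (.node (.node .nil
  (nat_lit 737) (nat_lit 14625) (nat_lit 724) .nil) (nat_lit 738) (nat_lit 18582) (nat_lit 156) .nil)))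
  (nat_lit 739) (nat_lit 19606) (nat_lit 1160) (.node (.node (.node (.node .nil (nat_lit 740) (nat_lit 15668)
  (nat_lit 137) .nil) (nat_lit 741) (nat_lit 14982) (nat_lit 1185) (.node .nil (nat_lit 742) (nat_lit 19622)
  (nat_lit 1160) .nil)) (nat_lit 743) (nat_lit 18598) (nat_lit 156) (.node (.node .nil (nat_lit 744) (nat_lit
  5316) (nat_lit 128) .nil) (nat_lit 745) (nat_lit 18228) (nat_lit 136) (.node .nil (nat_lit 746) (nat_lit
  13782) (nat_lit 164) .nil))) (nat_lit 747) (nat_lit 17094) (nat_lit 1200) (.node (.node (.node .nil (nat_lit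
  748) (nat_lit 26464) (nat_lit 610) .nil) (nat_lit 749) (nat_lit 23844) (nat_lit 134) (.node .nil (nat_lit
  750) (nat_lit 17110) (nat_lit 1200) .nil)) (nat_lit 751) (nat_lit 9412) (nat_lit 138) (.node (.node .nil
  (nat_lit 752) (nat_lit 15684) (nat_lit 137) .nil) (nat_lit 753) (nat_lit 14998) (nat_lit 1185) .nil))))
  (nat_lit 754) (nat_lit 19638) (nat_lit 1160) (.node (.node (.node (.node (.node .nil (nat_lit 755) (nat_lit
  18614) (nat_lit 156) .nil) (nat_lit 756) (nat_lit 15014) (nat_lit 1185) (.node .nil (nat_lit 757) (nat_lit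
  12738) (nat_lit 576) .nil)) (nat_lit 758) (nat_lit 18630) (nat_lit 156) (.node (.node .nil (nat_lit 759)
  (nat_lit 19654) (nat_lit 1160) .nil) (nat_lit 760) (nat_lit 26480) (nat_lit 630) (.node .nil (nat_lit 761)
  (nat_lit 23860) (nat_lit 134) .nil))) (nat_lit 762) (nat_lit 17126) (nat_lit 1200) (.node (.node (.node .nil
  (nat_lit 763) (nat_lit 9428) (nat_lit 138) .nil) (nat_lit 764) (nat_lit 5332) (nat_lit 128) (.node .nil
  (nat_lit 765) (nat_lit 18244) (nat_lit 136) .nil)) (nat_lit 766) (nat_lit 13798) (nat_lit 164) (.node (.node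
  .nil (nat_lit 767) (nat_lit 17142) (nat_lit 1200) .nil) (nat_lit 768) (nat_lit 8466) (nat_lit 1953) .nil)))
  (nat_lit 769) (nat_lit 16262) (nat_lit 181) (.node (.node (.node (.node .nil (nat_lit 770) (nat_lit 18646)
  (nat_lit 156) .nil) (nat_lit 771) (nat_lit 19670) (nat_lit 1160) (.node .nil (nat_lit 772) (nat_lit 8352)
  (nat_lit 458) .nil)) (nat_lit 773) (nat_lit 15030) (nat_lit 1185) (.node (.node .nil (nat_lit 774) (nat_lit
  19686) (nat_lit 1160) .nil) (nat_lit 775) (nat_lit 18662) (nat_lit 156) (.node .nil (nat_lit 776) (nat_lit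
  8435) (nat_lit 780) .nil))) (nat_lit 777) (nat_lit 24851) (nat_lit 1805) (.node (.node (.node .nil (nat_lit
  778) (nat_lit 13814) (nat_lit 164) .nil) (nat_lit 779) (nat_lit 17158) (nat_lit 1200) (.node .nil (nat_lit
  780) (nat_lit 3074) (nat_lit 897) .nil)) (nat_lit 781) (nat_lit 12882) (nat_lit 1940) (.node (.node .nil
  (nat_lit 782) (nat_lit 17174) (nat_lit 1200) .nil) (nat_lit 783) (nat_lit 13830) (nat_lit 164) .nil))))))
def tR0_6 : T := (.node (.node (.node (.node (.node (.node (.node .nil (nat_lit 785) (nat_lit 15046) (nat_lit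
  1185) .nil) (nat_lit 786) (nat_lit 19702) (nat_lit 1160) (.node .nil (nat_lit 787) (nat_lit 18678) (nat_lit
  156) .nil)) (nat_lit 788) (nat_lit 14516) (nat_lit 704) (.node (.node .nil (nat_lit 789) (nat_lit 7809)
  (nat_lit 1847) .nil) (nat_lit 790) (nat_lit 18694) (nat_lit 156) (.node .nil (nat_lit 791) (nat_lit 19718)
  (nat_lit 1160) .nil))) (nat_lit 792) (nat_lit 26804) (nat_lit 713) (.node (.node (.node .nil (nat_lit 793)
  (nat_lit 12834) (nat_lit 1920) .nil) (nat_lit 794) (nat_lit 17190) (nat_lit 1200) (.node .nil (nat_lit 795)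
  (nat_lit 13846) (nat_lit 164) .nil)) (nat_lit 796) (nat_lit 23588) (nat_lit 711) (.node (.node .nil (nat_lit
  797) (nat_lit 7778) (nat_lit 912) .nil) (nat_lit 798) (nat_lit 13862) (nat_lit 164) .nil))) (nat_lit 799)
  (nat_lit 17206) (nat_lit 1200) (.node (.node (.node (.node .nil (nat_lit 800) (nat_lit 23604) (nat_lit 711)
  .nil) (nat_lit 801) (nat_lit 25859) (nat_lit 1829) (.node .nil (nat_lit 802) (nat_lit 17222) (nat_lit 1200)
  .nil)) (nat_lit 803) (nat_lit 13878) (nat_lit 164) (.node (.node .nil (nat_lit 804) (nat_lit 26742) (nat_lit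
  1177) .nil) (nat_lit 805) (nat_lit 12370) (nat_lit 936) (.node .nil (nat_lit 806) (nat_lit 7586) (nat_lit
  898) .nil))) (nat_lit 807) (nat_lit 17238) (nat_lit 1200) (.node (.node (.node .nil (nat_lit 808) (nat_lit
  14532) (nat_lit 704) .nil) (nat_lit 809) (nat_lit 15062) (nat_lit 1185) (.node .nil (nat_lit 810) (nat_lit
  9202) (nat_lit 1954) .nil)) (nat_lit 811) (nat_lit 18710) (nat_lit 156) (.node (.node .nil (nat_lit 812)
  (nat_lit 15078) (nat_lit 1185) .nil) (nat_lit 813) (nat_lit 16294) (nat_lit 181) .nil)))) (nat_lit 814)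
  (nat_lit 18726) (nat_lit 156) (.node (.node (.node (.node (.node .nil (nat_lit 815) (nat_lit 19734) (nat_lit
  1160) .nil) (nat_lit 816) (nat_lit 26758) (nat_lit 1177) (.node .nil (nat_lit 817) (nat_lit 12674) (nat_lit
  956) .nil)) (nat_lit 818) (nat_lit 13894) (nat_lit 164) (.node (.node .nil (nat_lit 819) (nat_lit 17254)
  (nat_lit 1200) .nil) (nat_lit 820) (nat_lit 23620) (nat_lit 711) (.node .nil (nat_lit 821) (nat_lit 25907)
  (nat_lit 1841) .nil))) (nat_lit 822) (nat_lit 17270) (nat_lit 1200) (.node (.node (.node .nil (nat_lit 823)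
  (nat_lit 13910) (nat_lit 164) .nil) (nat_lit 824) (nat_lit 15094) (nat_lit 1185) (.node .nil (nat_lit 825)
  (nat_lit 16310) (nat_lit 181) .nil)) (nat_lit 826) (nat_lit 18742) (nat_lit 156) (.node (.node .nil (nat_lit
  827) (nat_lit 4546) (nat_lit 1971) .nil) (nat_lit 828) (nat_lit 14548) (nat_lit 704) .nil))) (nat_lit 829)
  (nat_lit 15110) (nat_lit 1185) (.node (.node (.node (.node .nil (nat_lit 830) (nat_lit 19750) (nat_lit 1160)
  .nil) (nat_lit 831) (nat_lit 11539) (nat_lit 827) (.node .nil (nat_lit 832) (nat_lit 1568) (nat_lit 320)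
  .nil)) (nat_lit 833) (nat_lit 28932) (nat_lit 520) (.node (.node .nil (nat_lit 834) (nat_lit 30592) (nat_lit
  334) .nil) (nat_lit 835) (nat_lit 30208) (nat_lit 327) (.node .nil (nat_lit 836) (nat_lit 7106) (nat_lit
  1896) .nil))) (nat_lit 837) (nat_lit 29680) (nat_lit 323) (.node (.node (.node .nil (nat_lit 838) (nat_lit
  28388) (nat_lit 514) .nil) (nat_lit 839) (nat_lit 29296) (nat_lit 333) (.node .nil (nat_lit 840) (nat_lit
  7392) (nat_lit 335) .nil)) (nat_lit 841) (nat_lit 29952) (nat_lit 326) (.node (.node .nil (nat_lit 842)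
  (nat_lit 30340) (nat_lit 523) .nil) (nat_lit 843) (nat_lit 30084) (nat_lit 515) .nil))))) (nat_lit 844)
  (nat_lit 3424) (nat_lit 325) (.node (.node (.node (.node (.node (.node .nil (nat_lit 845) (nat_lit 29552)
  (nat_lit 332) .nil) (nat_lit 846) (nat_lit 30498) (nat_lit 871) (.node .nil (nat_lit 847) (nat_lit 28804)
  (nat_lit 525) .nil)) (nat_lit 848) (nat_lit 7122) (nat_lit 1916) (.node (.node .nil (nat_lit 849) (nat_lit
  29696) (nat_lit 343) .nil) (nat_lit 850) (nat_lit 28404) (nat_lit 514) (.node .nil (nat_lit 851) (nat_lit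
  29328) (nat_lit 345) .nil))) (nat_lit 852) (nat_lit 2192) (nat_lit 340) (.node (.node (.node .nil (nat_lit
  853) (nat_lit 28948) (nat_lit 520) .nil) (nat_lit 854) (nat_lit 30608) (nat_lit 346) (.node .nil (nat_lit
  855) (nat_lit 30224) (nat_lit 339) .nil)) (nat_lit 856) (nat_lit 4048) (nat_lit 337) (.node (.node .nil
  (nat_lit 857) (nat_lit 29568) (nat_lit 344) .nil) (nat_lit 858) (nat_lit 30514) (nat_lit 883) .nil)))
  (nat_lit 859) (nat_lit 28820) (nat_lit 525) (.node (.node (.node (.node .nil (nat_lit 860) (nat_lit 7200)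
  (nat_lit 347) .nil) (nat_lit 861) (nat_lit 29968) (nat_lit 338) (.node .nil (nat_lit 862) (nat_lit 30356)
  (nat_lit 523) .nil)) (nat_lit 863) (nat_lit 30100) (nat_lit 515) (.node (.node .nil (nat_lit 864) (nat_lit
  7184) (nat_lit 359) .nil) (nat_lit 865) (nat_lit 29984) (nat_lit 366) (.node .nil (nat_lit 866) (nat_lit
  30372) (nat_lit 523) .nil))) (nat_lit 867) (nat_lit 30116) (nat_lit 515) (.node (.node (.node .nil (nat_lit
  868) (nat_lit 4096) (nat_lit 365) .nil) (nat_lit 869) (nat_lit 29584) (nat_lit 356) (.node .nil (nat_lit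
  870) (nat_lit 30546) (nat_lit 1883) .nil)) (nat_lit 871) (nat_lit 28836) (nat_lit 525) (.node (.node .nil
  (nat_lit 872) (nat_lit 2224) (nat_lit 360) .nil) (nat_lit 873) (nat_lit 28964) (nat_lit 520) .nil))))
  (nat_lit 874) (nat_lit 30624) (nat_lit 358) (.node (.node (.node (.node (.node .nil (nat_lit 875) (nat_lit
  30240) (nat_lit 367) .nil) (nat_lit 876) (nat_lit 6768) (nat_lit 354) (.node .nil (nat_lit 877) (nat_lit
  29712) (nat_lit 363) .nil)) (nat_lit 878) (nat_lit 28420) (nat_lit 514) (.node (.node .nil (nat_lit 879)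
  (nat_lit 29360) (nat_lit 357) .nil) (nat_lit 880) (nat_lit 4272) (nat_lit 377) (.node .nil (nat_lit 881)
  (nat_lit 29600) (nat_lit 368) .nil))) (nat_lit 882) (nat_lit 30530) (nat_lit 1871) (.node (.node (.node .nil
  (nat_lit 883) (nat_lit 28852) (nat_lit 525) .nil) (nat_lit 884) (nat_lit 7168) (nat_lit 371) (.node .nil
  (nat_lit 885) (nat_lit 30000) (nat_lit 378) .nil)) (nat_lit 886) (nat_lit 30388) (nat_lit 523) (.node (.node
  .nil (nat_lit 887) (nat_lit 30132) (nat_lit 515) .nil) (nat_lit 888) (nat_lit 4944) (nat_lit 374) .nil)))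
  (nat_lit 889) (nat_lit 29728) (nat_lit 383) (.node (.node (.node (.node .nil (nat_lit 890) (nat_lit 28436)
  (nat_lit 514) .nil) (nat_lit 891) (nat_lit 29392) (nat_lit 369) (.node .nil (nat_lit 892) (nat_lit 2272)
  (nat_lit 380) .nil)) (nat_lit 893) (nat_lit 28980) (nat_lit 520) (.node (.node .nil (nat_lit 894) (nat_lit
  30640) (nat_lit 370) .nil) (nat_lit 895) (nat_lit 30256) (nat_lit 379) (.node .nil (nat_lit 896) (nat_lit
  4640) (nat_lit 192) .nil))) (nat_lit 897) (nat_lit 848) (nat_lit 201) (.node (.node (.node .nil (nat_lit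
  898) (nat_lit 2672) (nat_lit 206) .nil) (nat_lit 899) (nat_lit 11713) (nat_lit 896) (.node .nil (nat_lit
  900) (nat_lit 21520) (nat_lit 202) .nil)) (nat_lit 901) (nat_lit 13184) (nat_lit 195) (.node (.node .nil
  (nat_lit 902) (nat_lit 17286) (nat_lit 1200) .nil) (nat_lit 903) (nat_lit 13926) (nat_lit 164) .nil))))))
def tR0_7 : T := (.node (.node (.node (.node (.node (.node (.node .nil (nat_lit 905) (nat_lit 16326) (nat_lit
  181) .nil) (nat_lit 906) (nat_lit 18016) (nat_lit 193) (.node .nil (nat_lit 907) (nat_lit 12224) (nat_lit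
  200) .nil)) (nat_lit 908) (nat_lit 8928) (nat_lit 197) (.node (.node .nil (nat_lit 909) (nat_lit 15126)
  (nat_lit 1185) .nil) (nat_lit 910) (nat_lit 19766) (nat_lit 1160) (.node .nil (nat_lit 911) (nat_lit 18758)
  (nat_lit 156) .nil))) (nat_lit 912) (nat_lit 2785) (nat_lit 1939) (.node (.node (.node .nil (nat_lit 913)
  (nat_lit 13072) (nat_lit 215) .nil) (nat_lit 914) (nat_lit 17302) (nat_lit 1200) (.node .nil (nat_lit 915)
  (nat_lit 13942) (nat_lit 164) .nil)) (nat_lit 916) (nat_lit 4768) (nat_lit 212) (.node (.node .nil (nat_lit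
  917) (nat_lit 20512) (nat_lit 221) .nil) (nat_lit 918) (nat_lit 9232) (nat_lit 218) .nil))) (nat_lit 919)
  (nat_lit 12001) (nat_lit 916) (.node (.node (.node (.node .nil (nat_lit 920) (nat_lit 9152) (nat_lit 209)
  .nil) (nat_lit 921) (nat_lit 15142) (nat_lit 1185) (.node .nil (nat_lit 922) (nat_lit 19782) (nat_lit 1160)
  .nil)) (nat_lit 923) (nat_lit 18774) (nat_lit 156) (.node (.node .nil (nat_lit 924) (nat_lit 12691) (nat_lit
  956) .nil) (nat_lit 925) (nat_lit 16342) (nat_lit 181) (.node .nil (nat_lit 926) (nat_lit 18080) (nat_lit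
  213) .nil))) (nat_lit 927) (nat_lit 12592) (nat_lit 220) (.node (.node (.node .nil (nat_lit 928) (nat_lit
  11731) (nat_lit 896) .nil) (nat_lit 929) (nat_lit 15158) (nat_lit 1185) (.node .nil (nat_lit 930) (nat_lit
  18160) (nat_lit 233) .nil)) (nat_lit 931) (nat_lit 11680) (nat_lit 224) (.node (.node .nil (nat_lit 932)
  (nat_lit 7904) (nat_lit 237) .nil) (nat_lit 933) (nat_lit 16358) (nat_lit 181) .nil)))) (nat_lit 934)
  (nat_lit 18790) (nat_lit 156) (.node (.node (.node (.node (.node .nil (nat_lit 935) (nat_lit 19798) (nat_lit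
  1160) .nil) (nat_lit 936) (nat_lit 4864) (nat_lit 232) (.node .nil (nat_lit 937) (nat_lit 20528) (nat_lit
  225) .nil)) (nat_lit 938) (nat_lit 9248) (nat_lit 230) (.node (.node .nil (nat_lit 939) (nat_lit 12929)
  (nat_lit 1960) .nil) (nat_lit 940) (nat_lit 21840) (nat_lit 226) (.node .nil (nat_lit 941) (nat_lit 12640)
  (nat_lit 235) .nil))) (nat_lit 942) (nat_lit 13958) (nat_lit 164) (.node (.node (.node .nil (nat_lit 943)
  (nat_lit 17318) (nat_lit 1200) .nil) (nat_lit 944) (nat_lit 2768) (nat_lit 249) (.node .nil (nat_lit 945)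
  (nat_lit 16374) (nat_lit 181) .nil)) (nat_lit 946) (nat_lit 18806) (nat_lit 156) (.node (.node .nil (nat_lit
  947) (nat_lit 19814) (nat_lit 1160) .nil) (nat_lit 948) (nat_lit 12019) (nat_lit 916) .nil))) (nat_lit 949)
  (nat_lit 15174) (nat_lit 1185) (.node (.node (.node (.node .nil (nat_lit 950) (nat_lit 19830) (nat_lit 1160)
  .nil) (nat_lit 951) (nat_lit 11952) (nat_lit 244) (.node .nil (nat_lit 952) (nat_lit 22176) (nat_lit 246)
  .nil)) (nat_lit 953) (nat_lit 12336) (nat_lit 255) (.node (.node .nil (nat_lit 954) (nat_lit 13974) (nat_lit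
  164) .nil) (nat_lit 955) (nat_lit 17334) (nat_lit 1200) (.node .nil (nat_lit 956) (nat_lit 4928) (nat_lit
  252) .nil))) (nat_lit 957) (nat_lit 20544) (nat_lit 245) (.node (.node (.node .nil (nat_lit 958) (nat_lit
  9264) (nat_lit 242) .nil) (nat_lit 959) (nat_lit 12977) (nat_lit 1980) (.node .nil (nat_lit 960) (nat_lit
  112) (nat_lit 64) .nil)) (nat_lit 961) (nat_lit 8595) (nat_lit 2021) (.node (.node .nil (nat_lit 962)
  (nat_lit 20848) (nat_lit 78) .nil) (nat_lit 963) (nat_lit 26320) (nat_lit 71) .nil))))) (nat_lit 964)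
  (nat_lit 8641) (nat_lit 2033) (.node (.node (.node (.node (.node (.node .nil (nat_lit 965) (nat_lit 22643)
  (nat_lit 2017) .nil) (nat_lit 966) (nat_lit 288) (nat_lit 68) (.node .nil (nat_lit 967) (nat_lit 21234)
  (nat_lit 2042) .nil)) (nat_lit 968) (nat_lit 21651) (nat_lit 1004) (.node (.node .nil (nat_lit 969) (nat_lit
  8610) (nat_lit 2021) .nil) (nat_lit 970) (nat_lit 21187) (nat_lit 2030) (.node .nil (nat_lit 971) (nat_lit
  4387) (nat_lit 1007) .nil))) (nat_lit 972) (nat_lit 24547) (nat_lit 1000) (.node (.node (.node .nil (nat_lit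
  973) (nat_lit 1441) (nat_lit 1016) .nil) (nat_lit 974) (nat_lit 21506) (nat_lit 991) (.node .nil (nat_lit
  975) (nat_lit 20945) (nat_lit 1018) .nil)) (nat_lit 976) (nat_lit 8625) (nat_lit 2021) (.node (.node .nil
  (nat_lit 977) (nat_lit 22563) (nat_lit 2037) .nil) (nat_lit 978) (nat_lit 7472) (nat_lit 80) .nil)))
  (nat_lit 979) (nat_lit 21202) (nat_lit 2030) (.node (.node (.node (.node .nil (nat_lit 980) (nat_lit 11584)
  (nat_lit 84) .nil) (nat_lit 981) (nat_lit 8659) (nat_lit 2033) (.node .nil (nat_lit 982) (nat_lit 20704)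
  (nat_lit 90) .nil)) (nat_lit 983) (nat_lit 26336) (nat_lit 83) (.node (.node .nil (nat_lit 984) (nat_lit
  24563) (nat_lit 1020) .nil) (nat_lit 985) (nat_lit 2912) (nat_lit 88) (.node .nil (nat_lit 986) (nat_lit
  4401) (nat_lit 1007) .nil))) (nat_lit 987) (nat_lit 20737) (nat_lit 1006) (.node (.node (.node .nil (nat_lit
  988) (nat_lit 1459) (nat_lit 1016) .nil) (nat_lit 989) (nat_lit 8674) (nat_lit 2033) (.node .nil (nat_lit
  990) (nat_lit 21251) (nat_lit 2042) .nil)) (nat_lit 991) (nat_lit 7840) (nat_lit 92) (.node (.node .nil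
  (nat_lit 992) (nat_lit 23107) (nat_lit 964) .nil) (nat_lit 993) (nat_lit 7888) (nat_lit 110) .nil))))
  (nat_lit 994) (nat_lit 21091) (nat_lit 1990) (.node (.node (.node (.node (.node .nil (nat_lit 995) (nat_lit
  8016) (nat_lit 96) .nil) (nat_lit 996) (nat_lit 627) (nat_lit 960) (.node .nil (nat_lit 997) (nat_lit 2944)
  (nat_lit 100) .nil)) (nat_lit 998) (nat_lit 23378) (nat_lit 2019) (.node (.node .nil (nat_lit 999) (nat_lit
  21137) (nat_lit 2002) .nil) (nat_lit 1000) (nat_lit 11600) (nat_lit 104) (.node .nil (nat_lit 1001) (nat_lit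
  8499) (nat_lit 1997) .nil))) (nat_lit 1002) (nat_lit 21296) (nat_lit 102) (.node (.node (.node .nil (nat_lit
  1003) (nat_lit 26960) (nat_lit 111) .nil) (nat_lit 1004) (nat_lit 7969) (nat_lit 985) (.node .nil (nat_lit
  1005) (nat_lit 21795) (nat_lit 1993) .nil)) (nat_lit 1006) (nat_lit 7520) (nat_lit 108) (.node (.node .nil
  (nat_lit 1007) (nat_lit 1218) (nat_lit 966) .nil) (nat_lit 1008) (nat_lit 24531) (nat_lit 980) .nil)))
  (nat_lit 1009) (nat_lit 3008) (nat_lit 112) (.node (.node (.node (.node .nil (nat_lit 1010) (nat_lit 23426)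
  (nat_lit 2039) .nil) (nat_lit 1011) (nat_lit 21105) (nat_lit 1990) (.node .nil (nat_lit 1012) (nat_lit
  22769) (nat_lit 961) .nil)) (nat_lit 1013) (nat_lit 641) (nat_lit 960) (.node (.node .nil (nat_lit 1014)
  (nat_lit 21155) (nat_lit 2002) .nil) (nat_lit 1015) (nat_lit 8192) (nat_lit 116) (.node .nil (nat_lit 1016)
  (nat_lit 384) (nat_lit 118) .nil))) (nat_lit 1017) (nat_lit 21859) (nat_lit 2013) (.node (.node (.node .nil
  (nat_lit 1018) (nat_lit 7552) (nat_lit 120) .nil) (nat_lit 1019) (nat_lit 20642) (nat_lit 978) (.node .nil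
  (nat_lit 1020) (nat_lit 11632) (nat_lit 124) .nil)) (nat_lit 1021) (nat_lit 8547) (nat_lit 2009) (.node
  (.node .nil (nat_lit 1022) (nat_lit 21280) (nat_lit 114) .nil) (nat_lit 1023) (nat_lit 26976) (nat_lit 123)
  .nil))))))
def tR0_8 : T := (.node (.node (.node (.node (.node (.node (.node .nil (nat_lit 1089) (nat_lit 12244) (nat_lit
  200) .nil) (nat_lit 1090) (nat_lit 9043) (nat_lit 70) (.node .nil (nat_lit 1091) (nat_lit 12065) (nat_lit
  1141) .nil)) (nat_lit 1092) (nat_lit 2692) (nat_lit 206) (.node (.node .nil (nat_lit 1093) (nat_lit 12610)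
  (nat_lit 220) .nil) (nat_lit 1094) (nat_lit 3025) (nat_lit 112) (.node .nil (nat_lit 1095) (nat_lit 13990)
  (nat_lit 164) .nil))) (nat_lit 1096) (nat_lit 3171) (nat_lit 1100) (.node (.node (.node .nil (nat_lit 1097)
  (nat_lit 5186) (nat_lit 1276) .nil) (nat_lit 1098) (nat_lit 11649) (nat_lit 124) (.node .nil (nat_lit 1099)
  (nat_lit 13202) (nat_lit 195) .nil)) (nat_lit 1100) (nat_lit 868) (nat_lit 201) (.node (.node .nil (nat_lit
  1101) (nat_lit 12483) (nat_lit 73) .nil) (nat_lit 1102) (nat_lit 7713) (nat_lit 1144) .nil))) (nat_lit 1103)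
  (nat_lit 18822) (nat_lit 156) (.node (.node (.node (.node .nil (nat_lit 1104) (nat_lit 2708) (nat_lit 206)
  .nil) (nat_lit 1105) (nat_lit 12258) (nat_lit 200) (.node .nil (nat_lit 1106) (nat_lit 2961) (nat_lit 100)
  .nil)) (nat_lit 1107) (nat_lit 14006) (nat_lit 164) (.node (.node .nil (nat_lit 1108) (nat_lit 4676)
  (nat_lit 192) .nil) (nat_lit 1109) (nat_lit 12276) (nat_lit 200) (.node .nil (nat_lit 1110) (nat_lit 8883)
  (nat_lit 82) .nil))) (nat_lit 1111) (nat_lit 11857) (nat_lit 1121) (.node (.node (.node .nil (nat_lit 1112)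
  (nat_lit 884) (nat_lit 201) .nil) (nat_lit 1113) (nat_lit 12115) (nat_lit 93) (.node .nil (nat_lit 1114)
  (nat_lit 7697) (nat_lit 1132) .nil)) (nat_lit 1115) (nat_lit 18838) (nat_lit 156) (.node (.node .nil
  (nat_lit 1116) (nat_lit 3219) (nat_lit 1112) .nil) (nat_lit 1117) (nat_lit 5138) (nat_lit 1256) .nil))))
  (nat_lit 1118) (nat_lit 11617) (nat_lit 104) (.node (.node (.node (.node (.node .nil (nat_lit 1119) (nat_lit
  13090) (nat_lit 215) .nil) (nat_lit 1120) (nat_lit 3299) (nat_lit 1124) (.node .nil (nat_lit 1121) (nat_lit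
  4690) (nat_lit 192) .nil)) (nat_lit 1122) (nat_lit 11825) (nat_lit 1108) (.node (.node .nil (nat_lit 1123)
  (nat_lit 13220) (nat_lit 195) .nil) (nat_lit 1124) (nat_lit 900) (nat_lit 201) (.node .nil (nat_lit 1125)
  (nat_lit 13043) (nat_lit 97) .nil))) (nat_lit 1126) (nat_lit 7489) (nat_lit 80) (.node (.node (.node .nil
  (nat_lit 1127) (nat_lit 19846) (nat_lit 1160) .nil) (nat_lit 1128) (nat_lit 4708) (nat_lit 192) (.node .nil
  (nat_lit 1129) (nat_lit 12292) (nat_lit 200) .nil)) (nat_lit 1130) (nat_lit 7857) (nat_lit 92) (.node (.node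
  .nil (nat_lit 1131) (nat_lit 12129) (nat_lit 93) .nil) (nat_lit 1132) (nat_lit 2724) (nat_lit 206) .nil)))
  (nat_lit 1133) (nat_lit 13106) (nat_lit 1248) (.node (.node (.node (.node .nil (nat_lit 1134) (nat_lit 3233)
  (nat_lit 1112) .nil) (nat_lit 1135) (nat_lit 17350) (nat_lit 1200) (.node .nil (nat_lit 1136) (nat_lit 916)
  (nat_lit 201) .nil)) (nat_lit 1137) (nat_lit 13155) (nat_lit 117) (.node (.node .nil (nat_lit 1138) (nat_lit
  305) (nat_lit 68) .nil) (nat_lit 1139) (nat_lit 19862) (nat_lit 1160) (.node .nil (nat_lit 1140) (nat_lit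
  3347) (nat_lit 1136) .nil))) (nat_lit 1141) (nat_lit 4786) (nat_lit 212) (.node (.node (.node .nil (nat_lit
  1142) (nat_lit 11809) (nat_lit 1088) .nil) (nat_lit 1143) (nat_lit 13236) (nat_lit 195) (.node .nil (nat_lit
  1144) (nat_lit 2740) (nat_lit 206) .nil)) (nat_lit 1145) (nat_lit 13250) (nat_lit 1268) (.node (.node .nil
  (nat_lit 1146) (nat_lit 3185) (nat_lit 1100) .nil) (nat_lit 1147) (nat_lit 17366) (nat_lit 1200) .nil)))))
  (nat_lit 1148) (nat_lit 4724) (nat_lit 192) (.node (.node (.node (.node (.node (.node .nil (nat_lit 1149)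
  (nat_lit 12308) (nat_lit 200) .nil) (nat_lit 1150) (nat_lit 2754) (nat_lit 206) (.node .nil (nat_lit 1151)
  (nat_lit 12497) (nat_lit 73) .nil)) (nat_lit 1152) (nat_lit 1748) (nat_lit 384) (.node (.node .nil (nat_lit
  1153) (nat_lit 5984) (nat_lit 1289) .nil) (nat_lit 1154) (nat_lit 10308) (nat_lit 396) (.node .nil (nat_lit
  1155) (nat_lit 9601) (nat_lit 162) .nil))) (nat_lit 1156) (nat_lit 5506) (nat_lit 168) (.node (.node (.node
  .nil (nat_lit 1157) (nat_lit 10884) (nat_lit 390) .nil) (nat_lit 1158) (nat_lit 9619) (nat_lit 162) (.node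
  .nil (nat_lit 1159) (nat_lit 23715) (nat_lit 1187) .nil)) (nat_lit 1160) (nat_lit 6308) (nat_lit 391) (.node
  (.node .nil (nat_lit 1161) (nat_lit 5713) (nat_lit 1192) .nil) (nat_lit 1162) (nat_lit 3604) (nat_lit 395)
  .nil))) (nat_lit 1163) (nat_lit 9858) (nat_lit 1186) (.node (.node (.node (.node .nil (nat_lit 1164)
  (nat_lit 5731) (nat_lit 1192) .nil) (nat_lit 1165) (nat_lit 15649) (nat_lit 172) (.node .nil (nat_lit 1166)
  (nat_lit 24083) (nat_lit 170) .nil)) (nat_lit 1167) (nat_lit 18176) (nat_lit 1282) (.node (.node .nil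
  (nat_lit 1168) (nat_lit 5554) (nat_lit 188) .nil) (nat_lit 1169) (nat_lit 10900) (nat_lit 390) (.node .nil
  (nat_lit 1170) (nat_lit 9651) (nat_lit 182) .nil))) (nat_lit 1171) (nat_lit 23699) (nat_lit 1207) (.node
  (.node (.node .nil (nat_lit 1172) (nat_lit 1764) (nat_lit 384) .nil) (nat_lit 1173) (nat_lit 6080) (nat_lit
  1309) (.node .nil (nat_lit 1174) (nat_lit 10324) (nat_lit 396) .nil)) (nat_lit 1175) (nat_lit 9665) (nat_lit
  182) (.node (.node .nil (nat_lit 1176) (nat_lit 5763) (nat_lit 1212) .nil) (nat_lit 1177) (nat_lit 14497)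
  (nat_lit 184) .nil)))) (nat_lit 1178) (nat_lit 24099) (nat_lit 190) (.node (.node (.node (.node (.node .nil
  (nat_lit 1179) (nat_lit 20320) (nat_lit 1302) .nil) (nat_lit 1180) (nat_lit 6324) (nat_lit 391) (.node .nil
  (nat_lit 1181) (nat_lit 5777) (nat_lit 1212) .nil)) (nat_lit 1182) (nat_lit 3620) (nat_lit 395) (.node
  (.node .nil (nat_lit 1183) (nat_lit 9906) (nat_lit 1206) .nil) (nat_lit 1184) (nat_lit 6340) (nat_lit 391)
  (.node .nil (nat_lit 1185) (nat_lit 5345) (nat_lit 128) .nil))) (nat_lit 1186) (nat_lit 3636) (nat_lit 395)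
  (.node (.node (.node .nil (nat_lit 1187) (nat_lit 9554) (nat_lit 158) .nil) (nat_lit 1188) (nat_lit 5619)
  (nat_lit 1152) (.node .nil (nat_lit 1189) (nat_lit 15793) (nat_lit 1156) .nil)) (nat_lit 1190) (nat_lit
  24067) (nat_lit 130) (.node (.node .nil (nat_lit 1191) (nat_lit 18128) (nat_lit 1322) .nil) (nat_lit 1192)
  (nat_lit 1780) (nat_lit 384) .nil))) (nat_lit 1193) (nat_lit 6416) (nat_lit 1313) (.node (.node (.node
  (.node .nil (nat_lit 1194) (nat_lit 10340) (nat_lit 396) .nil) (nat_lit 1195) (nat_lit 9761) (nat_lit 1162)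
  (.node .nil (nat_lit 1196) (nat_lit 5666) (nat_lit 1172) .nil)) (nat_lit 1197) (nat_lit 10916) (nat_lit 390)
  (.node (.node .nil (nat_lit 1198) (nat_lit 9443) (nat_lit 138) .nil) (nat_lit 1199) (nat_lit 23939) (nat_lit
  1163) (.node .nil (nat_lit 1200) (nat_lit 5683) (nat_lit 1172) .nil))) (nat_lit 1201) (nat_lit 15809)
  (nat_lit 1168) (.node (.node (.node .nil (nat_lit 1202) (nat_lit 20496) (nat_lit 1335) .nil) (nat_lit 1203)
  (nat_lit 18064) (nat_lit 1342) (.node .nil (nat_lit 1204) (nat_lit 6356) (nat_lit 391) .nil)) (nat_lit 1205)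
  (nat_lit 5457) (nat_lit 148) (.node (.node .nil (nat_lit 1206) (nat_lit 3652) (nat_lit 395) .nil) (nat_lit
  1207) (nat_lit 9458) (nat_lit 138) .nil))))))
def tR0_9 : T := (.node (.node (.node (.node (.node (.node (.node .nil (nat_lit 1209) (nat_lit 10932) (nat_lit
  390) .nil) (nat_lit 1210) (nat_lit 9571) (nat_lit 158) (.node .nil (nat_lit 1211) (nat_lit 23955) (nat_lit
  1183) .nil)) (nat_lit 1212) (nat_lit 1796) (nat_lit 384) (.node (.node .nil (nat_lit 1213) (nat_lit 6192)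
  (nat_lit 1333) .nil) (nat_lit 1214) (nat_lit 10356) (nat_lit 396) (.node .nil (nat_lit 1215) (nat_lit 9809)
  (nat_lit 1182) .nil))) (nat_lit 1216) (nat_lit 1588) (nat_lit 320) (.node (.node (.node .nil (nat_lit 1217)
  (nat_lit 6656) (nat_lit 1417) .nil) (nat_lit 1218) (nat_lit 18097) (nat_lit 213) (.node .nil (nat_lit 1219)
  (nat_lit 4801) (nat_lit 212) .nil)) (nat_lit 1220) (nat_lit 16390) (nat_lit 181) (.node (.node .nil (nat_lit
  1221) (nat_lit 2978) (nat_lit 100) .nil) (nat_lit 1222) (nat_lit 8289) (nat_lit 1233) .nil))) (nat_lit 1223)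
  (nat_lit 7284) (nat_lit 330) (.node (.node (.node (.node .nil (nat_lit 1224) (nat_lit 5155) (nat_lit 1256)
  .nil) (nat_lit 1225) (nat_lit 7412) (nat_lit 335) (.node .nil (nat_lit 1226) (nat_lit 8818) (nat_lit 1134)
  .nil)) (nat_lit 1227) (nat_lit 13425) (nat_lit 1244) (.node (.node .nil (nat_lit 1228) (nat_lit 24032)
  (nat_lit 1413) .nil) (nat_lit 1229) (nat_lit 7923) (nat_lit 237) (.node .nil (nat_lit 1230) (nat_lit 3444)
  (nat_lit 325) .nil))) (nat_lit 1231) (nat_lit 10032) (nat_lit 1410) (.node (.node (.node .nil (nat_lit 1232)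
  (nat_lit 16406) (nat_lit 181) .nil) (nat_lit 1233) (nat_lit 3042) (nat_lit 112) (.node .nil (nat_lit 1234)
  (nat_lit 8145) (nat_lit 1221) .nil)) (nat_lit 1235) (nat_lit 7300) (nat_lit 330) (.node (.node .nil (nat_lit
  1236) (nat_lit 1604) (nat_lit 320) .nil) (nat_lit 1237) (nat_lit 6752) (nat_lit 1437) .nil)))) (nat_lit
  1238) (nat_lit 18033) (nat_lit 193) (.node (.node (.node (.node (.node .nil (nat_lit 1239) (nat_lit 4737)
  (nat_lit 192) .nil) (nat_lit 1240) (nat_lit 24000) (nat_lit 1425) (.node .nil (nat_lit 1241) (nat_lit 130)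
  (nat_lit 64) .nil)) (nat_lit 1242) (nat_lit 3460) (nat_lit 325) (.node (.node .nil (nat_lit 1243) (nat_lit
  10112) (nat_lit 1430) .nil) (nat_lit 1244) (nat_lit 5203) (nat_lit 1276) (.node .nil (nat_lit 1245) (nat_lit
  7428) (nat_lit 335) .nil))) (nat_lit 1246) (nat_lit 8722) (nat_lit 1146) (.node (.node (.node .nil (nat_lit
  1247) (nat_lit 13329) (nat_lit 1224) .nil) (nat_lit 1248) (nat_lit 5075) (nat_lit 1216) (.node .nil (nat_lit
  1249) (nat_lit 7444) (nat_lit 335) .nil)) (nat_lit 1250) (nat_lit 8898) (nat_lit 82) (.node (.node .nil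
  (nat_lit 1251) (nat_lit 11969) (nat_lit 244) .nil) (nat_lit 1252) (nat_lit 24176) (nat_lit 1453) .nil)))
  (nat_lit 1253) (nat_lit 8947) (nat_lit 197) (.node (.node (.node (.node .nil (nat_lit 1254) (nat_lit 3476)
  (nat_lit 325) .nil) (nat_lit 1255) (nat_lit 10208) (nat_lit 1450) (.node .nil (nat_lit 1256) (nat_lit 1620)
  (nat_lit 320) .nil)) (nat_lit 1257) (nat_lit 931) (nat_lit 201) (.node (.node .nil (nat_lit 1258) (nat_lit
  17984) (nat_lit 1446) .nil) (nat_lit 1259) (nat_lit 5217) (nat_lit 1276) (.node .nil (nat_lit 1260) (nat_lit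
  15190) (nat_lit 1185) .nil))) (nat_lit 1261) (nat_lit 3250) (nat_lit 1112) (.node (.node (.node .nil
  (nat_lit 1262) (nat_lit 1330) (nat_lit 1138) .nil) (nat_lit 1263) (nat_lit 7316) (nat_lit 330) (.node .nil
  (nat_lit 1264) (nat_lit 24048) (nat_lit 1465) .nil)) (nat_lit 1265) (nat_lit 9171) (nat_lit 209) (.node
  (.node .nil (nat_lit 1266) (nat_lit 3492) (nat_lit 325) .nil) (nat_lit 1267) (nat_lit 10416) (nat_lit 1470)
  .nil))))) (nat_lit 1268) (nat_lit 5123) (nat_lit 1236) (.node (.node (.node (.node (.node (.node .nil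
  (nat_lit 1269) (nat_lit 7460) (nat_lit 335) .nil) (nat_lit 1270) (nat_lit 9058) (nat_lit 70) (.node .nil
  (nat_lit 1271) (nat_lit 11697) (nat_lit 224) .nil)) (nat_lit 1272) (nat_lit 15206) (nat_lit 1185) (.node
  (.node .nil (nat_lit 1273) (nat_lit 3202) (nat_lit 1100) .nil) (nat_lit 1274) (nat_lit 7937) (nat_lit 237)
  (.node .nil (nat_lit 1275) (nat_lit 7332) (nat_lit 330) .nil))) (nat_lit 1276) (nat_lit 1636) (nat_lit 320)
  (.node (.node (.node .nil (nat_lit 1277) (nat_lit 5904) (nat_lit 1461) .nil) (nat_lit 1278) (nat_lit 402)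
  (nat_lit 118) (.node .nil (nat_lit 1279) (nat_lit 5169) (nat_lit 1256) .nil)) (nat_lit 1280) (nat_lit 22468)
  (nat_lit 768) (.node (.node .nil (nat_lit 1281) (nat_lit 10162) (nat_lit 408) .nil) (nat_lit 1282) (nat_lit
  6211) (nat_lit 1333) .nil))) (nat_lit 1283) (nat_lit 14022) (nat_lit 164) (.node (.node (.node (.node .nil
  (nat_lit 1284) (nat_lit 6066) (nat_lit 413) .nil) (nat_lit 1285) (nat_lit 24387) (nat_lit 1330) (.node .nil
  (nat_lit 1286) (nat_lit 14038) (nat_lit 164) .nil)) (nat_lit 1287) (nat_lit 3778) (nat_lit 439) (.node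
  (.node .nil (nat_lit 1288) (nat_lit 16422) (nat_lit 181) .nil) (nat_lit 1289) (nat_lit 1906) (nat_lit 424)
  (.node .nil (nat_lit 1290) (nat_lit 10498) (nat_lit 386) .nil))) (nat_lit 1291) (nat_lit 18854) (nat_lit
  156) (.node (.node (.node .nil (nat_lit 1292) (nat_lit 9923) (nat_lit 315) .nil) (nat_lit 1293) (nat_lit
  16438) (nat_lit 181) (.node .nil (nat_lit 1294) (nat_lit 11250) (nat_lit 1426) .nil)) (nat_lit 1295)
  (nat_lit 6370) (nat_lit 391) (.node (.node .nil (nat_lit 1296) (nat_lit 5970) (nat_lit 393) .nil) (nat_lit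
  1297) (nat_lit 24355) (nat_lit 1318) .nil)))) (nat_lit 1298) (nat_lit 14054) (nat_lit 164) (.node (.node
  (.node (.node (.node .nil (nat_lit 1299) (nat_lit 3730) (nat_lit 419) .nil) (nat_lit 1300) (nat_lit 22484)
  (nat_lit 768) (.node .nil (nat_lit 1301) (nat_lit 10370) (nat_lit 396) .nil)) (nat_lit 1302) (nat_lit 6435)
  (nat_lit 1313) (.node (.node .nil (nat_lit 1303) (nat_lit 14070) (nat_lit 164) .nil) (nat_lit 1304) (nat_lit
  9683) (nat_lit 303) (.node .nil (nat_lit 1305) (nat_lit 11488) (nat_lit 1560) .nil))) (nat_lit 1306)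
  (nat_lit 11202) (nat_lit 1414) (.node (.node (.node .nil (nat_lit 1307) (nat_lit 6146) (nat_lit 403) .nil)
  (nat_lit 1308) (nat_lit 16454) (nat_lit 181) (.node .nil (nat_lit 1309) (nat_lit 1954) (nat_lit 444) .nil))
  (nat_lit 1310) (nat_lit 10706) (nat_lit 406) (.node (.node .nil (nat_lit 1311) (nat_lit 18870) (nat_lit 156)
  .nil) (nat_lit 1312) (nat_lit 15222) (nat_lit 1185) .nil))) (nat_lit 1313) (nat_lit 2066) (nat_lit 1428)
  (.node (.node (.node (.node .nil (nat_lit 1314) (nat_lit 10434) (nat_lit 1470) .nil) (nat_lit 1315) (nat_lit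
  19878) (nat_lit 1160) (.node .nil (nat_lit 1316) (nat_lit 10451) (nat_lit 275) .nil)) (nat_lit 1317)
  (nat_lit 15238) (nat_lit 1185) (.node (.node .nil (nat_lit 1318) (nat_lit 11010) (nat_lit 430) .nil)
  (nat_lit 1319) (nat_lit 6018) (nat_lit 1467) (.node .nil (nat_lit 1320) (nat_lit 22500) (nat_lit 768)
  .nil))) (nat_lit 1321) (nat_lit 10146) (nat_lit 1444) (.node (.node (.node .nil (nat_lit 1322) (nat_lit
  6099) (nat_lit 1309) .nil) (nat_lit 1323) (nat_lit 17382) (nat_lit 1200) (.node .nil (nat_lit 1324) (nat_lit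
  5826) (nat_lit 1441) .nil)) (nat_lit 1325) (nat_lit 24403) (nat_lit 1306) (.node (.node .nil (nat_lit 1326)
  (nat_lit 7040) (nat_lit 1580) .nil) (nat_lit 1327) (nat_lit 3842) (nat_lit 1419) .nil))))))
def tR0_10 : T := (.node (.node (.node (.node (.node (.node (.node .nil (nat_lit 1329) (nat_lit 15254)
  (nat_lit 1185) .nil) (nat_lit 1330) (nat_lit 11058) (nat_lit 442) (.node .nil (nat_lit 1331) (nat_lit 6114)
  (nat_lit 1455) .nil)) (nat_lit 1332) (nat_lit 7056) (nat_lit 1587) (.node (.node .nil (nat_lit 1333)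
  (nat_lit 2018) (nat_lit 1408) .nil) (nat_lit 1334) (nat_lit 10226) (nat_lit 1450) (.node .nil (nat_lit 1335)
  (nat_lit 6931) (nat_lit 256) .nil))) (nat_lit 1336) (nat_lit 5922) (nat_lit 1461) (.node (.node (.node .nil
  (nat_lit 1337) (nat_lit 24435) (nat_lit 1294) .nil) (nat_lit 1338) (nat_lit 17398) (nat_lit 1200) (.node
  .nil (nat_lit 1339) (nat_lit 3890) (nat_lit 1439) .nil)) (nat_lit 1340) (nat_lit 22516) (nat_lit 768) (.node
  (.node .nil (nat_lit 1341) (nat_lit 10066) (nat_lit 1456) .nil) (nat_lit 1342) (nat_lit 6003) (nat_lit 1289)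
  .nil))) (nat_lit 1343) (nat_lit 17414) (nat_lit 1200) (.node (.node (.node (.node .nil (nat_lit 1344)
  (nat_lit 660) (nat_lit 960) .nil) (nat_lit 1345) (nat_lit 28580) (nat_lit 968) (.node .nil (nat_lit 1346)
  (nat_lit 29539) (nat_lit 1393) .nil)) (nat_lit 1347) (nat_lit 23124) (nat_lit 964) (.node (.node .nil
  (nat_lit 1348) (nat_lit 28276) (nat_lit 974) .nil) (nat_lit 1349) (nat_lit 1236) (nat_lit 966) (.node .nil
  (nat_lit 1350) (nat_lit 27556) (nat_lit 962) .nil))) (nat_lit 1351) (nat_lit 27940) (nat_lit 970) (.node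
  (.node (.node .nil (nat_lit 1352) (nat_lit 28068) (nat_lit 967) .nil) (nat_lit 1353) (nat_lit 27684)
  (nat_lit 975) (.node .nil (nat_lit 1354) (nat_lit 2289) (nat_lit 380) .nil)) (nat_lit 1355) (nat_lit 29856)
  (nat_lit 1672) (.node (.node .nil (nat_lit 1356) (nat_lit 22932) (nat_lit 969) .nil) (nat_lit 1357) (nat_lit
  22788) (nat_lit 961) .nil)))) (nat_lit 1358) (nat_lit 29220) (nat_lit 965) (.node (.node (.node (.node
  (.node .nil (nat_lit 1359) (nat_lit 2307) (nat_lit 380) .nil) (nat_lit 1360) (nat_lit 28292) (nat_lit 974)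
  (.node .nil (nat_lit 1361) (nat_lit 1252) (nat_lit 966) .nil)) (nat_lit 1362) (nat_lit 27572) (nat_lit 962)
  (.node (.node .nil (nat_lit 1363) (nat_lit 27956) (nat_lit 970) .nil) (nat_lit 1364) (nat_lit 676) (nat_lit
  960) (.node .nil (nat_lit 1365) (nat_lit 28596) (nat_lit 968) .nil))) (nat_lit 1366) (nat_lit 29523)
  (nat_lit 1381) (.node (.node (.node .nil (nat_lit 1367) (nat_lit 23140) (nat_lit 964) .nil) (nat_lit 1368)
  (nat_lit 22948) (nat_lit 969) (.node .nil (nat_lit 1369) (nat_lit 22804) (nat_lit 961) .nil)) (nat_lit 1370)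
  (nat_lit 29236) (nat_lit 965) (.node (.node .nil (nat_lit 1371) (nat_lit 2243) (nat_lit 360) .nil) (nat_lit
  1372) (nat_lit 28084) (nat_lit 967) .nil))) (nat_lit 1373) (nat_lit 27700) (nat_lit 975) (.node (.node
  (.node (.node .nil (nat_lit 1374) (nat_lit 2257) (nat_lit 360) .nil) (nat_lit 1375) (nat_lit 29872) (nat_lit
  1692) (.node .nil (nat_lit 1376) (nat_lit 28100) (nat_lit 967) .nil)) (nat_lit 1377) (nat_lit 27716)
  (nat_lit 975) (.node (.node .nil (nat_lit 1378) (nat_lit 2545) (nat_lit 1364) .nil) (nat_lit 1379) (nat_lit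
  29904) (nat_lit 1696) (.node .nil (nat_lit 1380) (nat_lit 22964) (nat_lit 969) .nil))) (nat_lit 1381)
  (nat_lit 22820) (nat_lit 961) (.node (.node (.node .nil (nat_lit 1382) (nat_lit 29252) (nat_lit 965) .nil)
  (nat_lit 1383) (nat_lit 2211) (nat_lit 340) (.node .nil (nat_lit 1384) (nat_lit 692) (nat_lit 960) .nil))
  (nat_lit 1385) (nat_lit 28612) (nat_lit 968) (.node (.node .nil (nat_lit 1386) (nat_lit 29507) (nat_lit
  1369) .nil) (nat_lit 1387) (nat_lit 23156) (nat_lit 964) .nil))))) (nat_lit 1388) (nat_lit 28308) (nat_lit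
  974) (.node (.node (.node (.node (.node (.node .nil (nat_lit 1389) (nat_lit 1268) (nat_lit 966) .nil)
  (nat_lit 1390) (nat_lit 27588) (nat_lit 962) (.node .nil (nat_lit 1391) (nat_lit 27972) (nat_lit 970) .nil))
  (nat_lit 1392) (nat_lit 22980) (nat_lit 969) (.node (.node .nil (nat_lit 1393) (nat_lit 22836) (nat_lit 961)
  .nil) (nat_lit 1394) (nat_lit 29268) (nat_lit 965) (.node .nil (nat_lit 1395) (nat_lit 1651) (nat_lit 320)
  .nil))) (nat_lit 1396) (nat_lit 28116) (nat_lit 967) (.node (.node (.node .nil (nat_lit 1397) (nat_lit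
  27732) (nat_lit 975) .nil) (nat_lit 1398) (nat_lit 2513) (nat_lit 1344) (.node .nil (nat_lit 1399) (nat_lit
  29888) (nat_lit 1716) .nil)) (nat_lit 1400) (nat_lit 28324) (nat_lit 974) (.node (.node .nil (nat_lit 1401)
  (nat_lit 1284) (nat_lit 966) .nil) (nat_lit 1402) (nat_lit 27604) (nat_lit 962) .nil))) (nat_lit 1403)
  (nat_lit 27988) (nat_lit 970) (.node (.node (.node (.node .nil (nat_lit 1404) (nat_lit 708) (nat_lit 960)
  .nil) (nat_lit 1405) (nat_lit 28628) (nat_lit 968) (.node .nil (nat_lit 1406) (nat_lit 29491) (nat_lit 1357)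
  .nil)) (nat_lit 1407) (nat_lit 23172) (nat_lit 964) (.node (.node .nil (nat_lit 1408) (nat_lit 500) (nat_lit
  640) .nil) (nat_lit 1409) (nat_lit 11267) (nat_lit 1426) (.node .nil (nat_lit 1410) (nat_lit 3745) (nat_lit
  419) .nil))) (nat_lit 1411) (nat_lit 18886) (nat_lit 156) (.node (.node (.node .nil (nat_lit 1412) (nat_lit
  15270) (nat_lit 1185) .nil) (nat_lit 1413) (nat_lit 10131) (nat_lit 1430) (.node .nil (nat_lit 1414)
  (nat_lit 4212) (nat_lit 642) .nil)) (nat_lit 1415) (nat_lit 1859) (nat_lit 404) (.node (.node .nil (nat_lit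
  1416) (nat_lit 24515) (nat_lit 411) .nil) (nat_lit 1417) (nat_lit 2113) (nat_lit 1448) .nil)))) (nat_lit
  1418) (nat_lit 17430) (nat_lit 1200) (.node (.node (.node (.node (.node .nil (nat_lit 1419) (nat_lit 1028)
  (nat_lit 643) .nil) (nat_lit 1420) (nat_lit 3715) (nat_lit 415) (.node .nil (nat_lit 1421) (nat_lit 11140)
  (nat_lit 641) .nil)) (nat_lit 1422) (nat_lit 6721) (nat_lit 431) (.node (.node .nil (nat_lit 1423) (nat_lit
  11025) (nat_lit 430) .nil) (nat_lit 1424) (nat_lit 15286) (nat_lit 1185) (.node .nil (nat_lit 1425) (nat_lit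
  10051) (nat_lit 1410) .nil))) (nat_lit 1426) (nat_lit 4228) (nat_lit 642) (.node (.node (.node .nil (nat_lit
  1427) (nat_lit 1811) (nat_lit 384) .nil) (nat_lit 1428) (nat_lit 516) (nat_lit 640) (.node .nil (nat_lit
  1429) (nat_lit 11219) (nat_lit 1414) .nil)) (nat_lit 1430) (nat_lit 3793) (nat_lit 439) (.node (.node .nil
  (nat_lit 1431) (nat_lit 18902) (nat_lit 156) .nil) (nat_lit 1432) (nat_lit 3667) (nat_lit 395) .nil)))
  (nat_lit 1433) (nat_lit 11156) (nat_lit 641) (.node (.node (.node (.node .nil (nat_lit 1434) (nat_lit 6625)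
  (nat_lit 443) .nil) (nat_lit 1435) (nat_lit 11073) (nat_lit 442) (.node .nil (nat_lit 1436) (nat_lit 24483)
  (nat_lit 399) .nil)) (nat_lit 1437) (nat_lit 2161) (nat_lit 1468) (.node (.node .nil (nat_lit 1438) (nat_lit
  17446) (nat_lit 1200) .nil) (nat_lit 1439) (nat_lit 1044) (nat_lit 643) (.node .nil (nat_lit 1440) (nat_lit
  24321) (nat_lit 385) .nil))) (nat_lit 1441) (nat_lit 1825) (nat_lit 384) (.node (.node (.node .nil (nat_lit
  1442) (nat_lit 14086) (nat_lit 164) .nil) (nat_lit 1443) (nat_lit 1060) (nat_lit 643) (.node .nil (nat_lit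
  1444) (nat_lit 3811) (nat_lit 439) .nil)) (nat_lit 1445) (nat_lit 11172) (nat_lit 641) (.node (.node .nil
  (nat_lit 1446) (nat_lit 5889) (nat_lit 1415) .nil) (nat_lit 1447) (nat_lit 11233) (nat_lit 1414) .nil))))))
def tR0_11 : T := (.node (.node (.node (.node (.node (.node (.node .nil (nat_lit 1449) (nat_lit 11379)
  (nat_lit 1466) .nil) (nat_lit 1450) (nat_lit 3857) (nat_lit 1419) (.node .nil (nat_lit 1451) (nat_lit 19894)
  (nat_lit 1160) .nil)) (nat_lit 1452) (nat_lit 16470) (nat_lit 181) (.node (.node .nil (nat_lit 1453)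
  (nat_lit 10385) (nat_lit 396) .nil) (nat_lit 1454) (nat_lit 4244) (nat_lit 642) (.node .nil (nat_lit 1455)
  (nat_lit 1971) (nat_lit 444) .nil))) (nat_lit 1456) (nat_lit 3763) (nat_lit 419) (.node (.node (.node .nil
  (nat_lit 1457) (nat_lit 11188) (nat_lit 641) .nil) (nat_lit 1458) (nat_lit 5809) (nat_lit 1427) (.node .nil
  (nat_lit 1459) (nat_lit 11281) (nat_lit 1426) .nil)) (nat_lit 1460) (nat_lit 21472) (nat_lit 1843) (.node
  (.node .nil (nat_lit 1461) (nat_lit 1873) (nat_lit 404) .nil) (nat_lit 1462) (nat_lit 14102) (nat_lit 164)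
  .nil))) (nat_lit 1463) (nat_lit 1076) (nat_lit 643) (.node (.node (.node (.node .nil (nat_lit 1464) (nat_lit
  16486) (nat_lit 181) .nil) (nat_lit 1465) (nat_lit 10177) (nat_lit 408) (.node .nil (nat_lit 1466) (nat_lit
  4260) (nat_lit 642) .nil)) (nat_lit 1467) (nat_lit 1923) (nat_lit 424) (.node (.node .nil (nat_lit 1468)
  (nat_lit 548) (nat_lit 640) .nil) (nat_lit 1469) (nat_lit 11331) (nat_lit 1454) (.node .nil (nat_lit 1470)
  (nat_lit 3905) (nat_lit 1439) .nil))) (nat_lit 1471) (nat_lit 19910) (nat_lit 1160) (.node (.node (.node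
  .nil (nat_lit 1472) (nat_lit 12756) (nat_lit 576) .nil) (nat_lit 1473) (nat_lit 24260) (nat_lit 584) (.node
  .nil (nat_lit 1474) (nat_lit 20420) (nat_lit 588) .nil)) (nat_lit 1475) (nat_lit 24785) (nat_lit 468) (.node
  (.node .nil (nat_lit 1476) (nat_lit 25730) (nat_lit 1532) .nil) (nat_lit 1477) (nat_lit 25760) (nat_lit
  1923) .nil)))) (nat_lit 1478) (nat_lit 27252) (nat_lit 578) (.node (.node (.node (.node (.node .nil (nat_lit
  1479) (nat_lit 26880) (nat_lit 1933) .nil) (nat_lit 1480) (nat_lit 27168) (nat_lit 1935) (.node .nil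
  (nat_lit 1481) (nat_lit 27012) (nat_lit 591) .nil)) (nat_lit 1482) (nat_lit 26404) (nat_lit 587) (.node
  (.node .nil (nat_lit 1483) (nat_lit 25872) (nat_lit 1928) .nil) (nat_lit 1484) (nat_lit 24992) (nat_lit
  1925) (.node .nil (nat_lit 1485) (nat_lit 21888) (nat_lit 1932) .nil))) (nat_lit 1486) (nat_lit 26128)
  (nat_lit 1931) (.node (.node (.node .nil (nat_lit 1487) (nat_lit 23524) (nat_lit 589) .nil) (nat_lit 1488)
  (nat_lit 25714) (nat_lit 1512) (.node .nil (nat_lit 1489) (nat_lit 25808) (nat_lit 1943) .nil)) (nat_lit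
  1490) (nat_lit 27268) (nat_lit 578) (.node (.node .nil (nat_lit 1491) (nat_lit 26896) (nat_lit 1945) .nil)
  (nat_lit 1492) (nat_lit 12772) (nat_lit 576) .nil))) (nat_lit 1493) (nat_lit 24276) (nat_lit 584) (.node
  (.node (.node (.node .nil (nat_lit 1494) (nat_lit 20436) (nat_lit 588) .nil) (nat_lit 1495) (nat_lit 2800)
  (nat_lit 1939) (.node .nil (nat_lit 1496) (nat_lit 21009) (nat_lit 463) .nil)) (nat_lit 1497) (nat_lit
  22192) (nat_lit 1944) (.node (.node .nil (nat_lit 1498) (nat_lit 26288) (nat_lit 1951) .nil) (nat_lit 1499)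
  (nat_lit 23540) (nat_lit 589) (.node .nil (nat_lit 1500) (nat_lit 27184) (nat_lit 1947) .nil))) (nat_lit
  1501) (nat_lit 27028) (nat_lit 591) (.node (.node (.node .nil (nat_lit 1502) (nat_lit 26420) (nat_lit 587)
  .nil) (nat_lit 1503) (nat_lit 25920) (nat_lit 1948) (.node .nil (nat_lit 1504) (nat_lit 27348) (nat_lit 583)
  .nil)) (nat_lit 1505) (nat_lit 26704) (nat_lit 1966) (.node (.node .nil (nat_lit 1506) (nat_lit 26436)
  (nat_lit 587) .nil) (nat_lit 1507) (nat_lit 25776) (nat_lit 1952) .nil))))) (nat_lit 1508) (nat_lit 26304)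
  (nat_lit 1965) (.node (.node (.node (.node (.node (.node .nil (nat_lit 1509) (nat_lit 23344) (nat_lit 1956)
  .nil) (nat_lit 1510) (nat_lit 25952) (nat_lit 1955) (.node .nil (nat_lit 1511) (nat_lit 23556) (nat_lit 589)
  .nil)) (nat_lit 1512) (nat_lit 12788) (nat_lit 576) (.node (.node .nil (nat_lit 1513) (nat_lit 8480)
  (nat_lit 1953) .nil) (nat_lit 1514) (nat_lit 20452) (nat_lit 588) (.node .nil (nat_lit 1515) (nat_lit 25587)
  (nat_lit 508) .nil))) (nat_lit 1516) (nat_lit 9216) (nat_lit 1954) (.node (.node (.node .nil (nat_lit 1517)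
  (nat_lit 25248) (nat_lit 1963) .nil) (nat_lit 1518) (nat_lit 27284) (nat_lit 578) (.node .nil (nat_lit 1519)
  (nat_lit 26928) (nat_lit 1957) .nil)) (nat_lit 1520) (nat_lit 26144) (nat_lit 1977) (.node (.node .nil
  (nat_lit 1521) (nat_lit 23280) (nat_lit 1968) .nil) (nat_lit 1522) (nat_lit 26112) (nat_lit 1975) .nil)))
  (nat_lit 1523) (nat_lit 23572) (nat_lit 589) (.node (.node (.node (.node .nil (nat_lit 1524) (nat_lit 4560)
  (nat_lit 1971) .nil) (nat_lit 1525) (nat_lit 26720) (nat_lit 1978) (.node .nil (nat_lit 1526) (nat_lit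
  26452) (nat_lit 587) .nil)) (nat_lit 1527) (nat_lit 25824) (nat_lit 1972) (.node (.node .nil (nat_lit 1528)
  (nat_lit 24802) (nat_lit 468) .nil) (nat_lit 1529) (nat_lit 25632) (nat_lit 1983) (.node .nil (nat_lit 1530)
  (nat_lit 27300) (nat_lit 578) .nil))) (nat_lit 1531) (nat_lit 26944) (nat_lit 1969) (.node (.node (.node
  .nil (nat_lit 1532) (nat_lit 12804) (nat_lit 576) .nil) (nat_lit 1533) (nat_lit 24292) (nat_lit 584) (.node
  .nil (nat_lit 1534) (nat_lit 20468) (nat_lit 588) .nil)) (nat_lit 1535) (nat_lit 25203) (nat_lit 488) (.node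
  (.node .nil (nat_lit 1536) (nat_lit 21412) (nat_lit 448) .nil) (nat_lit 1537) (nat_lit 21808) (nat_lit 1993)
  .nil)))) (nat_lit 1538) (nat_lit 22290) (nat_lit 1555) (.node (.node (.node (.node (.node .nil (nat_lit
  1539) (nat_lit 27425) (nat_lit 545) .nil) (nat_lit 1540) (nat_lit 27440) (nat_lit 1994) (.node .nil (nat_lit
  1541) (nat_lit 28354) (nat_lit 553) .nil)) (nat_lit 1542) (nat_lit 22128) (nat_lit 1988) (.node (.node .nil
  (nat_lit 1543) (nat_lit 8372) (nat_lit 458) .nil) (nat_lit 1544) (nat_lit 22083) (nat_lit 571) (.node .nil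
  (nat_lit 1545) (nat_lit 21028) (nat_lit 463) .nil))) (nat_lit 1546) (nat_lit 21760) (nat_lit 1985) (.node
  (.node (.node .nil (nat_lit 1547) (nat_lit 29122) (nat_lit 566) .nil) (nat_lit 1548) (nat_lit 28368)
  (nat_lit 1989) (.node .nil (nat_lit 1549) (nat_lit 21713) (nat_lit 559) .nil)) (nat_lit 1550) (nat_lit
  23232) (nat_lit 1995) (.node (.node .nil (nat_lit 1551) (nat_lit 28192) (nat_lit 1986) .nil) (nat_lit 1552)
  (nat_lit 27744) (nat_lit 2014) .nil))) (nat_lit 1553) (nat_lit 7011) (nat_lit 1570) (.node (.node (.node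
  (.node .nil (nat_lit 1554) (nat_lit 21824) (nat_lit 2000) .nil) (nat_lit 1555) (nat_lit 8388) (nat_lit 458)
  (.node .nil (nat_lit 1556) (nat_lit 21428) (nat_lit 448) .nil)) (nat_lit 1557) (nat_lit 21872) (nat_lit
  2013) (.node (.node .nil (nat_lit 1558) (nat_lit 22242) (nat_lit 1543) .nil) (nat_lit 1559) (nat_lit 27456)
  (nat_lit 2003) (.node .nil (nat_lit 1560) (nat_lit 4481) (nat_lit 570) .nil))) (nat_lit 1561) (nat_lit
  22097) (nat_lit 571) (.node (.node (.node .nil (nat_lit 1562) (nat_lit 23296) (nat_lit 2015) .nil) (nat_lit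
  1563) (nat_lit 28176) (nat_lit 2006) (.node .nil (nat_lit 1564) (nat_lit 21731) (nat_lit 559) .nil))
  (nat_lit 1565) (nat_lit 21044) (nat_lit 463) (.node (.node .nil (nat_lit 1566) (nat_lit 22160) (nat_lit
  2005) .nil) (nat_lit 1567) (nat_lit 29074) (nat_lit 546) .nil))))))
def tR0_12 : T := (.node (.node (.node (.node (.node (.node (.node .nil (nat_lit 1569) (nat_lit 21060)
  (nat_lit 463) .nil) (nat_lit 1570) (nat_lit 2337) (nat_lit 512) (.node .nil (nat_lit 1571) (nat_lit 28642)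
  (nat_lit 1546) .nil)) (nat_lit 1572) (nat_lit 28785) (nat_lit 1542) (.node (.node .nil (nat_lit 1573)
  (nat_lit 22257) (nat_lit 1543) .nil) (nat_lit 1574) (nat_lit 23392) (nat_lit 2019) (.node .nil (nat_lit
  1575) (nat_lit 27392) (nat_lit 2026) .nil))) (nat_lit 1576) (nat_lit 21444) (nat_lit 448) (.node (.node
  (.node .nil (nat_lit 1577) (nat_lit 22656) (nat_lit 2017) .nil) (nat_lit 1578) (nat_lit 21746) (nat_lit 559)
  (.node .nil (nat_lit 1579) (nat_lit 27761) (nat_lit 1545) .nil)) (nat_lit 1580) (nat_lit 2354) (nat_lit 512)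
  (.node (.node .nil (nat_lit 1581) (nat_lit 28770) (nat_lit 1557) .nil) (nat_lit 1582) (nat_lit 22672)
  (nat_lit 2028) .nil))) (nat_lit 1583) (nat_lit 8404) (nat_lit 458) (.node (.node (.node (.node .nil (nat_lit
  1584) (nat_lit 28721) (nat_lit 1554) .nil) (nat_lit 1585) (nat_lit 22305) (nat_lit 1555) (.node .nil
  (nat_lit 1586) (nat_lit 23440) (nat_lit 2039) .nil)) (nat_lit 1587) (nat_lit 2371) (nat_lit 512) (.node
  (.node .nil (nat_lit 1588) (nat_lit 4432) (nat_lit 2035) .nil) (nat_lit 1589) (nat_lit 21076) (nat_lit 463)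
  (.node .nil (nat_lit 1590) (nat_lit 21664) (nat_lit 2045) .nil))) (nat_lit 1591) (nat_lit 28672) (nat_lit
  2036) (.node (.node (.node .nil (nat_lit 1592) (nat_lit 27376) (nat_lit 2038) .nil) (nat_lit 1593) (nat_lit
  28659) (nat_lit 1546) (.node .nil (nat_lit 1594) (nat_lit 22592) (nat_lit 2040) .nil)) (nat_lit 1595)
  (nat_lit 8420) (nat_lit 458) (.node (.node .nil (nat_lit 1596) (nat_lit 21460) (nat_lit 448) .nil) (nat_lit
  1597) (nat_lit 22576) (nat_lit 2037) .nil)))) (nat_lit 1598) (nat_lit 22114) (nat_lit 571) (.node (.node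
  (.node (.node (.node .nil (nat_lit 1599) (nat_lit 27777) (nat_lit 1565) .nil) (nat_lit 1600) (nat_lit 6948)
  (nat_lit 256) (.node .nil (nat_lit 1601) (nat_lit 15302) (nat_lit 1185) .nil)) (nat_lit 1602) (nat_lit
  19926) (nat_lit 1160) (.node (.node .nil (nat_lit 1603) (nat_lit 18918) (nat_lit 156) .nil) (nat_lit 1604)
  (nat_lit 15318) (nat_lit 1185) (.node .nil (nat_lit 1605) (nat_lit 16502) (nat_lit 181) .nil))) (nat_lit
  1606) (nat_lit 15892) (nat_lit 258) (.node (.node (.node .nil (nat_lit 1607) (nat_lit 19942) (nat_lit 1160)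
  .nil) (nat_lit 1608) (nat_lit 10612) (nat_lit 263) (.node .nil (nat_lit 1609) (nat_lit 17924) (nat_lit 271)
  .nil)) (nat_lit 1610) (nat_lit 17462) (nat_lit 1200) (.node (.node .nil (nat_lit 1611) (nat_lit 14118)
  (nat_lit 164) .nil) (nat_lit 1612) (nat_lit 6548) (nat_lit 265) .nil))) (nat_lit 1613) (nat_lit 11412)
  (nat_lit 257) (.node (.node (.node (.node .nil (nat_lit 1614) (nat_lit 14134) (nat_lit 164) .nil) (nat_lit
  1615) (nat_lit 17478) (nat_lit 1200) (.node .nil (nat_lit 1616) (nat_lit 15334) (nat_lit 1185) .nil))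
  (nat_lit 1617) (nat_lit 16518) (nat_lit 181) (.node (.node .nil (nat_lit 1618) (nat_lit 15908) (nat_lit 258)
  .nil) (nat_lit 1619) (nat_lit 19958) (nat_lit 1160) (.node .nil (nat_lit 1620) (nat_lit 6964) (nat_lit 256)
  .nil))) (nat_lit 1621) (nat_lit 15350) (nat_lit 1185) (.node (.node (.node .nil (nat_lit 1622) (nat_lit
  19974) (nat_lit 1160) .nil) (nat_lit 1623) (nat_lit 18934) (nat_lit 156) (.node .nil (nat_lit 1624) (nat_lit
  6564) (nat_lit 265) .nil)) (nat_lit 1625) (nat_lit 11428) (nat_lit 257) (.node (.node .nil (nat_lit 1626)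
  (nat_lit 14150) (nat_lit 164) .nil) (nat_lit 1627) (nat_lit 17494) (nat_lit 1200) .nil))))) (nat_lit 1628)
  (nat_lit 10628) (nat_lit 263) (.node (.node (.node (.node (.node (.node .nil (nat_lit 1629) (nat_lit 17940)
  (nat_lit 271) .nil) (nat_lit 1630) (nat_lit 17510) (nat_lit 1200) (.node .nil (nat_lit 1631) (nat_lit 14166)
  (nat_lit 164) .nil)) (nat_lit 1632) (nat_lit 10644) (nat_lit 263) (.node (.node .nil (nat_lit 1633) (nat_lit
  17956) (nat_lit 271) .nil) (nat_lit 1634) (nat_lit 14182) (nat_lit 164) (.node .nil (nat_lit 1635) (nat_lit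
  17526) (nat_lit 1200) .nil))) (nat_lit 1636) (nat_lit 6580) (nat_lit 265) (.node (.node (.node .nil (nat_lit
  1637) (nat_lit 11444) (nat_lit 257) .nil) (nat_lit 1638) (nat_lit 17542) (nat_lit 1200) (.node .nil (nat_lit
  1639) (nat_lit 14198) (nat_lit 164) .nil)) (nat_lit 1640) (nat_lit 6980) (nat_lit 256) (.node (.node .nil
  (nat_lit 1641) (nat_lit 16534) (nat_lit 181) .nil) (nat_lit 1642) (nat_lit 18950) (nat_lit 156) .nil)))
  (nat_lit 1643) (nat_lit 19990) (nat_lit 1160) (.node (.node (.node (.node .nil (nat_lit 1644) (nat_lit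
  16550) (nat_lit 181) .nil) (nat_lit 1645) (nat_lit 15366) (nat_lit 1185) (.node .nil (nat_lit 1646) (nat_lit
  15924) (nat_lit 258) .nil)) (nat_lit 1647) (nat_lit 18966) (nat_lit 156) (.node (.node .nil (nat_lit 1648)
  (nat_lit 6596) (nat_lit 265) .nil) (nat_lit 1649) (nat_lit 11460) (nat_lit 257) (.node .nil (nat_lit 1650)
  (nat_lit 17558) (nat_lit 1200) .nil))) (nat_lit 1651) (nat_lit 14214) (nat_lit 164) (.node (.node (.node
  .nil (nat_lit 1652) (nat_lit 10660) (nat_lit 263) .nil) (nat_lit 1653) (nat_lit 17972) (nat_lit 271) (.node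
  .nil (nat_lit 1654) (nat_lit 14230) (nat_lit 164) .nil)) (nat_lit 1655) (nat_lit 12819) (nat_lit 576) (.node
  (.node .nil (nat_lit 1656) (nat_lit 16566) (nat_lit 181) .nil) (nat_lit 1657) (nat_lit 15382) (nat_lit 1185)
  .nil)))) (nat_lit 1658) (nat_lit 15940) (nat_lit 258) (.node (.node (.node (.node (.node .nil (nat_lit 1659)
  (nat_lit 18982) (nat_lit 156) .nil) (nat_lit 1660) (nat_lit 6996) (nat_lit 256) (.node .nil (nat_lit 1661)
  (nat_lit 16582) (nat_lit 181) .nil)) (nat_lit 1662) (nat_lit 18998) (nat_lit 156) (.node (.node .nil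
  (nat_lit 1663) (nat_lit 20006) (nat_lit 1160) .nil) (nat_lit 1664) (nat_lit 148) (nat_lit 64) (.node .nil
  (nat_lit 1665) (nat_lit 4449) (nat_lit 1666) .nil))) (nat_lit 1666) (nat_lit 1394) (nat_lit 1707) (.node
  (.node (.node .nil (nat_lit 1667) (nat_lit 324) (nat_lit 68) .nil) (nat_lit 1668) (nat_lit 20868) (nat_lit
  78) (.node .nil (nat_lit 1669) (nat_lit 9076) (nat_lit 70) .nil)) (nat_lit 1670) (nat_lit 21988) (nat_lit
  66) (.node (.node .nil (nat_lit 1671) (nat_lit 24708) (nat_lit 74) .nil) (nat_lit 1672) (nat_lit 25362)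
  (nat_lit 676) .nil))) (nat_lit 1673) (nat_lit 26656) (nat_lit 1734) (.node (.node (.node (.node .nil
  (nat_lit 1674) (nat_lit 24932) (nat_lit 75) .nil) (nat_lit 1675) (nat_lit 26036) (nat_lit 67) (.node .nil
  (nat_lit 1676) (nat_lit 12516) (nat_lit 73) .nil)) (nat_lit 1677) (nat_lit 25076) (nat_lit 65) (.node (.node
  .nil (nat_lit 1678) (nat_lit 26228) (nat_lit 69) .nil) (nat_lit 1679) (nat_lit 25347) (nat_lit 664) (.node
  .nil (nat_lit 1680) (nat_lit 20884) (nat_lit 78) .nil))) (nat_lit 1681) (nat_lit 9092) (nat_lit 70) (.node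
  (.node (.node .nil (nat_lit 1682) (nat_lit 22004) (nat_lit 66) .nil) (nat_lit 1683) (nat_lit 24724) (nat_lit
  74) (.node .nil (nat_lit 1684) (nat_lit 164) (nat_lit 64) .nil)) (nat_lit 1685) (nat_lit 4467) (nat_lit
  1666) (.node (.node .nil (nat_lit 1686) (nat_lit 1410) (nat_lit 1727) .nil) (nat_lit 1687) (nat_lit 340)
  (nat_lit 68) .nil))))))
def tR0_13 : T := (.node (.node (.node (.node (.node (.node (.node .nil (nat_lit 1689) (nat_lit 25092)
  (nat_lit 65) .nil) (nat_lit 1690) (nat_lit 26244) (nat_lit 69) (.node .nil (nat_lit 1691) (nat_lit 25299)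
  (nat_lit 652) .nil)) (nat_lit 1692) (nat_lit 25410) (nat_lit 688) (.node (.node .nil (nat_lit 1693) (nat_lit
  26672) (nat_lit 1746) .nil) (nat_lit 1694) (nat_lit 24948) (nat_lit 75) (.node .nil (nat_lit 1695) (nat_lit
  26052) (nat_lit 67) .nil))) (nat_lit 1696) (nat_lit 25442) (nat_lit 1688) (.node (.node (.node .nil (nat_lit
  1697) (nat_lit 27104) (nat_lit 1774) .nil) (nat_lit 1698) (nat_lit 24964) (nat_lit 75) (.node .nil (nat_lit
  1699) (nat_lit 26068) (nat_lit 67) .nil)) (nat_lit 1700) (nat_lit 12548) (nat_lit 73) (.node (.node .nil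
  (nat_lit 1701) (nat_lit 25108) (nat_lit 65) .nil) (nat_lit 1702) (nat_lit 26260) (nat_lit 69) .nil)))
  (nat_lit 1703) (nat_lit 25377) (nat_lit 676) (.node (.node (.node (.node .nil (nat_lit 1704) (nat_lit 180)
  (nat_lit 64) .nil) (nat_lit 1705) (nat_lit 4035) (nat_lit 1726) (.node .nil (nat_lit 1706) (nat_lit 1122)
  (nat_lit 663) .nil)) (nat_lit 1707) (nat_lit 356) (nat_lit 68) (.node (.node .nil (nat_lit 1708) (nat_lit
  20900) (nat_lit 78) .nil) (nat_lit 1709) (nat_lit 9108) (nat_lit 70) (.node .nil (nat_lit 1710) (nat_lit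
  22020) (nat_lit 66) .nil))) (nat_lit 1711) (nat_lit 24740) (nat_lit 74) (.node (.node (.node .nil (nat_lit
  1712) (nat_lit 12564) (nat_lit 73) .nil) (nat_lit 1713) (nat_lit 25124) (nat_lit 65) (.node .nil (nat_lit
  1714) (nat_lit 26276) (nat_lit 69) .nil)) (nat_lit 1715) (nat_lit 25395) (nat_lit 676) (.node (.node .nil
  (nat_lit 1716) (nat_lit 25426) (nat_lit 1676) .nil) (nat_lit 1717) (nat_lit 27120) (nat_lit 1786) .nil))))
  (nat_lit 1718) (nat_lit 24980) (nat_lit 75) (.node (.node (.node (.node (.node .nil (nat_lit 1719) (nat_lit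
  26084) (nat_lit 67) .nil) (nat_lit 1720) (nat_lit 20916) (nat_lit 78) (.node .nil (nat_lit 1721) (nat_lit
  9124) (nat_lit 70) .nil)) (nat_lit 1722) (nat_lit 22036) (nat_lit 66) (.node (.node .nil (nat_lit 1723)
  (nat_lit 24756) (nat_lit 74) .nil) (nat_lit 1724) (nat_lit 196) (nat_lit 64) (.node .nil (nat_lit 1725)
  (nat_lit 4083) (nat_lit 1706) .nil))) (nat_lit 1726) (nat_lit 1090) (nat_lit 643) (.node (.node (.node .nil
  (nat_lit 1727) (nat_lit 372) (nat_lit 68) .nil) (nat_lit 1728) (nat_lit 5364) (nat_lit 128) (.node .nil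
  (nat_lit 1729) (nat_lit 18260) (nat_lit 136) .nil)) (nat_lit 1730) (nat_lit 15764) (nat_lit 140) (.node
  (.node .nil (nat_lit 1731) (nat_lit 14246) (nat_lit 164) .nil) (nat_lit 1732) (nat_lit 26547) (nat_lit 727)
  .nil))) (nat_lit 1733) (nat_lit 23876) (nat_lit 134) (.node (.node (.node (.node .nil (nat_lit 1734)
  (nat_lit 14262) (nat_lit 164) .nil) (nat_lit 1735) (nat_lit 9476) (nat_lit 138) (.node .nil (nat_lit 1736)
  (nat_lit 16598) (nat_lit 181) .nil)) (nat_lit 1737) (nat_lit 14657) (nat_lit 764) (.node (.node .nil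
  (nat_lit 1738) (nat_lit 20022) (nat_lit 1160) .nil) (nat_lit 1739) (nat_lit 19014) (nat_lit 156) (.node .nil
  (nat_lit 1740) (nat_lit 15398) (nat_lit 1185) .nil))) (nat_lit 1741) (nat_lit 16614) (nat_lit 181) (.node
  (.node (.node .nil (nat_lit 1742) (nat_lit 19030) (nat_lit 156) .nil) (nat_lit 1743) (nat_lit 20038)
  (nat_lit 1160) (.node .nil (nat_lit 1744) (nat_lit 26499) (nat_lit 707) .nil)) (nat_lit 1745) (nat_lit
  23892) (nat_lit 134) (.node (.node .nil (nat_lit 1746) (nat_lit 14278) (nat_lit 164) .nil) (nat_lit 1747)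
  (nat_lit 9492) (nat_lit 138) .nil))))) (nat_lit 1748) (nat_lit 5380) (nat_lit 128) (.node (.node (.node
  (.node (.node (.node .nil (nat_lit 1749) (nat_lit 18276) (nat_lit 136) .nil) (nat_lit 1750) (nat_lit 15780)
  (nat_lit 140) (.node .nil (nat_lit 1751) (nat_lit 14294) (nat_lit 164) .nil)) (nat_lit 1752) (nat_lit 15414)
  (nat_lit 1185) (.node (.node .nil (nat_lit 1753) (nat_lit 16630) (nat_lit 181) .nil) (nat_lit 1754) (nat_lit
  19046) (nat_lit 156) (.node .nil (nat_lit 1755) (nat_lit 20054) (nat_lit 1160) .nil))) (nat_lit 1756)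
  (nat_lit 16646) (nat_lit 181) (.node (.node (.node .nil (nat_lit 1757) (nat_lit 14641) (nat_lit 744) .nil)
  (nat_lit 1758) (nat_lit 20070) (nat_lit 1160) (.node .nil (nat_lit 1759) (nat_lit 19062) (nat_lit 156)
  .nil)) (nat_lit 1760) (nat_lit 15430) (nat_lit 1185) (.node (.node .nil (nat_lit 1761) (nat_lit 15633)
  (nat_lit 1748) .nil) (nat_lit 1762) (nat_lit 19078) (nat_lit 156) .nil))) (nat_lit 1763) (nat_lit 20086)
  (nat_lit 1160) (.node (.node (.node (.node .nil (nat_lit 1764) (nat_lit 15700) (nat_lit 137) .nil) (nat_lit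
  1765) (nat_lit 15446) (nat_lit 1185) (.node .nil (nat_lit 1766) (nat_lit 20102) (nat_lit 1160) .nil))
  (nat_lit 1767) (nat_lit 19094) (nat_lit 156) (.node (.node .nil (nat_lit 1768) (nat_lit 5396) (nat_lit 128)
  .nil) (nat_lit 1769) (nat_lit 18292) (nat_lit 136) (.node .nil (nat_lit 1770) (nat_lit 14310) (nat_lit 164)
  .nil))) (nat_lit 1771) (nat_lit 17574) (nat_lit 1200) (.node (.node (.node .nil (nat_lit 1772) (nat_lit
  26608) (nat_lit 1634) .nil) (nat_lit 1773) (nat_lit 23908) (nat_lit 134) (.node .nil (nat_lit 1774) (nat_lit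
  17590) (nat_lit 1200) .nil)) (nat_lit 1775) (nat_lit 9508) (nat_lit 138) (.node (.node .nil (nat_lit 1776)
  (nat_lit 15716) (nat_lit 137) .nil) (nat_lit 1777) (nat_lit 15462) (nat_lit 1185) .nil)))) (nat_lit 1778)
  (nat_lit 20118) (nat_lit 1160) (.node (.node (.node (.node (.node .nil (nat_lit 1779) (nat_lit 19110)
  (nat_lit 156) .nil) (nat_lit 1780) (nat_lit 15478) (nat_lit 1185) (.node .nil (nat_lit 1781) (nat_lit 15617)
  (nat_lit 1728) .nil)) (nat_lit 1782) (nat_lit 19126) (nat_lit 156) (.node (.node .nil (nat_lit 1783)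
  (nat_lit 20134) (nat_lit 1160) .nil) (nat_lit 1784) (nat_lit 26624) (nat_lit 1654) (.node .nil (nat_lit
  1785) (nat_lit 23924) (nat_lit 134) .nil))) (nat_lit 1786) (nat_lit 17606) (nat_lit 1200) (.node (.node
  (.node .nil (nat_lit 1787) (nat_lit 9524) (nat_lit 138) .nil) (nat_lit 1788) (nat_lit 5412) (nat_lit 128)
  (.node .nil (nat_lit 1789) (nat_lit 18308) (nat_lit 136) .nil)) (nat_lit 1790) (nat_lit 14326) (nat_lit 164)
  (.node (.node .nil (nat_lit 1791) (nat_lit 17622) (nat_lit 1200) .nil) (nat_lit 1792) (nat_lit 14564)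
  (nat_lit 704) .nil))) (nat_lit 1793) (nat_lit 16662) (nat_lit 181) (.node (.node (.node (.node .nil (nat_lit
  1794) (nat_lit 19142) (nat_lit 156) .nil) (nat_lit 1795) (nat_lit 20150) (nat_lit 1160) (.node .nil (nat_lit
  1796) (nat_lit 16678) (nat_lit 181) .nil)) (nat_lit 1797) (nat_lit 15494) (nat_lit 1185) (.node (.node .nil
  (nat_lit 1798) (nat_lit 20166) (nat_lit 1160) .nil) (nat_lit 1799) (nat_lit 19158) (nat_lit 156) (.node .nil
  (nat_lit 1800) (nat_lit 23636) (nat_lit 711) .nil))) (nat_lit 1801) (nat_lit 25795) (nat_lit 781) (.node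
  (.node (.node .nil (nat_lit 1802) (nat_lit 14342) (nat_lit 164) .nil) (nat_lit 1803) (nat_lit 17638)
  (nat_lit 1200) (.node .nil (nat_lit 1804) (nat_lit 26820) (nat_lit 713) .nil)) (nat_lit 1805) (nat_lit
  12034) (nat_lit 916) (.node (.node .nil (nat_lit 1806) (nat_lit 17654) (nat_lit 1200) .nil) (nat_lit 1807)
  (nat_lit 14358) (nat_lit 164) .nil))))))
def tR0_14 : T := (.node (.node (.node (.node (.node (.node (.node .nil (nat_lit 1809) (nat_lit 7746) (nat_lit
  944) .nil) (nat_lit 1810) (nat_lit 20182) (nat_lit 1160) (.node .nil (nat_lit 1811) (nat_lit 19174) (nat_lit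
  156) .nil)) (nat_lit 1812) (nat_lit 14580) (nat_lit 704) (.node (.node .nil (nat_lit 1813) (nat_lit 16710)
  (nat_lit 181) .nil) (nat_lit 1814) (nat_lit 19190) (nat_lit 156) (.node .nil (nat_lit 1815) (nat_lit 20198)
  (nat_lit 1160) .nil))) (nat_lit 1816) (nat_lit 26836) (nat_lit 713) (.node (.node (.node .nil (nat_lit 1817)
  (nat_lit 11553) (nat_lit 827) .nil) (nat_lit 1818) (nat_lit 17670) (nat_lit 1200) (.node .nil (nat_lit 1819)
  (nat_lit 14374) (nat_lit 164) .nil)) (nat_lit 1820) (nat_lit 23652) (nat_lit 711) (.node (.node .nil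
  (nat_lit 1821) (nat_lit 25747) (nat_lit 793) .nil) (nat_lit 1822) (nat_lit 14390) (nat_lit 164) .nil)))
  (nat_lit 1823) (nat_lit 17686) (nat_lit 1200) (.node (.node (.node (.node .nil (nat_lit 1824) (nat_lit
  23668) (nat_lit 711) .nil) (nat_lit 1825) (nat_lit 25219) (nat_lit 805) (.node .nil (nat_lit 1826) (nat_lit
  17702) (nat_lit 1200) .nil)) (nat_lit 1827) (nat_lit 14406) (nat_lit 164) (.node (.node .nil (nat_lit 1828)
  (nat_lit 26774) (nat_lit 1177) .nil) (nat_lit 1829) (nat_lit 12946) (nat_lit 1960) (.node .nil (nat_lit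
  1830) (nat_lit 14422) (nat_lit 164) .nil))) (nat_lit 1831) (nat_lit 17718) (nat_lit 1200) (.node (.node
  (.node .nil (nat_lit 1832) (nat_lit 14596) (nat_lit 704) .nil) (nat_lit 1833) (nat_lit 15510) (nat_lit 1185)
  (.node .nil (nat_lit 1834) (nat_lit 20214) (nat_lit 1160) .nil)) (nat_lit 1835) (nat_lit 19206) (nat_lit
  156) (.node (.node .nil (nat_lit 1836) (nat_lit 15526) (nat_lit 1185) .nil) (nat_lit 1837) (nat_lit 16726)
  (nat_lit 181) .nil)))) (nat_lit 1838) (nat_lit 8449) (nat_lit 780) (.node (.node (.node (.node (.node .nil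
  (nat_lit 1839) (nat_lit 20230) (nat_lit 1160) .nil) (nat_lit 1840) (nat_lit 26790) (nat_lit 1177) (.node
  .nil (nat_lit 1841) (nat_lit 12994) (nat_lit 1980) .nil)) (nat_lit 1842) (nat_lit 14438) (nat_lit 164)
  (.node (.node .nil (nat_lit 1843) (nat_lit 7827) (nat_lit 1847) .nil) (nat_lit 1844) (nat_lit 23684)
  (nat_lit 711) (.node .nil (nat_lit 1845) (nat_lit 25603) (nat_lit 817) .nil))) (nat_lit 1846) (nat_lit
  17734) (nat_lit 1200) (.node (.node (.node .nil (nat_lit 1847) (nat_lit 2818) (nat_lit 1939) .nil) (nat_lit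
  1848) (nat_lit 15542) (nat_lit 1185) (.node .nil (nat_lit 1849) (nat_lit 16742) (nat_lit 181) .nil))
  (nat_lit 1850) (nat_lit 19222) (nat_lit 156) (.node (.node .nil (nat_lit 1851) (nat_lit 20246) (nat_lit
  1160) .nil) (nat_lit 1852) (nat_lit 14612) (nat_lit 704) .nil))) (nat_lit 1853) (nat_lit 15558) (nat_lit
  1185) (.node (.node (.node (.node .nil (nat_lit 1854) (nat_lit 20262) (nat_lit 1160) .nil) (nat_lit 1855)
  (nat_lit 19238) (nat_lit 156) (.node .nil (nat_lit 1856) (nat_lit 2388) (nat_lit 512) .nil)) (nat_lit 1857)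
  (nat_lit 28996) (nat_lit 520) (.node (.node .nil (nat_lit 1858) (nat_lit 30660) (nat_lit 524) .nil) (nat_lit
  1859) (nat_lit 30276) (nat_lit 516) (.node .nil (nat_lit 1860) (nat_lit 6834) (nat_lit 872) .nil))) (nat_lit
  1861) (nat_lit 29748) (nat_lit 518) (.node (.node (.node .nil (nat_lit 1862) (nat_lit 28452) (nat_lit 514)
  .nil) (nat_lit 1863) (nat_lit 29428) (nat_lit 522) (.node .nil (nat_lit 1864) (nat_lit 6896) (nat_lit 1359)
  .nil)) (nat_lit 1865) (nat_lit 30020) (nat_lit 527) (.node (.node .nil (nat_lit 1866) (nat_lit 30404)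
  (nat_lit 523) .nil) (nat_lit 1867) (nat_lit 30148) (nat_lit 515) .nil))))) (nat_lit 1868) (nat_lit 4324)
  (nat_lit 521) (.node (.node (.node (.node (.node (.node .nil (nat_lit 1869) (nat_lit 29620) (nat_lit 513)
  .nil) (nat_lit 1870) (nat_lit 30562) (nat_lit 1895) (.node .nil (nat_lit 1871) (nat_lit 28868) (nat_lit 525)
  .nil)) (nat_lit 1872) (nat_lit 6864) (nat_lit 1374) (.node (.node .nil (nat_lit 1873) (nat_lit 29764)
  (nat_lit 518) .nil) (nat_lit 1874) (nat_lit 28468) (nat_lit 514) (.node .nil (nat_lit 1875) (nat_lit 29444)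
  (nat_lit 522) .nil))) (nat_lit 1876) (nat_lit 2404) (nat_lit 512) (.node (.node (.node .nil (nat_lit 1877)
  (nat_lit 29012) (nat_lit 520) .nil) (nat_lit 1878) (nat_lit 30676) (nat_lit 524) (.node .nil (nat_lit 1879)
  (nat_lit 30292) (nat_lit 516) .nil)) (nat_lit 1880) (nat_lit 4340) (nat_lit 521) (.node (.node .nil (nat_lit
  1881) (nat_lit 29636) (nat_lit 513) .nil) (nat_lit 1882) (nat_lit 30578) (nat_lit 1907) .nil))) (nat_lit
  1883) (nat_lit 28884) (nat_lit 525) (.node (.node (.node (.node .nil (nat_lit 1884) (nat_lit 6848) (nat_lit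
  1371) .nil) (nat_lit 1885) (nat_lit 30036) (nat_lit 527) (.node .nil (nat_lit 1886) (nat_lit 30420) (nat_lit
  523) .nil)) (nat_lit 1887) (nat_lit 30164) (nat_lit 515) (.node (.node .nil (nat_lit 1888) (nat_lit 6800)
  (nat_lit 1383) .nil) (nat_lit 1889) (nat_lit 30052) (nat_lit 527) (.node .nil (nat_lit 1890) (nat_lit 30436)
  (nat_lit 523) .nil))) (nat_lit 1891) (nat_lit 30180) (nat_lit 515) (.node (.node (.node .nil (nat_lit 1892)
  (nat_lit 4356) (nat_lit 521) .nil) (nat_lit 1893) (nat_lit 29652) (nat_lit 513) (.node .nil (nat_lit 1894)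
  (nat_lit 30482) (nat_lit 859) .nil)) (nat_lit 1895) (nat_lit 28900) (nat_lit 525) (.node (.node .nil
  (nat_lit 1896) (nat_lit 2420) (nat_lit 512) .nil) (nat_lit 1897) (nat_lit 29028) (nat_lit 520) .nil))))
  (nat_lit 1898) (nat_lit 30692) (nat_lit 524) (.node (.node (.node (.node (.node .nil (nat_lit 1899) (nat_lit
  30308) (nat_lit 516) .nil) (nat_lit 1900) (nat_lit 7090) (nat_lit 1876) (.node .nil (nat_lit 1901) (nat_lit
  29780) (nat_lit 518) .nil)) (nat_lit 1902) (nat_lit 28484) (nat_lit 514) (.node (.node .nil (nat_lit 1903)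
  (nat_lit 29460) (nat_lit 522) .nil) (nat_lit 1904) (nat_lit 4372) (nat_lit 521) (.node .nil (nat_lit 1905)
  (nat_lit 29668) (nat_lit 513) .nil))) (nat_lit 1906) (nat_lit 30466) (nat_lit 847) (.node (.node (.node .nil
  (nat_lit 1907) (nat_lit 28916) (nat_lit 525) .nil) (nat_lit 1908) (nat_lit 5232) (nat_lit 1395) (.node .nil
  (nat_lit 1909) (nat_lit 30068) (nat_lit 527) .nil)) (nat_lit 1910) (nat_lit 30452) (nat_lit 523) (.node
  (.node .nil (nat_lit 1911) (nat_lit 30196) (nat_lit 515) .nil) (nat_lit 1912) (nat_lit 7074) (nat_lit 1856)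
  .nil))) (nat_lit 1913) (nat_lit 29796) (nat_lit 518) (.node (.node (.node (.node .nil (nat_lit 1914)
  (nat_lit 28500) (nat_lit 514) .nil) (nat_lit 1915) (nat_lit 29476) (nat_lit 522) (.node .nil (nat_lit 1916)
  (nat_lit 2436) (nat_lit 512) .nil)) (nat_lit 1917) (nat_lit 29044) (nat_lit 520) (.node (.node .nil (nat_lit
  1918) (nat_lit 30708) (nat_lit 524) .nil) (nat_lit 1919) (nat_lit 30324) (nat_lit 516) (.node .nil (nat_lit
  1920) (nat_lit 4980) (nat_lit 832) .nil))) (nat_lit 1921) (nat_lit 20564) (nat_lit 840) (.node (.node (.node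
  .nil (nat_lit 1922) (nat_lit 9300) (nat_lit 844) .nil) (nat_lit 1923) (nat_lit 12849) (nat_lit 1920) (.node
  .nil (nat_lit 1924) (nat_lit 23328) (nat_lit 1226) .nil)) (nat_lit 1925) (nat_lit 12096) (nat_lit 1219)
  (.node (.node .nil (nat_lit 1926) (nat_lit 17750) (nat_lit 1200) .nil) (nat_lit 1927) (nat_lit 14454)
  (nat_lit 164) .nil))))))
def tR0_15 : T := (.node (.node (.node (.node (.node (.node (.node .nil (nat_lit 1929) (nat_lit 16758)
  (nat_lit 181) .nil) (nat_lit 1930) (nat_lit 19254) (nat_lit 156) (.node .nil (nat_lit 1931) (nat_lit 13344)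
  (nat_lit 1224) .nil)) (nat_lit 1932) (nat_lit 8160) (nat_lit 1221) (.node (.node .nil (nat_lit 1933)
  (nat_lit 15574) (nat_lit 1185) .nil) (nat_lit 1934) (nat_lit 20278) (nat_lit 1160) (.node .nil (nat_lit
  1935) (nat_lit 19270) (nat_lit 156) .nil))) (nat_lit 1936) (nat_lit 23264) (nat_lit 1246) (.node (.node
  (.node .nil (nat_lit 1937) (nat_lit 11920) (nat_lit 1239) .nil) (nat_lit 1938) (nat_lit 17766) (nat_lit
  1200) (.node .nil (nat_lit 1939) (nat_lit 752) (nat_lit 1241) .nil)) (nat_lit 1940) (nat_lit 4996) (nat_lit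
  832) (.node (.node .nil (nat_lit 1941) (nat_lit 20580) (nat_lit 840) .nil) (nat_lit 1942) (nat_lit 9316)
  (nat_lit 844) .nil))) (nat_lit 1943) (nat_lit 12897) (nat_lit 1940) (.node (.node (.node (.node .nil
  (nat_lit 1944) (nat_lit 8304) (nat_lit 1233) .nil) (nat_lit 1945) (nat_lit 15590) (nat_lit 1185) (.node .nil
  (nat_lit 1946) (nat_lit 20294) (nat_lit 1160) .nil)) (nat_lit 1947) (nat_lit 19286) (nat_lit 156) (.node
  (.node .nil (nat_lit 1948) (nat_lit 13011) (nat_lit 1980) .nil) (nat_lit 1949) (nat_lit 16774) (nat_lit 181)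
  (.node .nil (nat_lit 1950) (nat_lit 19302) (nat_lit 156) .nil))) (nat_lit 1951) (nat_lit 13440) (nat_lit
  1244) (.node (.node (.node .nil (nat_lit 1952) (nat_lit 12867) (nat_lit 1920) .nil) (nat_lit 1953) (nat_lit
  3091) (nat_lit 897) (.node .nil (nat_lit 1954) (nat_lit 3360) (nat_lit 1257) .nil)) (nat_lit 1955) (nat_lit
  13120) (nat_lit 1248) (.node (.node .nil (nat_lit 1956) (nat_lit 8864) (nat_lit 1261) .nil) (nat_lit 1957)
  (nat_lit 16790) (nat_lit 181) .nil)))) (nat_lit 1958) (nat_lit 19318) (nat_lit 156) (.node (.node (.node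
  (.node (.node .nil (nat_lit 1959) (nat_lit 20310) (nat_lit 1160) .nil) (nat_lit 1960) (nat_lit 5012)
  (nat_lit 832) (.node .nil (nat_lit 1961) (nat_lit 20596) (nat_lit 840) .nil)) (nat_lit 1962) (nat_lit 9332)
  (nat_lit 844) (.node (.node .nil (nat_lit 1963) (nat_lit 12401) (nat_lit 936) .nil) (nat_lit 1964) (nat_lit
  21907) (nat_lit 1932) (.node .nil (nat_lit 1965) (nat_lit 13456) (nat_lit 1259) .nil))) (nat_lit 1966)
  (nat_lit 14470) (nat_lit 164) (.node (.node (.node .nil (nat_lit 1967) (nat_lit 17782) (nat_lit 1200) .nil)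
  (nat_lit 1968) (nat_lit 8768) (nat_lit 1273) (.node .nil (nat_lit 1969) (nat_lit 16806) (nat_lit 181) .nil))
  (nat_lit 1970) (nat_lit 19334) (nat_lit 156) (.node (.node .nil (nat_lit 1971) (nat_lit 1472) (nat_lit 1278)
  .nil) (nat_lit 1972) (nat_lit 12915) (nat_lit 1940) .nil))) (nat_lit 1973) (nat_lit 15606) (nat_lit 1185)
  (.node (.node (.node (.node .nil (nat_lit 1974) (nat_lit 18000) (nat_lit 1277) .nil) (nat_lit 1975) (nat_lit
  13264) (nat_lit 1268) (.node .nil (nat_lit 1976) (nat_lit 22211) (nat_lit 1944) .nil)) (nat_lit 1977)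
  (nat_lit 13360) (nat_lit 1279) (.node (.node .nil (nat_lit 1978) (nat_lit 14486) (nat_lit 164) .nil)
  (nat_lit 1979) (nat_lit 17798) (nat_lit 1200) (.node .nil (nat_lit 1980) (nat_lit 5028) (nat_lit 832)
  .nil))) (nat_lit 1981) (nat_lit 20612) (nat_lit 840) (.node (.node (.node .nil (nat_lit 1982) (nat_lit 9348)
  (nat_lit 844) .nil) (nat_lit 1983) (nat_lit 12705) (nat_lit 956) (.node .nil (nat_lit 1984) (nat_lit 11748)
  (nat_lit 896) .nil)) (nat_lit 1985) (nat_lit 8051) (nat_lit 997) (.node (.node .nil (nat_lit 1986) (nat_lit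
  21328) (nat_lit 1102) .nil) (nat_lit 1987) (nat_lit 26592) (nat_lit 1095) .nil))))) (nat_lit 1988) (nat_lit
  8225) (nat_lit 1009) (.node (.node (.node (.node (.node (.node .nil (nat_lit 1989) (nat_lit 21555) (nat_lit
  993) .nil) (nat_lit 1990) (nat_lit 7604) (nat_lit 898) (.node .nil (nat_lit 1991) (nat_lit 20962) (nat_lit
  1018) .nil)) (nat_lit 1992) (nat_lit 22625) (nat_lit 1021) (.node (.node .nil (nat_lit 1993) (nat_lit 8066)
  (nat_lit 997) .nil) (nat_lit 1994) (nat_lit 20755) (nat_lit 1006) (.node .nil (nat_lit 1995) (nat_lit 8704)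
  (nat_lit 1096) .nil))) (nat_lit 1996) (nat_lit 24611) (nat_lit 2024) (.node (.node (.node .nil (nat_lit
  1997) (nat_lit 3108) (nat_lit 897) .nil) (nat_lit 1998) (nat_lit 23314) (nat_lit 2015) (.node .nil (nat_lit
  1999) (nat_lit 21265) (nat_lit 2042) .nil)) (nat_lit 2000) (nat_lit 8081) (nat_lit 997) (.node (.node .nil
  (nat_lit 2001) (nat_lit 2465) (nat_lit 996) .nil) (nat_lit 2002) (nat_lit 7620) (nat_lit 898) .nil)))
  (nat_lit 2003) (nat_lit 20770) (nat_lit 1006) (.node (.node (.node (.node .nil (nat_lit 2004) (nat_lit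
  11764) (nat_lit 896) .nil) (nat_lit 2005) (nat_lit 8243) (nat_lit 1009) (.node .nil (nat_lit 2006) (nat_lit
  21312) (nat_lit 1114) .nil)) (nat_lit 2007) (nat_lit 4417) (nat_lit 2018) (.node (.node .nil (nat_lit 2008)
  (nat_lit 24627) (nat_lit 2044) .nil) (nat_lit 2009) (nat_lit 3124) (nat_lit 897) (.node .nil (nat_lit 2010)
  (nat_lit 23250) (nat_lit 1995) .nil))) (nat_lit 2011) (nat_lit 21217) (nat_lit 2030) (.node (.node (.node
  .nil (nat_lit 2012) (nat_lit 22545) (nat_lit 1001) .nil) (nat_lit 2013) (nat_lit 8112) (nat_lit 1106) (.node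
  .nil (nat_lit 2014) (nat_lit 20979) (nat_lit 1018) .nil)) (nat_lit 2015) (nat_lit 8800) (nat_lit 1116)
  (.node (.node .nil (nat_lit 2016) (nat_lit 22147) (nat_lit 1988) .nil) (nat_lit 2017) (nat_lit 8562)
  (nat_lit 2009) .nil)))) (nat_lit 2018) (nat_lit 1299) (nat_lit 966) (.node (.node (.node (.node (.node .nil
  (nat_lit 2019) (nat_lit 8960) (nat_lit 1120) .nil) (nat_lit 2020) (nat_lit 24579) (nat_lit 1984) (.node .nil
  (nat_lit 2021) (nat_lit 3140) (nat_lit 897) .nil)) (nat_lit 2022) (nat_lit 21698) (nat_lit 995) (.node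
  (.node .nil (nat_lit 2023) (nat_lit 20657) (nat_lit 978) .nil) (nat_lit 2024) (nat_lit 11780) (nat_lit 896)
  (.node .nil (nat_lit 2025) (nat_lit 4515) (nat_lit 973) .nil))) (nat_lit 2026) (nat_lit 20688) (nat_lit
  1126) (.node (.node (.node .nil (nat_lit 2027) (nat_lit 27072) (nat_lit 1135) .nil) (nat_lit 2028) (nat_lit
  8577) (nat_lit 2009) (.node .nil (nat_lit 2029) (nat_lit 22995) (nat_lit 969) .nil)) (nat_lit 2030) (nat_lit
  7636) (nat_lit 898) (.node (.node .nil (nat_lit 2031) (nat_lit 21122) (nat_lit 1990) .nil) (nat_lit 2032)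
  (nat_lit 24595) (nat_lit 2004) .nil))) (nat_lit 2033) (nat_lit 3156) (nat_lit 897) (.node (.node (.node
  (.node .nil (nat_lit 2034) (nat_lit 22066) (nat_lit 1015) .nil) (nat_lit 2035) (nat_lit 1313) (nat_lit 966)
  (.node .nil (nat_lit 2036) (nat_lit 21777) (nat_lit 1985) .nil)) (nat_lit 2037) (nat_lit 8514) (nat_lit
  1997) (.node (.node .nil (nat_lit 2038) (nat_lit 20675) (nat_lit 978) .nil) (nat_lit 2039) (nat_lit 9184)
  (nat_lit 1140) (.node .nil (nat_lit 2040) (nat_lit 8529) (nat_lit 1997) .nil))) (nat_lit 2041) (nat_lit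
  23219) (nat_lit 989) (.node (.node (.node .nil (nat_lit 2042) (nat_lit 7652) (nat_lit 898) .nil) (nat_lit
  2043) (nat_lit 21170) (nat_lit 2002) (.node .nil (nat_lit 2044) (nat_lit 11796) (nat_lit 896) .nil))
  (nat_lit 2045) (nat_lit 7987) (nat_lit 985) (.node (.node .nil (nat_lit 2046) (nat_lit 1344) (nat_lit 1138)
  .nil) (nat_lit 2047) (nat_lit 27088) (nat_lit 1147) .nil))))))
def tR0 : T := (.node (.node (.node (.node tR0_0 (nat_lit 184) (nat_lit 5266) (nat_lit 128) tR0_1) (nat_lit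
  304) (nat_lit 10083) (nat_lit 1287) (.node tR0_2 (nat_lit 424) (nat_lit 468) (nat_lit 640) tR0_3)) (nat_lit
  544) (nat_lit 22275) (nat_lit 1555) (.node (.node tR0_4 (nat_lit 664) (nat_lit 12436) (nat_lit 73) tR0_5)
  (nat_lit 784) (nat_lit 16278) (nat_lit 181) (.node tR0_6 (nat_lit 904) (nat_lit 12387) (nat_lit 936)
  tR0_7))) (nat_lit 1088) (nat_lit 4660) (nat_lit 192) (.node (.node (.node tR0_8 (nat_lit 1208) (nat_lit
  5634) (nat_lit 1152) tR0_9) (nat_lit 1328) (nat_lit 10595) (nat_lit 263) (.node tR0_10 (nat_lit 1448)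
  (nat_lit 532) (nat_lit 640) tR0_11)) (nat_lit 1568) (nat_lit 21619) (nat_lit 531) (.node (.node tR0_12
  (nat_lit 1688) (nat_lit 12532) (nat_lit 73) tR0_13) (nat_lit 1808) (nat_lit 16694) (nat_lit 181) (.node
  tR0_14 (nat_lit 1928) (nat_lit 12963) (nat_lit 1960) tR0_15))))
def tF0 : T := (.node (.node (.node (.node (.node .nil (nat_lit 1) (nat_lit 2512) (nat_lit 10) .nil) (nat_lit
  2) (nat_lit 3524) (nat_lit 1070) .nil) (nat_lit 4) (nat_lit 135) (nat_lit 64) (.node .nil (nat_lit 8)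
  (nat_lit 2228) (nat_lit 61) .nil)) (nat_lit 10) (nat_lit 752) (nat_lit 4) (.node (.node (.node .nil (nat_lit
  16) (nat_lit 1538) (nat_lit 1028) .nil) (nat_lit 32) (nat_lit 599) (nat_lit 192) .nil) (nat_lit 54) (nat_lit
  101) (nat_lit 64) (.node .nil (nat_lit 61) (nat_lit 608) (nat_lit 54) .nil))) (nat_lit 64) (nat_lit 0)
  (nat_lit 64) (.node (.node (.node (.node .nil (nat_lit 118) (nat_lit 33) (nat_lit 64) .nil) (nat_lit 128)
  (nat_lit 16) (nat_lit 64) .nil) (nat_lit 192) (nat_lit 84) (nat_lit 64) (.node .nil (nat_lit 256) (nat_lit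
  144) (nat_lit 128) .nil)) (nat_lit 512) (nat_lit 816) (nat_lit 256) (.node (.node (.node .nil (nat_lit 1024)
  (nat_lit 695) (nat_lit 54) .nil) (nat_lit 1028) (nat_lit 359) (nat_lit 118) .nil) (nat_lit 1057) (nat_lit
  229) (nat_lit 128) (.node .nil (nat_lit 1070) (nat_lit 1136) (nat_lit 1057) .nil))))
/-- Generators of a stabiliser. -/
def lC0 : List ℕ := [nat_lit 0x8004003c020010008002701e00f00a00e009, nat_lit 0x8004006221004a1076020410408404002001, nat_lit
  0x80040062c18d0b84d940c40403041043f415, nat_lit 0x8004006335370a4044020010008004402401]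
/-- Generators of a stabiliser and their commutator maps. -/
def lD0 : List ℕ := [nat_lit 0x8004003c020010008002701e00f00a00e009, nat_lit 0x8004006221004a1076020410408404002001, nat_lit
  0x80040062c18d0b84d940c40403041043f415, nat_lit 0x8004006335370a4044020010008004402401, nat_lit
  0x1c03001800c000700e00700e00c008, nat_lit 0x422000421036000400400400000000, nat_lit
  0x42c08d03849942c41403841443d414, nat_lit 0x433437024004000000000000400400]
/-- Words. -/
def wC0 : List ℕ := [nat_lit 0x1ce839ce7, nat_lit 0x1a4e139d23, nat_lit 0x349d094210839d23, nat_lit 0x339c2739ce3]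
def tJ6_0 : T := (.node (.node (.node (.node (.node (.node (.node (.node .nil (nat_lit 0) (nat_lit 0) (nat_lit
  0) .nil) (nat_lit 1) (nat_lit 0) (nat_lit 1) .nil) (nat_lit 2) (nat_lit 38) (nat_lit 1) (.node .nil (nat_lit
  3) (nat_lit 134) (nat_lit 2) .nil)) (nat_lit 4) (nat_lit 423) (nat_lit 6) (.node (.node .nil (nat_lit 5)
  (nat_lit 1351) (nat_lit 12) .nil) (nat_lit 6) (nat_lit 183) (nat_lit 9) (.node .nil (nat_lit 7) (nat_lit
  359) (nat_lit 3) .nil))) (nat_lit 8) (nat_lit 663) (nat_lit 11) (.node (.node (.node .nil (nat_lit 9)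
  (nat_lit 55) (nat_lit 1) .nil) (nat_lit 10) (nat_lit 727) (nat_lit 4) (.node .nil (nat_lit 11) (nat_lit 375)
  (nat_lit 14) .nil)) (nat_lit 12) (nat_lit 999) (nat_lit 13) (.node (.node .nil (nat_lit 13) (nat_lit 647)
  (nat_lit 7) .nil) (nat_lit 14) (nat_lit 151) (nat_lit 2) (.node .nil (nat_lit 15) (nat_lit 1015) (nat_lit 8)
  .nil)))) (nat_lit 16) (nat_lit 168) (nat_lit 2) (.node (.node (.node (.node .nil (nat_lit 17) (nat_lit 263)
  (nat_lit 24) .nil) (nat_lit 18) (nat_lit 1367) (nat_lit 29) (.node .nil (nat_lit 19) (nat_lit 455) (nat_lit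
  23) .nil)) (nat_lit 20) (nat_lit 0) (nat_lit 20) (.node (.node .nil (nat_lit 21) (nat_lit 695) (nat_lit 30)
  .nil) (nat_lit 22) (nat_lit 200) (nat_lit 9) (.node .nil (nat_lit 23) (nat_lit 359) (nat_lit 17) .nil)))
  (nat_lit 24) (nat_lit 151) (nat_lit 25) (.node (.node (.node .nil (nat_lit 25) (nat_lit 56) (nat_lit 20)
  .nil) (nat_lit 26) (nat_lit 455) (nat_lit 22) (.node .nil (nat_lit 27) (nat_lit 744) (nat_lit 4) .nil))
  (nat_lit 28) (nat_lit 1144) (nat_lit 47) (.node (.node .nil (nat_lit 29) (nat_lit 1079) (nat_lit 21) .nil)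
  (nat_lit 30) (nat_lit 407) (nat_lit 16) (.node .nil (nat_lit 31) (nat_lit 775) (nat_lit 26) .nil)))))
  (nat_lit 32) (nat_lit 72) (nat_lit 1) (.node (.node (.node (.node (.node .nil (nat_lit 33) (nat_lit 535)
  (nat_lit 41) .nil) (nat_lit 34) (nat_lit 343) (nat_lit 44) (.node .nil (nat_lit 35) (nat_lit 1159) (nat_lit
  38) .nil)) (nat_lit 36) (nat_lit 792) (nat_lit 26) (.node (.node .nil (nat_lit 37) (nat_lit 1127) (nat_lit
  47) .nil) (nat_lit 38) (nat_lit 807) (nat_lit 42) (.node .nil (nat_lit 39) (nat_lit 231) (nat_lit 32)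
  .nil))) (nat_lit 40) (nat_lit 38) (nat_lit 20) (.node (.node (.node .nil (nat_lit 41) (nat_lit 439) (nat_lit
  34) .nil) (nat_lit 42) (nat_lit 487) (nat_lit 39) (.node .nil (nat_lit 43) (nat_lit 438) (nat_lit 22) .nil))
  (nat_lit 44) (nat_lit 247) (nat_lit 46) (.node (.node .nil (nat_lit 45) (nat_lit 1110) (nat_lit 27) .nil)
  (nat_lit 46) (nat_lit 134) (nat_lit 25) (.node .nil (nat_lit 47) (nat_lit 759) (nat_lit 43) .nil))))
  (nat_lit 48) (nat_lit 214) (nat_lit 32) (.node (.node (.node (.node .nil (nat_lit 49) (nat_lit 1383)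
  (nat_lit 59) .nil) (nat_lit 50) (nat_lit 519) (nat_lit 62) (.node .nil (nat_lit 51) (nat_lit 327) (nat_lit
  52) .nil)) (nat_lit 52) (nat_lit 231) (nat_lit 55) (.node (.node .nil (nat_lit 53) (nat_lit 679) (nat_lit
  61) .nil) (nat_lit 54) (nat_lit 1032) (nat_lit 8) (.node .nil (nat_lit 55) (nat_lit 120) (nat_lit 40)
  .nil))) (nat_lit 56) (nat_lit 1064) (nat_lit 53) (.node (.node (.node .nil (nat_lit 57) (nat_lit 471)
  (nat_lit 48) .nil) (nat_lit 58) (nat_lit 1047) (nat_lit 53) (.node .nil (nat_lit 59) (nat_lit 1095) (nat_lit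
  63) .nil)) (nat_lit 60) (nat_lit 102) (nat_lit 40) (.node (.node .nil (nat_lit 61) (nat_lit 392) (nat_lit
  14) .nil) (nat_lit 62) (nat_lit 423) (nat_lit 51) (.node .nil (nat_lit 63) (nat_lit 712) (nat_lit 30)
  .nil)))))) (nat_lit 64) (nat_lit 0) (nat_lit 64) (.node (.node (.node (.node (.node (.node .nil (nat_lit 65)
  (nat_lit 0) (nat_lit 65) .nil) (nat_lit 66) (nat_lit 102) (nat_lit 65) (.node .nil (nat_lit 67) (nat_lit
  566) (nat_lit 66) .nil)) (nat_lit 68) (nat_lit 85) (nat_lit 64) (.node (.node .nil (nat_lit 69) (nat_lit 85)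
  (nat_lit 65) .nil) (nat_lit 70) (nat_lit 549) (nat_lit 66) (.node .nil (nat_lit 71) (nat_lit 1254) (nat_lit
  78) .nil))) (nat_lit 72) (nat_lit 33) (nat_lit 64) (.node (.node (.node .nil (nat_lit 73) (nat_lit 33)
  (nat_lit 65) .nil) (nat_lit 74) (nat_lit 470) (nat_lit 69) (.node .nil (nat_lit 75) (nat_lit 1942) (nat_lit
  70) .nil)) (nat_lit 76) (nat_lit 16) (nat_lit 64) (.node (.node .nil (nat_lit 77) (nat_lit 277) (nat_lit 73)
  .nil) (nat_lit 78) (nat_lit 294) (nat_lit 73) (.node .nil (nat_lit 79) (nat_lit 1718) (nat_lit 74) .nil))))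
  (nat_lit 80) (nat_lit 600) (nat_lit 66) (.node (.node (.node (.node .nil (nat_lit 81) (nat_lit 963) (nat_lit
  1094) .nil) (nat_lit 82) (nat_lit 771) (nat_lit 1093) (.node .nil (nat_lit 83) (nat_lit 0) (nat_lit 83)
  .nil)) (nat_lit 84) (nat_lit 2133) (nat_lit 80) (.node (.node .nil (nat_lit 85) (nat_lit 2805) (nat_lit 81)
  .nil) (nat_lit 86) (nat_lit 328) (nat_lit 73) (.node .nil (nat_lit 87) (nat_lit 85) (nat_lit 83) .nil)))
  (nat_lit 88) (nat_lit 2097) (nat_lit 80) (.node (.node (.node .nil (nat_lit 89) (nat_lit 1235) (nat_lit 78)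
  .nil) (nat_lit 90) (nat_lit 1157) (nat_lit 94) (.node .nil (nat_lit 91) (nat_lit 131) (nat_lit 76) .nil))
  (nat_lit 92) (nat_lit 2080) (nat_lit 80) (.node (.node .nil (nat_lit 93) (nat_lit 1699) (nat_lit 74) .nil)
  (nat_lit 94) (nat_lit 259) (nat_lit 73) (.node .nil (nat_lit 95) (nat_lit 195) (nat_lit 72) .nil)))))
  (nat_lit 96) (nat_lit 136) (nat_lit 65) (.node (.node (.node (.node (.node .nil (nat_lit 97) (nat_lit 102)
  (nat_lit 83) .nil) (nat_lit 98) (nat_lit 2822) (nat_lit 81) (.node .nil (nat_lit 99) (nat_lit 1585) (nat_lit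
  1131) .nil)) (nat_lit 100) (nat_lit 1109) (nat_lit 1120) (.node (.node .nil (nat_lit 101) (nat_lit 114)
  (nat_lit 76) .nil) (nat_lit 102) (nat_lit 1752) (nat_lit 74) (.node .nil (nat_lit 103) (nat_lit 1174)
  (nat_lit 94) .nil))) (nat_lit 104) (nat_lit 705) (nat_lit 96) (.node (.node (.node .nil (nat_lit 105)
  (nat_lit 326) (nat_lit 87) .nil) (nat_lit 106) (nat_lit 3240) (nat_lit 103) (.node .nil (nat_lit 107)
  (nat_lit 1398) (nat_lit 86) .nil)) (nat_lit 108) (nat_lit 357) (nat_lit 1128) (.node (.node .nil (nat_lit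
  109) (nat_lit 168) (nat_lit 76) .nil) (nat_lit 110) (nat_lit 3302) (nat_lit 89) (.node .nil (nat_lit 111)
  (nat_lit 1605) (nat_lit 1131) .nil)))) (nat_lit 112) (nat_lit 726) (nat_lit 96) (.node (.node (.node (.node
  .nil (nat_lit 113) (nat_lit 3942) (nat_lit 99) .nil) (nat_lit 114) (nat_lit 136) (nat_lit 83) (.node .nil
  (nat_lit 115) (nat_lit 835) (nat_lit 1124) .nil)) (nat_lit 116) (nat_lit 1414) (nat_lit 108) (.node (.node
  .nil (nat_lit 117) (nat_lit 3457) (nat_lit 125) .nil) (nat_lit 118) (nat_lit 232) (nat_lit 72) (.node .nil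
  (nat_lit 119) (nat_lit 1091) (nat_lit 1120) .nil))) (nat_lit 120) (nat_lit 1461) (nat_lit 1148) (.node
  (.node (.node .nil (nat_lit 121) (nat_lit 3206) (nat_lit 103) .nil) (nat_lit 122) (nat_lit 438) (nat_lit
  101) (.node .nil (nat_lit 123) (nat_lit 504) (nat_lit 69) .nil)) (nat_lit 124) (nat_lit 2486) (nat_lit 104)
  (.node (.node .nil (nat_lit 125) (nat_lit 1288) (nat_lit 78) .nil) (nat_lit 126) (nat_lit 261) (nat_lit
  1146) (.node .nil (nat_lit 127) (nat_lit 1208) (nat_lit 94) .nil)))))))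
def tJ6_1 : T := (.node (.node (.node (.node (.node (.node (.node .nil (nat_lit 129) (nat_lit 1735) (nat_lit
  74) .nil) (nat_lit 130) (nat_lit 4135) (nat_lit 79) (.node .nil (nat_lit 131) (nat_lit 487) (nat_lit 69)
  .nil)) (nat_lit 132) (nat_lit 1959) (nat_lit 70) (.node (.node .nil (nat_lit 133) (nat_lit 151) (nat_lit 76)
  .nil) (nat_lit 134) (nat_lit 311) (nat_lit 73) (.node .nil (nat_lit 135) (nat_lit 1975) (nat_lit 67) .nil)))
  (nat_lit 136) (nat_lit 4423) (nat_lit 75) (.node (.node (.node .nil (nat_lit 137) (nat_lit 119) (nat_lit 65)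
  .nil) (nat_lit 138) (nat_lit 311) (nat_lit 68) (.node .nil (nat_lit 139) (nat_lit 1271) (nat_lit 78) .nil))
  (nat_lit 140) (nat_lit 1223) (nat_lit 77) (.node (.node .nil (nat_lit 141) (nat_lit 3335) (nat_lit 71) .nil)
  (nat_lit 142) (nat_lit 583) (nat_lit 66) (.node .nil (nat_lit 143) (nat_lit 215) (nat_lit 72) .nil))))
  (nat_lit 144) (nat_lit 2583) (nat_lit 82) (.node (.node (.node (.node .nil (nat_lit 145) (nat_lit 4823)
  (nat_lit 88) .nil) (nat_lit 146) (nat_lit 1984) (nat_lit 142) (.node .nil (nat_lit 147) (nat_lit 343)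
  (nat_lit 87) .nil)) (nat_lit 148) (nat_lit 4855) (nat_lit 84) (.node (.node .nil (nat_lit 149) (nat_lit
  1191) (nat_lit 94) .nil) (nat_lit 150) (nat_lit 471) (nat_lit 91) (.node .nil (nat_lit 151) (nat_lit 2018)
  (nat_lit 142) .nil))) (nat_lit 152) (nat_lit 3319) (nat_lit 89) (.node (.node (.node .nil (nat_lit 153)
  (nat_lit 119) (nat_lit 83) .nil) (nat_lit 154) (nat_lit 1296) (nat_lit 134) (.node .nil (nat_lit 155)
  (nat_lit 4807) (nat_lit 92) .nil)) (nat_lit 156) (nat_lit 320) (nat_lit 128) (.node (.node .nil (nat_lit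
  157) (nat_lit 4288) (nat_lit 1153) .nil) (nat_lit 158) (nat_lit 2151) (nat_lit 80) (.node .nil (nat_lit 159)
  (nat_lit 1330) (nat_lit 134) .nil))))) (nat_lit 160) (nat_lit 3959) (nat_lit 99) (.node (.node (.node (.node
  (.node .nil (nat_lit 161) (nat_lit 385) (nat_lit 153) .nil) (nat_lit 162) (nat_lit 1431) (nat_lit 108)
  (.node .nil (nat_lit 163) (nat_lit 4183) (nat_lit 102) .nil)) (nat_lit 164) (nat_lit 455) (nat_lit 101)
  (.node (.node .nil (nat_lit 165) (nat_lit 3558) (nat_lit 159) .nil) (nat_lit 166) (nat_lit 6679) (nat_lit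
  106) (.node .nil (nat_lit 167) (nat_lit 743) (nat_lit 96) .nil))) (nat_lit 168) (nat_lit 2503) (nat_lit 104)
  (.node (.node (.node .nil (nat_lit 169) (nat_lit 4582) (nat_lit 151) .nil) (nat_lit 170) (nat_lit 3223)
  (nat_lit 103) (.node .nil (nat_lit 171) (nat_lit 551) (nat_lit 109) .nil)) (nat_lit 172) (nat_lit 6759)
  (nat_lit 110) (.node (.node .nil (nat_lit 173) (nat_lit 3143) (nat_lit 100) .nil) (nat_lit 174) (nat_lit
  359) (nat_lit 97) (.node .nil (nat_lit 175) (nat_lit 3494) (nat_lit 154) .nil)))) (nat_lit 176) (nat_lit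
  7671) (nat_lit 113) (.node (.node (.node (.node .nil (nat_lit 177) (nat_lit 625) (nat_lit 137) .nil)
  (nat_lit 178) (nat_lit 599) (nat_lit 126) (.node .nil (nat_lit 179) (nat_lit 2915) (nat_lit 1156) .nil))
  (nat_lit 180) (nat_lit 2627) (nat_lit 1155) (.node (.node .nil (nat_lit 181) (nat_lit 3479) (nat_lit 125)
  .nil) (nat_lit 182) (nat_lit 3719) (nat_lit 120) (.node .nil (nat_lit 183) (nat_lit 455) (nat_lit 114)
  .nil))) (nat_lit 184) (nat_lit 337) (nat_lit 128) (.node (.node (.node .nil (nat_lit 185) (nat_lit 2035)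
  (nat_lit 142) .nil) (nat_lit 186) (nat_lit 6803) (nat_lit 141) (.node .nil (nat_lit 187) (nat_lit 2609)
  (nat_lit 1155) .nil)) (nat_lit 188) (nat_lit 3395) (nat_lit 139) (.node (.node .nil (nat_lit 189) (nat_lit
  481) (nat_lit 133) .nil) (nat_lit 190) (nat_lit 659) (nat_lit 137) (.node .nil (nat_lit 191) (nat_lit 6631)
  (nat_lit 121) .nil)))))) (nat_lit 192) (nat_lit 2728) (nat_lit 1664) (.node (.node (.node (.node (.node
  (.node .nil (nat_lit 193) (nat_lit 18616) (nat_lit 1696) .nil) (nat_lit 194) (nat_lit 19640) (nat_lit 1680)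
  (.node .nil (nat_lit 195) (nat_lit 16504) (nat_lit 1712) .nil)) (nat_lit 196) (nat_lit 16376) (nat_lit 1691)
  (.node (.node .nil (nat_lit 197) (nat_lit 19208) (nat_lit 1723) .nil) (nat_lit 198) (nat_lit 18648) (nat_lit
  1675) (.node .nil (nat_lit 199) (nat_lit 3236) (nat_lit 192) .nil))) (nat_lit 200) (nat_lit 18776) (nat_lit
  1718) (.node (.node (.node .nil (nat_lit 201) (nat_lit 3336) (nat_lit 1686) .nil) (nat_lit 202) (nat_lit
  17160) (nat_lit 1702) (.node .nil (nat_lit 203) (nat_lit 19304) (nat_lit 1670) .nil)) (nat_lit 204) (nat_lit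
  19512) (nat_lit 1709) (.node (.node .nil (nat_lit 205) (nat_lit 16184) (nat_lit 1677) .nil) (nat_lit 206)
  (nat_lit 3253) (nat_lit 192) (.node .nil (nat_lit 207) (nat_lit 18744) (nat_lit 1693) .nil)))) (nat_lit 208)
  (nat_lit 3048) (nat_lit 1666) (.node (.node (.node (.node .nil (nat_lit 209) (nat_lit 18968) (nat_lit 1698)
  .nil) (nat_lit 210) (nat_lit 20376) (nat_lit 1682) (.node .nil (nat_lit 211) (nat_lit 17221) (nat_lit 221)
  .nil)) (nat_lit 212) (nat_lit 17912) (nat_lit 1689) (.node (.node .nil (nat_lit 213) (nat_lit 20920)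
  (nat_lit 1721) .nil) (nat_lit 214) (nat_lit 18888) (nat_lit 1673) (.node .nil (nat_lit 215) (nat_lit 3016)
  (nat_lit 1705) .nil))) (nat_lit 216) (nat_lit 18712) (nat_lit 1716) (.node (.node (.node .nil (nat_lit 217)
  (nat_lit 2984) (nat_lit 1684) .nil) (nat_lit 218) (nat_lit 17688) (nat_lit 1700) (.node .nil (nat_lit 219)
  (nat_lit 19848) (nat_lit 1668) .nil)) (nat_lit 220) (nat_lit 18136) (nat_lit 1711) (.node (.node .nil
  (nat_lit 221) (nat_lit 13736) (nat_lit 1679) .nil) (nat_lit 222) (nat_lit 2856) (nat_lit 1727) (.node .nil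
  (nat_lit 223) (nat_lit 18440) (nat_lit 1695) .nil))))) (nat_lit 224) (nat_lit 3016) (nat_lit 1665) (.node
  (.node (.node (.node (.node .nil (nat_lit 225) (nat_lit 19060) (nat_lit 230) .nil) (nat_lit 226) (nat_lit
  19976) (nat_lit 1681) (.node .nil (nat_lit 227) (nat_lit 17144) (nat_lit 1713) .nil)) (nat_lit 228) (nat_lit
  14760) (nat_lit 1690) (.node (.node .nil (nat_lit 229) (nat_lit 18472) (nat_lit 1722) .nil) (nat_lit 230)
  (nat_lit 15912) (nat_lit 1674) (.node .nil (nat_lit 231) (nat_lit 2984) (nat_lit 1706) .nil))) (nat_lit 232)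
  (nat_lit 20744) (nat_lit 1719) (.node (.node (.node .nil (nat_lit 233) (nat_lit 3176) (nat_lit 1687) .nil)
  (nat_lit 234) (nat_lit 17880) (nat_lit 1703) (.node .nil (nat_lit 235) (nat_lit 19784) (nat_lit 1671) .nil))
  (nat_lit 236) (nat_lit 19448) (nat_lit 1708) (.node (.node .nil (nat_lit 237) (nat_lit 16696) (nat_lit 1676)
  .nil) (nat_lit 238) (nat_lit 3080) (nat_lit 1724) (.node .nil (nat_lit 239) (nat_lit 20760) (nat_lit 1692)
  .nil)))) (nat_lit 240) (nat_lit 3144) (nat_lit 1667) (.node (.node (.node (.node .nil (nat_lit 241) (nat_lit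
  19016) (nat_lit 1699) .nil) (nat_lit 242) (nat_lit 20945) (nat_lit 1218) (.node .nil (nat_lit 243) (nat_lit
  17720) (nat_lit 1715) .nil)) (nat_lit 244) (nat_lit 16312) (nat_lit 1688) (.node (.node .nil (nat_lit 245)
  (nat_lit 20856) (nat_lit 1720) .nil) (nat_lit 246) (nat_lit 19040) (nat_lit 230) (.node .nil (nat_lit 247)
  (nat_lit 3336) (nat_lit 1704) .nil))) (nat_lit 248) (nat_lit 18040) (nat_lit 1717) (.node (.node (.node .nil
  (nat_lit 249) (nat_lit 2888) (nat_lit 1685) .nil) (nat_lit 250) (nat_lit 15208) (nat_lit 1701) (.node .nil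
  (nat_lit 251) (nat_lit 16856) (nat_lit 1669) .nil)) (nat_lit 252) (nat_lit 20936) (nat_lit 1710) (.node
  (.node .nil (nat_lit 253) (nat_lit 16632) (nat_lit 1678) .nil) (nat_lit 254) (nat_lit 2728) (nat_lit 1726)
  (.node .nil (nat_lit 255) (nat_lit 18808) (nat_lit 1694) .nil)))))))
def tJ6_2 : T := (.node (.node (.node (.node (.node (.node (.node .nil (nat_lit 257) (nat_lit 679) (nat_lit
  138) .nil) (nat_lit 258) (nat_lit 583) (nat_lit 143) (.node .nil (nat_lit 259) (nat_lit 519) (nat_lit 133)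
  .nil)) (nat_lit 260) (nat_lit 1367) (nat_lit 134) (.node (.node .nil (nat_lit 261) (nat_lit 2355) (nat_lit
  262) .nil) (nat_lit 262) (nat_lit 679) (nat_lit 137) (.node .nil (nat_lit 263) (nat_lit 1767) (nat_lit 131)
  .nil))) (nat_lit 264) (nat_lit 3415) (nat_lit 139) (.node (.node (.node .nil (nat_lit 265) (nat_lit 4151)
  (nat_lit 129) .nil) (nat_lit 266) (nat_lit 4439) (nat_lit 132) (.node .nil (nat_lit 267) (nat_lit 2055)
  (nat_lit 142) .nil)) (nat_lit 268) (nat_lit 6823) (nat_lit 141) (.node (.node .nil (nat_lit 269) (nat_lit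
  4503) (nat_lit 135) .nil) (nat_lit 270) (nat_lit 7879) (nat_lit 130) (.node .nil (nat_lit 271) (nat_lit
  8215) (nat_lit 136) .nil)))) (nat_lit 272) (nat_lit 4519) (nat_lit 146) (.node (.node (.node (.node .nil
  (nat_lit 273) (nat_lit 6775) (nat_lit 152) .nil) (nat_lit 274) (nat_lit 4673) (nat_lit 267) (.node .nil
  (nat_lit 275) (nat_lit 4599) (nat_lit 151) .nil)) (nat_lit 276) (nat_lit 8919) (nat_lit 148) (.node (.node
  .nil (nat_lit 277) (nat_lit 4871) (nat_lit 158) .nil) (nat_lit 278) (nat_lit 8871) (nat_lit 155) (.node .nil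
  (nat_lit 279) (nat_lit 8887) (nat_lit 145) .nil))) (nat_lit 280) (nat_lit 423) (nat_lit 153) (.node (.node
  (.node .nil (nat_lit 281) (nat_lit 679) (nat_lit 147) .nil) (nat_lit 282) (nat_lit 951) (nat_lit 150) (.node
  .nil (nat_lit 283) (nat_lit 711) (nat_lit 156) .nil)) (nat_lit 284) (nat_lit 3025) (nat_lit 1285) (.node
  (.node .nil (nat_lit 285) (nat_lit 3255) (nat_lit 149) .nil) (nat_lit 286) (nat_lit 4034) (nat_lit 1311)
  (.node .nil (nat_lit 287) (nat_lit 2321) (nat_lit 262) .nil))))) (nat_lit 288) (nat_lit 7943) (nat_lit 163)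
  (.node (.node (.node (.node (.node .nil (nat_lit 289) (nat_lit 8439) (nat_lit 169) .nil) (nat_lit 290)
  (nat_lit 11031) (nat_lit 172) (.node .nil (nat_lit 291) (nat_lit 8304) (nat_lit 269) .nil)) (nat_lit 292)
  (nat_lit 6112) (nat_lit 1290) (.node (.node .nil (nat_lit 293) (nat_lit 4656) (nat_lit 267) .nil) (nat_lit
  294) (nat_lit 6647) (nat_lit 170) (.node .nil (nat_lit 295) (nat_lit 7687) (nat_lit 160) .nil))) (nat_lit
  296) (nat_lit 5703) (nat_lit 168) (.node (.node (.node .nil (nat_lit 297) (nat_lit 3703) (nat_lit 162) .nil)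
  (nat_lit 298) (nat_lit 2535) (nat_lit 167) (.node .nil (nat_lit 299) (nat_lit 3843) (nat_lit 1320) .nil))
  (nat_lit 300) (nat_lit 711) (nat_lit 174) (.node (.node .nil (nat_lit 301) (nat_lit 919) (nat_lit 164) .nil)
  (nat_lit 302) (nat_lit 775) (nat_lit 161) (.node .nil (nat_lit 303) (nat_lit 1095) (nat_lit 171) .nil))))
  (nat_lit 304) (nat_lit 2215) (nat_lit 177) (.node (.node (.node (.node .nil (nat_lit 305) (nat_lit 3809)
  (nat_lit 1320) .nil) (nat_lit 306) (nat_lit 2295) (nat_lit 190) (.node .nil (nat_lit 307) (nat_lit 5011)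
  (nat_lit 304) .nil)) (nat_lit 308) (nat_lit 935) (nat_lit 183) (.node (.node .nil (nat_lit 309) (nat_lit
  967) (nat_lit 189) .nil) (nat_lit 310) (nat_lit 743) (nat_lit 184) (.node .nil (nat_lit 311) (nat_lit 1159)
  (nat_lit 178) .nil))) (nat_lit 312) (nat_lit 10454) (nat_lit 292) (.node (.node (.node .nil (nat_lit 313)
  (nat_lit 11767) (nat_lit 176) .nil) (nat_lit 314) (nat_lit 7015) (nat_lit 181) (.node .nil (nat_lit 315)
  (nat_lit 8928) (nat_lit 277) .nil)) (nat_lit 316) (nat_lit 6919) (nat_lit 188) (.node (.node .nil (nat_lit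
  317) (nat_lit 7383) (nat_lit 182) .nil) (nat_lit 318) (nat_lit 6087) (nat_lit 179) (.node .nil (nat_lit 319)
  (nat_lit 4631) (nat_lit 185) .nil)))))) (nat_lit 320) (nat_lit 2103) (nat_lit 832) (.node (.node (.node
  (.node (.node (.node .nil (nat_lit 321) (nat_lit 12871) (nat_lit 842) .nil) (nat_lit 322) (nat_lit 9079)
  (nat_lit 847) (.node .nil (nat_lit 323) (nat_lit 12887) (nat_lit 837) .nil)) (nat_lit 324) (nat_lit 12631)
  (nat_lit 838) (.node (.node .nil (nat_lit 325) (nat_lit 2295) (nat_lit 844) .nil) (nat_lit 326) (nat_lit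
  13847) (nat_lit 841) (.node .nil (nat_lit 327) (nat_lit 11351) (nat_lit 835) .nil))) (nat_lit 328) (nat_lit
  9687) (nat_lit 843) (.node (.node (.node .nil (nat_lit 329) (nat_lit 14583) (nat_lit 833) .nil) (nat_lit
  330) (nat_lit 1831) (nat_lit 836) (.node .nil (nat_lit 331) (nat_lit 12359) (nat_lit 846) .nil)) (nat_lit
  332) (nat_lit 13335) (nat_lit 845) (.node (.node .nil (nat_lit 333) (nat_lit 10135) (nat_lit 839) .nil)
  (nat_lit 334) (nat_lit 14519) (nat_lit 834) (.node .nil (nat_lit 335) (nat_lit 1911) (nat_lit 840) .nil))))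
  (nat_lit 336) (nat_lit 12135) (nat_lit 850) (.node (.node (.node (.node .nil (nat_lit 337) (nat_lit 2103)
  (nat_lit 856) .nil) (nat_lit 338) (nat_lit 10855) (nat_lit 861) (.node .nil (nat_lit 339) (nat_lit 10864)
  (nat_lit 369) .nil)) (nat_lit 340) (nat_lit 1943) (nat_lit 852) (.node (.node .nil (nat_lit 341) (nat_lit
  12673) (nat_lit 1348) .nil) (nat_lit 342) (nat_lit 10263) (nat_lit 859) (.node .nil (nat_lit 343) (nat_lit
  14151) (nat_lit 849) .nil))) (nat_lit 344) (nat_lit 11719) (nat_lit 857) (.node (.node (.node .nil (nat_lit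
  345) (nat_lit 9809) (nat_lit 1352) .nil) (nat_lit 346) (nat_lit 12087) (nat_lit 854) (.node .nil (nat_lit
  347) (nat_lit 2210) (nat_lit 1395) .nil)) (nat_lit 348) (nat_lit 7831) (nat_lit 863) (.node (.node .nil
  (nat_lit 349) (nat_lit 13015) (nat_lit 853) .nil) (nat_lit 350) (nat_lit 2279) (nat_lit 848) (.node .nil
  (nat_lit 351) (nat_lit 13879) (nat_lit 858) .nil))))) (nat_lit 352) (nat_lit 9826) (nat_lit 1352) (.node
  (.node (.node (.node (.node .nil (nat_lit 353) (nat_lit 14358) (nat_lit 339) .nil) (nat_lit 354) (nat_lit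
  2192) (nat_lit 1344) (.node .nil (nat_lit 355) (nat_lit 10567) (nat_lit 870) .nil)) (nat_lit 356) (nat_lit
  11895) (nat_lit 869) (.node (.node .nil (nat_lit 357) (nat_lit 10231) (nat_lit 879) .nil) (nat_lit 358)
  (nat_lit 12656) (nat_lit 1348) (.node .nil (nat_lit 359) (nat_lit 1943) (nat_lit 864) .nil))) (nat_lit 360)
  (nat_lit 2210) (nat_lit 1344) (.node (.node (.node .nil (nat_lit 361) (nat_lit 13975) (nat_lit 866) .nil)
  (nat_lit 362) (nat_lit 9792) (nat_lit 1352) (.node .nil (nat_lit 363) (nat_lit 13479) (nat_lit 877) .nil))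
  (nat_lit 364) (nat_lit 11607) (nat_lit 878) (.node (.node .nil (nat_lit 365) (nat_lit 1879) (nat_lit 868)
  .nil) (nat_lit 366) (nat_lit 13488) (nat_lit 1356) (.node .nil (nat_lit 367) (nat_lit 9479) (nat_lit 875)
  .nil)))) (nat_lit 368) (nat_lit 13638) (nat_lit 352) (.node (.node (.node (.node .nil (nat_lit 369) (nat_lit
  6423) (nat_lit 891) .nil) (nat_lit 370) (nat_lit 14081) (nat_lit 355) (.node .nil (nat_lit 371) (nat_lit
  2071) (nat_lit 884) .nil)) (nat_lit 372) (nat_lit 7607) (nat_lit 887) (.node (.node .nil (nat_lit 373)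
  (nat_lit 13159) (nat_lit 893) .nil) (nat_lit 374) (nat_lit 2183) (nat_lit 888) (.node .nil (nat_lit 375)
  (nat_lit 14039) (nat_lit 882) .nil))) (nat_lit 376) (nat_lit 11847) (nat_lit 890) (.node (.node (.node .nil
  (nat_lit 377) (nat_lit 2039) (nat_lit 880) .nil) (nat_lit 378) (nat_lit 13895) (nat_lit 885) (.node .nil
  (nat_lit 379) (nat_lit 9303) (nat_lit 895) .nil)) (nat_lit 380) (nat_lit 1911) (nat_lit 892) (.node (.node
  .nil (nat_lit 381) (nat_lit 12535) (nat_lit 886) .nil) (nat_lit 382) (nat_lit 10615) (nat_lit 883) (.node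
  .nil (nat_lit 383) (nat_lit 13558) (nat_lit 362) .nil)))))))
def tJ6_3 : T := (.node (.node (.node (.node (.node (.node (.node .nil (nat_lit 385) (nat_lit 20407) (nat_lit
  202) .nil) (nat_lit 386) (nat_lit 21703) (nat_lit 207) (.node .nil (nat_lit 387) (nat_lit 22087) (nat_lit
  197) .nil)) (nat_lit 388) (nat_lit 21607) (nat_lit 198) (.node (.node .nil (nat_lit 389) (nat_lit 22263)
  (nat_lit 204) .nil) (nat_lit 390) (nat_lit 3815) (nat_lit 201) (.node .nil (nat_lit 391) (nat_lit 19671)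
  (nat_lit 195) .nil))) (nat_lit 392) (nat_lit 22151) (nat_lit 203) (.node (.node (.node .nil (nat_lit 393)
  (nat_lit 21575) (nat_lit 193) .nil) (nat_lit 394) (nat_lit 19543) (nat_lit 196) (.node .nil (nat_lit 395)
  (nat_lit 3767) (nat_lit 206) .nil)) (nat_lit 396) (nat_lit 19335) (nat_lit 205) (.node (.node .nil (nat_lit
  397) (nat_lit 3751) (nat_lit 199) .nil) (nat_lit 398) (nat_lit 22327) (nat_lit 194) (.node .nil (nat_lit
  399) (nat_lit 21735) (nat_lit 200) .nil)))) (nat_lit 400) (nat_lit 22807) (nat_lit 210) (.node (.node (.node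
  (.node .nil (nat_lit 401) (nat_lit 21671) (nat_lit 216) .nil) (nat_lit 402) (nat_lit 17239) (nat_lit 221)
  (.node .nil (nat_lit 403) (nat_lit 3527) (nat_lit 215) .nil)) (nat_lit 404) (nat_lit 21063) (nat_lit 212)
  (.node (.node .nil (nat_lit 405) (nat_lit 3367) (nat_lit 222) .nil) (nat_lit 406) (nat_lit 22423) (nat_lit
  219) (.node .nil (nat_lit 407) (nat_lit 21895) (nat_lit 209) .nil))) (nat_lit 408) (nat_lit 3495) (nat_lit
  217) (.node (.node (.node .nil (nat_lit 409) (nat_lit 20503) (nat_lit 211) .nil) (nat_lit 410) (nat_lit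
  21815) (nat_lit 214) (.node .nil (nat_lit 411) (nat_lit 21207) (nat_lit 220) .nil)) (nat_lit 412) (nat_lit
  21415) (nat_lit 223) (.node (.node .nil (nat_lit 413) (nat_lit 22983) (nat_lit 213) .nil) (nat_lit 414)
  (nat_lit 3559) (nat_lit 208) (.node .nil (nat_lit 415) (nat_lit 20871) (nat_lit 218) .nil))))) (nat_lit 416)
  (nat_lit 20391) (nat_lit 227) (.node (.node (.node (.node (.node .nil (nat_lit 417) (nat_lit 3687) (nat_lit
  233) .nil) (nat_lit 418) (nat_lit 22215) (nat_lit 236) (.node .nil (nat_lit 419) (nat_lit 19095) (nat_lit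
  230) .nil)) (nat_lit 420) (nat_lit 21447) (nat_lit 229) (.node (.node .nil (nat_lit 421) (nat_lit 22919)
  (nat_lit 239) .nil) (nat_lit 422) (nat_lit 21031) (nat_lit 234) (.node .nil (nat_lit 423) (nat_lit 3527)
  (nat_lit 224) .nil))) (nat_lit 424) (nat_lit 22903) (nat_lit 232) (.node (.node (.node .nil (nat_lit 425)
  (nat_lit 22519) (nat_lit 226) .nil) (nat_lit 426) (nat_lit 3495) (nat_lit 231) (.node .nil (nat_lit 427)
  (nat_lit 19879) (nat_lit 237) .nil)) (nat_lit 428) (nat_lit 3591) (nat_lit 238) (.node (.node .nil (nat_lit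
  429) (nat_lit 18215) (nat_lit 228) .nil) (nat_lit 430) (nat_lit 21991) (nat_lit 225) (.node .nil (nat_lit
  431) (nat_lit 22391) (nat_lit 235) .nil)))) (nat_lit 432) (nat_lit 21943) (nat_lit 241) (.node (.node (.node
  (.node .nil (nat_lit 433) (nat_lit 20071) (nat_lit 251) .nil) (nat_lit 434) (nat_lit 3271) (nat_lit 254)
  (.node .nil (nat_lit 435) (nat_lit 19479) (nat_lit 244) .nil)) (nat_lit 436) (nat_lit 3815) (nat_lit 247)
  (.node (.node .nil (nat_lit 437) (nat_lit 19815) (nat_lit 253) .nil) (nat_lit 438) (nat_lit 21143) (nat_lit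
  248) (.node .nil (nat_lit 439) (nat_lit 23015) (nat_lit 242) .nil))) (nat_lit 440) (nat_lit 18503) (nat_lit
  250) (.node (.node (.node .nil (nat_lit 441) (nat_lit 3655) (nat_lit 240) .nil) (nat_lit 442) (nat_lit
  22967) (nat_lit 245) (.node .nil (nat_lit 443) (nat_lit 21751) (nat_lit 255) .nil)) (nat_lit 444) (nat_lit
  22999) (nat_lit 252) (.node (.node .nil (nat_lit 445) (nat_lit 21975) (nat_lit 246) .nil) (nat_lit 446)
  (nat_lit 20887) (nat_lit 243) (.node .nil (nat_lit 447) (nat_lit 3399) (nat_lit 249) .nil)))))) (nat_lit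
  448) (nat_lit 2775) (nat_lit 768) (.node (.node (.node (.node (.node (.node .nil (nat_lit 449) (nat_lit
  19704) (nat_lit 480) .nil) (nat_lit 450) (nat_lit 20145) (nat_lit 491) (.node .nil (nat_lit 451) (nat_lit
  17328) (nat_lit 509) .nil)) (nat_lit 452) (nat_lit 18536) (nat_lit 475) (.node (.node .nil (nat_lit 453)
  (nat_lit 3287) (nat_lit 780) .nil) (nat_lit 454) (nat_lit 14775) (nat_lit 777) (.node .nil (nat_lit 455)
  (nat_lit 20200) (nat_lit 491) .nil))) (nat_lit 456) (nat_lit 19863) (nat_lit 779) (.node (.node (.node .nil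
  (nat_lit 457) (nat_lit 17895) (nat_lit 769) .nil) (nat_lit 458) (nat_lit 3351) (nat_lit 772) (.node .nil
  (nat_lit 459) (nat_lit 18055) (nat_lit 782) .nil)) (nat_lit 460) (nat_lit 16727) (nat_lit 781) (.node (.node
  .nil (nat_lit 461) (nat_lit 18151) (nat_lit 775) .nil) (nat_lit 462) (nat_lit 17384) (nat_lit 509) (.node
  .nil (nat_lit 463) (nat_lit 3303) (nat_lit 776) .nil)))) (nat_lit 464) (nat_lit 19655) (nat_lit 786) (.node
  (.node (.node (.node .nil (nat_lit 465) (nat_lit 17735) (nat_lit 792) .nil) (nat_lit 466) (nat_lit 3063)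
  (nat_lit 797) (.node .nil (nat_lit 467) (nat_lit 21127) (nat_lit 791) .nil)) (nat_lit 468) (nat_lit 16327)
  (nat_lit 788) (.node (.node .nil (nat_lit 469) (nat_lit 19223) (nat_lit 798) .nil) (nat_lit 470) (nat_lit
  15975) (nat_lit 795) (.node .nil (nat_lit 471) (nat_lit 3031) (nat_lit 785) .nil))) (nat_lit 472) (nat_lit
  2999) (nat_lit 793) (.node (.node (.node .nil (nat_lit 473) (nat_lit 19143) (nat_lit 787) .nil) (nat_lit
  474) (nat_lit 19319) (nat_lit 790) (.node .nil (nat_lit 475) (nat_lit 15223) (nat_lit 796) .nil)) (nat_lit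
  476) (nat_lit 19368) (nat_lit 495) (.node (.node .nil (nat_lit 477) (nat_lit 2871) (nat_lit 789) .nil)
  (nat_lit 478) (nat_lit 16647) (nat_lit 784) (.node .nil (nat_lit 479) (nat_lit 19527) (nat_lit 794)
  .nil))))) (nat_lit 480) (nat_lit 16519) (nat_lit 803) (.node (.node (.node (.node (.node .nil (nat_lit 481)
  (nat_lit 21239) (nat_lit 809) .nil) (nat_lit 482) (nat_lit 18983) (nat_lit 812) (.node .nil (nat_lit 483)
  (nat_lit 3031) (nat_lit 806) .nil)) (nat_lit 484) (nat_lit 20103) (nat_lit 805) (.node (.node .nil (nat_lit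
  485) (nat_lit 16391) (nat_lit 815) .nil) (nat_lit 486) (nat_lit 2999) (nat_lit 810) (.node .nil (nat_lit
  487) (nat_lit 18903) (nat_lit 800) .nil))) (nat_lit 488) (nat_lit 18727) (nat_lit 808) (.node (.node (.node
  .nil (nat_lit 489) (nat_lit 3191) (nat_lit 802) .nil) (nat_lit 490) (nat_lit 17399) (nat_lit 807) (.node
  .nil (nat_lit 491) (nat_lit 16935) (nat_lit 813) .nil)) (nat_lit 492) (nat_lit 3095) (nat_lit 814) (.node
  (.node .nil (nat_lit 493) (nat_lit 18455) (nat_lit 804) .nil) (nat_lit 494) (nat_lit 20119) (nat_lit 801)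
  (.node .nil (nat_lit 495) (nat_lit 16199) (nat_lit 811) .nil)))) (nat_lit 496) (nat_lit 18631) (nat_lit 817)
  (.node (.node (.node (.node .nil (nat_lit 497) (nat_lit 3159) (nat_lit 827) .nil) (nat_lit 498) (nat_lit
  18199) (nat_lit 830) (.node .nil (nat_lit 499) (nat_lit 19991) (nat_lit 820) .nil)) (nat_lit 500) (nat_lit
  3351) (nat_lit 823) (.node (.node .nil (nat_lit 501) (nat_lit 18663) (nat_lit 829) .nil) (nat_lit 502)
  (nat_lit 18487) (nat_lit 824) (.node .nil (nat_lit 503) (nat_lit 18119) (nat_lit 818) .nil))) (nat_lit 504)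
  (nat_lit 17271) (nat_lit 826) (.node (.node (.node .nil (nat_lit 505) (nat_lit 19799) (nat_lit 816) .nil)
  (nat_lit 506) (nat_lit 18791) (nat_lit 821) (.node .nil (nat_lit 507) (nat_lit 2903) (nat_lit 831) .nil))
  (nat_lit 508) (nat_lit 19463) (nat_lit 828) (.node (.node .nil (nat_lit 509) (nat_lit 13799) (nat_lit 822)
  .nil) (nat_lit 510) (nat_lit 2775) (nat_lit 819) (.node .nil (nat_lit 511) (nat_lit 18759) (nat_lit 825)
  .nil)))))))
def tJ6_4 : T := (.node (.node (.node (.node (.node (.node (.node .nil (nat_lit 513) (nat_lit 8231) (nat_lit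
  266) .nil) (nat_lit 514) (nat_lit 12167) (nat_lit 271) (.node .nil (nat_lit 515) (nat_lit 5319) (nat_lit
  261) .nil)) (nat_lit 516) (nat_lit 2375) (nat_lit 262) (.node (.node .nil (nat_lit 517) (nat_lit 11095)
  (nat_lit 268) .nil) (nat_lit 518) (nat_lit 7895) (nat_lit 265) (.node .nil (nat_lit 519) (nat_lit 1031)
  (nat_lit 259) .nil))) (nat_lit 520) (nat_lit 4711) (nat_lit 267) (.node (.node (.node .nil (nat_lit 521)
  (nat_lit 1271) (nat_lit 257) .nil) (nat_lit 522) (nat_lit 3623) (nat_lit 260) (.node .nil (nat_lit 523)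
  (nat_lit 11943) (nat_lit 270) .nil)) (nat_lit 524) (nat_lit 8327) (nat_lit 269) (.node (.node .nil (nat_lit
  525) (nat_lit 4199) (nat_lit 263) .nil) (nat_lit 526) (nat_lit 1127) (nat_lit 258) (.node .nil (nat_lit 527)
  (nat_lit 6951) (nat_lit 264) .nil)))) (nat_lit 528) (nat_lit 8583) (nat_lit 274) (.node (.node (.node (.node
  .nil (nat_lit 529) (nat_lit 839) (nat_lit 280) .nil) (nat_lit 530) (nat_lit 6695) (nat_lit 285) (.node .nil
  (nat_lit 531) (nat_lit 12743) (nat_lit 279) .nil)) (nat_lit 532) (nat_lit 12258) (nat_lit 524) (.node (.node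
  .nil (nat_lit 533) (nat_lit 7783) (nat_lit 286) .nil) (nat_lit 534) (nat_lit 1319) (nat_lit 283) (.node .nil
  (nat_lit 535) (nat_lit 11047) (nat_lit 273) .nil))) (nat_lit 536) (nat_lit 1271) (nat_lit 281) (.node (.node
  (.node .nil (nat_lit 537) (nat_lit 8455) (nat_lit 275) .nil) (nat_lit 538) (nat_lit 12456) (nat_lit 548)
  (.node .nil (nat_lit 539) (nat_lit 5400) (nat_lit 516) .nil)) (nat_lit 540) (nat_lit 5255) (nat_lit 287)
  (.node (.node .nil (nat_lit 541) (nat_lit 8951) (nat_lit 277) .nil) (nat_lit 542) (nat_lit 8343) (nat_lit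
  272) (.node .nil (nat_lit 543) (nat_lit 1671) (nat_lit 282) .nil))))) (nat_lit 544) (nat_lit 12200) (nat_lit
  513) (.node (.node (.node (.node (.node .nil (nat_lit 545) (nat_lit 7367) (nat_lit 297) .nil) (nat_lit 546)
  (nat_lit 1319) (nat_lit 300) (.node .nil (nat_lit 547) (nat_lit 10999) (nat_lit 294) .nil)) (nat_lit 548)
  (nat_lit 8551) (nat_lit 293) (.node (.node .nil (nat_lit 549) (nat_lit 1760) (nat_lit 519) .nil) (nat_lit
  550) (nat_lit 5719) (nat_lit 298) (.node .nil (nat_lit 551) (nat_lit 11991) (nat_lit 288) .nil))) (nat_lit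
  552) (nat_lit 9336) (nat_lit 567) (.node (.node (.node .nil (nat_lit 553) (nat_lit 12803) (nat_lit 541)
  .nil) (nat_lit 554) (nat_lit 11783) (nat_lit 295) (.node .nil (nat_lit 555) (nat_lit 1639) (nat_lit 301)
  .nil)) (nat_lit 556) (nat_lit 1415) (nat_lit 302) (.node (.node .nil (nat_lit 557) (nat_lit 9654) (nat_lit
  539) .nil) (nat_lit 558) (nat_lit 12375) (nat_lit 289) (.node .nil (nat_lit 559) (nat_lit 7543) (nat_lit
  299) .nil)))) (nat_lit 560) (nat_lit 7495) (nat_lit 305) (.node (.node (.node (.node .nil (nat_lit 561)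
  (nat_lit 12775) (nat_lit 315) .nil) (nat_lit 562) (nat_lit 10407) (nat_lit 318) (.node .nil (nat_lit 563)
  (nat_lit 1504) (nat_lit 529) .nil)) (nat_lit 564) (nat_lit 1792) (nat_lit 1558) (.node (.node .nil (nat_lit
  565) (nat_lit 10499) (nat_lit 1537) .nil) (nat_lit 566) (nat_lit 8712) (nat_lit 520) (.node .nil (nat_lit
  567) (nat_lit 5191) (nat_lit 306) .nil))) (nat_lit 568) (nat_lit 11271) (nat_lit 314) (.node (.node (.node
  .nil (nat_lit 569) (nat_lit 5031) (nat_lit 304) .nil) (nat_lit 570) (nat_lit 1703) (nat_lit 309) (.node .nil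
  (nat_lit 571) (nat_lit 8503) (nat_lit 319) .nil)) (nat_lit 572) (nat_lit 8675) (nat_lit 520) (.node (.node
  .nil (nat_lit 573) (nat_lit 1367) (nat_lit 310) .nil) (nat_lit 574) (nat_lit 7219) (nat_lit 522) (.node .nil
  (nat_lit 575) (nat_lit 12312) (nat_lit 542) .nil)))))) (nat_lit 576) (nat_lit 1495) (nat_lit 704) (.node
  (.node (.node (.node (.node (.node .nil (nat_lit 577) (nat_lit 10647) (nat_lit 714) .nil) (nat_lit 578)
  (nat_lit 8183) (nat_lit 719) (.node .nil (nat_lit 579) (nat_lit 6295) (nat_lit 709) .nil)) (nat_lit 580)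
  (nat_lit 8834) (nat_lit 1653) (.node (.node .nil (nat_lit 581) (nat_lit 5847) (nat_lit 716) .nil) (nat_lit
  582) (nat_lit 1143) (nat_lit 713) (.node .nil (nat_lit 583) (nat_lit 6536) (nat_lit 619) .nil))) (nat_lit
  584) (nat_lit 5975) (nat_lit 715) (.node (.node (.node .nil (nat_lit 585) (nat_lit 9255) (nat_lit 705) .nil)
  (nat_lit 586) (nat_lit 9984) (nat_lit 1636) (.node .nil (nat_lit 587) (nat_lit 1687) (nat_lit 718) .nil))
  (nat_lit 588) (nat_lit 7864) (nat_lit 621) (.node (.node .nil (nat_lit 589) (nat_lit 1649) (nat_lit 1620)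
  .nil) (nat_lit 590) (nat_lit 5175) (nat_lit 706) (.node .nil (nat_lit 591) (nat_lit 8423) (nat_lit 712)
  .nil)))) (nat_lit 592) (nat_lit 11175) (nat_lit 722) (.node (.node (.node (.node .nil (nat_lit 593) (nat_lit
  6247) (nat_lit 728) .nil) (nat_lit 594) (nat_lit 1607) (nat_lit 733) (.node .nil (nat_lit 595) (nat_lit
  10935) (nat_lit 727) .nil)) (nat_lit 596) (nat_lit 1447) (nat_lit 724) (.node (.node .nil (nat_lit 597)
  (nat_lit 9127) (nat_lit 734) .nil) (nat_lit 598) (nat_lit 6199) (nat_lit 731) (.node .nil (nat_lit 599)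
  (nat_lit 7651) (nat_lit 628) .nil))) (nat_lit 600) (nat_lit 7639) (nat_lit 729) (.node (.node (.node .nil
  (nat_lit 601) (nat_lit 1617) (nat_lit 1600) .nil) (nat_lit 602) (nat_lit 6514) (nat_lit 619) (.node .nil
  (nat_lit 603) (nat_lit 7751) (nat_lit 732) .nil)) (nat_lit 604) (nat_lit 5543) (nat_lit 735) (.node (.node
  .nil (nat_lit 605) (nat_lit 10967) (nat_lit 725) .nil) (nat_lit 606) (nat_lit 9144) (nat_lit 639) (.node
  .nil (nat_lit 607) (nat_lit 1767) (nat_lit 730) .nil))))) (nat_lit 608) (nat_lit 7207) (nat_lit 739) (.node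
  (.node (.node (.node (.node .nil (nat_lit 609) (nat_lit 10583) (nat_lit 745) .nil) (nat_lit 610) (nat_lit
  9943) (nat_lit 748) (.node .nil (nat_lit 611) (nat_lit 1255) (nat_lit 742) .nil)) (nat_lit 612) (nat_lit
  9895) (nat_lit 741) (.node (.node .nil (nat_lit 613) (nat_lit 1095) (nat_lit 751) .nil) (nat_lit 614)
  (nat_lit 6615) (nat_lit 746) (.node .nil (nat_lit 615) (nat_lit 8103) (nat_lit 736) .nil))) (nat_lit 616)
  (nat_lit 1495) (nat_lit 744) (.node (.node (.node .nil (nat_lit 617) (nat_lit 10021) (nat_lit 1636) .nil)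
  (nat_lit 618) (nat_lit 9031) (nat_lit 743) (.node .nil (nat_lit 619) (nat_lit 3127) (nat_lit 749) .nil))
  (nat_lit 620) (nat_lit 7463) (nat_lit 750) (.node (.node .nil (nat_lit 621) (nat_lit 4119) (nat_lit 740)
  .nil) (nat_lit 622) (nat_lit 1207) (nat_lit 737) (.node .nil (nat_lit 623) (nat_lit 9912) (nat_lit 604)
  .nil)))) (nat_lit 624) (nat_lit 10664) (nat_lit 579) (.node (.node (.node (.node .nil (nat_lit 625) (nat_lit
  1399) (nat_lit 763) .nil) (nat_lit 626) (nat_lit 6497) (nat_lit 619) (.node .nil (nat_lit 627) (nat_lit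
  8791) (nat_lit 756) .nil)) (nat_lit 628) (nat_lit 3927) (nat_lit 759) (.node (.node .nil (nat_lit 629)
  (nat_lit 10311) (nat_lit 765) .nil) (nat_lit 630) (nat_lit 7847) (nat_lit 760) (.node .nil (nat_lit 631)
  (nat_lit 1255) (nat_lit 754) .nil))) (nat_lit 632) (nat_lit 8807) (nat_lit 762) (.node (.node (.node .nil
  (nat_lit 633) (nat_lit 5667) (nat_lit 1626) .nil) (nat_lit 634) (nat_lit 1207) (nat_lit 757) (.node .nil
  (nat_lit 635) (nat_lit 10152) (nat_lit 581) .nil)) (nat_lit 636) (nat_lit 1815) (nat_lit 764) (.node (.node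
  .nil (nat_lit 637) (nat_lit 6487) (nat_lit 758) .nil) (nat_lit 638) (nat_lit 11127) (nat_lit 755) (.node
  .nil (nat_lit 639) (nat_lit 4999) (nat_lit 761) .nil)))))))
def tJ6_5 : T := (.node (.node (.node (.node (.node (.node (.node .nil (nat_lit 641) (nat_lit 2343) (nat_lit
  330) .nil) (nat_lit 642) (nat_lit 2407) (nat_lit 335) (.node .nil (nat_lit 643) (nat_lit 2807) (nat_lit 325)
  .nil)) (nat_lit 644) (nat_lit 16834) (nat_lit 1669) (.node (.node .nil (nat_lit 645) (nat_lit 16535)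
  (nat_lit 332) .nil) (nat_lit 646) (nat_lit 18071) (nat_lit 329) (.node .nil (nat_lit 647) (nat_lit 16087)
  (nat_lit 323) .nil))) (nat_lit 648) (nat_lit 15495) (nat_lit 331) (.node (.node (.node .nil (nat_lit 649)
  (nat_lit 15891) (nat_lit 1674) .nil) (nat_lit 650) (nat_lit 15703) (nat_lit 324) (.node .nil (nat_lit 651)
  (nat_lit 18007) (nat_lit 334) .nil)) (nat_lit 652) (nat_lit 13715) (nat_lit 1679) (.node (.node .nil
  (nat_lit 653) (nat_lit 14599) (nat_lit 327) .nil) (nat_lit 654) (nat_lit 12903) (nat_lit 322) (.node .nil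
  (nat_lit 655) (nat_lit 13351) (nat_lit 328) .nil)))) (nat_lit 656) (nat_lit 14327) (nat_lit 338) (.node
  (.node (.node (.node .nil (nat_lit 657) (nat_lit 14887) (nat_lit 344) .nil) (nat_lit 658) (nat_lit 16215)
  (nat_lit 349) (.node .nil (nat_lit 659) (nat_lit 17623) (nat_lit 343) .nil)) (nat_lit 660) (nat_lit 2439)
  (nat_lit 340) (.node (.node .nil (nat_lit 661) (nat_lit 2791) (nat_lit 350) .nil) (nat_lit 662) (nat_lit
  2695) (nat_lit 347) (.node .nil (nat_lit 663) (nat_lit 2599) (nat_lit 337) .nil))) (nat_lit 664) (nat_lit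
  13607) (nat_lit 345) (.node (.node (.node .nil (nat_lit 665) (nat_lit 14375) (nat_lit 339) .nil) (nat_lit
  666) (nat_lit 13927) (nat_lit 342) (.node .nil (nat_lit 667) (nat_lit 11911) (nat_lit 348) .nil)) (nat_lit
  668) (nat_lit 17431) (nat_lit 351) (.node (.node .nil (nat_lit 669) (nat_lit 15799) (nat_lit 341) .nil)
  (nat_lit 670) (nat_lit 15287) (nat_lit 336) (.node .nil (nat_lit 671) (nat_lit 15239) (nat_lit 346)
  .nil))))) (nat_lit 672) (nat_lit 14119) (nat_lit 355) (.node (.node (.node (.node (.node .nil (nat_lit 673)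
  (nat_lit 17495) (nat_lit 361) .nil) (nat_lit 674) (nat_lit 14823) (nat_lit 364) (.node .nil (nat_lit 675)
  (nat_lit 15767) (nat_lit 358) .nil)) (nat_lit 676) (nat_lit 13911) (nat_lit 357) (.node (.node .nil (nat_lit
  677) (nat_lit 13175) (nat_lit 367) .nil) (nat_lit 678) (nat_lit 13575) (nat_lit 362) (.node .nil (nat_lit
  679) (nat_lit 13655) (nat_lit 352) .nil))) (nat_lit 680) (nat_lit 2695) (nat_lit 360) (.node (.node (.node
  .nil (nat_lit 681) (nat_lit 2663) (nat_lit 354) .nil) (nat_lit 682) (nat_lit 2439) (nat_lit 359) (.node .nil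
  (nat_lit 683) (nat_lit 2375) (nat_lit 365) .nil)) (nat_lit 684) (nat_lit 16775) (nat_lit 366) (.node (.node
  .nil (nat_lit 685) (nat_lit 15047) (nat_lit 356) .nil) (nat_lit 686) (nat_lit 17831) (nat_lit 353) (.node
  .nil (nat_lit 687) (nat_lit 16743) (nat_lit 363) .nil)))) (nat_lit 688) (nat_lit 10903) (nat_lit 369) (.node
  (.node (.node (.node .nil (nat_lit 689) (nat_lit 13031) (nat_lit 379) .nil) (nat_lit 690) (nat_lit 14167)
  (nat_lit 382) (.node .nil (nat_lit 691) (nat_lit 11735) (nat_lit 372) .nil)) (nat_lit 692) (nat_lit 15856)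
  (nat_lit 1674) (.node (.node .nil (nat_lit 693) (nat_lit 15671) (nat_lit 381) .nil) (nat_lit 694) (nat_lit
  14983) (nat_lit 376) (.node .nil (nat_lit 695) (nat_lit 17559) (nat_lit 370) .nil))) (nat_lit 696) (nat_lit
  17447) (nat_lit 378) (.node (.node (.node .nil (nat_lit 697) (nat_lit 17063) (nat_lit 368) .nil) (nat_lit
  698) (nat_lit 16407) (nat_lit 373) (.node .nil (nat_lit 699) (nat_lit 16951) (nat_lit 383) .nil)) (nat_lit
  700) (nat_lit 2407) (nat_lit 380) (.node (.node .nil (nat_lit 701) (nat_lit 2631) (nat_lit 374) .nil)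
  (nat_lit 702) (nat_lit 2567) (nat_lit 371) (.node .nil (nat_lit 703) (nat_lit 2535) (nat_lit 377) .nil))))))
  (nat_lit 704) (nat_lit 824) (nat_lit 1152) (.node (.node (.node (.node (.node (.node .nil (nat_lit 705)
  (nat_lit 5112) (nat_lit 1184) .nil) (nat_lit 706) (nat_lit 2280) (nat_lit 1168) (.node .nil (nat_lit 707)
  (nat_lit 5158) (nat_lit 706) .nil)) (nat_lit 708) (nat_lit 5830) (nat_lit 716) (.node (.node .nil (nat_lit
  709) (nat_lit 3016) (nat_lit 1211) .nil) (nat_lit 710) (nat_lit 5912) (nat_lit 1163) (.node .nil (nat_lit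
  711) (nat_lit 1048) (nat_lit 1195) .nil))) (nat_lit 712) (nat_lit 4568) (nat_lit 1206) (.node (.node (.node
  .nil (nat_lit 713) (nat_lit 584) (nat_lit 1174) .nil) (nat_lit 714) (nat_lit 6278) (nat_lit 709) (.node .nil
  (nat_lit 715) (nat_lit 2792) (nat_lit 1158) .nil)) (nat_lit 716) (nat_lit 2712) (nat_lit 1197) (.node (.node
  .nil (nat_lit 717) (nat_lit 5958) (nat_lit 715) .nil) (nat_lit 718) (nat_lit 968) (nat_lit 1213) (.node .nil
  (nat_lit 719) (nat_lit 4392) (nat_lit 1181) .nil)))) (nat_lit 720) (nat_lit 5766) (nat_lit 752) (.node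
  (.node (.node (.node .nil (nat_lit 721) (nat_lit 4225) (nat_lit 1776) .nil) (nat_lit 722) (nat_lit 6904)
  (nat_lit 1170) (.node .nil (nat_lit 723) (nat_lit 1016) (nat_lit 1202) .nil)) (nat_lit 724) (nat_lit 792)
  (nat_lit 1177) (.node (.node .nil (nat_lit 725) (nat_lit 6568) (nat_lit 1209) .nil) (nat_lit 726) (nat_lit
  3889) (nat_lit 759) (.node .nil (nat_lit 727) (nat_lit 6465) (nat_lit 758) .nil))) (nat_lit 728) (nat_lit
  2984) (nat_lit 1204) (.node (.node (.node .nil (nat_lit 729) (nat_lit 3910) (nat_lit 759) .nil) (nat_lit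
  730) (nat_lit 1016) (nat_lit 1188) (.node .nil (nat_lit 731) (nat_lit 2952) (nat_lit 1156) .nil)) (nat_lit
  732) (nat_lit 4008) (nat_lit 1199) (.node (.node .nil (nat_lit 733) (nat_lit 868) (nat_lit 1748) .nil)
  (nat_lit 734) (nat_lit 4982) (nat_lit 761) (.node .nil (nat_lit 735) (nat_lit 2420) (nat_lit 1750) .nil)))))
  (nat_lit 736) (nat_lit 4328) (nat_lit 1153) (.node (.node (.node (.node (.node .nil (nat_lit 737) (nat_lit
  632) (nat_lit 1185) .nil) (nat_lit 738) (nat_lit 8006) (nat_lit 721) (.node .nil (nat_lit 739) (nat_lit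
  3608) (nat_lit 1201) .nil)) (nat_lit 740) (nat_lit 1688) (nat_lit 1178) (.node (.node .nil (nat_lit 741)
  (nat_lit 5526) (nat_lit 735) .nil) (nat_lit 742) (nat_lit 664) (nat_lit 1162) (.node .nil (nat_lit 743)
  (nat_lit 4920) (nat_lit 1194) .nil))) (nat_lit 744) (nat_lit 824) (nat_lit 1207) (.node (.node (.node .nil
  (nat_lit 745) (nat_lit 6176) (nat_lit 731) .nil) (nat_lit 746) (nat_lit 3192) (nat_lit 1191) (.node .nil
  (nat_lit 747) (nat_lit 7622) (nat_lit 726) .nil)) (nat_lit 748) (nat_lit 5605) (nat_lit 1771) (.node (.node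
  .nil (nat_lit 749) (nat_lit 1080) (nat_lit 1164) .nil) (nat_lit 750) (nat_lit 3768) (nat_lit 1212) (.node
  .nil (nat_lit 751) (nat_lit 552) (nat_lit 1180) .nil)))) (nat_lit 752) (nat_lit 2648) (nat_lit 1155) (.node
  (.node (.node (.node .nil (nat_lit 753) (nat_lit 7190) (nat_lit 739) .nil) (nat_lit 754) (nat_lit 664)
  (nat_lit 1171) (.node .nil (nat_lit 755) (nat_lit 6872) (nat_lit 1203) .nil)) (nat_lit 756) (nat_lit 4756)
  (nat_lit 1789) (.node (.node .nil (nat_lit 757) (nat_lit 632) (nat_lit 1208) .nil) (nat_lit 758) (nat_lit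
  3110) (nat_lit 749) (.node .nil (nat_lit 759) (nat_lit 1544) (nat_lit 1192) .nil))) (nat_lit 760) (nat_lit
  4102) (nat_lit 740) (.node (.node (.node .nil (nat_lit 761) (nat_lit 2200) (nat_lit 1173) .nil) (nat_lit
  762) (nat_lit 4773) (nat_lit 1789) (.node .nil (nat_lit 763) (nat_lit 760) (nat_lit 1157) .nil)) (nat_lit
  764) (nat_lit 1061) (nat_lit 1787) (.node (.node .nil (nat_lit 765) (nat_lit 6024) (nat_lit 1166) .nil)
  (nat_lit 766) (nat_lit 3544) (nat_lit 1214) (.node .nil (nat_lit 767) (nat_lit 6598) (nat_lit 746)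
  .nil)))))))
def tJ6_6 : T := (.node (.node (.node (.node (.node (.node (.node .nil (nat_lit 769) (nat_lit 14424) (nat_lit
  1376) .nil) (nat_lit 770) (nat_lit 15656) (nat_lit 1360) (.node .nil (nat_lit 771) (nat_lit 17768) (nat_lit
  1392) .nil)) (nat_lit 772) (nat_lit 2840) (nat_lit 1371) (.node (.node .nil (nat_lit 773) (nat_lit 14264)
  (nat_lit 1403) .nil) (nat_lit 774) (nat_lit 16710) (nat_lit 781) (.node .nil (nat_lit 775) (nat_lit 14696)
  (nat_lit 1387) .nil))) (nat_lit 776) (nat_lit 2753) (nat_lit 768) (.node (.node (.node .nil (nat_lit 777)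
  (nat_lit 11496) (nat_lit 1366) .nil) (nat_lit 778) (nat_lit 17544) (nat_lit 1382) (.node .nil (nat_lit 779)
  (nat_lit 16680) (nat_lit 1350) .nil)) (nat_lit 780) (nat_lit 2736) (nat_lit 768) (.node (.node .nil (nat_lit
  781) (nat_lit 13464) (nat_lit 1357) .nil) (nat_lit 782) (nat_lit 14552) (nat_lit 1405) (.node .nil (nat_lit
  783) (nat_lit 17704) (nat_lit 1373) .nil)))) (nat_lit 784) (nat_lit 13416) (nat_lit 1346) (.node (.node
  (.node (.node .nil (nat_lit 785) (nat_lit 2520) (nat_lit 1378) .nil) (nat_lit 786) (nat_lit 16488) (nat_lit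
  1362) (.node .nil (nat_lit 787) (nat_lit 15957) (nat_lit 795) .nil)) (nat_lit 788) (nat_lit 13096) (nat_lit
  1369) (.node (.node .nil (nat_lit 789) (nat_lit 2360) (nat_lit 1401) .nil) (nat_lit 790) (nat_lit 16168)
  (nat_lit 1353) (.node .nil (nat_lit 791) (nat_lit 17992) (nat_lit 1385) .nil))) (nat_lit 792) (nat_lit
  14296) (nat_lit 1396) (.node (.node (.node .nil (nat_lit 793) (nat_lit 2488) (nat_lit 1364) .nil) (nat_lit
  794) (nat_lit 16360) (nat_lit 1380) (.node .nil (nat_lit 795) (nat_lit 12728) (nat_lit 1348) .nil)) (nat_lit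
  796) (nat_lit 12056) (nat_lit 1391) (.node (.node .nil (nat_lit 797) (nat_lit 2552) (nat_lit 1359) .nil)
  (nat_lit 798) (nat_lit 16056) (nat_lit 1407) (.node .nil (nat_lit 799) (nat_lit 17254) (nat_lit 826)
  .nil))))) (nat_lit 800) (nat_lit 15752) (nat_lit 1345) (.node (.node (.node (.node (.node .nil (nat_lit 801)
  (nat_lit 16900) (nat_lit 813) .nil) (nat_lit 802) (nat_lit 2680) (nat_lit 1361) (.node .nil (nat_lit 803)
  (nat_lit 13256) (nat_lit 1393) .nil)) (nat_lit 804) (nat_lit 15144) (nat_lit 1370) (.node (.node .nil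
  (nat_lit 805) (nat_lit 16881) (nat_lit 813) .nil) (nat_lit 806) (nat_lit 2520) (nat_lit 1354) (.node .nil
  (nat_lit 807) (nat_lit 13816) (nat_lit 1386) .nil))) (nat_lit 808) (nat_lit 15544) (nat_lit 1399) (.node
  (.node (.node .nil (nat_lit 809) (nat_lit 18184) (nat_lit 1367) .nil) (nat_lit 810) (nat_lit 2488) (nat_lit
  1383) (.node .nil (nat_lit 811) (nat_lit 12984) (nat_lit 1351) .nil)) (nat_lit 812) (nat_lit 15848) (nat_lit
  1388) (.node (.node .nil (nat_lit 813) (nat_lit 13544) (nat_lit 1356) .nil) (nat_lit 814) (nat_lit 2584)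
  (nat_lit 1404) (.node .nil (nat_lit 815) (nat_lit 13144) (nat_lit 1372) .nil)))) (nat_lit 816) (nat_lit
  16616) (nat_lit 1347) (.node (.node (.node (.node .nil (nat_lit 817) (nat_lit 15384) (nat_lit 1379) .nil)
  (nat_lit 818) (nat_lit 14664) (nat_lit 1363) (.node .nil (nat_lit 819) (nat_lit 2248) (nat_lit 1395) .nil))
  (nat_lit 820) (nat_lit 16824) (nat_lit 1368) (.node (.node .nil (nat_lit 821) (nat_lit 15624) (nat_lit 1400)
  .nil) (nat_lit 822) (nat_lit 9864) (nat_lit 1352) (.node .nil (nat_lit 823) (nat_lit 2840) (nat_lit 1384)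
  .nil))) (nat_lit 824) (nat_lit 15192) (nat_lit 1397) (.node (.node (.node .nil (nat_lit 825) (nat_lit 15576)
  (nat_lit 1365) .nil) (nat_lit 826) (nat_lit 13744) (nat_lit 822) (.node .nil (nat_lit 827) (nat_lit 2648)
  (nat_lit 1349) .nil)) (nat_lit 828) (nat_lit 16296) (nat_lit 1390) (.node (.node .nil (nat_lit 829) (nat_lit
  15480) (nat_lit 1358) .nil) (nat_lit 830) (nat_lit 14744) (nat_lit 1406) (.node .nil (nat_lit 831) (nat_lit
  2392) (nat_lit 1374) .nil)))))) (nat_lit 832) (nat_lit 1480) (nat_lit 1280) (.node (.node (.node (.node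
  (.node (.node .nil (nat_lit 833) (nat_lit 11334) (nat_lit 835) .nil) (nat_lit 834) (nat_lit 11160) (nat_lit
  1296) (.node .nil (nat_lit 835) (nat_lit 7176) (nat_lit 1328) .nil)) (nat_lit 836) (nat_lit 1080) (nat_lit
  1307) (.node (.node .nil (nat_lit 837) (nat_lit 9062) (nat_lit 847) .nil) (nat_lit 838) (nat_lit 8721)
  (nat_lit 1862) (.node .nil (nat_lit 839) (nat_lit 5816) (nat_lit 1323) .nil))) (nat_lit 840) (nat_lit 1192)
  (nat_lit 1334) (.node (.node (.node .nil (nat_lit 841) (nat_lit 10118) (nat_lit 839) .nil) (nat_lit 842)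
  (nat_lit 9016) (nat_lit 1318) (.node .nil (nat_lit 843) (nat_lit 5408) (nat_lit 1867) .nil)) (nat_lit 844)
  (nat_lit 1752) (nat_lit 1325) (.node (.node .nil (nat_lit 845) (nat_lit 9670) (nat_lit 843) .nil) (nat_lit
  846) (nat_lit 8408) (nat_lit 1341) (.node .nil (nat_lit 847) (nat_lit 4952) (nat_lit 1309) .nil)))) (nat_lit
  848) (nat_lit 1720) (nat_lit 1282) (.node (.node (.node (.node .nil (nat_lit 849) (nat_lit 10598) (nat_lit
  883) .nil) (nat_lit 850) (nat_lit 8168) (nat_lit 1298) (.node .nil (nat_lit 851) (nat_lit 7096) (nat_lit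
  1330) .nil)) (nat_lit 852) (nat_lit 1240) (nat_lit 1305) (.node (.node .nil (nat_lit 853) (nat_lit 9286)
  (nat_lit 895) .nil) (nat_lit 854) (nat_lit 8088) (nat_lit 1289) (.node .nil (nat_lit 855) (nat_lit 7528)
  (nat_lit 1321) .nil))) (nat_lit 856) (nat_lit 1480) (nat_lit 1332) (.node (.node (.node .nil (nat_lit 857)
  (nat_lit 7590) (nat_lit 887) .nil) (nat_lit 858) (nat_lit 10184) (nat_lit 1316) (.node .nil (nat_lit 859)
  (nat_lit 5944) (nat_lit 1284) .nil)) (nat_lit 860) (nat_lit 1784) (nat_lit 1327) (.node (.node .nil (nat_lit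
  861) (nat_lit 6406) (nat_lit 891) .nil) (nat_lit 862) (nat_lit 10952) (nat_lit 1343) (.node .nil (nat_lit
  863) (nat_lit 4072) (nat_lit 1311) .nil))))) (nat_lit 864) (nat_lit 1240) (nat_lit 1281) (.node (.node
  (.node (.node (.node .nil (nat_lit 865) (nat_lit 11302) (nat_lit 851) .nil) (nat_lit 866) (nat_lit 10392)
  (nat_lit 1297) (.node .nil (nat_lit 867) (nat_lit 6264) (nat_lit 1329) .nil)) (nat_lit 868) (nat_lit 1128)
  (nat_lit 1306) (.node (.node .nil (nat_lit 869) (nat_lit 7814) (nat_lit 863) .nil) (nat_lit 870) (nat_lit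
  6168) (nat_lit 1290) (.node .nil (nat_lit 871) (nat_lit 6584) (nat_lit 1322) .nil))) (nat_lit 872) (nat_lit
  1752) (nat_lit 1335) (.node (.node (.node .nil (nat_lit 873) (nat_lit 11654) (nat_lit 855) .nil) (nat_lit
  874) (nat_lit 9240) (nat_lit 1319) (.node .nil (nat_lit 875) (nat_lit 5304) (nat_lit 1287) .nil)) (nat_lit
  876) (nat_lit 1848) (nat_lit 1324) (.node (.node .nil (nat_lit 877) (nat_lit 9763) (nat_lit 1869) .nil)
  (nat_lit 878) (nat_lit 7448) (nat_lit 1340) (.node .nil (nat_lit 879) (nat_lit 5896) (nat_lit 1308) .nil))))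
  (nat_lit 880) (nat_lit 1384) (nat_lit 1283) (.node (.node (.node (.node .nil (nat_lit 881) (nat_lit 10630)
  (nat_lit 867) .nil) (nat_lit 882) (nat_lit 10488) (nat_lit 1299) (.node .nil (nat_lit 883) (nat_lit 6232)
  (nat_lit 1331) .nil)) (nat_lit 884) (nat_lit 1432) (nat_lit 1304) (.node (.node .nil (nat_lit 885) (nat_lit
  10214) (nat_lit 879) .nil) (nat_lit 886) (nat_lit 8632) (nat_lit 1288) (.node .nil (nat_lit 887) (nat_lit
  3880) (nat_lit 1320) .nil))) (nat_lit 888) (nat_lit 1557) (nat_lit 1908) (.node (.node (.node .nil (nat_lit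
  889) (nat_lit 10982) (nat_lit 871) .nil) (nat_lit 890) (nat_lit 7736) (nat_lit 1317) (.node .nil (nat_lit
  891) (nat_lit 3080) (nat_lit 1285) .nil)) (nat_lit 892) (nat_lit 1192) (nat_lit 1326) (.node (.node .nil
  (nat_lit 893) (nat_lit 9462) (nat_lit 875) .nil) (nat_lit 894) (nat_lit 11112) (nat_lit 1342) (.node .nil
  (nat_lit 895) (nat_lit 5144) (nat_lit 1310) .nil)))))))
def tJ6_7 : T := (.node (.node (.node (.node (.node (.node (.node .nil (nat_lit 897) (nat_lit 3831) (nat_lit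
  458) .nil) (nat_lit 898) (nat_lit 3799) (nat_lit 463) (.node .nil (nat_lit 899) (nat_lit 3783) (nat_lit 453)
  .nil)) (nat_lit 900) (nat_lit 18231) (nat_lit 454) (.node (.node .nil (nat_lit 901) (nat_lit 19895) (nat_lit
  460) .nil) (nat_lit 902) (nat_lit 21047) (nat_lit 457) (.node .nil (nat_lit 903) (nat_lit 20599) (nat_lit
  451) .nil))) (nat_lit 904) (nat_lit 21159) (nat_lit 459) (.node (.node (.node .nil (nat_lit 905) (nat_lit
  21480) (nat_lit 918) .nil) (nat_lit 906) (nat_lit 21495) (nat_lit 452) (.node .nil (nat_lit 907) (nat_lit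
  20663) (nat_lit 462) .nil)) (nat_lit 908) (nat_lit 21223) (nat_lit 461) (.node (.node .nil (nat_lit 909)
  (nat_lit 22727) (nat_lit 455) .nil) (nat_lit 910) (nat_lit 22679) (nat_lit 450) (.node .nil (nat_lit 911)
  (nat_lit 22439) (nat_lit 456) .nil)))) (nat_lit 912) (nat_lit 3575) (nat_lit 466) (.node (.node (.node
  (.node .nil (nat_lit 913) (nat_lit 3511) (nat_lit 472) .nil) (nat_lit 914) (nat_lit 3383) (nat_lit 477)
  (.node .nil (nat_lit 915) (nat_lit 3543) (nat_lit 471) .nil)) (nat_lit 916) (nat_lit 19495) (nat_lit 468)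
  (.node (.node .nil (nat_lit 917) (nat_lit 19831) (nat_lit 478) .nil) (nat_lit 918) (nat_lit 18519) (nat_lit
  475) (.node .nil (nat_lit 919) (nat_lit 20903) (nat_lit 465) .nil))) (nat_lit 920) (nat_lit 22055) (nat_lit
  473) (.node (.node (.node .nil (nat_lit 921) (nat_lit 22248) (nat_lit 916) .nil) (nat_lit 922) (nat_lit
  19191) (nat_lit 470) (.node .nil (nat_lit 923) (nat_lit 21256) (nat_lit 900) .nil)) (nat_lit 924) (nat_lit
  22279) (nat_lit 479) (.node (.node .nil (nat_lit 925) (nat_lit 22103) (nat_lit 469) .nil) (nat_lit 926)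
  (nat_lit 22343) (nat_lit 464) (.node .nil (nat_lit 927) (nat_lit 22167) (nat_lit 474) .nil))))) (nat_lit
  928) (nat_lit 3543) (nat_lit 483) (.node (.node (.node (.node (.node .nil (nat_lit 929) (nat_lit 3703)
  (nat_lit 489) .nil) (nat_lit 930) (nat_lit 3607) (nat_lit 492) (.node .nil (nat_lit 931) (nat_lit 3511)
  (nat_lit 486) .nil)) (nat_lit 932) (nat_lit 19559) (nat_lit 485) (.node (.node .nil (nat_lit 933) (nat_lit
  19351) (nat_lit 495) .nil) (nat_lit 934) (nat_lit 20679) (nat_lit 490) (.node .nil (nat_lit 935) (nat_lit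
  19687) (nat_lit 480) .nil))) (nat_lit 936) (nat_lit 21687) (nat_lit 488) (.node (.node (.node .nil (nat_lit
  937) (nat_lit 21911) (nat_lit 482) .nil) (nat_lit 938) (nat_lit 21831) (nat_lit 487) (.node .nil (nat_lit
  939) (nat_lit 21431) (nat_lit 493) .nil)) (nat_lit 940) (nat_lit 22647) (nat_lit 494) (.node (.node .nil
  (nat_lit 941) (nat_lit 22631) (nat_lit 484) .nil) (nat_lit 942) (nat_lit 23025) (nat_lit 1950) (.node .nil
  (nat_lit 943) (nat_lit 20183) (nat_lit 491) .nil)))) (nat_lit 944) (nat_lit 3671) (nat_lit 497) (.node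
  (.node (.node (.node .nil (nat_lit 945) (nat_lit 3415) (nat_lit 507) .nil) (nat_lit 946) (nat_lit 3319)
  (nat_lit 510) (.node .nil (nat_lit 947) (nat_lit 3831) (nat_lit 500) .nil)) (nat_lit 948) (nat_lit 21191)
  (nat_lit 503) (.node (.node .nil (nat_lit 949) (nat_lit 17367) (nat_lit 509) .nil) (nat_lit 950) (nat_lit
  20519) (nat_lit 504) (.node .nil (nat_lit 951) (nat_lit 21072) (nat_lit 1959) .nil))) (nat_lit 952) (nat_lit
  20648) (nat_lit 949) (.node (.node (.node .nil (nat_lit 953) (nat_lit 21591) (nat_lit 496) .nil) (nat_lit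
  954) (nat_lit 21623) (nat_lit 501) (.node .nil (nat_lit 955) (nat_lit 21719) (nat_lit 511) .nil)) (nat_lit
  956) (nat_lit 22231) (nat_lit 508) (.node (.node .nil (nat_lit 957) (nat_lit 21463) (nat_lit 502) .nil)
  (nat_lit 958) (nat_lit 22535) (nat_lit 499) (.node .nil (nat_lit 959) (nat_lit 22407) (nat_lit 505)
  .nil)))))) (nat_lit 960) (nat_lit 1543) (nat_lit 512) (.node (.node (.node (.node (.node (.node .nil
  (nat_lit 961) (nat_lit 7239) (nat_lit 522) .nil) (nat_lit 962) (nat_lit 11223) (nat_lit 527) (.node .nil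
  (nat_lit 963) (nat_lit 14503) (nat_lit 517) .nil)) (nat_lit 964) (nat_lit 11959) (nat_lit 518) (.node (.node
  .nil (nat_lit 965) (nat_lit 12279) (nat_lit 524) .nil) (nat_lit 966) (nat_lit 1959) (nat_lit 521) (.node
  .nil (nat_lit 967) (nat_lit 9495) (nat_lit 515) .nil))) (nat_lit 968) (nat_lit 15111) (nat_lit 523) (.node
  (.node (.node .nil (nat_lit 969) (nat_lit 12183) (nat_lit 513) .nil) (nat_lit 970) (nat_lit 5383) (nat_lit
  516) (.node .nil (nat_lit 971) (nat_lit 1863) (nat_lit 526) .nil)) (nat_lit 972) (nat_lit 7959) (nat_lit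
  525) (.node (.node .nil (nat_lit 973) (nat_lit 1783) (nat_lit 519) .nil) (nat_lit 974) (nat_lit 15335)
  (nat_lit 514) (.node .nil (nat_lit 975) (nat_lit 8695) (nat_lit 520) .nil)))) (nat_lit 976) (nat_lit 10755)
  (nat_lit 1991) (.node (.node (.node (.node .nil (nat_lit 977) (nat_lit 1959) (nat_lit 536) .nil) (nat_lit
  978) (nat_lit 12823) (nat_lit 541) (.node .nil (nat_lit 979) (nat_lit 14209) (nat_lit 2027) .nil)) (nat_lit
  980) (nat_lit 15431) (nat_lit 532) (.node (.node .nil (nat_lit 981) (nat_lit 12295) (nat_lit 542) .nil)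
  (nat_lit 982) (nat_lit 9584) (nat_lit 970) (.node .nil (nat_lit 983) (nat_lit 1543) (nat_lit 529) .nil)))
  (nat_lit 984) (nat_lit 12391) (nat_lit 537) (.node (.node (.node .nil (nat_lit 985) (nat_lit 15991) (nat_lit
  531) .nil) (nat_lit 986) (nat_lit 1991) (nat_lit 534) (.node .nil (nat_lit 987) (nat_lit 9399) (nat_lit 540)
  .nil)) (nat_lit 988) (nat_lit 2144) (nat_lit 960) (.node (.node .nil (nat_lit 989) (nat_lit 9619) (nat_lit
  970) .nil) (nat_lit 990) (nat_lit 12487) (nat_lit 528) (.node .nil (nat_lit 991) (nat_lit 15591) (nat_lit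
  538) .nil))))) (nat_lit 992) (nat_lit 11400) (nat_lit 961) (.node (.node (.node (.node (.node .nil (nat_lit
  993) (nat_lit 16023) (nat_lit 553) .nil) (nat_lit 994) (nat_lit 2055) (nat_lit 556) (.node .nil (nat_lit
  995) (nat_lit 10039) (nat_lit 550) .nil)) (nat_lit 996) (nat_lit 2311) (nat_lit 549) (.node (.node .nil
  (nat_lit 997) (nat_lit 11671) (nat_lit 559) .nil) (nat_lit 998) (nat_lit 9640) (nat_lit 970) (.node .nil
  (nat_lit 999) (nat_lit 15351) (nat_lit 544) .nil))) (nat_lit 1000) (nat_lit 12931) (nat_lit 1023) (.node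
  (.node (.node .nil (nat_lit 1001) (nat_lit 1991) (nat_lit 546) .nil) (nat_lit 1002) (nat_lit 15159) (nat_lit
  551) (.node .nil (nat_lit 1003) (nat_lit 13208) (nat_lit 967) .nil)) (nat_lit 1004) (nat_lit 15442) (nat_lit
  965) (.node (.node .nil (nat_lit 1005) (nat_lit 12008) (nat_lit 972) .nil) (nat_lit 1006) (nat_lit 11511)
  (nat_lit 545) (.node .nil (nat_lit 1007) (nat_lit 2263) (nat_lit 555) .nil)))) (nat_lit 1008) (nat_lit
  14630) (nat_lit 992) (.node (.node (.node (.node .nil (nat_lit 1009) (nat_lit 12423) (nat_lit 571) .nil)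
  (nat_lit 1010) (nat_lit 11367) (nat_lit 574) (.node .nil (nat_lit 1011) (nat_lit 2311) (nat_lit 564) .nil))
  (nat_lit 1012) (nat_lit 9319) (nat_lit 567) (.node (.node .nil (nat_lit 1013) (nat_lit 2023) (nat_lit 573)
  .nil) (nat_lit 1014) (nat_lit 14567) (nat_lit 568) (.node .nil (nat_lit 1015) (nat_lit 13991) (nat_lit 562)
  .nil))) (nat_lit 1016) (nat_lit 2161) (nat_lit 960) (.node (.node (.node .nil (nat_lit 1017) (nat_lit 11377)
  (nat_lit 961) .nil) (nat_lit 1018) (nat_lit 13296) (nat_lit 998) (.node .nil (nat_lit 1019) (nat_lit 13318)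
  (nat_lit 998) .nil)) (nat_lit 1020) (nat_lit 12583) (nat_lit 572) (.node (.node .nil (nat_lit 1021) (nat_lit
  12615) (nat_lit 566) .nil) (nat_lit 1022) (nat_lit 2119) (nat_lit 563) (.node .nil (nat_lit 1023) (nat_lit
  9159) (nat_lit 569) .nil)))))))
def tJ6_8 : T := (.node (.node (.node (.node (.node (.node (.node .nil (nat_lit 1025) (nat_lit 16) (nat_lit 1)
  .nil) (nat_lit 1026) (nat_lit 86) (nat_lit 1025) (.node .nil (nat_lit 1027) (nat_lit 246) (nat_lit 1026)
  .nil)) (nat_lit 1028) (nat_lit 567) (nat_lit 1030) (.node (.node .nil (nat_lit 1029) (nat_lit 1399) (nat_lit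
  1036) .nil) (nat_lit 1030) (nat_lit 295) (nat_lit 1033) (.node .nil (nat_lit 1031) (nat_lit 503) (nat_lit
  1027) .nil))) (nat_lit 1032) (nat_lit 839) (nat_lit 1035) (.node (.node (.node .nil (nat_lit 1033) (nat_lit
  103) (nat_lit 1025) .nil) (nat_lit 1034) (nat_lit 903) (nat_lit 1028) (.node .nil (nat_lit 1035) (nat_lit
  519) (nat_lit 1038) .nil)) (nat_lit 1036) (nat_lit 1175) (nat_lit 1037) (.node (.node .nil (nat_lit 1037)
  (nat_lit 823) (nat_lit 1031) .nil) (nat_lit 1038) (nat_lit 263) (nat_lit 1026) (.node .nil (nat_lit 1039)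
  (nat_lit 1191) (nat_lit 1032) .nil)))) (nat_lit 1040) (nat_lit 280) (nat_lit 1026) (.node (.node (.node
  (.node .nil (nat_lit 1041) (nat_lit 311) (nat_lit 1048) .nil) (nat_lit 1042) (nat_lit 1415) (nat_lit 1053)
  (.node .nil (nat_lit 1043) (nat_lit 503) (nat_lit 1047) .nil)) (nat_lit 1044) (nat_lit 18) (nat_lit 20)
  (.node (.node .nil (nat_lit 1045) (nat_lit 871) (nat_lit 1054) .nil) (nat_lit 1046) (nat_lit 312) (nat_lit
  1033) (.node .nil (nat_lit 1047) (nat_lit 407) (nat_lit 1041) .nil))) (nat_lit 1048) (nat_lit 215) (nat_lit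
  1049) (.node (.node (.node .nil (nat_lit 1049) (nat_lit 88) (nat_lit 1044) .nil) (nat_lit 1050) (nat_lit
  599) (nat_lit 1046) (.node .nil (nat_lit 1051) (nat_lit 920) (nat_lit 1028) .nil)) (nat_lit 1052) (nat_lit
  1320) (nat_lit 1071) (.node (.node .nil (nat_lit 1053) (nat_lit 1255) (nat_lit 1045) .nil) (nat_lit 1054)
  (nat_lit 551) (nat_lit 1040) (.node .nil (nat_lit 1055) (nat_lit 951) (nat_lit 1050) .nil))))) (nat_lit
  1056) (nat_lit 120) (nat_lit 1025) (.node (.node (.node (.node (.node .nil (nat_lit 1057) (nat_lit 567)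
  (nat_lit 1065) .nil) (nat_lit 1058) (nat_lit 391) (nat_lit 1068) (.node .nil (nat_lit 1059) (nat_lit 1335)
  (nat_lit 1062) .nil)) (nat_lit 1060) (nat_lit 968) (nat_lit 1050) (.node (.node .nil (nat_lit 1061) (nat_lit
  1303) (nat_lit 1071) .nil) (nat_lit 1062) (nat_lit 983) (nat_lit 1066) (.node .nil (nat_lit 1063) (nat_lit
  343) (nat_lit 1056) .nil))) (nat_lit 1064) (nat_lit 70) (nat_lit 1044) (.node (.node (.node .nil (nat_lit
  1065) (nat_lit 487) (nat_lit 1058) .nil) (nat_lit 1066) (nat_lit 631) (nat_lit 1063) (.node .nil (nat_lit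
  1067) (nat_lit 582) (nat_lit 1046) .nil)) (nat_lit 1068) (nat_lit 295) (nat_lit 1070) (.node (.node .nil
  (nat_lit 1069) (nat_lit 1286) (nat_lit 1051) .nil) (nat_lit 1070) (nat_lit 198) (nat_lit 1049) (.node .nil
  (nat_lit 1071) (nat_lit 935) (nat_lit 1067) .nil)))) (nat_lit 1072) (nat_lit 326) (nat_lit 1056) (.node
  (.node (.node (.node .nil (nat_lit 1073) (nat_lit 1431) (nat_lit 1083) .nil) (nat_lit 1074) (nat_lit 551)
  (nat_lit 1086) (.node .nil (nat_lit 1075) (nat_lit 375) (nat_lit 1076) .nil)) (nat_lit 1076) (nat_lit 279)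
  (nat_lit 1079) (.node (.node .nil (nat_lit 1077) (nat_lit 855) (nat_lit 1085) .nil) (nat_lit 1078) (nat_lit
  1208) (nat_lit 1032) (.node .nil (nat_lit 1079) (nat_lit 184) (nat_lit 1064) .nil))) (nat_lit 1080) (nat_lit
  1240) (nat_lit 1077) (.node (.node (.node .nil (nat_lit 1081) (nat_lit 615) (nat_lit 1072) .nil) (nat_lit
  1082) (nat_lit 1223) (nat_lit 1077) (.node .nil (nat_lit 1083) (nat_lit 1271) (nat_lit 1087) .nil)) (nat_lit
  1084) (nat_lit 166) (nat_lit 1064) (.node (.node .nil (nat_lit 1085) (nat_lit 536) (nat_lit 1038) .nil)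
  (nat_lit 1086) (nat_lit 471) (nat_lit 1075) (.node .nil (nat_lit 1087) (nat_lit 888) (nat_lit 1054)
  .nil)))))) (nat_lit 1088) (nat_lit 293) (nat_lit 1092) (.node (.node (.node (.node (.node (.node .nil
  (nat_lit 1089) (nat_lit 789) (nat_lit 1093) .nil) (nat_lit 1090) (nat_lit 981) (nat_lit 1094) (.node .nil
  (nat_lit 1091) (nat_lit 2838) (nat_lit 1090) .nil)) (nat_lit 1092) (nat_lit 67) (nat_lit 83) (.node (.node
  .nil (nat_lit 1093) (nat_lit 145) (nat_lit 1101) .nil) (nat_lit 1094) (nat_lit 214) (nat_lit 1101) (.node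
  .nil (nat_lit 1095) (nat_lit 1656) (nat_lit 1131) .nil))) (nat_lit 1096) (nat_lit 163) (nat_lit 1119) (.node
  (.node (.node .nil (nat_lit 1097) (nat_lit 197) (nat_lit 1101) .nil) (nat_lit 1098) (nat_lit 513) (nat_lit
  66) (.node .nil (nat_lit 1099) (nat_lit 998) (nat_lit 1094) .nil)) (nat_lit 1100) (nat_lit 211) (nat_lit
  1115) (.node (.node .nil (nat_lit 1101) (nat_lit 16) (nat_lit 65) .nil) (nat_lit 1102) (nat_lit 934)
  (nat_lit 1097) (.node .nil (nat_lit 1103) (nat_lit 1830) (nat_lit 1098) .nil)))) (nat_lit 1104) (nat_lit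
  2872) (nat_lit 1090) (.node (.node (.node (.node .nil (nat_lit 1105) (nat_lit 1877) (nat_lit 1109) .nil)
  (nat_lit 1106) (nat_lit 421) (nat_lit 1110) (.node .nil (nat_lit 1107) (nat_lit 277) (nat_lit 1111) .nil))
  (nat_lit 1108) (nat_lit 1478) (nat_lit 1148) (.node (.node .nil (nat_lit 1109) (nat_lit 531) (nat_lit 66)
  .nil) (nat_lit 1110) (nat_lit 67) (nat_lit 65) (.node .nil (nat_lit 1111) (nat_lit 67) (nat_lit 64) .nil)))
  (nat_lit 1112) (nat_lit 2116) (nat_lit 80) (.node (.node (.node .nil (nat_lit 1113) (nat_lit 1558) (nat_lit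
  1143) .nil) (nat_lit 1114) (nat_lit 179) (nat_lit 1101) (.node .nil (nat_lit 1115) (nat_lit 33) (nat_lit 83)
  .nil)) (nat_lit 1116) (nat_lit 2662) (nat_lit 1144) (.node (.node .nil (nat_lit 1117) (nat_lit 1811)
  (nat_lit 1098) .nil) (nat_lit 1118) (nat_lit 885) (nat_lit 1114) (.node .nil (nat_lit 1119) (nat_lit 16)
  (nat_lit 83) .nil))))) (nat_lit 1120) (nat_lit 242) (nat_lit 73) (.node (.node (.node (.node (.node .nil
  (nat_lit 1121) (nat_lit 178) (nat_lit 72) .nil) (nat_lit 1122) (nat_lit 3776) (nat_lit 1134) (.node .nil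
  (nat_lit 1123) (nat_lit 1574) (nat_lit 1106) .nil)) (nat_lit 1124) (nat_lit 162) (nat_lit 1101) (.node
  (.node .nil (nat_lit 1125) (nat_lit 182) (nat_lit 1119) .nil) (nat_lit 1126) (nat_lit 1864) (nat_lit 1098)
  (.node .nil (nat_lit 1127) (nat_lit 2515) (nat_lit 112) .nil))) (nat_lit 1128) (nat_lit 50) (nat_lit 65)
  (.node (.node (.node .nil (nat_lit 1129) (nat_lit 50) (nat_lit 64) .nil) (nat_lit 1130) (nat_lit 1894)
  (nat_lit 1109) (.node .nil (nat_lit 1131) (nat_lit 438) (nat_lit 1110) .nil)) (nat_lit 1132) (nat_lit 754)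
  (nat_lit 1093) (.node (.node .nil (nat_lit 1133) (nat_lit 230) (nat_lit 1115) .nil) (nat_lit 1134) (nat_lit
  1512) (nat_lit 1148) (.node .nil (nat_lit 1135) (nat_lit 902) (nat_lit 1114) .nil)))) (nat_lit 1136)
  (nat_lit 1126) (nat_lit 1120) (.node (.node (.node (.node .nil (nat_lit 1137) (nat_lit 3440) (nat_lit 125)
  .nil) (nat_lit 1138) (nat_lit 419) (nat_lit 101) (.node .nil (nat_lit 1139) (nat_lit 1793) (nat_lit 123)
  .nil)) (nat_lit 1140) (nat_lit 1441) (nat_lit 1148) (.node (.node .nil (nat_lit 1141) (nat_lit 2680)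
  (nat_lit 1144) .nil) (nat_lit 1142) (nat_lit 146) (nat_lit 1119) (.node .nil (nat_lit 1143) (nat_lit 408)
  (nat_lit 1128) .nil))) (nat_lit 1144) (nat_lit 854) (nat_lit 1124) (.node (.node (.node .nil (nat_lit 1145)
  (nat_lit 1928) (nat_lit 1109) .nil) (nat_lit 1146) (nat_lit 50) (nat_lit 83) (.node .nil (nat_lit 1147)
  (nat_lit 824) (nat_lit 1093) .nil)) (nat_lit 1148) (nat_lit 374) (nat_lit 1128) (.node (.node .nil (nat_lit
  1149) (nat_lit 1622) (nat_lit 1131) .nil) (nat_lit 1150) (nat_lit 243) (nat_lit 1129) (.node .nil (nat_lit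
  1151) (nat_lit 339) (nat_lit 1128) .nil)))))))
def tJ6_9 : T := (.node (.node (.node (.node (.node (.node (.node .nil (nat_lit 1153) (nat_lit 1847) (nat_lit
  1098) .nil) (nat_lit 1154) (nat_lit 4279) (nat_lit 1103) (.node .nil (nat_lit 1155) (nat_lit 807) (nat_lit
  1093) .nil)) (nat_lit 1156) (nat_lit 1015) (nat_lit 1094) (.node (.node .nil (nat_lit 1157) (nat_lit 368)
  (nat_lit 153) .nil) (nat_lit 1158) (nat_lit 951) (nat_lit 1097) (.node .nil (nat_lit 1159) (nat_lit 5991)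
  (nat_lit 1091) .nil))) (nat_lit 1160) (nat_lit 2887) (nat_lit 1099) (.node (.node (.node .nil (nat_lit 1161)
  (nat_lit 2599) (nat_lit 1089) .nil) (nat_lit 1162) (nat_lit 311) (nat_lit 1092) (.node .nil (nat_lit 1163)
  (nat_lit 2759) (nat_lit 1102) .nil)) (nat_lit 1164) (nat_lit 231) (nat_lit 1101) (.node (.node .nil (nat_lit
  1165) (nat_lit 4023) (nat_lit 1095) .nil) (nat_lit 1166) (nat_lit 2855) (nat_lit 1090) (.node .nil (nat_lit
  1167) (nat_lit 487) (nat_lit 1096) .nil)))) (nat_lit 1168) (nat_lit 642) (nat_lit 137) (.node (.node (.node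
  (.node .nil (nat_lit 1169) (nat_lit 4839) (nat_lit 1112) .nil) (nat_lit 1170) (nat_lit 3378) (nat_lit 139)
  (.node .nil (nat_lit 1171) (nat_lit 295) (nat_lit 1111) .nil)) (nat_lit 1172) (nat_lit 3735) (nat_lit 1108)
  (.node (.node .nil (nat_lit 1173) (nat_lit 608) (nat_lit 137) .nil) (nat_lit 1174) (nat_lit 247) (nat_lit
  1115) (.node .nil (nat_lit 1175) (nat_lit 3344) (nat_lit 139) .nil))) (nat_lit 1176) (nat_lit 2896) (nat_lit
  1156) (.node (.node (.node .nil (nat_lit 1177) (nat_lit 354) (nat_lit 128) .nil) (nat_lit 1178) (nat_lit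
  455) (nat_lit 1110) (.node .nil (nat_lit 1179) (nat_lit 4464) (nat_lit 135) .nil)) (nat_lit 1180) (nat_lit
  199) (nat_lit 1119) (.node (.node .nil (nat_lit 1181) (nat_lit 1911) (nat_lit 1109) .nil) (nat_lit 1182)
  (nat_lit 6039) (nat_lit 1104) (.node .nil (nat_lit 1183) (nat_lit 919) (nat_lit 1114) .nil))))) (nat_lit
  1184) (nat_lit 2246) (nat_lit 1168) (.node (.node (.node (.node (.node .nil (nat_lit 1185) (nat_lit 263)
  (nat_lit 1129) .nil) (nat_lit 1186) (nat_lit 2567) (nat_lit 1132) (.node .nil (nat_lit 1187) (nat_lit 4343)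
  (nat_lit 1126) .nil)) (nat_lit 1188) (nat_lit 503) (nat_lit 1125) (.node (.node .nil (nat_lit 1189) (nat_lit
  2727) (nat_lit 1135) .nil) (nat_lit 1190) (nat_lit 4359) (nat_lit 1130) (.node .nil (nat_lit 1191) (nat_lit
  1143) (nat_lit 1120) .nil))) (nat_lit 1192) (nat_lit 391) (nat_lit 1128) (.node (.node (.node .nil (nat_lit
  1193) (nat_lit 6838) (nat_lit 1175) .nil) (nat_lit 1194) (nat_lit 2166) (nat_lit 1173) (.node .nil (nat_lit
  1195) (nat_lit 515) (nat_lit 1180) .nil)) (nat_lit 1196) (nat_lit 3799) (nat_lit 1134) (.node (.node .nil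
  (nat_lit 1197) (nat_lit 871) (nat_lit 1124) .nil) (nat_lit 1198) (nat_lit 567) (nat_lit 1121) (.node .nil
  (nat_lit 1199) (nat_lit 1639) (nat_lit 1131) .nil)))) (nat_lit 1200) (nat_lit 4483) (nat_lit 135) (.node
  (.node (.node (.node .nil (nat_lit 1201) (nat_lit 1347) (nat_lit 134) .nil) (nat_lit 1202) (nat_lit 499)
  (nat_lit 133) (.node .nil (nat_lit 1203) (nat_lit 3361) (nat_lit 139) .nil)) (nat_lit 1204) (nat_lit 1025)
  (nat_lit 1164) (.node (.node .nil (nat_lit 1205) (nat_lit 3975) (nat_lit 1149) .nil) (nat_lit 1206) (nat_lit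
  2001) (nat_lit 142) (.node .nil (nat_lit 1207) (nat_lit 371) (nat_lit 128) .nil))) (nat_lit 1208) (nat_lit
  279) (nat_lit 1146) (.node (.node (.node .nil (nat_lit 1209) (nat_lit 3159) (nat_lit 1136) .nil) (nat_lit
  1210) (nat_lit 5783) (nat_lit 1141) (.node .nil (nat_lit 1211) (nat_lit 1043) (nat_lit 1164) .nil)) (nat_lit
  1212) (nat_lit 1495) (nat_lit 1148) (.node (.node .nil (nat_lit 1213) (nat_lit 471) (nat_lit 1142) .nil)
  (nat_lit 1214) (nat_lit 1313) (nat_lit 134) (.node .nil (nat_lit 1215) (nat_lit 4407) (nat_lit 1145)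
  .nil)))))) (nat_lit 1216) (nat_lit 3112) (nat_lit 640) (.node (.node (.node (.node (.node (.node .nil
  (nat_lit 1217) (nat_lit 17592) (nat_lit 672) .nil) (nat_lit 1218) (nat_lit 17800) (nat_lit 656) (.node .nil
  (nat_lit 1219) (nat_lit 14456) (nat_lit 688) .nil)) (nat_lit 1220) (nat_lit 15080) (nat_lit 667) (.node
  (.node .nil (nat_lit 1221) (nat_lit 20216) (nat_lit 699) .nil) (nat_lit 1222) (nat_lit 20438) (nat_lit 1229)
  (.node .nil (nat_lit 1223) (nat_lit 2888) (nat_lit 683) .nil))) (nat_lit 1224) (nat_lit 18344) (nat_lit 694)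
  (.node (.node (.node .nil (nat_lit 1225) (nat_lit 3208) (nat_lit 662) .nil) (nat_lit 1226) (nat_lit 16984)
  (nat_lit 678) (.node .nil (nat_lit 1227) (nat_lit 20017) (nat_lit 251) .nil)) (nat_lit 1228) (nat_lit 18376)
  (nat_lit 685) (.node (.node .nil (nat_lit 1229) (nat_lit 17184) (nat_lit 221) .nil) (nat_lit 1230) (nat_lit
  3144) (nat_lit 701) (.node .nil (nat_lit 1231) (nat_lit 18936) (nat_lit 669) .nil)))) (nat_lit 1232)
  (nat_lit 2920) (nat_lit 642) (.node (.node (.node (.node .nil (nat_lit 1233) (nat_lit 18248) (nat_lit 674)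
  .nil) (nat_lit 1234) (nat_lit 19384) (nat_lit 658) (.node .nil (nat_lit 1235) (nat_lit 17656) (nat_lit 690)
  .nil)) (nat_lit 1236) (nat_lit 17848) (nat_lit 665) (.node (.node .nil (nat_lit 1237) (nat_lit 20312)
  (nat_lit 697) .nil) (nat_lit 1238) (nat_lit 19032) (nat_lit 649) (.node .nil (nat_lit 1239) (nat_lit 3176)
  (nat_lit 681) .nil))) (nat_lit 1240) (nat_lit 19000) (nat_lit 692) (.node (.node (.node .nil (nat_lit 1241)
  (nat_lit 2952) (nat_lit 660) .nil) (nat_lit 1242) (nat_lit 17204) (nat_lit 221) (.node .nil (nat_lit 1243)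
  (nat_lit 20008) (nat_lit 644) .nil)) (nat_lit 1244) (nat_lit 19912) (nat_lit 687) (.node (.node .nil
  (nat_lit 1245) (nat_lit 16568) (nat_lit 655) .nil) (nat_lit 1246) (nat_lit 3048) (nat_lit 703) (.node .nil
  (nat_lit 1247) (nat_lit 18552) (nat_lit 671) .nil))))) (nat_lit 1248) (nat_lit 2856) (nat_lit 641) (.node
  (.node (.node (.node (.node .nil (nat_lit 1249) (nat_lit 20728) (nat_lit 673) .nil) (nat_lit 1250) (nat_lit
  18280) (nat_lit 657) (.node .nil (nat_lit 1251) (nat_lit 16248) (nat_lit 689) .nil)) (nat_lit 1252) (nat_lit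
  17464) (nat_lit 666) (.node (.node .nil (nat_lit 1253) (nat_lit 19576) (nat_lit 698) .nil) (nat_lit 1254)
  (nat_lit 18856) (nat_lit 650) (.node .nil (nat_lit 1255) (nat_lit 2952) (nat_lit 682) .nil))) (nat_lit 1256)
  (nat_lit 19077) (nat_lit 230) (.node (.node (.node .nil (nat_lit 1257) (nat_lit 3112) (nat_lit 663) .nil)
  (nat_lit 1258) (nat_lit 17096) (nat_lit 679) (.node .nil (nat_lit 1259) (nat_lit 19240) (nat_lit 647) .nil))
  (nat_lit 1260) (nat_lit 19944) (nat_lit 684) (.node (.node .nil (nat_lit 1261) (nat_lit 17176) (nat_lit 652)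
  .nil) (nat_lit 1262) (nat_lit 2920) (nat_lit 700) (.node .nil (nat_lit 1263) (nat_lit 20470) (nat_lit 1242)
  .nil)))) (nat_lit 1264) (nat_lit 3253) (nat_lit 254) (.node (.node (.node (.node .nil (nat_lit 1265)
  (nat_lit 18920) (nat_lit 675) .nil) (nat_lit 1266) (nat_lit 20808) (nat_lit 659) (.node .nil (nat_lit 1267)
  (nat_lit 14920) (nat_lit 691) .nil)) (nat_lit 1268) (nat_lit 17016) (nat_lit 664) (.node (.node .nil
  (nat_lit 1269) (nat_lit 20053) (nat_lit 251) .nil) (nat_lit 1270) (nat_lit 18680) (nat_lit 648) (.node .nil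
  (nat_lit 1271) (nat_lit 3208) (nat_lit 680) .nil))) (nat_lit 1272) (nat_lit 18824) (nat_lit 693) (.node
  (.node (.node .nil (nat_lit 1273) (nat_lit 3236) (nat_lit 254) .nil) (nat_lit 1274) (nat_lit 16440) (nat_lit
  677) (.node .nil (nat_lit 1275) (nat_lit 19720) (nat_lit 645) .nil)) (nat_lit 1276) (nat_lit 20036) (nat_lit
  251) (.node (.node .nil (nat_lit 1277) (nat_lit 16120) (nat_lit 654) .nil) (nat_lit 1278) (nat_lit 3080)
  (nat_lit 702) (.node .nil (nat_lit 1279) (nat_lit 18584) (nat_lit 670) .nil)))))))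
def tJ6_10 : T := (.node (.node (.node (.node (.node (.node (.node .nil (nat_lit 1281) (nat_lit 647) (nat_lit
  1162) .nil) (nat_lit 1282) (nat_lit 983) (nat_lit 1167) (.node .nil (nat_lit 1283) (nat_lit 743) (nat_lit
  1157) .nil)) (nat_lit 1284) (nat_lit 2775) (nat_lit 1158) (.node (.node .nil (nat_lit 1285) (nat_lit 1063)
  (nat_lit 1164) .nil) (nat_lit 1286) (nat_lit 3043) (nat_lit 1285) (.node .nil (nat_lit 1287) (nat_lit 2338)
  (nat_lit 262) .nil))) (nat_lit 1288) (nat_lit 4691) (nat_lit 267) (.node (.node (.node .nil (nat_lit 1289)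
  (nat_lit 4311) (nat_lit 1153) .nil) (nat_lit 1290) (nat_lit 2935) (nat_lit 1156) (.node .nil (nat_lit 1291)
  (nat_lit 6007) (nat_lit 1166) .nil)) (nat_lit 1292) (nat_lit 7767) (nat_lit 1165) (.node (.node .nil
  (nat_lit 1293) (nat_lit 10279) (nat_lit 1159) .nil) (nat_lit 1294) (nat_lit 8055) (nat_lit 1154) (.node .nil
  (nat_lit 1295) (nat_lit 6055) (nat_lit 1160) .nil)))) (nat_lit 1296) (nat_lit 6887) (nat_lit 1170) (.node
  (.node (.node (.node .nil (nat_lit 1297) (nat_lit 6071) (nat_lit 1176) .nil) (nat_lit 1298) (nat_lit 4375)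
  (nat_lit 1181) (.node .nil (nat_lit 1299) (nat_lit 6129) (nat_lit 1290) .nil)) (nat_lit 1300) (nat_lit 7415)
  (nat_lit 1172) (.node (.node .nil (nat_lit 1301) (nat_lit 10327) (nat_lit 1182) .nil) (nat_lit 1302)
  (nat_lit 8279) (nat_lit 1179) (.node .nil (nat_lit 1303) (nat_lit 8903) (nat_lit 1169) .nil))) (nat_lit
  1304) (nat_lit 775) (nat_lit 1177) (.node (.node (.node .nil (nat_lit 1305) (nat_lit 647) (nat_lit 1171)
  .nil) (nat_lit 1306) (nat_lit 567) (nat_lit 1174) (.node .nil (nat_lit 1307) (nat_lit 535) (nat_lit 1180)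
  .nil)) (nat_lit 1308) (nat_lit 2743) (nat_lit 1183) (.node (.node .nil (nat_lit 1309) (nat_lit 2183)
  (nat_lit 1173) .nil) (nat_lit 1310) (nat_lit 2263) (nat_lit 1168) (.node .nil (nat_lit 1311) (nat_lit 1671)
  (nat_lit 1178) .nil))))) (nat_lit 1312) (nat_lit 8119) (nat_lit 1187) (.node (.node (.node (.node (.node
  .nil (nat_lit 1313) (nat_lit 10336) (nat_lit 1295) .nil) (nat_lit 1314) (nat_lit 7479) (nat_lit 1196) (.node
  .nil (nat_lit 1315) (nat_lit 8135) (nat_lit 1190) .nil)) (nat_lit 1316) (nat_lit 5863) (nat_lit 1189) (.node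
  (.node .nil (nat_lit 1317) (nat_lit 3991) (nat_lit 1199) .nil) (nat_lit 1318) (nat_lit 4903) (nat_lit 1194)
  (.node .nil (nat_lit 1319) (nat_lit 5095) (nat_lit 1184) .nil))) (nat_lit 1320) (nat_lit 1527) (nat_lit
  1192) (.node (.node (.node .nil (nat_lit 1321) (nat_lit 3826) (nat_lit 1320) .nil) (nat_lit 1322) (nat_lit
  3175) (nat_lit 1191) (.node .nil (nat_lit 1323) (nat_lit 2695) (nat_lit 1197) .nil)) (nat_lit 1324) (nat_lit
  1111) (nat_lit 1198) (.node (.node .nil (nat_lit 1325) (nat_lit 999) (nat_lit 1188) .nil) (nat_lit 1326)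
  (nat_lit 615) (nat_lit 1185) (.node .nil (nat_lit 1327) (nat_lit 1031) (nat_lit 1195) .nil)))) (nat_lit
  1328) (nat_lit 3591) (nat_lit 1201) (.node (.node (.node (.node .nil (nat_lit 1329) (nat_lit 2999) (nat_lit
  1211) .nil) (nat_lit 1330) (nat_lit 3527) (nat_lit 1214) (.node .nil (nat_lit 1331) (nat_lit 2967) (nat_lit
  1204) .nil)) (nat_lit 1332) (nat_lit 807) (nat_lit 1207) (.node (.node .nil (nat_lit 1333) (nat_lit 951)
  (nat_lit 1213) .nil) (nat_lit 1334) (nat_lit 615) (nat_lit 1208) (.node .nil (nat_lit 1335) (nat_lit 999)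
  (nat_lit 1202) .nil))) (nat_lit 1336) (nat_lit 10087) (nat_lit 1210) (.node (.node (.node .nil (nat_lit
  1337) (nat_lit 8295) (nat_lit 1200) .nil) (nat_lit 1338) (nat_lit 7703) (nat_lit 1205) (.node .nil (nat_lit
  1339) (nat_lit 8199) (nat_lit 1215) .nil)) (nat_lit 1340) (nat_lit 3751) (nat_lit 1212) (.node (.node .nil
  (nat_lit 1341) (nat_lit 4551) (nat_lit 1206) .nil) (nat_lit 1342) (nat_lit 6855) (nat_lit 1203) (.node .nil
  (nat_lit 1343) (nat_lit 6551) (nat_lit 1209) .nil)))))) (nat_lit 1344) (nat_lit 1575) (nat_lit 1856) (.node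
  (.node (.node (.node (.node (.node .nil (nat_lit 1345) (nat_lit 12647) (nat_lit 1866) .nil) (nat_lit 1346)
  (nat_lit 9719) (nat_lit 1871) (.node .nil (nat_lit 1347) (nat_lit 13383) (nat_lit 1861) .nil)) (nat_lit
  1348) (nat_lit 8759) (nat_lit 1862) (.node (.node .nil (nat_lit 1349) (nat_lit 2183) (nat_lit 1868) .nil)
  (nat_lit 1350) (nat_lit 13431) (nat_lit 1865) (.node .nil (nat_lit 1351) (nat_lit 9191) (nat_lit 1859)
  .nil))) (nat_lit 1352) (nat_lit 5479) (nat_lit 1867) (.node (.node (.node .nil (nat_lit 1353) (nat_lit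
  12951) (nat_lit 1857) .nil) (nat_lit 1354) (nat_lit 2007) (nat_lit 1860) (.node .nil (nat_lit 1355) (nat_lit
  14098) (nat_lit 355) .nil)) (nat_lit 1356) (nat_lit 9783) (nat_lit 1869) (.node (.node .nil (nat_lit 1357)
  (nat_lit 9751) (nat_lit 1863) .nil) (nat_lit 1358) (nat_lit 12327) (nat_lit 1858) (.node .nil (nat_lit 1359)
  (nat_lit 2039) (nat_lit 1864) .nil)))) (nat_lit 1360) (nat_lit 12503) (nat_lit 1874) (.node (.node (.node
  (.node .nil (nat_lit 1361) (nat_lit 2199) (nat_lit 1880) .nil) (nat_lit 1362) (nat_lit 13223) (nat_lit 1885)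
  (.node .nil (nat_lit 1363) (nat_lit 11431) (nat_lit 1879) .nil)) (nat_lit 1364) (nat_lit 1975) (nat_lit
  1876) (.node (.node .nil (nat_lit 1365) (nat_lit 12439) (nat_lit 1886) .nil) (nat_lit 1366) (nat_lit 7287)
  (nat_lit 1883) (.node .nil (nat_lit 1367) (nat_lit 14710) (nat_lit 1406) .nil))) (nat_lit 1368) (nat_lit
  13507) (nat_lit 1356) (.node (.node (.node .nil (nat_lit 1369) (nat_lit 9367) (nat_lit 1875) .nil) (nat_lit
  1370) (nat_lit 11975) (nat_lit 1878) (.node .nil (nat_lit 1371) (nat_lit 2320) (nat_lit 1401) .nil))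
  (nat_lit 1372) (nat_lit 9431) (nat_lit 1887) (.node (.node .nil (nat_lit 1373) (nat_lit 14247) (nat_lit
  1877) .nil) (nat_lit 1374) (nat_lit 1879) (nat_lit 1872) (.node .nil (nat_lit 1375) (nat_lit 14023) (nat_lit
  1882) .nil))))) (nat_lit 1376) (nat_lit 10881) (nat_lit 369) (.node (.node (.node (.node (.node .nil
  (nat_lit 1377) (nat_lit 14647) (nat_lit 1897) .nil) (nat_lit 1378) (nat_lit 2007) (nat_lit 1900) (.node .nil
  (nat_lit 1379) (nat_lit 12215) (nat_lit 1894) .nil)) (nat_lit 1380) (nat_lit 13111) (nat_lit 1893) (.node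
  (.node .nil (nat_lit 1381) (nat_lit 10695) (nat_lit 1903) .nil) (nat_lit 1382) (nat_lit 14071) (nat_lit
  1898) (.node .nil (nat_lit 1383) (nat_lit 1975) (nat_lit 1888) .nil))) (nat_lit 1384) (nat_lit 2320)
  (nat_lit 330) (.node (.node (.node .nil (nat_lit 1385) (nat_lit 14487) (nat_lit 1890) .nil) (nat_lit 1386)
  (nat_lit 10055) (nat_lit 1895) (.node .nil (nat_lit 1387) (nat_lit 11447) (nat_lit 1901) .nil)) (nat_lit
  1388) (nat_lit 12690) (nat_lit 1348) (.node (.node .nil (nat_lit 1389) (nat_lit 2279) (nat_lit 1892) .nil)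
  (nat_lit 1390) (nat_lit 13063) (nat_lit 1889) (.node .nil (nat_lit 1391) (nat_lit 7991) (nat_lit 1899)
  .nil)))) (nat_lit 1392) (nat_lit 14304) (nat_lit 338) (.node (.node (.node (.node .nil (nat_lit 1393)
  (nat_lit 9527) (nat_lit 1915) .nil) (nat_lit 1394) (nat_lit 14007) (nat_lit 1918) (.node .nil (nat_lit 1395)
  (nat_lit 1591) (nat_lit 1908) .nil)) (nat_lit 1396) (nat_lit 10839) (nat_lit 1911) (.node (.node .nil
  (nat_lit 1397) (nat_lit 12023) (nat_lit 1917) .nil) (nat_lit 1398) (nat_lit 2295) (nat_lit 1912) (.node .nil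
  (nat_lit 1399) (nat_lit 12407) (nat_lit 1906) .nil))) (nat_lit 1400) (nat_lit 12471) (nat_lit 1914) (.node
  (.node (.node .nil (nat_lit 1401) (nat_lit 1799) (nat_lit 1904) .nil) (nat_lit 1402) (nat_lit 14183)
  (nat_lit 1909) (.node .nil (nat_lit 1403) (nat_lit 10807) (nat_lit 1919) .nil)) (nat_lit 1404) (nat_lit
  2071) (nat_lit 1916) (.node (.node .nil (nat_lit 1405) (nat_lit 11239) (nat_lit 1910) .nil) (nat_lit 1406)
  (nat_lit 11458) (nat_lit 1366) (.node .nil (nat_lit 1407) (nat_lit 12839) (nat_lit 1913) .nil)))))))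
def tJ6_11 : T := (.node (.node (.node (.node (.node (.node (.node .nil (nat_lit 1409) (nat_lit 20247)
  (nat_lit 1226) .nil) (nat_lit 1410) (nat_lit 21863) (nat_lit 1231) (.node .nil (nat_lit 1411) (nat_lit
  22743) (nat_lit 1221) .nil)) (nat_lit 1412) (nat_lit 22823) (nat_lit 1222) (.node (.node .nil (nat_lit 1413)
  (nat_lit 21367) (nat_lit 1228) .nil) (nat_lit 1414) (nat_lit 3719) (nat_lit 1225) (.node .nil (nat_lit 1415)
  (nat_lit 17927) (nat_lit 1219) .nil))) (nat_lit 1416) (nat_lit 22567) (nat_lit 1227) (.node (.node (.node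
  .nil (nat_lit 1417) (nat_lit 20775) (nat_lit 1217) .nil) (nat_lit 1418) (nat_lit 18407) (nat_lit 1220)
  (.node .nil (nat_lit 1419) (nat_lit 3655) (nat_lit 1230) .nil)) (nat_lit 1420) (nat_lit 20455) (nat_lit
  1229) (.node (.node .nil (nat_lit 1421) (nat_lit 3399) (nat_lit 1223) .nil) (nat_lit 1422) (nat_lit 20967)
  (nat_lit 1218) (.node .nil (nat_lit 1423) (nat_lit 21335) (nat_lit 1224) .nil)))) (nat_lit 1424) (nat_lit
  22183) (nat_lit 1234) (.node (.node (.node (.node .nil (nat_lit 1425) (nat_lit 21927) (nat_lit 1240) .nil)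
  (nat_lit 1426) (nat_lit 19751) (nat_lit 1245) (.node .nil (nat_lit 1427) (nat_lit 3687) (nat_lit 1239)
  .nil)) (nat_lit 1428) (nat_lit 20999) (nat_lit 1236) (.node (.node .nil (nat_lit 1429) (nat_lit 3559)
  (nat_lit 1246) .nil) (nat_lit 1430) (nat_lit 22551) (nat_lit 1243) (.node .nil (nat_lit 1431) (nat_lit
  21271) (nat_lit 1233) .nil))) (nat_lit 1432) (nat_lit 3463) (nat_lit 1241) (.node (.node (.node .nil
  (nat_lit 1433) (nat_lit 20839) (nat_lit 1235) .nil) (nat_lit 1434) (nat_lit 21959) (nat_lit 1238) (.node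
  .nil (nat_lit 1435) (nat_lit 22455) (nat_lit 1244) .nil)) (nat_lit 1436) (nat_lit 21511) (nat_lit 1247)
  (.node (.node .nil (nat_lit 1437) (nat_lit 22775) (nat_lit 1237) .nil) (nat_lit 1438) (nat_lit 3431)
  (nat_lit 1232) (.node .nil (nat_lit 1439) (nat_lit 20487) (nat_lit 1242) .nil))))) (nat_lit 1440) (nat_lit
  19415) (nat_lit 1251) (.node (.node (.node (.node (.node .nil (nat_lit 1441) (nat_lit 3623) (nat_lit 1257)
  .nil) (nat_lit 1442) (nat_lit 22487) (nat_lit 1260) (.node .nil (nat_lit 1443) (nat_lit 21799) (nat_lit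
  1254) .nil)) (nat_lit 1444) (nat_lit 22295) (nat_lit 1253) (.node (.node .nil (nat_lit 1445) (nat_lit 22839)
  (nat_lit 1263) .nil) (nat_lit 1446) (nat_lit 20343) (nat_lit 1258) (.node .nil (nat_lit 1447) (nat_lit 3367)
  (nat_lit 1248) .nil))) (nat_lit 1448) (nat_lit 22007) (nat_lit 1256) (.node (.node (.node .nil (nat_lit
  1449) (nat_lit 21303) (nat_lit 1250) .nil) (nat_lit 1450) (nat_lit 3463) (nat_lit 1255) (.node .nil (nat_lit
  1451) (nat_lit 20423) (nat_lit 1261) .nil)) (nat_lit 1452) (nat_lit 3431) (nat_lit 1262) (.node (.node .nil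
  (nat_lit 1453) (nat_lit 20695) (nat_lit 1252) .nil) (nat_lit 1454) (nat_lit 22887) (nat_lit 1249) (.node
  .nil (nat_lit 1455) (nat_lit 22119) (nat_lit 1259) .nil)))) (nat_lit 1456) (nat_lit 21847) (nat_lit 1265)
  (.node (.node (.node (.node .nil (nat_lit 1457) (nat_lit 22359) (nat_lit 1275) .nil) (nat_lit 1458) (nat_lit
  3591) (nat_lit 1278) (.node .nil (nat_lit 1459) (nat_lit 20279) (nat_lit 1268) .nil)) (nat_lit 1460)
  (nat_lit 3719) (nat_lit 1271) (.node (.node .nil (nat_lit 1461) (nat_lit 19271) (nat_lit 1277) .nil)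
  (nat_lit 1462) (nat_lit 21767) (nat_lit 1272) (.node .nil (nat_lit 1463) (nat_lit 22935) (nat_lit 1266)
  .nil))) (nat_lit 1464) (nat_lit 19607) (nat_lit 1274) (.node (.node (.node .nil (nat_lit 1465) (nat_lit
  3767) (nat_lit 1264) .nil) (nat_lit 1466) (nat_lit 22599) (nat_lit 1269) (.node .nil (nat_lit 1467) (nat_lit
  21543) (nat_lit 1279) .nil)) (nat_lit 1468) (nat_lit 22583) (nat_lit 1276) (.node (.node .nil (nat_lit 1469)
  (nat_lit 21639) (nat_lit 1270) .nil) (nat_lit 1470) (nat_lit 18311) (nat_lit 1267) (.node .nil (nat_lit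
  1471) (nat_lit 3751) (nat_lit 1273) .nil)))))) (nat_lit 1472) (nat_lit 3127) (nat_lit 1792) (.node (.node
  (.node (.node (.node (.node .nil (nat_lit 1473) (nat_lit 17960) (nat_lit 1504) .nil) (nat_lit 1474) (nat_lit
  19399) (nat_lit 1807) (.node .nil (nat_lit 1475) (nat_lit 16263) (nat_lit 1797) .nil)) (nat_lit 1476)
  (nat_lit 18695) (nat_lit 1798) (.node (.node .nil (nat_lit 1477) (nat_lit 2903) (nat_lit 1804) .nil)
  (nat_lit 1478) (nat_lit 17479) (nat_lit 1801) (.node .nil (nat_lit 1479) (nat_lit 20327) (nat_lit 1795)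
  .nil))) (nat_lit 1480) (nat_lit 20163) (nat_lit 491) (.node (.node (.node .nil (nat_lit 1481) (nat_lit
  17111) (nat_lit 1793) .nil) (nat_lit 1482) (nat_lit 3223) (nat_lit 1796) (.node .nil (nat_lit 1483) (nat_lit
  18839) (nat_lit 1806) .nil)) (nat_lit 1484) (nat_lit 17346) (nat_lit 509) (.node (.node .nil (nat_lit 1485)
  (nat_lit 19927) (nat_lit 1799) .nil) (nat_lit 1486) (nat_lit 18599) (nat_lit 1794) (.node .nil (nat_lit
  1487) (nat_lit 3159) (nat_lit 1800) .nil)))) (nat_lit 1488) (nat_lit 17815) (nat_lit 1810) (.node (.node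
  (.node (.node .nil (nat_lit 1489) (nat_lit 14935) (nat_lit 1816) .nil) (nat_lit 1490) (nat_lit 2935)
  (nat_lit 1821) (.node .nil (nat_lit 1491) (nat_lit 19111) (nat_lit 1815) .nil)) (nat_lit 1492) (nat_lit
  17047) (nat_lit 1812) (.node (.node .nil (nat_lit 1493) (nat_lit 20231) (nat_lit 1822) .nil) (nat_lit 1494)
  (nat_lit 18871) (nat_lit 1819) (.node .nil (nat_lit 1495) (nat_lit 3191) (nat_lit 1809) .nil))) (nat_lit
  1496) (nat_lit 2967) (nat_lit 1817) (.node (.node (.node .nil (nat_lit 1497) (nat_lit 19127) (nat_lit 1811)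
  .nil) (nat_lit 1498) (nat_lit 21175) (nat_lit 1814) (.node .nil (nat_lit 1499) (nat_lit 16455) (nat_lit
  1820) .nil)) (nat_lit 1500) (nat_lit 20551) (nat_lit 1823) (.node (.node .nil (nat_lit 1501) (nat_lit 3063)
  (nat_lit 1813) .nil) (nat_lit 1502) (nat_lit 16135) (nat_lit 1808) (.node .nil (nat_lit 1503) (nat_lit
  18391) (nat_lit 1818) .nil))))) (nat_lit 1504) (nat_lit 14471) (nat_lit 1827) (.node (.node (.node (.node
  (.node .nil (nat_lit 1505) (nat_lit 20823) (nat_lit 1833) .nil) (nat_lit 1506) (nat_lit 18263) (nat_lit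
  1836) (.node .nil (nat_lit 1507) (nat_lit 2871) (nat_lit 1830) .nil)) (nat_lit 1508) (nat_lit 20135)
  (nat_lit 1829) (.node (.node .nil (nat_lit 1509) (nat_lit 15095) (nat_lit 1839) .nil) (nat_lit 1510)
  (nat_lit 2967) (nat_lit 1834) (.node .nil (nat_lit 1511) (nat_lit 19170) (nat_lit 470) .nil))) (nat_lit
  1512) (nat_lit 19152) (nat_lit 470) (.node (.node (.node .nil (nat_lit 1513) (nat_lit 3127) (nat_lit 1826)
  .nil) (nat_lit 1514) (nat_lit 16999) (nat_lit 1831) (.node .nil (nat_lit 1515) (nat_lit 19735) (nat_lit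
  1837) .nil)) (nat_lit 1516) (nat_lit 2935) (nat_lit 1838) (.node (.node .nil (nat_lit 1517) (nat_lit 18567)
  (nat_lit 1828) .nil) (nat_lit 1518) (nat_lit 20087) (nat_lit 1825) (.node .nil (nat_lit 1519) (nat_lit
  18103) (nat_lit 1835) .nil)))) (nat_lit 1520) (nat_lit 17607) (nat_lit 1841) (.node (.node (.node (.node
  .nil (nat_lit 1521) (nat_lit 3303) (nat_lit 1851) .nil) (nat_lit 1522) (nat_lit 17287) (nat_lit 1854) (.node
  .nil (nat_lit 1523) (nat_lit 18295) (nat_lit 1844) .nil)) (nat_lit 1524) (nat_lit 3223) (nat_lit 1847)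
  (.node (.node .nil (nat_lit 1525) (nat_lit 20584) (nat_lit 1528) .nil) (nat_lit 1526) (nat_lit 19591)
  (nat_lit 1848) (.node .nil (nat_lit 1527) (nat_lit 17863) (nat_lit 1842) .nil))) (nat_lit 1528) (nat_lit
  17319) (nat_lit 1850) (.node (.node (.node .nil (nat_lit 1529) (nat_lit 19255) (nat_lit 1840) .nil) (nat_lit
  1530) (nat_lit 18359) (nat_lit 1845) (.node .nil (nat_lit 1531) (nat_lit 3287) (nat_lit 1855) .nil))
  (nat_lit 1532) (nat_lit 19959) (nat_lit 1852) (.node (.node .nil (nat_lit 1533) (nat_lit 16583) (nat_lit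
  1846) .nil) (nat_lit 1534) (nat_lit 3095) (nat_lit 1843) (.node .nil (nat_lit 1535) (nat_lit 18951) (nat_lit
  1849) .nil)))))))
def tJ6_12 : T := (.node (.node (.node (.node (.node (.node (.node .nil (nat_lit 1537) (nat_lit 6151) (nat_lit
  1290) .nil) (nat_lit 1538) (nat_lit 10359) (nat_lit 1295) (.node .nil (nat_lit 1539) (nat_lit 3063) (nat_lit
  1285) .nil)) (nat_lit 1540) (nat_lit 6327) (nat_lit 1286) (.node (.node .nil (nat_lit 1541) (nat_lit 11863)
  (nat_lit 1292) .nil) (nat_lit 1542) (nat_lit 8071) (nat_lit 1289) (.node .nil (nat_lit 1543) (nat_lit 1367)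
  (nat_lit 1283) .nil))) (nat_lit 1544) (nat_lit 10295) (nat_lit 1291) (.node (.node (.node .nil (nat_lit
  1545) (nat_lit 1223) (nat_lit 1281) .nil) (nat_lit 1546) (nat_lit 5927) (nat_lit 1284) (.node .nil (nat_lit
  1547) (nat_lit 12071) (nat_lit 1294) .nil)) (nat_lit 1548) (nat_lit 12785) (nat_lit 541) (.node (.node .nil
  (nat_lit 1549) (nat_lit 5287) (nat_lit 1287) .nil) (nat_lit 1550) (nat_lit 1703) (nat_lit 1282) (.node .nil
  (nat_lit 1551) (nat_lit 8615) (nat_lit 1288) .nil)))) (nat_lit 1552) (nat_lit 8151) (nat_lit 1298) (.node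
  (.node (.node (.node .nil (nat_lit 1553) (nat_lit 1415) (nat_lit 1304) .nil) (nat_lit 1554) (nat_lit 4935)
  (nat_lit 1309) (.node .nil (nat_lit 1555) (nat_lit 12759) (nat_lit 1303) .nil)) (nat_lit 1556) (nat_lit
  11559) (nat_lit 1300) (.node (.node .nil (nat_lit 1557) (nat_lit 5127) (nat_lit 1310) .nil) (nat_lit 1558)
  (nat_lit 1063) (nat_lit 1307) (.node .nil (nat_lit 1559) (nat_lit 10375) (nat_lit 1297) .nil))) (nat_lit
  1560) (nat_lit 1223) (nat_lit 1305) (.node (.node (.node .nil (nat_lit 1561) (nat_lit 8657) (nat_lit 520)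
  .nil) (nat_lit 1562) (nat_lit 11832) (nat_lit 1572) (.node .nil (nat_lit 1563) (nat_lit 5879) (nat_lit 1308)
  .nil)) (nat_lit 1564) (nat_lit 4055) (nat_lit 1311) (.node (.node .nil (nat_lit 1565) (nat_lit 12241)
  (nat_lit 524) .nil) (nat_lit 1566) (nat_lit 11143) (nat_lit 1296) (.node .nil (nat_lit 1567) (nat_lit 1111)
  (nat_lit 1306) .nil))))) (nat_lit 1568) (nat_lit 10536) (nat_lit 1537) (.node (.node (.node (.node (.node
  .nil (nat_lit 1569) (nat_lit 6336) (nat_lit 1539) .nil) (nat_lit 1570) (nat_lit 1504) (nat_lit 512) (.node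
  .nil (nat_lit 1571) (nat_lit 8999) (nat_lit 1318) .nil)) (nat_lit 1572) (nat_lit 7719) (nat_lit 1317) (.node
  (.node .nil (nat_lit 1573) (nat_lit 1523) (nat_lit 529) .nil) (nat_lit 1574) (nat_lit 5344) (nat_lit 516)
  (.node .nil (nat_lit 1575) (nat_lit 12103) (nat_lit 1312) .nil))) (nat_lit 1576) (nat_lit 3863) (nat_lit
  1320) (.node (.node (.node .nil (nat_lit 1577) (nat_lit 11623) (nat_lit 1314) .nil) (nat_lit 1578) (nat_lit
  8640) (nat_lit 520) (.node .nil (nat_lit 1579) (nat_lit 1735) (nat_lit 1325) .nil)) (nat_lit 1580) (nat_lit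
  1175) (nat_lit 1326) (.node (.node .nil (nat_lit 1581) (nat_lit 10167) (nat_lit 1316) .nil) (nat_lit 1582)
  (nat_lit 11592) (nat_lit 1596) (.node .nil (nat_lit 1583) (nat_lit 5799) (nat_lit 1323) .nil)))) (nat_lit
  1584) (nat_lit 5363) (nat_lit 516) (.node (.node (.node (.node .nil (nat_lit 1585) (nat_lit 12151) (nat_lit
  1339) .nil) (nat_lit 1586) (nat_lit 10726) (nat_lit 1569) (.node .nil (nat_lit 1587) (nat_lit 1463) (nat_lit
  1332) .nil)) (nat_lit 1588) (nat_lit 1523) (nat_lit 512) (.node (.node .nil (nat_lit 1589) (nat_lit 8391)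
  (nat_lit 1341) .nil) (nat_lit 1590) (nat_lit 13831) (nat_lit 1336) (.node .nil (nat_lit 1591) (nat_lit 7079)
  (nat_lit 1330) .nil))) (nat_lit 1592) (nat_lit 11799) (nat_lit 1338) (.node (.node (.node .nil (nat_lit
  1593) (nat_lit 7159) (nat_lit 1328) .nil) (nat_lit 1594) (nat_lit 1671) (nat_lit 1333) (.node .nil (nat_lit
  1595) (nat_lit 9542) (nat_lit 1574) .nil)) (nat_lit 1596) (nat_lit 7431) (nat_lit 1340) (.node (.node .nil
  (nat_lit 1597) (nat_lit 1175) (nat_lit 1334) .nil) (nat_lit 1598) (nat_lit 6215) (nat_lit 1331) (.node .nil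
  (nat_lit 1599) (nat_lit 12231) (nat_lit 1337) .nil)))))) (nat_lit 1600) (nat_lit 903) (nat_lit 1728) (.node
  (.node (.node (.node (.node (.node .nil (nat_lit 1601) (nat_lit 9224) (nat_lit 1632) .nil) (nat_lit 1602)
  (nat_lit 8775) (nat_lit 1743) (.node .nil (nat_lit 1603) (nat_lit 5633) (nat_lit 1626) .nil)) (nat_lit 1604)
  (nat_lit 6999) (nat_lit 1734) (.node (.node .nil (nat_lit 1605) (nat_lit 6455) (nat_lit 1740) .nil) (nat_lit
  1606) (nat_lit 1591) (nat_lit 1737) (.node .nil (nat_lit 1607) (nat_lit 9976) (nat_lit 1643) .nil)))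
  (nat_lit 1608) (nat_lit 3687) (nat_lit 1739) (.node (.node (.node .nil (nat_lit 1609) (nat_lit 11255)
  (nat_lit 1729) .nil) (nat_lit 1610) (nat_lit 10072) (nat_lit 1638) (.node .nil (nat_lit 1611) (nat_lit 1735)
  (nat_lit 1742) .nil)) (nat_lit 1612) (nat_lit 7335) (nat_lit 1741) (.node (.node .nil (nat_lit 1613)
  (nat_lit 1607) (nat_lit 1735) .nil) (nat_lit 1614) (nat_lit 7319) (nat_lit 1730) (.node .nil (nat_lit 1615)
  (nat_lit 11543) (nat_lit 1736) .nil)))) (nat_lit 1616) (nat_lit 8375) (nat_lit 1746) (.node (.node (.node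
  (.node .nil (nat_lit 1617) (nat_lit 9111) (nat_lit 1752) .nil) (nat_lit 1618) (nat_lit 1159) (nat_lit 1757)
  (.node .nil (nat_lit 1619) (nat_lit 9383) (nat_lit 1751) .nil)) (nat_lit 1620) (nat_lit 919) (nat_lit 1748)
  (.node (.node .nil (nat_lit 1621) (nat_lit 8040) (nat_lit 1657) .nil) (nat_lit 1622) (nat_lit 8263) (nat_lit
  1755) (.node .nil (nat_lit 1623) (nat_lit 5575) (nat_lit 1745) .nil))) (nat_lit 1624) (nat_lit 9879)
  (nat_lit 1753) (.node (.node (.node .nil (nat_lit 1625) (nat_lit 1623) (nat_lit 1747) .nil) (nat_lit 1626)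
  (nat_lit 2471) (nat_lit 1750) (.node .nil (nat_lit 1627) (nat_lit 8816) (nat_lit 1653) .nil)) (nat_lit 1628)
  (nat_lit 7143) (nat_lit 1759) (.node (.node .nil (nat_lit 1629) (nat_lit 8535) (nat_lit 1749) .nil) (nat_lit
  1630) (nat_lit 8023) (nat_lit 1744) (.node .nil (nat_lit 1631) (nat_lit 1655) (nat_lit 1754) .nil)))))
  (nat_lit 1632) (nat_lit 5079) (nat_lit 1763) (.node (.node (.node (.node (.node .nil (nat_lit 1633) (nat_lit
  8487) (nat_lit 1769) .nil) (nat_lit 1634) (nat_lit 10004) (nat_lit 1636) (.node .nil (nat_lit 1635) (nat_lit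
  1303) (nat_lit 1766) .nil)) (nat_lit 1636) (nat_lit 5688) (nat_lit 1626) (.node (.node .nil (nat_lit 1637)
  (nat_lit 1351) (nat_lit 1775) .nil) (nat_lit 1638) (nat_lit 5751) (nat_lit 1770) (.node .nil (nat_lit 1639)
  (nat_lit 7927) (nat_lit 1760) .nil))) (nat_lit 1640) (nat_lit 1639) (nat_lit 1768) (.node (.node (.node .nil
  (nat_lit 1641) (nat_lit 9927) (nat_lit 1762) .nil) (nat_lit 1642) (nat_lit 11015) (nat_lit 1767) (.node .nil
  (nat_lit 1643) (nat_lit 5650) (nat_lit 1626) .nil)) (nat_lit 1644) (nat_lit 11207) (nat_lit 1774) (.node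
  (.node .nil (nat_lit 1645) (nat_lit 7063) (nat_lit 1764) .nil) (nat_lit 1646) (nat_lit 1447) (nat_lit 1761)
  (.node .nil (nat_lit 1647) (nat_lit 5623) (nat_lit 1771) .nil)))) (nat_lit 1648) (nat_lit 9207) (nat_lit
  1777) (.node (.node (.node (.node .nil (nat_lit 1649) (nat_lit 1079) (nat_lit 1787) .nil) (nat_lit 1650)
  (nat_lit 5239) (nat_lit 1790) (.node .nil (nat_lit 1651) (nat_lit 11079) (nat_lit 1780) .nil)) (nat_lit
  1652) (nat_lit 5511) (nat_lit 1783) (.node (.node .nil (nat_lit 1653) (nat_lit 4791) (nat_lit 1789) .nil)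
  (nat_lit 1654) (nat_lit 7352) (nat_lit 1608) (.node .nil (nat_lit 1655) (nat_lit 1303) (nat_lit 1778)
  .nil))) (nat_lit 1656) (nat_lit 8856) (nat_lit 1653) (.node (.node (.node .nil (nat_lit 1657) (nat_lit 4263)
  (nat_lit 1776) .nil) (nat_lit 1658) (nat_lit 1399) (nat_lit 1781) (.node .nil (nat_lit 1659) (nat_lit 8983)
  (nat_lit 1791) .nil)) (nat_lit 1660) (nat_lit 1351) (nat_lit 1788) (.node (.node .nil (nat_lit 1661)
  (nat_lit 9958) (nat_lit 1643) .nil) (nat_lit 1662) (nat_lit 10439) (nat_lit 1779) (.node .nil (nat_lit 1663)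
  (nat_lit 6727) (nat_lit 1785) .nil)))))))
def tJ6_13 : T := (.node (.node (.node (.node (.node (.node (.node .nil (nat_lit 1665) (nat_lit 2503) (nat_lit
  1354) .nil) (nat_lit 1666) (nat_lit 2535) (nat_lit 1359) (.node .nil (nat_lit 1667) (nat_lit 2631) (nat_lit
  1349) .nil)) (nat_lit 1668) (nat_lit 16663) (nat_lit 1350) (.node (.node .nil (nat_lit 1669) (nat_lit 13527)
  (nat_lit 1356) .nil) (nat_lit 1670) (nat_lit 16151) (nat_lit 1353) (.node .nil (nat_lit 1671) (nat_lit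
  16599) (nat_lit 1347) .nil))) (nat_lit 1672) (nat_lit 17575) (nat_lit 1355) (.node (.node (.node .nil
  (nat_lit 1673) (nat_lit 15735) (nat_lit 1345) .nil) (nat_lit 1674) (nat_lit 12711) (nat_lit 1348) (.node
  .nil (nat_lit 1675) (nat_lit 15463) (nat_lit 1358) .nil)) (nat_lit 1676) (nat_lit 13447) (nat_lit 1357)
  (.node (.node .nil (nat_lit 1677) (nat_lit 12967) (nat_lit 1351) .nil) (nat_lit 1678) (nat_lit 13399)
  (nat_lit 1346) (.node .nil (nat_lit 1679) (nat_lit 9847) (nat_lit 1352) .nil)))) (nat_lit 1680) (nat_lit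
  16471) (nat_lit 1362) (.node (.node (.node (.node .nil (nat_lit 1681) (nat_lit 16807) (nat_lit 1368) .nil)
  (nat_lit 1682) (nat_lit 17126) (nat_lit 1713) (.node .nil (nat_lit 1683) (nat_lit 18167) (nat_lit 1367)
  .nil)) (nat_lit 1684) (nat_lit 2471) (nat_lit 1364) (.node (.node .nil (nat_lit 1685) (nat_lit 2375)
  (nat_lit 1374) .nil) (nat_lit 1686) (nat_lit 2823) (nat_lit 1371) (.node .nil (nat_lit 1687) (nat_lit 2663)
  (nat_lit 1361) .nil))) (nat_lit 1688) (nat_lit 13079) (nat_lit 1369) (.node (.node (.node .nil (nat_lit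
  1689) (nat_lit 14433) (nat_lit 688) .nil) (nat_lit 1690) (nat_lit 11479) (nat_lit 1366) (.node .nil (nat_lit
  1691) (nat_lit 13127) (nat_lit 1372) .nil)) (nat_lit 1692) (nat_lit 17527) (nat_lit 1375) (.node (.node .nil
  (nat_lit 1693) (nat_lit 15559) (nat_lit 1365) .nil) (nat_lit 1694) (nat_lit 15639) (nat_lit 1360) (.node
  .nil (nat_lit 1695) (nat_lit 15127) (nat_lit 1370) .nil))))) (nat_lit 1696) (nat_lit 15367) (nat_lit 1379)
  (.node (.node (.node (.node (.node .nil (nat_lit 1697) (nat_lit 17975) (nat_lit 1385) .nil) (nat_lit 1698)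
  (nat_lit 15831) (nat_lit 1388) (.node .nil (nat_lit 1699) (nat_lit 15873) (nat_lit 1674) .nil)) (nat_lit
  1700) (nat_lit 14199) (nat_lit 1381) (.node (.node .nil (nat_lit 1701) (nat_lit 12039) (nat_lit 1391) .nil)
  (nat_lit 1702) (nat_lit 13697) (nat_lit 1679) (.node .nil (nat_lit 1703) (nat_lit 14407) (nat_lit 1376)
  .nil))) (nat_lit 1704) (nat_lit 2823) (nat_lit 1384) (.node (.node (.node .nil (nat_lit 1705) (nat_lit 2503)
  (nat_lit 1378) .nil) (nat_lit 1706) (nat_lit 2471) (nat_lit 1383) (.node .nil (nat_lit 1707) (nat_lit 2791)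
  (nat_lit 1389) .nil)) (nat_lit 1708) (nat_lit 16279) (nat_lit 1390) (.node (.node .nil (nat_lit 1709)
  (nat_lit 16343) (nat_lit 1380) .nil) (nat_lit 1710) (nat_lit 17776) (nat_lit 656) (.node .nil (nat_lit 1711)
  (nat_lit 14679) (nat_lit 1387) .nil)))) (nat_lit 1712) (nat_lit 13239) (nat_lit 1393) (.node (.node (.node
  (.node .nil (nat_lit 1713) (nat_lit 13680) (nat_lit 1679) .nil) (nat_lit 1714) (nat_lit 14727) (nat_lit
  1406) (.node .nil (nat_lit 1715) (nat_lit 14279) (nat_lit 1396) .nil)) (nat_lit 1716) (nat_lit 15527)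
  (nat_lit 1399) (.node (.node .nil (nat_lit 1717) (nat_lit 14535) (nat_lit 1405) .nil) (nat_lit 1718)
  (nat_lit 15607) (nat_lit 1400) (.node .nil (nat_lit 1719) (nat_lit 17511) (nat_lit 1394) .nil))) (nat_lit
  1720) (nat_lit 17671) (nat_lit 1402) (.node (.node (.node .nil (nat_lit 1721) (nat_lit 17751) (nat_lit 1392)
  .nil) (nat_lit 1722) (nat_lit 15175) (nat_lit 1397) (.node .nil (nat_lit 1723) (nat_lit 16039) (nat_lit
  1407) .nil)) (nat_lit 1724) (nat_lit 2567) (nat_lit 1404) (.node (.node .nil (nat_lit 1725) (nat_lit 2807)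
  (nat_lit 1398) .nil) (nat_lit 1726) (nat_lit 2231) (nat_lit 1395) (.node .nil (nat_lit 1727) (nat_lit 2343)
  (nat_lit 1401) .nil)))))) (nat_lit 1728) (nat_lit 408) (nat_lit 128) (.node (.node (.node (.node (.node
  (.node .nil (nat_lit 1729) (nat_lit 6981) (nat_lit 1734) .nil) (nat_lit 1730) (nat_lit 3652) (nat_lit 1739)
  (.node .nil (nat_lit 1731) (nat_lit 7302) (nat_lit 1730) .nil)) (nat_lit 1732) (nat_lit 6438) (nat_lit 1740)
  (.node (.node .nil (nat_lit 1733) (nat_lit 4081) (nat_lit 740) .nil) (nat_lit 1734) (nat_lit 3432) (nat_lit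
  139) (.node .nil (nat_lit 1735) (nat_lit 885) (nat_lit 1728) .nil))) (nat_lit 1736) (nat_lit 7400) (nat_lit
  182) (.node (.node (.node .nil (nat_lit 1737) (nat_lit 868) (nat_lit 1728) .nil) (nat_lit 1738) (nat_lit
  5585) (nat_lit 1771) (.node .nil (nat_lit 1739) (nat_lit 1384) (nat_lit 134) .nil)) (nat_lit 1740) (nat_lit
  3089) (nat_lit 749) (.node (.node .nil (nat_lit 1741) (nat_lit 3670) (nat_lit 1739) .nil) (nat_lit 1742)
  (nat_lit 984) (nat_lit 189) (.node .nil (nat_lit 1743) (nat_lit 4736) (nat_lit 1789) .nil)))) (nat_lit 1744)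
  (nat_lit 4246) (nat_lit 1776) (.node (.node (.node (.node .nil (nat_lit 1745) (nat_lit 2437) (nat_lit 1750)
  .nil) (nat_lit 1746) (nat_lit 4536) (nat_lit 146) (.node .nil (nat_lit 1747) (nat_lit 885) (nat_lit 1748)
  .nil)) (nat_lit 1748) (nat_lit 440) (nat_lit 153) (.node (.node .nil (nat_lit 1749) (nat_lit 4648) (nat_lit
  185) .nil) (nat_lit 1750) (nat_lit 696) (nat_lit 137) (.node .nil (nat_lit 1751) (nat_lit 5222) (nat_lit
  1790) .nil))) (nat_lit 1752) (nat_lit 4961) (nat_lit 761) (.node (.node (.node .nil (nat_lit 1753) (nat_lit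
  5494) (nat_lit 1783) .nil) (nat_lit 1754) (nat_lit 936) (nat_lit 164) (.node .nil (nat_lit 1755) (nat_lit
  4456) (nat_lit 132) .nil)) (nat_lit 1756) (nat_lit 7048) (nat_lit 175) (.node (.node .nil (nat_lit 1757)
  (nat_lit 600) (nat_lit 143) .nil) (nat_lit 1758) (nat_lit 6710) (nat_lit 1785) (.node .nil (nat_lit 1759)
  (nat_lit 3576) (nat_lit 159) .nil))))) (nat_lit 1760) (nat_lit 4168) (nat_lit 129) (.node (.node (.node
  (.node (.node .nil (nat_lit 1761) (nat_lit 792) (nat_lit 161) .nil) (nat_lit 1762) (nat_lit 5558) (nat_lit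
  1745) (.node .nil (nat_lit 1763) (nat_lit 2232) (nat_lit 177) .nil)) (nat_lit 1764) (nat_lit 3512) (nat_lit
  154) (.node (.node .nil (nat_lit 1765) (nat_lit 7126) (nat_lit 1759) .nil) (nat_lit 1766) (nat_lit 696)
  (nat_lit 138) (.node .nil (nat_lit 1767) (nat_lit 6664) (nat_lit 170) .nil))) (nat_lit 1768) (nat_lit 902)
  (nat_lit 1748) (.node (.node (.node .nil (nat_lit 1769) (nat_lit 4616) (nat_lit 151) .nil) (nat_lit 1770)
  (nat_lit 2552) (nat_lit 167) (.node .nil (nat_lit 1771) (nat_lit 2454) (nat_lit 1750) .nil)) (nat_lit 1772)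
  (nat_lit 9094) (nat_lit 1752) (.node (.node .nil (nat_lit 1773) (nat_lit 3288) (nat_lit 140) .nil) (nat_lit
  1774) (nat_lit 6936) (nat_lit 188) (.node .nil (nat_lit 1775) (nat_lit 728) (nat_lit 156) .nil)))) (nat_lit
  1776) (nat_lit 1784) (nat_lit 131) (.node (.node (.node (.node .nil (nat_lit 1777) (nat_lit 5062) (nat_lit
  1763) .nil) (nat_lit 1778) (nat_lit 696) (nat_lit 147) (.node .nil (nat_lit 1779) (nat_lit 6104) (nat_lit
  179) .nil)) (nat_lit 1780) (nat_lit 6792) (nat_lit 152) (.node (.node .nil (nat_lit 1781) (nat_lit 760)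
  (nat_lit 184) .nil) (nat_lit 1782) (nat_lit 6742) (nat_lit 1773) (.node .nil (nat_lit 1783) (nat_lit 2401)
  (nat_lit 1750) .nil))) (nat_lit 1784) (nat_lit 7032) (nat_lit 181) (.node (.node (.node .nil (nat_lit 1785)
  (nat_lit 3272) (nat_lit 149) .nil) (nat_lit 1786) (nat_lit 7112) (nat_lit 165) (.node .nil (nat_lit 1787)
  (nat_lit 536) (nat_lit 133) .nil)) (nat_lit 1788) (nat_lit 728) (nat_lit 174) (.node (.node .nil (nat_lit
  1789) (nat_lit 2072) (nat_lit 142) .nil) (nat_lit 1790) (nat_lit 2312) (nat_lit 190) (.node .nil (nat_lit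
  1791) (nat_lit 4888) (nat_lit 158) .nil)))))))
def tJ6_14 : T := (.node (.node (.node (.node (.node (.node (.node .nil (nat_lit 1793) (nat_lit 13672)
  (nat_lit 352) .nil) (nat_lit 1794) (nat_lit 15304) (nat_lit 336) (.node .nil (nat_lit 1795) (nat_lit 17080)
  (nat_lit 368) .nil)) (nat_lit 1796) (nat_lit 2712) (nat_lit 347) (.node (.node .nil (nat_lit 1797) (nat_lit
  13048) (nat_lit 379) .nil) (nat_lit 1798) (nat_lit 15512) (nat_lit 331) (.node .nil (nat_lit 1799) (nat_lit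
  16760) (nat_lit 363) .nil))) (nat_lit 1800) (nat_lit 2648) (nat_lit 374) (.node (.node (.node .nil (nat_lit
  1801) (nat_lit 13944) (nat_lit 342) .nil) (nat_lit 1802) (nat_lit 15784) (nat_lit 358) (.node .nil (nat_lit
  1803) (nat_lit 17416) (nat_lit 326) .nil)) (nat_lit 1804) (nat_lit 2392) (nat_lit 365) (.node (.node .nil
  (nat_lit 1805) (nat_lit 13864) (nat_lit 333) .nil) (nat_lit 1806) (nat_lit 15688) (nat_lit 381) (.node .nil
  (nat_lit 1807) (nat_lit 16232) (nat_lit 349) .nil)))) (nat_lit 1808) (nat_lit 12920) (nat_lit 322) (.node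
  (.node (.node (.node .nil (nat_lit 1809) (nat_lit 2680) (nat_lit 354) .nil) (nat_lit 1810) (nat_lit 14344)
  (nat_lit 338) (.node .nil (nat_lit 1811) (nat_lit 15937) (nat_lit 795) .nil)) (nat_lit 1812) (nat_lit 13624)
  (nat_lit 345) (.node (.node .nil (nat_lit 1813) (nat_lit 2552) (nat_lit 377) .nil) (nat_lit 1814) (nat_lit
  18088) (nat_lit 329) (.node .nil (nat_lit 1815) (nat_lit 15920) (nat_lit 795) .nil))) (nat_lit 1816)
  (nat_lit 11752) (nat_lit 372) (.node (.node (.node .nil (nat_lit 1817) (nat_lit 2456) (nat_lit 340) .nil)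
  (nat_lit 1818) (nat_lit 15064) (nat_lit 356) (.node .nil (nat_lit 1819) (nat_lit 15720) (nat_lit 324) .nil))
  (nat_lit 1820) (nat_lit 13192) (nat_lit 367) (.node (.node .nil (nat_lit 1821) (nat_lit 2424) (nat_lit 335)
  .nil) (nat_lit 1822) (nat_lit 16968) (nat_lit 383) (.node .nil (nat_lit 1823) (nat_lit 17302) (nat_lit 1850)
  .nil))))) (nat_lit 1824) (nat_lit 16072) (nat_lit 321) (.node (.node (.node (.node (.node .nil (nat_lit
  1825) (nat_lit 16864) (nat_lit 813) .nil) (nat_lit 1826) (nat_lit 2616) (nat_lit 337) (.node .nil (nat_lit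
  1827) (nat_lit 10920) (nat_lit 369) .nil)) (nat_lit 1828) (nat_lit 15256) (nat_lit 346) (.node (.node .nil
  (nat_lit 1829) (nat_lit 16917) (nat_lit 813) .nil) (nat_lit 1830) (nat_lit 2360) (nat_lit 330) (.node .nil
  (nat_lit 1831) (nat_lit 13592) (nat_lit 362) .nil))) (nat_lit 1832) (nat_lit 17030) (nat_lit 1812) (.node
  (.node (.node .nil (nat_lit 1833) (nat_lit 17640) (nat_lit 343) .nil) (nat_lit 1834) (nat_lit 2456) (nat_lit
  359) (.node .nil (nat_lit 1835) (nat_lit 14616) (nat_lit 327) .nil)) (nat_lit 1836) (nat_lit 14840) (nat_lit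
  364) (.node (.node .nil (nat_lit 1837) (nat_lit 16552) (nat_lit 332) .nil) (nat_lit 1838) (nat_lit 2424)
  (nat_lit 380) (.node .nil (nat_lit 1839) (nat_lit 11928) (nat_lit 348) .nil)))) (nat_lit 1840) (nat_lit
  16104) (nat_lit 323) (.node (.node (.node (.node .nil (nat_lit 1841) (nat_lit 14136) (nat_lit 355) .nil)
  (nat_lit 1842) (nat_lit 14392) (nat_lit 339) (.node .nil (nat_lit 1843) (nat_lit 2584) (nat_lit 371) .nil))
  (nat_lit 1844) (nat_lit 14904) (nat_lit 344) (.node (.node .nil (nat_lit 1845) (nat_lit 15000) (nat_lit 376)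
  .nil) (nat_lit 1846) (nat_lit 13368) (nat_lit 328) (.node .nil (nat_lit 1847) (nat_lit 2712) (nat_lit 360)
  .nil))) (nat_lit 1848) (nat_lit 16424) (nat_lit 373) (.node (.node (.node .nil (nat_lit 1849) (nat_lit
  15816) (nat_lit 341) .nil) (nat_lit 1850) (nat_lit 13780) (nat_lit 822) (.node .nil (nat_lit 1851) (nat_lit
  2753) (nat_lit 819) .nil)) (nat_lit 1852) (nat_lit 16792) (nat_lit 366) (.node (.node .nil (nat_lit 1853)
  (nat_lit 18024) (nat_lit 334) .nil) (nat_lit 1854) (nat_lit 13761) (nat_lit 822) (.node .nil (nat_lit 1855)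
  (nat_lit 2736) (nat_lit 819) .nil)))))) (nat_lit 1856) (nat_lit 856) (nat_lit 256) (.node (.node (.node
  (.node (.node (.node .nil (nat_lit 1857) (nat_lit 9174) (nat_lit 1859) .nil) (nat_lit 1858) (nat_lit 8360)
  (nat_lit 272) (.node .nil (nat_lit 1859) (nat_lit 5048) (nat_lit 304) .nil)) (nat_lit 1860) (nat_lit 1336)
  (nat_lit 283) (.node (.node .nil (nat_lit 1861) (nat_lit 9702) (nat_lit 1871) .nil) (nat_lit 1862) (nat_lit
  4728) (nat_lit 267) (.node .nil (nat_lit 1863) (nat_lit 5445) (nat_lit 1867) .nil))) (nat_lit 1864) (nat_lit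
  1384) (nat_lit 310) (.node (.node (.node .nil (nat_lit 1865) (nat_lit 9734) (nat_lit 1863) .nil) (nat_lit
  1866) (nat_lit 8741) (nat_lit 1862) (.node .nil (nat_lit 1867) (nat_lit 2392) (nat_lit 262) .nil)) (nat_lit
  1868) (nat_lit 1557) (nat_lit 1856) (.node (.node .nil (nat_lit 1869) (nat_lit 5462) (nat_lit 1867) .nil)
  (nat_lit 1870) (nat_lit 11528) (nat_lit 317) (.node .nil (nat_lit 1871) (nat_lit 5428) (nat_lit 1867)
  .nil)))) (nat_lit 1872) (nat_lit 1144) (nat_lit 258) (.node (.node (.node (.node .nil (nat_lit 1873)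
  (nat_lit 11702) (nat_lit 1907) .nil) (nat_lit 1874) (nat_lit 8600) (nat_lit 274) (.node .nil (nat_lit 1875)
  (nat_lit 5208) (nat_lit 306) .nil)) (nat_lit 1876) (nat_lit 1288) (nat_lit 281) (.node (.node .nil (nat_lit
  1877) (nat_lit 10790) (nat_lit 1919) .nil) (nat_lit 1878) (nat_lit 7912) (nat_lit 265) (.node .nil (nat_lit
  1879) (nat_lit 7253) (nat_lit 1883) .nil))) (nat_lit 1880) (nat_lit 1574) (nat_lit 1908) (.node (.node
  (.node .nil (nat_lit 1881) (nat_lit 10822) (nat_lit 1911) .nil) (nat_lit 1882) (nat_lit 10472) (nat_lit 292)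
  (.node .nil (nat_lit 1883) (nat_lit 3640) (nat_lit 260) .nil)) (nat_lit 1884) (nat_lit 1832) (nat_lit 303)
  (.node (.node .nil (nat_lit 1885) (nat_lit 9510) (nat_lit 1915) .nil) (nat_lit 1886) (nat_lit 8520) (nat_lit
  319) (.node .nil (nat_lit 1887) (nat_lit 5272) (nat_lit 287) .nil))))) (nat_lit 1888) (nat_lit 1288)
  (nat_lit 257) (.node (.node (.node (.node (.node .nil (nat_lit 1889) (nat_lit 9350) (nat_lit 1875) .nil)
  (nat_lit 1890) (nat_lit 11064) (nat_lit 273) (.node .nil (nat_lit 1891) (nat_lit 7512) (nat_lit 305) .nil))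
  (nat_lit 1892) (nat_lit 1688) (nat_lit 282) (.node (.node .nil (nat_lit 1893) (nat_lit 9414) (nat_lit 1887)
  .nil) (nat_lit 1894) (nat_lit 8248) (nat_lit 266) (.node .nil (nat_lit 1895) (nat_lit 5736) (nat_lit 298)
  .nil))) (nat_lit 1896) (nat_lit 1861) (nat_lit 868) (.node (.node (.node .nil (nat_lit 1897) (nat_lit 11414)
  (nat_lit 1879) .nil) (nat_lit 1898) (nat_lit 10549) (nat_lit 870) (.node .nil (nat_lit 1899) (nat_lit 4216)
  (nat_lit 263) .nil)) (nat_lit 1900) (nat_lit 1336) (nat_lit 300) (.node (.node .nil (nat_lit 1901) (nat_lit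
  7270) (nat_lit 1883) .nil) (nat_lit 1902) (nat_lit 11192) (nat_lit 316) (.node .nil (nat_lit 1903) (nat_lit
  6312) (nat_lit 284) .nil)))) (nat_lit 1904) (nat_lit 1048) (nat_lit 259) (.node (.node (.node (.node .nil
  (nat_lit 1905) (nat_lit 11638) (nat_lit 1891) .nil) (nat_lit 1906) (nat_lit 8472) (nat_lit 275) (.node .nil
  (nat_lit 1907) (nat_lit 7572) (nat_lit 887) .nil)) (nat_lit 1908) (nat_lit 856) (nat_lit 280) (.node (.node
  .nil (nat_lit 1909) (nat_lit 10678) (nat_lit 1903) .nil) (nat_lit 1910) (nat_lit 6968) (nat_lit 264) (.node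
  .nil (nat_lit 1911) (nat_lit 6389) (nat_lit 891) .nil))) (nat_lit 1912) (nat_lit 1720) (nat_lit 309) (.node
  (.node (.node .nil (nat_lit 1913) (nat_lit 8968) (nat_lit 277) .nil) (nat_lit 1914) (nat_lit 8568) (nat_lit
  293) (.node .nil (nat_lit 1915) (nat_lit 5336) (nat_lit 261) .nil)) (nat_lit 1916) (nat_lit 1432) (nat_lit
  302) (.node (.node .nil (nat_lit 1917) (nat_lit 7974) (nat_lit 1899) .nil) (nat_lit 1918) (nat_lit 10424)
  (nat_lit 318) (.node .nil (nat_lit 1919) (nat_lit 6372) (nat_lit 891) .nil)))))))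
def tJ6_15 : T := (.node (.node (.node (.node (.node (.node (.node .nil (nat_lit 1921) (nat_lit 3735) (nat_lit
  1482) .nil) (nat_lit 1922) (nat_lit 3671) (nat_lit 1487) (.node .nil (nat_lit 1923) (nat_lit 3415) (nat_lit
  1477) .nil)) (nat_lit 1924) (nat_lit 20711) (nat_lit 1478) (.node (.node .nil (nat_lit 1925) (nat_lit 20615)
  (nat_lit 1484) .nil) (nat_lit 1926) (nat_lit 20359) (nat_lit 1481) (.node .nil (nat_lit 1927) (nat_lit
  19431) (nat_lit 1475) .nil))) (nat_lit 1928) (nat_lit 21783) (nat_lit 1483) (.node (.node (.node .nil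
  (nat_lit 1929) (nat_lit 21111) (nat_lit 1473) .nil) (nat_lit 1930) (nat_lit 21655) (nat_lit 1476) (.node
  .nil (nat_lit 1931) (nat_lit 21559) (nat_lit 1486) .nil)) (nat_lit 1932) (nat_lit 22471) (nat_lit 1485)
  (.node (.node .nil (nat_lit 1933) (nat_lit 22791) (nat_lit 1479) .nil) (nat_lit 1934) (nat_lit 22199)
  (nat_lit 1474) (.node .nil (nat_lit 1935) (nat_lit 22695) (nat_lit 1480) .nil)))) (nat_lit 1936) (nat_lit
  3447) (nat_lit 1490) (.node (.node (.node (.node .nil (nat_lit 1937) (nat_lit 3479) (nat_lit 1496) .nil)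
  (nat_lit 1938) (nat_lit 3575) (nat_lit 1501) (.node .nil (nat_lit 1939) (nat_lit 3703) (nat_lit 1495) .nil))
  (nat_lit 1940) (nat_lit 20295) (nat_lit 1492) (.node (.node .nil (nat_lit 1941) (nat_lit 19287) (nat_lit
  1502) .nil) (nat_lit 1942) (nat_lit 19623) (nat_lit 1499) (.node .nil (nat_lit 1943) (nat_lit 18327)
  (nat_lit 1489) .nil))) (nat_lit 1944) (nat_lit 22039) (nat_lit 1497) (.node (.node (.node .nil (nat_lit
  1945) (nat_lit 22023) (nat_lit 1491) .nil) (nat_lit 1946) (nat_lit 21400) (nat_lit 1956) (.node .nil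
  (nat_lit 1947) (nat_lit 22855) (nat_lit 1500) .nil)) (nat_lit 1948) (nat_lit 21383) (nat_lit 1503) (.node
  (.node .nil (nat_lit 1949) (nat_lit 22759) (nat_lit 1493) .nil) (nat_lit 1950) (nat_lit 20983) (nat_lit
  1488) (.node .nil (nat_lit 1951) (nat_lit 22705) (nat_lit 943) .nil))))) (nat_lit 1952) (nat_lit 3383)
  (nat_lit 1507) (.node (.node (.node (.node (.node .nil (nat_lit 1953) (nat_lit 3639) (nat_lit 1513) .nil)
  (nat_lit 1954) (nat_lit 3447) (nat_lit 1516) (.node .nil (nat_lit 1955) (nat_lit 3479) (nat_lit 1510) .nil))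
  (nat_lit 1956) (nat_lit 18423) (nat_lit 1509) (.node (.node .nil (nat_lit 1957) (nat_lit 20624) (nat_lit
  949) .nil) (nat_lit 1958) (nat_lit 20263) (nat_lit 1514) (.node .nil (nat_lit 1959) (nat_lit 17943) (nat_lit
  1504) .nil))) (nat_lit 1960) (nat_lit 22071) (nat_lit 1512) (.node (.node (.node .nil (nat_lit 1961)
  (nat_lit 21287) (nat_lit 1506) .nil) (nat_lit 1962) (nat_lit 21096) (nat_lit 1959) (.node .nil (nat_lit
  1963) (nat_lit 21527) (nat_lit 1517) .nil)) (nat_lit 1964) (nat_lit 22615) (nat_lit 1518) (.node (.node .nil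
  (nat_lit 1965) (nat_lit 22663) (nat_lit 1508) .nil) (nat_lit 1966) (nat_lit 22951) (nat_lit 1505) (.node
  .nil (nat_lit 1967) (nat_lit 22375) (nat_lit 1515) .nil)))) (nat_lit 1968) (nat_lit 3799) (nat_lit 1521)
  (.node (.node (.node (.node .nil (nat_lit 1969) (nat_lit 3783) (nat_lit 1531) .nil) (nat_lit 1970) (nat_lit
  3607) (nat_lit 1534) (.node .nil (nat_lit 1971) (nat_lit 3735) (nat_lit 1524) .nil)) (nat_lit 1972) (nat_lit
  21015) (nat_lit 1527) (.node (.node .nil (nat_lit 1973) (nat_lit 19767) (nat_lit 1533) .nil) (nat_lit 1974)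
  (nat_lit 20567) (nat_lit 1528) (.node .nil (nat_lit 1975) (nat_lit 20535) (nat_lit 1522) .nil))) (nat_lit
  1976) (nat_lit 21351) (nat_lit 1530) (.node (.node (.node .nil (nat_lit 1977) (nat_lit 20791) (nat_lit 1520)
  .nil) (nat_lit 1978) (nat_lit 22871) (nat_lit 1525) (.node .nil (nat_lit 1979) (nat_lit 21879) (nat_lit
  1535) .nil)) (nat_lit 1980) (nat_lit 22503) (nat_lit 1532) (.node (.node .nil (nat_lit 1981) (nat_lit 22311)
  (nat_lit 1526) .nil) (nat_lit 1982) (nat_lit 21319) (nat_lit 1523) (.node .nil (nat_lit 1983) (nat_lit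
  22135) (nat_lit 1529) .nil)))))) (nat_lit 1984) (nat_lit 2087) (nat_lit 1536) (.node (.node (.node (.node
  (.node (.node .nil (nat_lit 1985) (nat_lit 10247) (nat_lit 1546) .nil) (nat_lit 1986) (nat_lit 12519)
  (nat_lit 1551) (.node .nil (nat_lit 1987) (nat_lit 15015) (nat_lit 1541) .nil)) (nat_lit 1988) (nat_lit
  11880) (nat_lit 2011) (.node (.node .nil (nat_lit 1989) (nat_lit 16007) (nat_lit 1548) .nil) (nat_lit 1990)
  (nat_lit 1927) (nat_lit 1545) (.node .nil (nat_lit 1991) (nat_lit 6359) (nat_lit 1539) .nil))) (nat_lit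
  1992) (nat_lit 15030) (nat_lit 1988) (.node (.node (.node .nil (nat_lit 1993) (nat_lit 10519) (nat_lit 1537)
  .nil) (nat_lit 1994) (nat_lit 10711) (nat_lit 1540) (.node .nil (nat_lit 1995) (nat_lit 2144) (nat_lit 983)
  .nil)) (nat_lit 1996) (nat_lit 9447) (nat_lit 1549) (.node (.node .nil (nat_lit 1997) (nat_lit 2023)
  (nat_lit 1543) .nil) (nat_lit 1998) (nat_lit 13959) (nat_lit 1538) (.node .nil (nat_lit 1999) (nat_lit
  13000) (nat_lit 2013) .nil)))) (nat_lit 2000) (nat_lit 9047) (nat_lit 1554) (.node (.node (.node (.node .nil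
  (nat_lit 2001) (nat_lit 1927) (nat_lit 1560) .nil) (nat_lit 2002) (nat_lit 15415) (nat_lit 1565) (.node .nil
  (nat_lit 2003) (nat_lit 12592) (nat_lit 975) .nil)) (nat_lit 2004) (nat_lit 14791) (nat_lit 1556) (.node
  (.node .nil (nat_lit 2005) (nat_lit 13288) (nat_lit 2041) .nil) (nat_lit 2006) (nat_lit 10199) (nat_lit
  1563) (.node .nil (nat_lit 2007) (nat_lit 2055) (nat_lit 1553) .nil))) (nat_lit 2008) (nat_lit 12567)
  (nat_lit 1561) (.node (.node (.node .nil (nat_lit 2009) (nat_lit 14870) (nat_lit 2039) .nil) (nat_lit 2010)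
  (nat_lit 1815) (nat_lit 1558) (.node .nil (nat_lit 2011) (nat_lit 7799) (nat_lit 1564) .nil)) (nat_lit 2012)
  (nat_lit 1847) (nat_lit 1567) (.node (.node .nil (nat_lit 2013) (nat_lit 9271) (nat_lit 1557) .nil) (nat_lit
  2014) (nat_lit 12119) (nat_lit 1552) (.node .nil (nat_lit 2015) (nat_lit 14967) (nat_lit 1562) .nil)))))
  (nat_lit 2016) (nat_lit 12855) (nat_lit 1571) (.node (.node (.node (.node (.node .nil (nat_lit 2017)
  (nat_lit 14855) (nat_lit 1577) .nil) (nat_lit 2018) (nat_lit 1895) (nat_lit 1580) (.node .nil (nat_lit 2019)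
  (nat_lit 9559) (nat_lit 1574) .nil)) (nat_lit 2020) (nat_lit 2135) (nat_lit 1573) (.node (.node .nil
  (nat_lit 2021) (nat_lit 10103) (nat_lit 1583) .nil) (nat_lit 2022) (nat_lit 12551) (nat_lit 1578) (.node
  .nil (nat_lit 2023) (nat_lit 14055) (nat_lit 1568) .nil))) (nat_lit 2024) (nat_lit 7559) (nat_lit 1576)
  (.node (.node (.node .nil (nat_lit 2025) (nat_lit 2119) (nat_lit 1570) .nil) (nat_lit 2026) (nat_lit 15271)
  (nat_lit 1575) (.node .nil (nat_lit 2027) (nat_lit 10776) (nat_lit 1991) .nil)) (nat_lit 2028) (nat_lit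
  14807) (nat_lit 1582) (.node (.node .nil (nat_lit 2029) (nat_lit 11815) (nat_lit 1572) .nil) (nat_lit 2030)
  (nat_lit 10743) (nat_lit 1569) (.node .nil (nat_lit 2031) (nat_lit 2161) (nat_lit 983) .nil)))) (nat_lit
  2032) (nat_lit 15319) (nat_lit 1585) (.node (.node (.node (.node .nil (nat_lit 2033) (nat_lit 13271)
  (nat_lit 1595) .nil) (nat_lit 2034) (nat_lit 9601) (nat_lit 970) (.node .nil (nat_lit 2035) (nat_lit 2135)
  (nat_lit 1588) .nil)) (nat_lit 2036) (nat_lit 11287) (nat_lit 1591) (.node (.node .nil (nat_lit 2037)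
  (nat_lit 1895) (nat_lit 1597) .nil) (nat_lit 2038) (nat_lit 14951) (nat_lit 1592) (.node .nil (nat_lit 2039)
  (nat_lit 11688) (nat_lit 2024) .nil))) (nat_lit 2040) (nat_lit 2263) (nat_lit 1594) (.node (.node (.node
  .nil (nat_lit 2041) (nat_lit 9575) (nat_lit 1584) .nil) (nat_lit 2042) (nat_lit 12343) (nat_lit 1589) (.node
  .nil (nat_lit 2043) (nat_lit 15399) (nat_lit 1599) .nil)) (nat_lit 2044) (nat_lit 11575) (nat_lit 1596)
  (.node (.node .nil (nat_lit 2045) (nat_lit 14230) (nat_lit 2027) .nil) (nat_lit 2046) (nat_lit 2087)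
  (nat_lit 1587) (.node .nil (nat_lit 2047) (nat_lit 11319) (nat_lit 1593) .nil)))))))
def tJ6 : T := (.node (.node (.node (.node tJ6_0 (nat_lit 128) (nat_lit 103) (nat_lit 64) tJ6_1) (nat_lit 256)
  (nat_lit 391) (nat_lit 128) (.node tJ6_2 (nat_lit 384) (nat_lit 3271) (nat_lit 192) tJ6_3)) (nat_lit 512)
  (nat_lit 839) (nat_lit 256) (.node (.node tJ6_4 (nat_lit 640) (nat_lit 2599) (nat_lit 320) tJ6_5) (nat_lit
  768) (nat_lit 2248) (nat_lit 1344) (.node tJ6_6 (nat_lit 896) (nat_lit 3319) (nat_lit 448) tJ6_7))) (nat_lit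
  1024) (nat_lit 0) (nat_lit 1024) (.node (.node (.node tJ6_8 (nat_lit 1152) (nat_lit 402) (nat_lit 153)
  tJ6_9) (nat_lit 1280) (nat_lit 807) (nat_lit 1152) (.node tJ6_10 (nat_lit 1408) (nat_lit 3623) (nat_lit
  1216) tJ6_11)) (nat_lit 1536) (nat_lit 1463) (nat_lit 1280) (.node (.node tJ6_12 (nat_lit 1664) (nat_lit
  2231) (nat_lit 1344) tJ6_13) (nat_lit 1792) (nat_lit 2616) (nat_lit 320) (.node tJ6_14 (nat_lit 1920)
  (nat_lit 3639) (nat_lit 1472) tJ6_15))))
/-- Table of orbits. -/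
def clT6 : ℕ := nat_lit 0x54555556556545556555554555565455555656554555554555656555565555565555555555554466555555555555644655555555555546465555555555556666555655545556555455565556555455545554555655565554555455545554555465556555455545555455565556555455556555455565554555565556555655565556455555455655455555565455556555455455555665555455554545555554464655555555555555554466555555555555555564465555555555555555444455565455655555455655555655454555455555655556545555454555545555545565565555544555555465555565545565555554565555455655556565555556545565555554556555545545565565555565555445555655655556555565555665555565555454555554565565555545565555545565455555656555565555565556554554556555554555564555565554554555555655654555545555455554555555554664555564645555555555555555664455555555555555555555666654555565455555565455554565555556565555454555555656555565655555565565555645555455545565555556554555565545565545556555565555655556545556555655545555655545556555456555655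545554555555655565556555623232222322333222323223322222332222222333223323222222222222222215655555455456555455555655554565555545455655555655545455554555554555555555555664455555555555546645555555555556464555555555555444455545556555455565554555455565556555655545554555655565556555655564555455565556555565554555455565555455565554555655554555455545554555465555565545565555554565555455565565555544555565555656555555664645555555555555555664455555555555555554664555555555555555566665554565545555565545555545565655565555545555456555565655556555556554554555556655555564555554556554555555654555565545555454555555456554555555655455556556554554555554555566555545545555455554555544555554555565655555654554555556554555556554565555545455554555554555455655655455555655554655554555655655555545545655556555565555655555555644655554646555555555555555544665555555555555555555544445655554565555554565555654555555454555565655555545455554545555554554555546555565556554555555455655554556554556555455554555545555456555455545556555545556555455565455545556555655555545554555455542323222232233322232322332222233222222233322332322222222222222220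
def tR6_0 : T := (.node (.node (.node (.node (.node (.node (.node .nil (nat_lit 64) (nat_lit 0) (nat_lit 64)
  .nil) (nat_lit 65) (nat_lit 1077) (nat_lit 240) (.node .nil (nat_lit 66) (nat_lit 15428) (nat_lit 164)
  .nil)) (nat_lit 67) (nat_lit 7013) (nat_lit 1276) (.node (.node .nil (nat_lit 68) (nat_lit 9364) (nat_lit
  141) .nil) (nat_lit 69) (nat_lit 10932) (nat_lit 1177) (.node .nil (nat_lit 70) (nat_lit 2515) (nat_lit 93)
  .nil))) (nat_lit 71) (nat_lit 2642) (nat_lit 117) (.node (.node (.node .nil (nat_lit 72) (nat_lit 768)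
  (nat_lit 1257) .nil) (nat_lit 73) (nat_lit 885) (nat_lit 1271) (.node .nil (nat_lit 74) (nat_lit 13908)
  (nat_lit 156) .nil)) (nat_lit 75) (nat_lit 19685) (nat_lit 251) (.node (.node .nil (nat_lit 76) (nat_lit
  13040) (nat_lit 249) .nil) (nat_lit 77) (nat_lit 13061) (nat_lit 249) (.node .nil (nat_lit 78) (nat_lit
  3411) (nat_lit 1109) .nil)))) (nat_lit 79) (nat_lit 3458) (nat_lit 1149) (.node (.node (.node (.node .nil
  (nat_lit 80) (nat_lit 9380) (nat_lit 141) .nil) (nat_lit 81) (nat_lit 10948) (nat_lit 1177) (.node .nil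
  (nat_lit 82) (nat_lit 2451) (nat_lit 73) .nil)) (nat_lit 83) (nat_lit 2578) (nat_lit 97) (.node (.node .nil
  (nat_lit 84) (nat_lit 8915) (nat_lit 79) .nil) (nat_lit 85) (nat_lit 1093) (nat_lit 240) (.node .nil
  (nat_lit 86) (nat_lit 15444) (nat_lit 164) .nil))) (nat_lit 87) (nat_lit 7029) (nat_lit 1276) (.node (.node
  (.node .nil (nat_lit 88) (nat_lit 13024) (nat_lit 237) .nil) (nat_lit 89) (nat_lit 13077) (nat_lit 249)
  (.node .nil (nat_lit 90) (nat_lit 3363) (nat_lit 1089) .nil)) (nat_lit 91) (nat_lit 19) (nat_lit 64) (.node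
  (.node .nil (nat_lit 92) (nat_lit 7282) (nat_lit 110) .nil) (nat_lit 93) (nat_lit 901) (nat_lit 1271)
  .nil)))) (nat_lit 94) (nat_lit 13924) (nat_lit 156) (.node (.node (.node (.node (.node .nil (nat_lit 95)
  (nat_lit 15457) (nat_lit 164) .nil) (nat_lit 96) (nat_lit 5890) (nat_lit 82) (.node .nil (nat_lit 97)
  (nat_lit 917) (nat_lit 1271) .nil)) (nat_lit 98) (nat_lit 21170) (nat_lit 80) (.node (.node .nil (nat_lit
  99) (nat_lit 13940) (nat_lit 156) .nil) (nat_lit 100) (nat_lit 13184) (nat_lit 1221) (.node .nil (nat_lit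
  101) (nat_lit 13093) (nat_lit 249) .nil))) (nat_lit 102) (nat_lit 3203) (nat_lit 125) (.node (.node (.node
  .nil (nat_lit 103) (nat_lit 3426) (nat_lit 1109) .nil) (nat_lit 104) (nat_lit 7714) (nat_lit 1114) (.node
  .nil (nat_lit 105) (nat_lit 1109) (nat_lit 240) .nil)) (nat_lit 106) (nat_lit 22149) (nat_lit 1268) (.node
  (.node .nil (nat_lit 107) (nat_lit 7045) (nat_lit 1276) .nil) (nat_lit 108) (nat_lit 10964) (nat_lit 1177)
  .nil))) (nat_lit 109) (nat_lit 9396) (nat_lit 141) (.node (.node (.node (.node .nil (nat_lit 110) (nat_lit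
  2899) (nat_lit 1141) .nil) (nat_lit 111) (nat_lit 2530) (nat_lit 93) (.node .nil (nat_lit 112) (nat_lit
  13200) (nat_lit 1233) .nil)) (nat_lit 113) (nat_lit 13109) (nat_lit 249) (.node (.node .nil (nat_lit 114)
  (nat_lit 3139) (nat_lit 105) .nil) (nat_lit 115) (nat_lit 3378) (nat_lit 1089) (.node .nil (nat_lit 116)
  (nat_lit 6050) (nat_lit 70) .nil))) (nat_lit 117) (nat_lit 933) (nat_lit 1271) (.node (.node (.node .nil
  (nat_lit 118) (nat_lit 21154) (nat_lit 68) .nil) (nat_lit 119) (nat_lit 13956) (nat_lit 156) (.node .nil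
  (nat_lit 120) (nat_lit 10980) (nat_lit 1177) .nil)) (nat_lit 121) (nat_lit 9412) (nat_lit 141) (.node (.node
  .nil (nat_lit 122) (nat_lit 848) (nat_lit 222) .nil) (nat_lit 123) (nat_lit 2466) (nat_lit 73) .nil)))))
  (nat_lit 124) (nat_lit 7858) (nat_lit 1102) (.node (.node (.node (.node (.node (.node .nil (nat_lit 125)
  (nat_lit 1125) (nat_lit 240) .nil) (nat_lit 126) (nat_lit 22165) (nat_lit 1268) (.node .nil (nat_lit 127)
  (nat_lit 7061) (nat_lit 1276) .nil)) (nat_lit 128) (nat_lit 5120) (nat_lit 184) (.node (.node .nil (nat_lit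
  129) (nat_lit 24529) (nat_lit 1296) .nil) (nat_lit 130) (nat_lit 12421) (nat_lit 405) (.node .nil (nat_lit
  131) (nat_lit 24005) (nat_lit 413) .nil))) (nat_lit 132) (nat_lit 25349) (nat_lit 407) (.node (.node (.node
  .nil (nat_lit 133) (nat_lit 12834) (nat_lit 1198) .nil) (nat_lit 134) (nat_lit 29461) (nat_lit 1435) (.node
  .nil (nat_lit 135) (nat_lit 16501) (nat_lit 1427) .nil)) (nat_lit 136) (nat_lit 10805) (nat_lit 414) (.node
  (.node .nil (nat_lit 137) (nat_lit 26673) (nat_lit 287) .nil) (nat_lit 138) (nat_lit 5089) (nat_lit 1304)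
  .nil))) (nat_lit 139) (nat_lit 12229) (nat_lit 1434) (.node (.node (.node (.node .nil (nat_lit 140) (nat_lit
  25601) (nat_lit 1308) .nil) (nat_lit 141) (nat_lit 3781) (nat_lit 1432) (.node .nil (nat_lit 142) (nat_lit
  10690) (nat_lit 165) .nil)) (nat_lit 143) (nat_lit 5489) (nat_lit 283) (.node (.node .nil (nat_lit 144)
  (nat_lit 25365) (nat_lit 407) .nil) (nat_lit 145) (nat_lit 26657) (nat_lit 270) (.node .nil (nat_lit 146)
  (nat_lit 29477) (nat_lit 1435) .nil))) (nat_lit 147) (nat_lit 16517) (nat_lit 1427) (.node (.node (.node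
  .nil (nat_lit 148) (nat_lit 22277) (nat_lit 1433) .nil) (nat_lit 149) (nat_lit 24513) (nat_lit 1284) (.node
  .nil (nat_lit 150) (nat_lit 12437) (nat_lit 405) .nil)) (nat_lit 151) (nat_lit 24021) (nat_lit 413) (.node
  (.node .nil (nat_lit 152) (nat_lit 25665) (nat_lit 1288) .nil) (nat_lit 153) (nat_lit 3797) (nat_lit 1432)
  .nil)))) (nat_lit 154) (nat_lit 10722) (nat_lit 177) (.node (.node (.node (.node (.node .nil (nat_lit 155)
  (nat_lit 23776) (nat_lit 1190) .nil) (nat_lit 156) (nat_lit 5153) (nat_lit 258) (.node .nil (nat_lit 157)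
  (nat_lit 26577) (nat_lit 267) .nil)) (nat_lit 158) (nat_lit 25008) (nat_lit 1187) (.node (.node .nil
  (nat_lit 159) (nat_lit 12245) (nat_lit 1434) .nil) (nat_lit 160) (nat_lit 10821) (nat_lit 414) (.node .nil
  (nat_lit 161) (nat_lit 28069) (nat_lit 406) .nil))) (nat_lit 162) (nat_lit 24912) (nat_lit 139) (.node
  (.node (.node .nil (nat_lit 163) (nat_lit 12261) (nat_lit 1434) .nil) (nat_lit 164) (nat_lit 5473) (nat_lit
  1332) (.node .nil (nat_lit 165) (nat_lit 3813) (nat_lit 1432) .nil)) (nat_lit 166) (nat_lit 9426) (nat_lit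
  141) (.node (.node .nil (nat_lit 167) (nat_lit 22896) (nat_lit 142) .nil) (nat_lit 168) (nat_lit 22293)
  (nat_lit 1433) .nil))) (nat_lit 169) (nat_lit 21105) (nat_lit 1336) (.node (.node (.node (.node .nil
  (nat_lit 170) (nat_lit 12453) (nat_lit 405) .nil) (nat_lit 171) (nat_lit 4929) (nat_lit 310) (.node .nil
  (nat_lit 172) (nat_lit 25381) (nat_lit 407) .nil)) (nat_lit 173) (nat_lit 27333) (nat_lit 415) (.node (.node
  .nil (nat_lit 174) (nat_lit 29493) (nat_lit 1435) .nil) (nat_lit 175) (nat_lit 16533) (nat_lit 1427) (.node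
  .nil (nat_lit 176) (nat_lit 25057) (nat_lit 1312) .nil))) (nat_lit 177) (nat_lit 3829) (nat_lit 1432) (.node
  (.node (.node .nil (nat_lit 178) (nat_lit 10674) (nat_lit 153) .nil) (nat_lit 179) (nat_lit 22928) (nat_lit
  154) (.node .nil (nat_lit 180) (nat_lit 10837) (nat_lit 414) .nil)) (nat_lit 181) (nat_lit 28085) (nat_lit
  406) (.node (.node .nil (nat_lit 182) (nat_lit 24928) (nat_lit 159) .nil) (nat_lit 183) (nat_lit 12277)
  (nat_lit 1434) .nil))))))
def tR6_1 : T := (.node (.node (.node (.node (.node (.node (.node .nil (nat_lit 185) (nat_lit 27349) (nat_lit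
  415) .nil) (nat_lit 186) (nat_lit 29509) (nat_lit 1435) (.node .nil (nat_lit 187) (nat_lit 16549) (nat_lit
  1427) .nil)) (nat_lit 188) (nat_lit 22309) (nat_lit 1433) (.node (.node .nil (nat_lit 189) (nat_lit 13377)
  (nat_lit 1324) .nil) (nat_lit 190) (nat_lit 12469) (nat_lit 405) (.node .nil (nat_lit 191) (nat_lit 24037)
  (nat_lit 413) .nil))) (nat_lit 192) (nat_lit 226) (nat_lit 1241) (.node (.node (.node .nil (nat_lit 193)
  (nat_lit 8882) (nat_lit 1240) .nil) (nat_lit 194) (nat_lit 12869) (nat_lit 365) (.node .nil (nat_lit 195)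
  (nat_lit 9025) (nat_lit 422) .nil)) (nat_lit 196) (nat_lit 21330) (nat_lit 221) (.node (.node .nil (nat_lit
  197) (nat_lit 4581) (nat_lit 359) .nil) (nat_lit 198) (nat_lit 7872) (nat_lit 1102) .nil))) (nat_lit 199)
  (nat_lit 80) (nat_lit 91) (.node (.node (.node (.node .nil (nat_lit 200) (nat_lit 10996) (nat_lit 1177)
  .nil) (nat_lit 201) (nat_lit 9444) (nat_lit 141) (.node .nil (nat_lit 202) (nat_lit 7296) (nat_lit 110)
  .nil)) (nat_lit 203) (nat_lit 6976) (nat_lit 1147) (.node (.node .nil (nat_lit 204) (nat_lit 3008) (nat_lit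
  65) .nil) (nat_lit 205) (nat_lit 6626) (nat_lit 1236) (.node .nil (nat_lit 206) (nat_lit 7521) (nat_lit 426)
  .nil))) (nat_lit 207) (nat_lit 15476) (nat_lit 164) (.node (.node (.node .nil (nat_lit 208) (nat_lit 18529)
  (nat_lit 447) .nil) (nat_lit 209) (nat_lit 4597) (nat_lit 359) (.node .nil (nat_lit 210) (nat_lit 7728)
  (nat_lit 1114) .nil)) (nat_lit 211) (nat_lit 8928) (nat_lit 79) (.node (.node .nil (nat_lit 212) (nat_lit
  2912) (nat_lit 1141) .nil) (nat_lit 213) (nat_lit 8642) (nat_lit 1228) .nil)))) (nat_lit 214) (nat_lit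
  12885) (nat_lit 365) (.node (.node (.node (.node (.node .nil (nat_lit 215) (nat_lit 9089) (nat_lit 434)
  .nil) (nat_lit 216) (nat_lit 3072) (nat_lit 85) (.node .nil (nat_lit 217) (nat_lit 6466) (nat_lit 1216)
  .nil)) (nat_lit 218) (nat_lit 21122) (nat_lit 1219) (.node (.node .nil (nat_lit 219) (nat_lit 15492)
  (nat_lit 164) .nil) (nat_lit 220) (nat_lit 11012) (nat_lit 1177) (.node .nil (nat_lit 221) (nat_lit 9460)
  (nat_lit 141) .nil))) (nat_lit 222) (nat_lit 274) (nat_lit 199) (.node (.node (.node .nil (nat_lit 223)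
  (nat_lit 7216) (nat_lit 1135) .nil) (nat_lit 224) (nat_lit 9476) (nat_lit 141) (.node .nil (nat_lit 225)
  (nat_lit 11028) (nat_lit 1177) .nil)) (nat_lit 226) (nat_lit 6928) (nat_lit 1106) (.node (.node .nil
  (nat_lit 227) (nat_lit 6496) (nat_lit 71) .nil) (nat_lit 228) (nat_lit 3472) (nat_lit 1149) .nil))) (nat_lit
  229) (nat_lit 7074) (nat_lit 1276) (.node (.node (.node (.node .nil (nat_lit 230) (nat_lit 15508) (nat_lit
  164) .nil) (nat_lit 231) (nat_lit 5297) (nat_lit 395) (.node .nil (nat_lit 232) (nat_lit 2544) (nat_lit 93)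
  .nil)) (nat_lit 233) (nat_lit 8050) (nat_lit 1264) (.node (.node .nil (nat_lit 234) (nat_lit 12901) (nat_lit
  365) .nil) (nat_lit 235) (nat_lit 9169) (nat_lit 398) (.node .nil (nat_lit 236) (nat_lit 23970) (nat_lit
  245) .nil))) (nat_lit 237) (nat_lit 4613) (nat_lit 359) (.node (.node (.node .nil (nat_lit 238) (nat_lit
  7936) (nat_lit 114) .nil) (nat_lit 239) (nat_lit 7904) (nat_lit 1127) (.node .nil (nat_lit 240) (nat_lit
  320) (nat_lit 1129) .nil)) (nat_lit 241) (nat_lit 7250) (nat_lit 1256) (.node (.node .nil (nat_lit 242)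
  (nat_lit 15524) (nat_lit 164) .nil) (nat_lit 243) (nat_lit 18960) (nat_lit 1091) .nil))))) (nat_lit 244)
  (nat_lit 9492) (nat_lit 141) (.node (.node (.node (.node (.node (.node .nil (nat_lit 245) (nat_lit 11044)
  (nat_lit 1177) .nil) (nat_lit 246) (nat_lit 7168) (nat_lit 1094) (.node .nil (nat_lit 247) (nat_lit 6336)
  (nat_lit 83) .nil)) (nat_lit 248) (nat_lit 23954) (nat_lit 225) (.node (.node .nil (nat_lit 249) (nat_lit
  4629) (nat_lit 359) .nil) (nat_lit 250) (nat_lit 8080) (nat_lit 102) (.node .nil (nat_lit 251) (nat_lit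
  7760) (nat_lit 1139) .nil))) (nat_lit 252) (nat_lit 2480) (nat_lit 73) (.node (.node (.node .nil (nat_lit
  253) (nat_lit 8322) (nat_lit 1252) .nil) (nat_lit 254) (nat_lit 12917) (nat_lit 365) (.node .nil (nat_lit
  255) (nat_lit 9233) (nat_lit 410) .nil)) (nat_lit 256) (nat_lit 4723) (nat_lit 301) (.node (.node .nil
  (nat_lit 257) (nat_lit 3840) (nat_lit 1432) .nil) (nat_lit 258) (nat_lit 1939) (nat_lit 303) .nil)))
  (nat_lit 259) (nat_lit 4945) (nat_lit 534) (.node (.node (.node (.node .nil (nat_lit 260) (nat_lit 9155)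
  (nat_lit 297) .nil) (nat_lit 261) (nat_lit 9508) (nat_lit 141) (.node .nil (nat_lit 262) (nat_lit 9200)
  (nat_lit 418) .nil)) (nat_lit 263) (nat_lit 16867) (nat_lit 1322) (.node (.node .nil (nat_lit 264) (nat_lit
  12592) (nat_lit 445) .nil) (nat_lit 265) (nat_lit 25682) (nat_lit 1288) (.node .nil (nat_lit 266) (nat_lit
  22964) (nat_lit 1160) .nil))) (nat_lit 267) (nat_lit 13972) (nat_lit 156) (.node (.node (.node .nil (nat_lit
  268) (nat_lit 22709) (nat_lit 1816) .nil) (nat_lit 269) (nat_lit 25475) (nat_lit 288) (.node .nil (nat_lit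
  270) (nat_lit 13988) (nat_lit 156) .nil)) (nat_lit 271) (nat_lit 22980) (nat_lit 1160) (.node (.node .nil
  (nat_lit 272) (nat_lit 9219) (nat_lit 317) .nil) (nat_lit 273) (nat_lit 9524) (nat_lit 141) .nil))))
  (nat_lit 274) (nat_lit 9264) (nat_lit 438) (.node (.node (.node (.node (.node .nil (nat_lit 275) (nat_lit
  16883) (nat_lit 1342) .nil) (nat_lit 276) (nat_lit 5781) (nat_lit 1809) (.node .nil (nat_lit 277) (nat_lit
  3728) (nat_lit 1420) .nil)) (nat_lit 278) (nat_lit 5557) (nat_lit 797) (.node (.node .nil (nat_lit 279)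
  (nat_lit 7541) (nat_lit 789) .nil) (nat_lit 280) (nat_lit 22725) (nat_lit 1816) (.node .nil (nat_lit 281)
  (nat_lit 25539) (nat_lit 308) .nil))) (nat_lit 282) (nat_lit 4913) (nat_lit 526) (.node (.node (.node .nil
  (nat_lit 283) (nat_lit 2129) (nat_lit 519) .nil) (nat_lit 284) (nat_lit 12544) (nat_lit 425) (.node .nil
  (nat_lit 285) (nat_lit 25618) (nat_lit 1308) .nil)) (nat_lit 286) (nat_lit 22996) (nat_lit 1160) (.node
  (.node .nil (nat_lit 287) (nat_lit 14004) (nat_lit 156) .nil) (nat_lit 288) (nat_lit 12640) (nat_lit 1409)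
  .nil))) (nat_lit 289) (nat_lit 25074) (nat_lit 1312) (.node (.node (.node (.node .nil (nat_lit 290) (nat_lit
  14020) (nat_lit 156) .nil) (nat_lit 291) (nat_lit 23012) (nat_lit 1160) (.node .nil (nat_lit 292) (nat_lit
  22741) (nat_lit 1816) .nil)) (nat_lit 293) (nat_lit 25699) (nat_lit 1288) (.node (.node .nil (nat_lit 294)
  (nat_lit 23028) (nat_lit 1160) .nil) (nat_lit 295) (nat_lit 14036) (nat_lit 156) (.node .nil (nat_lit 296)
  (nat_lit 5797) (nat_lit 1809) .nil))) (nat_lit 297) (nat_lit 3600) (nat_lit 420) (.node (.node (.node .nil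
  (nat_lit 298) (nat_lit 5573) (nat_lit 797) .nil) (nat_lit 299) (nat_lit 7557) (nat_lit 789) (.node .nil
  (nat_lit 300) (nat_lit 9123) (nat_lit 1281) .nil)) (nat_lit 301) (nat_lit 1825) (nat_lit 570) (.node (.node
  .nil (nat_lit 302) (nat_lit 9136) (nat_lit 1438) .nil) (nat_lit 303) (nat_lit 625) (nat_lit 1588) .nil))))))
def tR6_2 : T := (.node (.node (.node (.node (.node (.node (.node .nil (nat_lit 305) (nat_lit 25635) (nat_lit
  1308) .nil) (nat_lit 306) (nat_lit 23044) (nat_lit 1160) (.node .nil (nat_lit 307) (nat_lit 14052) (nat_lit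
  156) .nil)) (nat_lit 308) (nat_lit 12688) (nat_lit 1429) (.node (.node .nil (nat_lit 309) (nat_lit 1617)
  (nat_lit 555) .nil) (nat_lit 310) (nat_lit 1873) (nat_lit 1580) (.node .nil (nat_lit 311) (nat_lit 23060)
  (nat_lit 1160) .nil))) (nat_lit 312) (nat_lit 9059) (nat_lit 1301) (.node (.node (.node .nil (nat_lit 313)
  (nat_lit 11060) (nat_lit 1177) .nil) (nat_lit 314) (nat_lit 9072) (nat_lit 1418) (.node .nil (nat_lit 315)
  (nat_lit 15540) (nat_lit 164) .nil)) (nat_lit 316) (nat_lit 5813) (nat_lit 1809) (.node (.node .nil (nat_lit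
  317) (nat_lit 3648) (nat_lit 432) .nil) (nat_lit 318) (nat_lit 5589) (nat_lit 797) .nil))) (nat_lit 319)
  (nat_lit 7573) (nat_lit 789) (.node (.node (.node (.node .nil (nat_lit 320) (nat_lit 1521) (nat_lit 1705)
  .nil) (nat_lit 321) (nat_lit 20257) (nat_lit 1696) (.node .nil (nat_lit 322) (nat_lit 27749) (nat_lit 997)
  .nil)) (nat_lit 323) (nat_lit 17445) (nat_lit 1005) (.node (.node .nil (nat_lit 324) (nat_lit 17957)
  (nat_lit 999) .nil) (nat_lit 325) (nat_lit 4453) (nat_lit 1007) (.node .nil (nat_lit 326) (nat_lit 20833)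
  (nat_lit 1709) .nil))) (nat_lit 327) (nat_lit 29601) (nat_lit 1700) (.node (.node (.node .nil (nat_lit 328)
  (nat_lit 27904) (nat_lit 1380) .nil) (nat_lit 329) (nat_lit 20469) (nat_lit 998) (.node .nil (nat_lit 330)
  (nat_lit 4051) (nat_lit 1404) .nil)) (nat_lit 331) (nat_lit 19377) (nat_lit 1697) (.node (.node .nil
  (nat_lit 332) (nat_lit 17345) (nat_lit 1708) .nil) (nat_lit 333) (nat_lit 29093) (nat_lit 2024) .nil))))
  (nat_lit 334) (nat_lit 28627) (nat_lit 1400) (.node (.node (.node (.node (.node .nil (nat_lit 335) (nat_lit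
  1685) (nat_lit 996) .nil) (nat_lit 336) (nat_lit 17973) (nat_lit 999) (.node .nil (nat_lit 337) (nat_lit
  4469) (nat_lit 1007) .nil)) (nat_lit 338) (nat_lit 20849) (nat_lit 1721) (.node (.node .nil (nat_lit 339)
  (nat_lit 29617) (nat_lit 1712) .nil) (nat_lit 340) (nat_lit 1553) (nat_lit 1725) (.node .nil (nat_lit 341)
  (nat_lit 20289) (nat_lit 1716) .nil))) (nat_lit 342) (nat_lit 27765) (nat_lit 997) (.node (.node (.node .nil
  (nat_lit 343) (nat_lit 17461) (nat_lit 1005) .nil) (nat_lit 344) (nat_lit 17361) (nat_lit 1720) (.node .nil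
  (nat_lit 345) (nat_lit 29109) (nat_lit 2024) .nil)) (nat_lit 346) (nat_lit 28595) (nat_lit 1388) (.node
  (.node .nil (nat_lit 347) (nat_lit 1701) (nat_lit 996) .nil) (nat_lit 348) (nat_lit 27936) (nat_lit 1392)
  .nil))) (nat_lit 349) (nat_lit 20485) (nat_lit 998) (.node (.node (.node (.node .nil (nat_lit 350) (nat_lit
  3699) (nat_lit 1384) .nil) (nat_lit 351) (nat_lit 19393) (nat_lit 1717) (.node .nil (nat_lit 352) (nat_lit
  28176) (nat_lit 344) .nil)) (nat_lit 353) (nat_lit 20501) (nat_lit 998) (.node (.node .nil (nat_lit 354)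
  (nat_lit 4371) (nat_lit 340) .nil) (nat_lit 355) (nat_lit 19345) (nat_lit 1673) (.node .nil (nat_lit 356)
  (nat_lit 17249) (nat_lit 1668) .nil))) (nat_lit 357) (nat_lit 29125) (nat_lit 2024) (.node (.node (.node
  .nil (nat_lit 358) (nat_lit 28435) (nat_lit 336) .nil) (nat_lit 359) (nat_lit 1717) (nat_lit 996) (.node
  .nil (nat_lit 360) (nat_lit 1457) (nat_lit 1665) .nil)) (nat_lit 361) (nat_lit 20193) (nat_lit 1672) (.node
  (.node .nil (nat_lit 362) (nat_lit 27781) (nat_lit 997) .nil) (nat_lit 363) (nat_lit 17477) (nat_lit 1005)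
  .nil))))) (nat_lit 364) (nat_lit 17989) (nat_lit 999) (.node (.node (.node (.node (.node (.node .nil
  (nat_lit 365) (nat_lit 4485) (nat_lit 1007) .nil) (nat_lit 366) (nat_lit 20801) (nat_lit 1669) (.node .nil
  (nat_lit 367) (nat_lit 29713) (nat_lit 1676) .nil)) (nat_lit 368) (nat_lit 17329) (nat_lit 1680) (.node
  (.node .nil (nat_lit 369) (nat_lit 29141) (nat_lit 2024) .nil) (nat_lit 370) (nat_lit 28403) (nat_lit 324)
  (.node .nil (nat_lit 371) (nat_lit 1733) (nat_lit 996) .nil))) (nat_lit 372) (nat_lit 28144) (nat_lit 332)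
  (.node (.node (.node .nil (nat_lit 373) (nat_lit 20517) (nat_lit 998) .nil) (nat_lit 374) (nat_lit 4339)
  (nat_lit 320) (.node .nil (nat_lit 375) (nat_lit 19361) (nat_lit 1693) .nil)) (nat_lit 376) (nat_lit 18005)
  (nat_lit 999) (.node (.node .nil (nat_lit 377) (nat_lit 4501) (nat_lit 1007) .nil) (nat_lit 378) (nat_lit
  20817) (nat_lit 1681) .nil))) (nat_lit 379) (nat_lit 29697) (nat_lit 1688) (.node (.node (.node (.node .nil
  (nat_lit 380) (nat_lit 1489) (nat_lit 1685) .nil) (nat_lit 381) (nat_lit 20225) (nat_lit 1692) (.node .nil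
  (nat_lit 382) (nat_lit 27797) (nat_lit 997) .nil)) (nat_lit 383) (nat_lit 17493) (nat_lit 1005) (.node
  (.node .nil (nat_lit 384) (nat_lit 4400) (nat_lit 309) .nil) (nat_lit 385) (nat_lit 4117) (nat_lit 640)
  (.node .nil (nat_lit 386) (nat_lit 17269) (nat_lit 1668) .nil))) (nat_lit 387) (nat_lit 12562) (nat_lit 425)
  (.node (.node (.node .nil (nat_lit 388) (nat_lit 25732) (nat_lit 1185) .nil) (nat_lit 389) (nat_lit 25651)
  (nat_lit 1411) (.node .nil (nat_lit 390) (nat_lit 5762) (nat_lit 1452) .nil)) (nat_lit 391) (nat_lit 12659)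
  (nat_lit 1409) (.node (.node .nil (nat_lit 392) (nat_lit 9540) (nat_lit 141) .nil) (nat_lit 393) (nat_lit
  11076) (nat_lit 1177) .nil)))) (nat_lit 394) (nat_lit 3747) (nat_lit 1420) (.node (.node (.node (.node
  (.node .nil (nat_lit 395) (nat_lit 1952) (nat_lit 303) .nil) (nat_lit 396) (nat_lit 1205) (nat_lit 641)
  (.node .nil (nat_lit 397) (nat_lit 5315) (nat_lit 395) .nil)) (nat_lit 398) (nat_lit 3618) (nat_lit 420)
  (.node (.node .nil (nat_lit 399) (nat_lit 19568) (nat_lit 1343) .nil) (nat_lit 400) (nat_lit 25748) (nat_lit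
  1185) (.node .nil (nat_lit 401) (nat_lit 25715) (nat_lit 1431) .nil))) (nat_lit 402) (nat_lit 14068)
  (nat_lit 156) (.node (.node (.node .nil (nat_lit 403) (nat_lit 12707) (nat_lit 1429) .nil) (nat_lit 404)
  (nat_lit 19941) (nat_lit 648) (.node .nil (nat_lit 405) (nat_lit 4133) (nat_lit 640) .nil)) (nat_lit 406)
  (nat_lit 17285) (nat_lit 1668) (.node (.node .nil (nat_lit 407) (nat_lit 12610) (nat_lit 445) .nil) (nat_lit
  408) (nat_lit 1221) (nat_lit 641) .nil))) (nat_lit 409) (nat_lit 9556) (nat_lit 141) (.node (.node (.node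
  (.node .nil (nat_lit 410) (nat_lit 3666) (nat_lit 432) .nil) (nat_lit 411) (nat_lit 19552) (nat_lit 1323)
  (.node .nil (nat_lit 412) (nat_lit 9572) (nat_lit 141) .nil)) (nat_lit 413) (nat_lit 11092) (nat_lit 1177)
  (.node (.node .nil (nat_lit 414) (nat_lit 3859) (nat_lit 1432) .nil) (nat_lit 415) (nat_lit 15556) (nat_lit
  164) (.node .nil (nat_lit 416) (nat_lit 9043) (nat_lit 422) .nil))) (nat_lit 417) (nat_lit 9588) (nat_lit
  141) (.node (.node (.node .nil (nat_lit 418) (nat_lit 3635) (nat_lit 420) .nil) (nat_lit 419) (nat_lit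
  24546) (nat_lit 1417) (.node .nil (nat_lit 420) (nat_lit 1237) (nat_lit 641) .nil)) (nat_lit 421) (nat_lit
  11108) (nat_lit 1177) (.node (.node .nil (nat_lit 422) (nat_lit 3506) (nat_lit 396) .nil) (nat_lit 423)
  (nat_lit 13504) (nat_lit 259) .nil))))))
def tR6_3 : T := (.node (.node (.node (.node (.node (.node (.node .nil (nat_lit 425) (nat_lit 4149) (nat_lit
  640) .nil) (nat_lit 426) (nat_lit 2961) (nat_lit 1838) (.node .nil (nat_lit 427) (nat_lit 12370) (nat_lit
  385) .nil)) (nat_lit 428) (nat_lit 27074) (nat_lit 1414) (.node (.node .nil (nat_lit 429) (nat_lit 25043)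
  (nat_lit 427) .nil) (nat_lit 430) (nat_lit 23076) (nat_lit 1160) (.node .nil (nat_lit 431) (nat_lit 12579)
  (nat_lit 425) .nil))) (nat_lit 432) (nat_lit 1253) (nat_lit 641) (.node (.node (.node .nil (nat_lit 433)
  (nat_lit 11124) (nat_lit 1177) .nil) (nat_lit 434) (nat_lit 3554) (nat_lit 408) (.node .nil (nat_lit 435)
  (nat_lit 15572) (nat_lit 164) .nil)) (nat_lit 436) (nat_lit 9107) (nat_lit 434) (.node (.node .nil (nat_lit
  437) (nat_lit 9604) (nat_lit 141) .nil) (nat_lit 438) (nat_lit 3683) (nat_lit 432) .nil))) (nat_lit 439)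
  (nat_lit 24562) (nat_lit 1437) (.node (.node (.node (.node .nil (nat_lit 440) (nat_lit 27090) (nat_lit 1426)
  .nil) (nat_lit 441) (nat_lit 5104) (nat_lit 1304) (.node .nil (nat_lit 442) (nat_lit 23092) (nat_lit 1160)
  .nil)) (nat_lit 443) (nat_lit 12627) (nat_lit 445) (.node (.node .nil (nat_lit 444) (nat_lit 19973) (nat_lit
  648) .nil) (nat_lit 445) (nat_lit 4165) (nat_lit 640) (.node .nil (nat_lit 446) (nat_lit 14084) (nat_lit
  156) .nil))) (nat_lit 447) (nat_lit 6817) (nat_lit 1843) (.node (.node (.node .nil (nat_lit 448) (nat_lit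
  2307) (nat_lit 477) .nil) (nat_lit 449) (nat_lit 22049) (nat_lit 953) (.node .nil (nat_lit 450) (nat_lit
  26293) (nat_lit 1660) .nil)) (nat_lit 451) (nat_lit 24693) (nat_lit 1652) (.node (.node .nil (nat_lit 452)
  (nat_lit 27141) (nat_lit 1662) .nil) (nat_lit 453) (nat_lit 2322) (nat_lit 477) .nil)))) (nat_lit 454)
  (nat_lit 29426) (nat_lit 478) (.node (.node (.node (.node (.node .nil (nat_lit 455) (nat_lit 15317) (nat_lit
  634) .nil) (nat_lit 456) (nat_lit 26405) (nat_lit 1655) (.node .nil (nat_lit 457) (nat_lit 29441) (nat_lit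
  1974) .nil)) (nat_lit 458) (nat_lit 2209) (nat_lit 945) (.node (.node .nil (nat_lit 459) (nat_lit 24497)
  (nat_lit 952) .nil) (nat_lit 460) (nat_lit 28785) (nat_lit 949) (.node .nil (nat_lit 461) (nat_lit 19585)
  (nat_lit 956) .nil))) (nat_lit 462) (nat_lit 22437) (nat_lit 1653) (.node (.node (.node .nil (nat_lit 463)
  (nat_lit 1025) (nat_lit 1970) .nil) (nat_lit 464) (nat_lit 27157) (nat_lit 1662) (.node .nil (nat_lit 465)
  (nat_lit 27445) (nat_lit 1654) .nil)) (nat_lit 466) (nat_lit 2947) (nat_lit 463) (.node (.node .nil (nat_lit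
  467) (nat_lit 15333) (nat_lit 634) .nil) (nat_lit 468) (nat_lit 21541) (nat_lit 624) .nil))) (nat_lit 469)
  (nat_lit 22033) (nat_lit 941) (.node (.node (.node (.node .nil (nat_lit 470) (nat_lit 26309) (nat_lit 1660)
  .nil) (nat_lit 471) (nat_lit 24709) (nat_lit 1652) (.node .nil (nat_lit 472) (nat_lit 28353) (nat_lit 929)
  .nil)) (nat_lit 473) (nat_lit 19761) (nat_lit 936) (.node (.node .nil (nat_lit 474) (nat_lit 22453) (nat_lit
  1653) .nil) (nat_lit 475) (nat_lit 27313) (nat_lit 1958) (.node .nil (nat_lit 476) (nat_lit 26421) (nat_lit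
  1655) .nil))) (nat_lit 477) (nat_lit 801) (nat_lit 1954) (.node (.node (.node .nil (nat_lit 478) (nat_lit
  19441) (nat_lit 933) .nil) (nat_lit 479) (nat_lit 24481) (nat_lit 940) (.node .nil (nat_lit 480) (nat_lit
  26437) (nat_lit 1655) .nil)) (nat_lit 481) (nat_lit 27297) (nat_lit 1950) (.node (.node .nil (nat_lit 482)
  (nat_lit 17393) (nat_lit 921) .nil) (nat_lit 483) (nat_lit 2161) (nat_lit 912) .nil))))) (nat_lit 484)
  (nat_lit 27729) (nat_lit 925) (.node (.node (.node (.node (.node (.node .nil (nat_lit 485) (nat_lit 20929)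
  (nat_lit 916) .nil) (nat_lit 486) (nat_lit 2257) (nat_lit 1939) (.node .nil (nat_lit 487) (nat_lit 29585)
  (nat_lit 1946) .nil)) (nat_lit 488) (nat_lit 21557) (nat_lit 624) (.node (.node .nil (nat_lit 489) (nat_lit
  24465) (nat_lit 913) .nil) (nat_lit 490) (nat_lit 26325) (nat_lit 1660) (.node .nil (nat_lit 491) (nat_lit
  24725) (nat_lit 1652) .nil))) (nat_lit 492) (nat_lit 27173) (nat_lit 1662) (.node (.node (.node .nil
  (nat_lit 493) (nat_lit 27281) (nat_lit 1947) .nil) (nat_lit 494) (nat_lit 27874) (nat_lit 502) (.node .nil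
  (nat_lit 495) (nat_lit 15349) (nat_lit 634) .nil)) (nat_lit 496) (nat_lit 27889) (nat_lit 905) (.node (.node
  .nil (nat_lit 497) (nat_lit 3265) (nat_lit 896) .nil) (nat_lit 498) (nat_lit 22469) (nat_lit 1653) .nil)))
  (nat_lit 499) (nat_lit 29569) (nat_lit 1934) (.node (.node (.node (.node .nil (nat_lit 500) (nat_lit 26453)
  (nat_lit 1655) .nil) (nat_lit 501) (nat_lit 27249) (nat_lit 1930) (.node .nil (nat_lit 502) (nat_lit 16977)
  (nat_lit 909) .nil)) (nat_lit 503) (nat_lit 22017) (nat_lit 900) (.node (.node .nil (nat_lit 504) (nat_lit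
  27189) (nat_lit 1662) .nil) (nat_lit 505) (nat_lit 27265) (nat_lit 1935) (.node .nil (nat_lit 506) (nat_lit
  28210) (nat_lit 482) .nil))) (nat_lit 507) (nat_lit 5522) (nat_lit 483) (.node (.node (.node .nil (nat_lit
  508) (nat_lit 21573) (nat_lit 624) .nil) (nat_lit 509) (nat_lit 24449) (nat_lit 901) (.node .nil (nat_lit
  510) (nat_lit 26341) (nat_lit 1660) .nil)) (nat_lit 511) (nat_lit 24741) (nat_lit 1652) (.node (.node .nil
  (nat_lit 512) (nat_lit 609) (nat_lit 1016) .nil) (nat_lit 513) (nat_lit 18434) (nat_lit 554) .nil))))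
  (nat_lit 514) (nat_lit 6773) (nat_lit 1524) (.node (.node (.node (.node (.node .nil (nat_lit 515) (nat_lit
  20673) (nat_lit 2047) .nil) (nat_lit 516) (nat_lit 19633) (nat_lit 2034) (.node .nil (nat_lit 517) (nat_lit
  16725) (nat_lit 1534) .nil)) (nat_lit 518) (nat_lit 27698) (nat_lit 1581) (.node (.node .nil (nat_lit 519)
  (nat_lit 673) (nat_lit 1013) .nil) (nat_lit 520) (nat_lit 27586) (nat_lit 1571) (.node .nil (nat_lit 521)
  (nat_lit 1809) (nat_lit 2046) .nil))) (nat_lit 522) (nat_lit 17025) (nat_lit 1017) (.node (.node (.node .nil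
  (nat_lit 523) (nat_lit 16613) (nat_lit 507) .nil) (nat_lit 524) (nat_lit 8257) (nat_lit 1021) (.node .nil
  (nat_lit 525) (nat_lit 18913) (nat_lit 1012) .nil)) (nat_lit 526) (nat_lit 1857) (nat_lit 2035) (.node
  (.node .nil (nat_lit 527) (nat_lit 19794) (nat_lit 548) .nil) (nat_lit 528) (nat_lit 19809) (nat_lit 2022)
  .nil))) (nat_lit 529) (nat_lit 16741) (nat_lit 1534) (.node (.node (.node (.node .nil (nat_lit 530) (nat_lit
  27714) (nat_lit 1593) .nil) (nat_lit 531) (nat_lit 18384) (nat_lit 514) (.node .nil (nat_lit 532) (nat_lit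
  18403) (nat_lit 514) .nil)) (nat_lit 533) (nat_lit 18482) (nat_lit 574) (.node (.node .nil (nat_lit 534)
  (nat_lit 1891) (nat_lit 512) .nil) (nat_lit 535) (nat_lit 20865) (nat_lit 2027) (.node .nil (nat_lit 536)
  (nat_lit 7985) (nat_lit 1001) .nil))) (nat_lit 537) (nat_lit 19201) (nat_lit 992) (.node (.node (.node .nil
  (nat_lit 538) (nat_lit 18689) (nat_lit 2023) .nil) (nat_lit 539) (nat_lit 19618) (nat_lit 560) (.node .nil
  (nat_lit 540) (nat_lit 27602) (nat_lit 1591) .nil)) (nat_lit 541) (nat_lit 19409) (nat_lit 2026) (.node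
  (.node .nil (nat_lit 542) (nat_lit 17505) (nat_lit 1005) .nil) (nat_lit 543) (nat_lit 642) (nat_lit 1588)
  .nil))))))
def tR6_4 : T := (.node (.node (.node (.node (.node (.node (.node .nil (nat_lit 545) (nat_lit 16929) (nat_lit
  2006) .nil) (nat_lit 546) (nat_lit 17697) (nat_lit 977) (.node .nil (nat_lit 547) (nat_lit 16629) (nat_lit
  507) .nil)) (nat_lit 548) (nat_lit 7825) (nat_lit 981) (.node (.node .nil (nat_lit 549) (nat_lit 1649)
  (nat_lit 988) .nil) (nat_lit 550) (nat_lit 17633) (nat_lit 2011) (.node .nil (nat_lit 551) (nat_lit 20322)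
  (nat_lit 524) .nil))) (nat_lit 552) (nat_lit 17043) (nat_lit 1598) (.node (.node (.node .nil (nat_lit 553)
  (nat_lit 18418) (nat_lit 514) .nil) (nat_lit 554) (nat_lit 6789) (nat_lit 1524) (.node .nil (nat_lit 555)
  (nat_lit 481) (nat_lit 2007) .nil)) (nat_lit 556) (nat_lit 19889) (nat_lit 2010) (.node (.node .nil (nat_lit
  557) (nat_lit 16757) (nat_lit 1534) .nil) (nat_lit 558) (nat_lit 27682) (nat_lit 1541) .nil))) (nat_lit 559)
  (nat_lit 17584) (nat_lit 1578) (.node (.node (.node (.node .nil (nat_lit 560) (nat_lit 7681) (nat_lit 961)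
  .nil) (nat_lit 561) (nat_lit 19505) (nat_lit 968) (.node .nil (nat_lit 562) (nat_lit 17089) (nat_lit 1999)
  .nil)) (nat_lit 563) (nat_lit 19874) (nat_lit 536) (.node (.node .nil (nat_lit 564) (nat_lit 27570) (nat_lit
  1567) .nil) (nat_lit 565) (nat_lit 17153) (nat_lit 1986) (.node .nil (nat_lit 566) (nat_lit 17937) (nat_lit
  965) .nil))) (nat_lit 567) (nat_lit 16645) (nat_lit 507) (.node (.node (.node .nil (nat_lit 568) (nat_lit
  20337) (nat_lit 1998) .nil) (nat_lit 569) (nat_lit 16773) (nat_lit 1534) (.node .nil (nat_lit 570) (nat_lit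
  545) (nat_lit 960) .nil)) (nat_lit 571) (nat_lit 17056) (nat_lit 1598) (.node (.node .nil (nat_lit 572)
  (nat_lit 17603) (nat_lit 1578) .nil) (nat_lit 573) (nat_lit 1635) (nat_lit 555) .nil)))) (nat_lit 574)
  (nat_lit 6805) (nat_lit 1524) (.node (.node (.node (.node (.node .nil (nat_lit 575) (nat_lit 20913) (nat_lit
  1987) .nil) (nat_lit 576) (nat_lit 13253) (nat_lit 256) (.node .nil (nat_lit 577) (nat_lit 24611) (nat_lit
  1612) .nil)) (nat_lit 578) (nat_lit 23108) (nat_lit 1160) (.node (.node .nil (nat_lit 579) (nat_lit 14100)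
  (nat_lit 156) .nil) (nat_lit 580) (nat_lit 24131) (nat_lit 585) (.node .nil (nat_lit 581) (nat_lit 21410)
  (nat_lit 604) .nil))) (nat_lit 582) (nat_lit 5173) (nat_lit 258) (.node (.node (.node .nil (nat_lit 583)
  (nat_lit 23124) (nat_lit 1160) .nil) (nat_lit 584) (nat_lit 9620) (nat_lit 141) (.node .nil (nat_lit 585)
  (nat_lit 11140) (nat_lit 1177) .nil)) (nat_lit 586) (nat_lit 26597) (nat_lit 267) (.node (.node .nil
  (nat_lit 587) (nat_lit 13525) (nat_lit 259) .nil) (nat_lit 588) (nat_lit 11156) (nat_lit 1177) .nil)))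
  (nat_lit 589) (nat_lit 9636) (nat_lit 141) (.node (.node (.node (.node .nil (nat_lit 590) (nat_lit 15588)
  (nat_lit 164) .nil) (nat_lit 591) (nat_lit 30403) (nat_lit 578) (.node .nil (nat_lit 592) (nat_lit 24146)
  (nat_lit 585) .nil)) (nat_lit 593) (nat_lit 21362) (nat_lit 584) (.node (.node .nil (nat_lit 594) (nat_lit
  5189) (nat_lit 258) .nil) (nat_lit 595) (nat_lit 23140) (nat_lit 1160) (.node .nil (nat_lit 596) (nat_lit
  13269) (nat_lit 256) .nil))) (nat_lit 597) (nat_lit 24626) (nat_lit 1612) (.node (.node (.node .nil (nat_lit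
  598) (nat_lit 23156) (nat_lit 1160) .nil) (nat_lit 599) (nat_lit 14116) (nat_lit 156) (.node .nil (nat_lit
  600) (nat_lit 11172) (nat_lit 1177) .nil)) (nat_lit 601) (nat_lit 9652) (nat_lit 141) (.node (.node .nil
  (nat_lit 602) (nat_lit 15604) (nat_lit 164) .nil) (nat_lit 603) (nat_lit 30435) (nat_lit 598) .nil)))))
  (nat_lit 604) (nat_lit 9668) (nat_lit 141) (.node (.node (.node (.node (.node (.node .nil (nat_lit 605)
  (nat_lit 11188) (nat_lit 1177) .nil) (nat_lit 606) (nat_lit 26613) (nat_lit 267) (.node .nil (nat_lit 607)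
  (nat_lit 13541) (nat_lit 259) .nil)) (nat_lit 608) (nat_lit 11204) (nat_lit 1177) (.node (.node .nil
  (nat_lit 609) (nat_lit 9684) (nat_lit 141) .nil) (nat_lit 610) (nat_lit 15620) (nat_lit 164) (.node .nil
  (nat_lit 611) (nat_lit 13557) (nat_lit 259) .nil))) (nat_lit 612) (nat_lit 9700) (nat_lit 141) (.node (.node
  (.node .nil (nat_lit 613) (nat_lit 10757) (nat_lit 257) .nil) (nat_lit 614) (nat_lit 22213) (nat_lit 1285)
  (.node .nil (nat_lit 615) (nat_lit 15636) (nat_lit 164) .nil)) (nat_lit 616) (nat_lit 13285) (nat_lit 256)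
  (.node (.node .nil (nat_lit 617) (nat_lit 21507) (nat_lit 612) .nil) (nat_lit 618) (nat_lit 14132) (nat_lit
  156) .nil))) (nat_lit 619) (nat_lit 23172) (nat_lit 1160) (.node (.node (.node (.node .nil (nat_lit 620)
  (nat_lit 21682) (nat_lit 629) .nil) (nat_lit 621) (nat_lit 24195) (nat_lit 608) (.node .nil (nat_lit 622)
  (nat_lit 5205) (nat_lit 258) .nil)) (nat_lit 623) (nat_lit 14148) (nat_lit 156) (.node (.node .nil (nat_lit
  624) (nat_lit 9716) (nat_lit 141) .nil) (nat_lit 625) (nat_lit 9281) (nat_lit 880) (.node .nil (nat_lit 626)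
  (nat_lit 22229) (nat_lit 1285) .nil))) (nat_lit 627) (nat_lit 15652) (nat_lit 164) (.node (.node (.node .nil
  (nat_lit 628) (nat_lit 11220) (nat_lit 1177) .nil) (nat_lit 629) (nat_lit 9732) (nat_lit 141) (.node .nil
  (nat_lit 630) (nat_lit 15668) (nat_lit 164) .nil)) (nat_lit 631) (nat_lit 13573) (nat_lit 259) (.node (.node
  .nil (nat_lit 632) (nat_lit 21458) (nat_lit 609) .nil) (nat_lit 633) (nat_lit 24210) (nat_lit 608) .nil))))
  (nat_lit 634) (nat_lit 5221) (nat_lit 258) (.node (.node (.node (.node (.node .nil (nat_lit 635) (nat_lit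
  14164) (nat_lit 156) .nil) (nat_lit 636) (nat_lit 13301) (nat_lit 256) (.node .nil (nat_lit 637) (nat_lit
  21587) (nat_lit 624) .nil)) (nat_lit 638) (nat_lit 14180) (nat_lit 156) (.node (.node .nil (nat_lit 639)
  (nat_lit 23188) (nat_lit 1160) .nil) (nat_lit 640) (nat_lit 1427) (nat_lit 701) (.node .nil (nat_lit 641)
  (nat_lit 341) (nat_lit 1129) .nil))) (nat_lit 642) (nat_lit 21189) (nat_lit 109) (.node (.node (.node .nil
  (nat_lit 643) (nat_lit 26037) (nat_lit 101) .nil) (nat_lit 644) (nat_lit 6101) (nat_lit 111) (.node .nil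
  (nat_lit 645) (nat_lit 8725) (nat_lit 103) .nil)) (nat_lit 646) (nat_lit 26885) (nat_lit 1123) (.node (.node
  .nil (nat_lit 647) (nat_lit 18981) (nat_lit 1131) .nil) (nat_lit 648) (nat_lit 8101) (nat_lit 102) .nil)))
  (nat_lit 649) (nat_lit 7317) (nat_lit 110) (.node (.node (.node (.node .nil (nat_lit 650) (nat_lit 30309)
  (nat_lit 1130) .nil) (nat_lit 651) (nat_lit 22561) (nat_lit 1769) (.node .nil (nat_lit 652) (nat_lit 20144)
  (nat_lit 692) .nil)) (nat_lit 653) (nat_lit 18789) (nat_lit 1120) (.node (.node .nil (nat_lit 654) (nat_lit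
  26165) (nat_lit 100) .nil) (nat_lit 655) (nat_lit 23797) (nat_lit 108) (.node .nil (nat_lit 656) (nat_lit
  6117) (nat_lit 111) .nil))) (nat_lit 657) (nat_lit 8741) (nat_lit 103) (.node (.node (.node .nil (nat_lit
  658) (nat_lit 26901) (nat_lit 1123) .nil) (nat_lit 659) (nat_lit 18997) (nat_lit 1131) (.node .nil (nat_lit
  660) (nat_lit 1395) (nat_lit 681) .nil)) (nat_lit 661) (nat_lit 357) (nat_lit 1129) (.node (.node .nil
  (nat_lit 662) (nat_lit 21205) (nat_lit 109) .nil) (nat_lit 663) (nat_lit 26053) (nat_lit 101) .nil))))))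
def tR6_5 : T := (.node (.node (.node (.node (.node (.node (.node .nil (nat_lit 665) (nat_lit 18805) (nat_lit
  1120) .nil) (nat_lit 666) (nat_lit 26181) (nat_lit 100) (.node .nil (nat_lit 667) (nat_lit 23813) (nat_lit
  108) .nil)) (nat_lit 668) (nat_lit 8117) (nat_lit 102) (.node (.node .nil (nat_lit 669) (nat_lit 7333)
  (nat_lit 110) .nil) (nat_lit 670) (nat_lit 30325) (nat_lit 1130) (.node .nil (nat_lit 671) (nat_lit 22689)
  (nat_lit 1789) .nil))) (nat_lit 672) (nat_lit 8133) (nat_lit 102) (.node (.node (.node .nil (nat_lit 673)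
  (nat_lit 7349) (nat_lit 110) .nil) (nat_lit 674) (nat_lit 30341) (nat_lit 1130) (.node .nil (nat_lit 675)
  (nat_lit 24817) (nat_lit 1729) .nil)) (nat_lit 676) (nat_lit 20208) (nat_lit 1672) (.node (.node .nil
  (nat_lit 677) (nat_lit 18821) (nat_lit 1120) .nil) (nat_lit 678) (nat_lit 26197) (nat_lit 100) .nil)))
  (nat_lit 679) (nat_lit 23829) (nat_lit 108) (.node (.node (.node (.node .nil (nat_lit 680) (nat_lit 1507)
  (nat_lit 1685) .nil) (nat_lit 681) (nat_lit 373) (nat_lit 1129) (.node .nil (nat_lit 682) (nat_lit 21221)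
  (nat_lit 109) .nil)) (nat_lit 683) (nat_lit 26069) (nat_lit 101) (.node (.node .nil (nat_lit 684) (nat_lit
  6133) (nat_lit 111) .nil) (nat_lit 685) (nat_lit 8757) (nat_lit 103) (.node .nil (nat_lit 686) (nat_lit
  26917) (nat_lit 1123) .nil))) (nat_lit 687) (nat_lit 19013) (nat_lit 1131) (.node (.node (.node .nil
  (nat_lit 688) (nat_lit 20240) (nat_lit 1692) .nil) (nat_lit 689) (nat_lit 18837) (nat_lit 1120) (.node .nil
  (nat_lit 690) (nat_lit 26213) (nat_lit 100) .nil)) (nat_lit 691) (nat_lit 23845) (nat_lit 108) (.node (.node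
  .nil (nat_lit 692) (nat_lit 8149) (nat_lit 102) .nil) (nat_lit 693) (nat_lit 7365) (nat_lit 110) .nil))))
  (nat_lit 694) (nat_lit 30357) (nat_lit 1130) (.node (.node (.node (.node (.node .nil (nat_lit 695) (nat_lit
  24833) (nat_lit 1749) .nil) (nat_lit 696) (nat_lit 6149) (nat_lit 111) (.node .nil (nat_lit 697) (nat_lit
  8773) (nat_lit 103) .nil)) (nat_lit 698) (nat_lit 26933) (nat_lit 1123) (.node (.node .nil (nat_lit 699)
  (nat_lit 19029) (nat_lit 1131) .nil) (nat_lit 700) (nat_lit 1475) (nat_lit 1665) (.node .nil (nat_lit 701)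
  (nat_lit 389) (nat_lit 1129) .nil))) (nat_lit 702) (nat_lit 21237) (nat_lit 109) (.node (.node (.node .nil
  (nat_lit 703) (nat_lit 26085) (nat_lit 101) .nil) (nat_lit 704) (nat_lit 9748) (nat_lit 141) (.node .nil
  (nat_lit 705) (nat_lit 11236) (nat_lit 1177) .nil)) (nat_lit 706) (nat_lit 26721) (nat_lit 599) (.node
  (.node .nil (nat_lit 707) (nat_lit 15684) (nat_lit 164) .nil) (nat_lit 708) (nat_lit 11252) (nat_lit 1177)
  .nil))) (nat_lit 709) (nat_lit 9764) (nat_lit 141) (.node (.node (.node (.node .nil (nat_lit 710) (nat_lit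
  15700) (nat_lit 164) .nil) (nat_lit 711) (nat_lit 13781) (nat_lit 1171) (.node .nil (nat_lit 712) (nat_lit
  30208) (nat_lit 637) .nil)) (nat_lit 713) (nat_lit 25109) (nat_lit 150) (.node (.node .nil (nat_lit 714)
  (nat_lit 21938) (nat_lit 760) .nil) (nat_lit 715) (nat_lit 14196) (nat_lit 156) (.node .nil (nat_lit 716)
  (nat_lit 22401) (nat_lit 1628) .nil))) (nat_lit 717) (nat_lit 30144) (nat_lit 632) (.node (.node (.node .nil
  (nat_lit 718) (nat_lit 14212) (nat_lit 156) .nil) (nat_lit 719) (nat_lit 21795) (nat_lit 745) (.node .nil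
  (nat_lit 720) (nat_lit 11268) (nat_lit 1177) .nil)) (nat_lit 721) (nat_lit 9780) (nat_lit 141) (.node (.node
  .nil (nat_lit 722) (nat_lit 15716) (nat_lit 164) .nil) (nat_lit 723) (nat_lit 13797) (nat_lit 1171)
  .nil))))) (nat_lit 724) (nat_lit 9796) (nat_lit 141) (.node (.node (.node (.node (.node (.node .nil (nat_lit
  725) (nat_lit 11284) (nat_lit 1177) .nil) (nat_lit 726) (nat_lit 26705) (nat_lit 579) (.node .nil (nat_lit
  727) (nat_lit 15732) (nat_lit 164) .nil)) (nat_lit 728) (nat_lit 22385) (nat_lit 1608) (.node (.node .nil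
  (nat_lit 729) (nat_lit 30240) (nat_lit 620) .nil) (nat_lit 730) (nat_lit 14228) (nat_lit 156) (.node .nil
  (nat_lit 731) (nat_lit 21971) (nat_lit 765) .nil))) (nat_lit 732) (nat_lit 30179) (nat_lit 1786) (.node
  (.node (.node .nil (nat_lit 733) (nat_lit 25125) (nat_lit 150) .nil) (nat_lit 734) (nat_lit 21842) (nat_lit
  748) (.node .nil (nat_lit 735) (nat_lit 14244) (nat_lit 156) .nil)) (nat_lit 736) (nat_lit 25764) (nat_lit
  1185) (.node (.node .nil (nat_lit 737) (nat_lit 25141) (nat_lit 150) .nil) (nat_lit 738) (nat_lit 14260)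
  (nat_lit 156) .nil))) (nat_lit 739) (nat_lit 21762) (nat_lit 721) (.node (.node (.node (.node .nil (nat_lit
  740) (nat_lit 24753) (nat_lit 1652) .nil) (nat_lit 741) (nat_lit 25780) (nat_lit 1185) (.node .nil (nat_lit
  742) (nat_lit 14277) (nat_lit 156) .nil)) (nat_lit 743) (nat_lit 14292) (nat_lit 156) (.node (.node .nil
  (nat_lit 744) (nat_lit 11300) (nat_lit 1177) .nil) (nat_lit 745) (nat_lit 9812) (nat_lit 141) (.node .nil
  (nat_lit 746) (nat_lit 15748) (nat_lit 164) .nil))) (nat_lit 747) (nat_lit 27409) (nat_lit 630) (.node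
  (.node (.node .nil (nat_lit 748) (nat_lit 9828) (nat_lit 141) .nil) (nat_lit 749) (nat_lit 11316) (nat_lit
  1177) (.node .nil (nat_lit 750) (nat_lit 22481) (nat_lit 1653) .nil)) (nat_lit 751) (nat_lit 13813) (nat_lit
  1171) (.node (.node .nil (nat_lit 752) (nat_lit 24641) (nat_lit 1632) .nil) (nat_lit 753) (nat_lit 25796)
  (nat_lit 1185) .nil)))) (nat_lit 754) (nat_lit 14309) (nat_lit 156) (.node (.node (.node (.node (.node .nil
  (nat_lit 755) (nat_lit 14324) (nat_lit 156) .nil) (nat_lit 756) (nat_lit 25812) (nat_lit 1185) (.node .nil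
  (nat_lit 757) (nat_lit 25157) (nat_lit 150) .nil)) (nat_lit 758) (nat_lit 14340) (nat_lit 156) (.node (.node
  .nil (nat_lit 759) (nat_lit 21730) (nat_lit 709) .nil) (nat_lit 760) (nat_lit 9844) (nat_lit 141) (.node
  .nil (nat_lit 761) (nat_lit 11332) (nat_lit 1177) .nil))) (nat_lit 762) (nat_lit 22417) (nat_lit 1633)
  (.node (.node (.node .nil (nat_lit 763) (nat_lit 13829) (nat_lit 1171) .nil) (nat_lit 764) (nat_lit 11348)
  (nat_lit 1177) (.node .nil (nat_lit 765) (nat_lit 9860) (nat_lit 141) .nil)) (nat_lit 766) (nat_lit 15764)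
  (nat_lit 164) (.node (.node .nil (nat_lit 767) (nat_lit 27393) (nat_lit 610) .nil) (nat_lit 768) (nat_lit
  2338) (nat_lit 810) .nil))) (nat_lit 769) (nat_lit 26738) (nat_lit 811) (.node (.node (.node (.node .nil
  (nat_lit 770) (nat_lit 14356) (nat_lit 156) .nil) (nat_lit 771) (nat_lit 23204) (nat_lit 1160) (.node .nil
  (nat_lit 772) (nat_lit 2224) (nat_lit 945) .nil)) (nat_lit 773) (nat_lit 25828) (nat_lit 1185) (.node (.node
  .nil (nat_lit 774) (nat_lit 23220) (nat_lit 1160) .nil) (nat_lit 775) (nat_lit 14372) (nat_lit 156) (.node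
  .nil (nat_lit 776) (nat_lit 5680) (nat_lit 1937) .nil))) (nat_lit 777) (nat_lit 9876) (nat_lit 141) (.node
  (.node (.node .nil (nat_lit 778) (nat_lit 15780) (nat_lit 164) .nil) (nat_lit 779) (nat_lit 24419) (nat_lit
  816) (.node .nil (nat_lit 780) (nat_lit 5747) (nat_lit 1847) .nil)) (nat_lit 781) (nat_lit 11364) (nat_lit
  1177) (.node (.node .nil (nat_lit 782) (nat_lit 21861) (nat_lit 748) .nil) (nat_lit 783) (nat_lit 15796)
  (nat_lit 164) .nil))))))
def tR6_6 : T := (.node (.node (.node (.node (.node (.node (.node .nil (nat_lit 785) (nat_lit 25844) (nat_lit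
  1185) .nil) (nat_lit 786) (nat_lit 23236) (nat_lit 1160) (.node .nil (nat_lit 787) (nat_lit 14388) (nat_lit
  156) .nil)) (nat_lit 788) (nat_lit 22581) (nat_lit 1769) (.node (.node .nil (nat_lit 789) (nat_lit 2979)
  (nat_lit 1838) .nil) (nat_lit 790) (nat_lit 14404) (nat_lit 156) (.node .nil (nat_lit 791) (nat_lit 23252)
  (nat_lit 1160) .nil))) (nat_lit 792) (nat_lit 9892) (nat_lit 141) (.node (.node (.node .nil (nat_lit 793)
  (nat_lit 11380) (nat_lit 1177) .nil) (nat_lit 794) (nat_lit 21877) (nat_lit 748) (.node .nil (nat_lit 795)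
  (nat_lit 15812) (nat_lit 164) .nil)) (nat_lit 796) (nat_lit 11396) (nat_lit 1177) (.node (.node .nil
  (nat_lit 797) (nat_lit 2176) (nat_lit 912) .nil) (nat_lit 798) (nat_lit 15828) (nat_lit 164) .nil)))
  (nat_lit 799) (nat_lit 24403) (nat_lit 804) (.node (.node (.node (.node .nil (nat_lit 800) (nat_lit 9908)
  (nat_lit 141) .nil) (nat_lit 801) (nat_lit 11412) (nat_lit 1177) (.node .nil (nat_lit 802) (nat_lit 24323)
  (nat_lit 793) .nil)) (nat_lit 803) (nat_lit 15844) (nat_lit 164) (.node (.node .nil (nat_lit 804) (nat_lit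
  11428) (nat_lit 1177) .nil) (nat_lit 805) (nat_lit 9924) (nat_lit 141) (.node .nil (nat_lit 806) (nat_lit
  5603) (nat_lit 797) .nil))) (nat_lit 807) (nat_lit 24290) (nat_lit 781) (.node (.node (.node .nil (nat_lit
  808) (nat_lit 22597) (nat_lit 1769) .nil) (nat_lit 809) (nat_lit 25860) (nat_lit 1185) (.node .nil (nat_lit
  810) (nat_lit 816) (nat_lit 1954) .nil)) (nat_lit 811) (nat_lit 14420) (nat_lit 156) (.node (.node .nil
  (nat_lit 812) (nat_lit 19104) (nat_lit 1933) .nil) (nat_lit 813) (nat_lit 26517) (nat_lit 751) .nil))))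
  (nat_lit 814) (nat_lit 14436) (nat_lit 156) (.node (.node (.node (.node (.node .nil (nat_lit 815) (nat_lit
  23268) (nat_lit 1160) .nil) (nat_lit 816) (nat_lit 11444) (nat_lit 1177) (.node .nil (nat_lit 817) (nat_lit
  9940) (nat_lit 141) .nil)) (nat_lit 818) (nat_lit 15860) (nat_lit 164) (.node (.node .nil (nat_lit 819)
  (nat_lit 24338) (nat_lit 793) .nil) (nat_lit 820) (nat_lit 9956) (nat_lit 141) (.node .nil (nat_lit 821)
  (nat_lit 11460) (nat_lit 1177) .nil))) (nat_lit 822) (nat_lit 24307) (nat_lit 781) (.node (.node (.node .nil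
  (nat_lit 823) (nat_lit 15876) (nat_lit 164) .nil) (nat_lit 824) (nat_lit 19216) (nat_lit 1945) (.node .nil
  (nat_lit 825) (nat_lit 26533) (nat_lit 751) .nil)) (nat_lit 826) (nat_lit 14452) (nat_lit 156) (.node (.node
  .nil (nat_lit 827) (nat_lit 2992) (nat_lit 1971) .nil) (nat_lit 828) (nat_lit 22613) (nat_lit 1769) .nil)))
  (nat_lit 829) (nat_lit 25876) (nat_lit 1185) (.node (.node (.node (.node .nil (nat_lit 830) (nat_lit 23284)
  (nat_lit 1160) .nil) (nat_lit 831) (nat_lit 2384) (nat_lit 931) (.node .nil (nat_lit 832) (nat_lit 4789)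
  (nat_lit 1553) .nil)) (nat_lit 833) (nat_lit 28001) (nat_lit 1368) (.node (.node .nil (nat_lit 834) (nat_lit
  29409) (nat_lit 351) .nil) (nat_lit 835) (nat_lit 28965) (nat_lit 533) (.node .nil (nat_lit 836) (nat_lit
  1989) (nat_lit 543) .nil))) (nat_lit 837) (nat_lit 30129) (nat_lit 338) (.node (.node (.node .nil (nat_lit
  838) (nat_lit 28661) (nat_lit 1555) .nil) (nat_lit 839) (nat_lit 29733) (nat_lit 1563) (.node .nil (nat_lit
  840) (nat_lit 4965) (nat_lit 534) .nil)) (nat_lit 841) (nat_lit 28241) (nat_lit 343) (.node (.node .nil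
  (nat_lit 842) (nat_lit 28561) (nat_lit 1360) .nil) (nat_lit 843) (nat_lit 30597) (nat_lit 1554) .nil)))))
  (nat_lit 844) (nat_lit 4257) (nat_lit 1364) (.node (.node (.node (.node (.node (.node .nil (nat_lit 845)
  (nat_lit 29937) (nat_lit 1373) .nil) (nat_lit 846) (nat_lit 28837) (nat_lit 532) (.node .nil (nat_lit 847)
  (nat_lit 30469) (nat_lit 540) .nil)) (nat_lit 848) (nat_lit 2005) (nat_lit 543) (.node (.node .nil (nat_lit
  849) (nat_lit 30113) (nat_lit 326) .nil) (nat_lit 850) (nat_lit 28677) (nat_lit 1555) (.node .nil (nat_lit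
  851) (nat_lit 29749) (nat_lit 1563) .nil))) (nat_lit 852) (nat_lit 4805) (nat_lit 1553) (.node (.node (.node
  .nil (nat_lit 853) (nat_lit 27969) (nat_lit 1356) .nil) (nat_lit 854) (nat_lit 29393) (nat_lit 331) (.node
  .nil (nat_lit 855) (nat_lit 28981) (nat_lit 533) .nil)) (nat_lit 856) (nat_lit 4097) (nat_lit 1344) (.node
  (.node .nil (nat_lit 857) (nat_lit 29921) (nat_lit 1353) .nil) (nat_lit 858) (nat_lit 28853) (nat_lit 532)
  .nil))) (nat_lit 859) (nat_lit 30485) (nat_lit 540) (.node (.node (.node (.node .nil (nat_lit 860) (nat_lit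
  4981) (nat_lit 534) .nil) (nat_lit 861) (nat_lit 28225) (nat_lit 323) (.node .nil (nat_lit 862) (nat_lit
  28529) (nat_lit 1348) .nil)) (nat_lit 863) (nat_lit 30613) (nat_lit 1554) (.node (.node .nil (nat_lit 864)
  (nat_lit 4997) (nat_lit 534) .nil) (nat_lit 865) (nat_lit 28273) (nat_lit 383) (.node .nil (nat_lit 866)
  (nat_lit 28641) (nat_lit 1400) .nil))) (nat_lit 867) (nat_lit 30629) (nat_lit 1554) (.node (.node (.node
  .nil (nat_lit 868) (nat_lit 4065) (nat_lit 1404) .nil) (nat_lit 869) (nat_lit 29969) (nat_lit 1397) (.node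
  .nil (nat_lit 870) (nat_lit 28869) (nat_lit 532) .nil)) (nat_lit 871) (nat_lit 30501) (nat_lit 540) (.node
  (.node .nil (nat_lit 872) (nat_lit 4821) (nat_lit 1553) .nil) (nat_lit 873) (nat_lit 27953) (nat_lit 1392)
  .nil)))) (nat_lit 874) (nat_lit 29377) (nat_lit 375) (.node (.node (.node (.node (.node .nil (nat_lit 875)
  (nat_lit 28997) (nat_lit 533) .nil) (nat_lit 876) (nat_lit 2021) (nat_lit 543) (.node .nil (nat_lit 877)
  (nat_lit 30097) (nat_lit 378) .nil)) (nat_lit 878) (nat_lit 28693) (nat_lit 1555) (.node (.node .nil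
  (nat_lit 879) (nat_lit 29765) (nat_lit 1563) .nil) (nat_lit 880) (nat_lit 3713) (nat_lit 1384) (.node .nil
  (nat_lit 881) (nat_lit 29953) (nat_lit 1377) .nil))) (nat_lit 882) (nat_lit 28885) (nat_lit 532) (.node
  (.node (.node .nil (nat_lit 883) (nat_lit 30517) (nat_lit 540) .nil) (nat_lit 884) (nat_lit 5013) (nat_lit
  534) (.node .nil (nat_lit 885) (nat_lit 28257) (nat_lit 363) .nil)) (nat_lit 886) (nat_lit 28609) (nat_lit
  1388) (.node (.node .nil (nat_lit 887) (nat_lit 30645) (nat_lit 1554) .nil) (nat_lit 888) (nat_lit 2037)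
  (nat_lit 543) .nil))) (nat_lit 889) (nat_lit 30081) (nat_lit 366) (.node (.node (.node (.node .nil (nat_lit
  890) (nat_lit 28709) (nat_lit 1555) .nil) (nat_lit 891) (nat_lit 29781) (nat_lit 1563) (.node .nil (nat_lit
  892) (nat_lit 4837) (nat_lit 1553) .nil)) (nat_lit 893) (nat_lit 27921) (nat_lit 1380) (.node (.node .nil
  (nat_lit 894) (nat_lit 29361) (nat_lit 355) .nil) (nat_lit 895) (nat_lit 29013) (nat_lit 533) (.node .nil
  (nat_lit 896) (nat_lit 1137) (nat_lit 240) .nil))) (nat_lit 897) (nat_lit 3282) (nat_lit 896) (.node (.node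
  (.node .nil (nat_lit 898) (nat_lit 2706) (nat_lit 899) .nil) (nat_lit 899) (nat_lit 945) (nat_lit 1271)
  (.node .nil (nat_lit 900) (nat_lit 9972) (nat_lit 141) .nil)) (nat_lit 901) (nat_lit 11476) (nat_lit 1177)
  (.node (.node .nil (nat_lit 902) (nat_lit 21345) (nat_lit 244) .nil) (nat_lit 903) (nat_lit 15892) (nat_lit
  164) .nil))))))
def tR6_7 : T := (.node (.node (.node (.node (.node (.node (.node .nil (nat_lit 905) (nat_lit 17137) (nat_lit
  1270) .nil) (nat_lit 906) (nat_lit 14468) (nat_lit 156) (.node .nil (nat_lit 907) (nat_lit 23300) (nat_lit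
  1160) .nil)) (nat_lit 908) (nat_lit 16994) (nat_lit 909) (.node (.node .nil (nat_lit 909) (nat_lit 5969)
  (nat_lit 252) .nil) (nat_lit 910) (nat_lit 20657) (nat_lit 1275) (.node .nil (nat_lit 911) (nat_lit 14484)
  (nat_lit 156) .nil))) (nat_lit 912) (nat_lit 721) (nat_lit 1262) (.node (.node (.node .nil (nat_lit 913)
  (nat_lit 11492) (nat_lit 1177) .nil) (nat_lit 914) (nat_lit 2274) (nat_lit 1939) (.node .nil (nat_lit 915)
  (nat_lit 15908) (nat_lit 164) .nil)) (nat_lit 916) (nat_lit 8961) (nat_lit 228) (.node (.node .nil (nat_lit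
  917) (nat_lit 5365) (nat_lit 888) .nil) (nat_lit 918) (nat_lit 13397) (nat_lit 1916) .nil))) (nat_lit 919)
  (nat_lit 13653) (nat_lit 1908) (.node (.node (.node (.node .nil (nat_lit 920) (nat_lit 17410) (nat_lit 921)
  .nil) (nat_lit 921) (nat_lit 6257) (nat_lit 232) (.node .nil (nat_lit 922) (nat_lit 20785) (nat_lit 1263)
  .nil)) (nat_lit 923) (nat_lit 14500) (nat_lit 156) (.node (.node .nil (nat_lit 924) (nat_lit 24897) (nat_lit
  1259) .nil) (nat_lit 925) (nat_lit 16913) (nat_lit 1250) (.node .nil (nat_lit 926) (nat_lit 14516) (nat_lit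
  156) .nil))) (nat_lit 927) (nat_lit 23316) (nat_lit 1160) (.node (.node (.node .nil (nat_lit 928) (nat_lit
  2418) (nat_lit 1953) .nil) (nat_lit 929) (nat_lit 17825) (nat_lit 1246) (.node .nil (nat_lit 930) (nat_lit
  17841) (nat_lit 217) .nil)) (nat_lit 931) (nat_lit 834) (nat_lit 1954) (.node (.node .nil (nat_lit 932)
  (nat_lit 19474) (nat_lit 933) .nil) (nat_lit 933) (nat_lit 7457) (nat_lit 212) .nil)))) (nat_lit 934)
  (nat_lit 14532) (nat_lit 156) (.node (.node (.node (.node (.node .nil (nat_lit 935) (nat_lit 23332) (nat_lit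
  1160) .nil) (nat_lit 936) (nat_lit 7793) (nat_lit 216) (.node .nil (nat_lit 937) (nat_lit 5381) (nat_lit
  888) .nil)) (nat_lit 938) (nat_lit 13413) (nat_lit 1916) (.node (.node .nil (nat_lit 939) (nat_lit 13669)
  (nat_lit 1908) .nil) (nat_lit 940) (nat_lit 11508) (nat_lit 1177) (.node .nil (nat_lit 941) (nat_lit 9988)
  (nat_lit 141) .nil))) (nat_lit 942) (nat_lit 15924) (nat_lit 164) (.node (.node (.node .nil (nat_lit 943)
  (nat_lit 20689) (nat_lit 213) .nil) (nat_lit 944) (nat_lit 2242) (nat_lit 945) (.node .nil (nat_lit 945)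
  (nat_lit 737) (nat_lit 192) .nil)) (nat_lit 946) (nat_lit 14548) (nat_lit 156) (.node (.node .nil (nat_lit
  947) (nat_lit 23348) (nat_lit 1160) .nil) (nat_lit 948) (nat_lit 21137) (nat_lit 1219) .nil))) (nat_lit 949)
  (nat_lit 18193) (nat_lit 1226) (.node (.node (.node (.node .nil (nat_lit 950) (nat_lit 18209) (nat_lit 205)
  .nil) (nat_lit 951) (nat_lit 14564) (nat_lit 156) (.node .nil (nat_lit 952) (nat_lit 11524) (nat_lit 1177)
  .nil)) (nat_lit 953) (nat_lit 10004) (nat_lit 141) (.node (.node .nil (nat_lit 954) (nat_lit 15940) (nat_lit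
  164) .nil) (nat_lit 955) (nat_lit 20881) (nat_lit 193) (.node .nil (nat_lit 956) (nat_lit 7649) (nat_lit
  204) .nil))) (nat_lit 957) (nat_lit 5397) (nat_lit 888) (.node (.node (.node .nil (nat_lit 958) (nat_lit
  13429) (nat_lit 1916) .nil) (nat_lit 959) (nat_lit 13685) (nat_lit 1908) (.node .nil (nat_lit 960) (nat_lit
  131) (nat_lit 971) .nil)) (nat_lit 961) (nat_lit 3025) (nat_lit 65) (.node (.node .nil (nat_lit 962)
  (nat_lit 7185) (nat_lit 1094) .nil) (nat_lit 963) (nat_lit 8289) (nat_lit 1103) .nil))))) (nat_lit 964)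
  (nat_lit 18547) (nat_lit 975) (.node (.node (.node (.node (.node (.node .nil (nat_lit 965) (nat_lit 6546)
  (nat_lit 1014) .nil) (nat_lit 966) (nat_lit 690) (nat_lit 1013) (.node .nil (nat_lit 967) (nat_lit 6661)
  (nat_lit 898) .nil)) (nat_lit 968) (nat_lit 7489) (nat_lit 1095) (.node (.node .nil (nat_lit 969) (nat_lit
  7889) (nat_lit 1102) .nil) (nat_lit 970) (nat_lit 2497) (nat_lit 73) (.node .nil (nat_lit 971) (nat_lit 33)
  (nat_lit 64) .nil))) (nat_lit 972) (nat_lit 8405) (nat_lit 897) (.node (.node (.node .nil (nat_lit 973)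
  (nat_lit 704) (nat_lit 1013) .nil) (nat_lit 974) (nat_lit 8546) (nat_lit 2045) (.node .nil (nat_lit 975)
  (nat_lit 6832) (nat_lit 1994) .nil)) (nat_lit 976) (nat_lit 18611) (nat_lit 987) (.node (.node .nil (nat_lit
  977) (nat_lit 6386) (nat_lit 994) .nil) (nat_lit 978) (nat_lit 18304) (nat_lit 1019) .nil))) (nat_lit 979)
  (nat_lit 6677) (nat_lit 898) (.node (.node (.node (.node .nil (nat_lit 980) (nat_lit 18706) (nat_lit 2023)
  .nil) (nat_lit 981) (nat_lit 3089) (nat_lit 85) (.node .nil (nat_lit 982) (nat_lit 6945) (nat_lit 1106)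
  .nil)) (nat_lit 983) (nat_lit 8017) (nat_lit 1115) (.node (.node .nil (nat_lit 984) (nat_lit 8421) (nat_lit
  897) .nil) (nat_lit 985) (nat_lit 19426) (nat_lit 2026) (.node .nil (nat_lit 986) (nat_lit 144) (nat_lit
  971) .nil))) (nat_lit 987) (nat_lit 6864) (nat_lit 2014) (.node (.node (.node .nil (nat_lit 988) (nat_lit
  499) (nat_lit 2007) .nil) (nat_lit 989) (nat_lit 7745) (nat_lit 1114) (.node .nil (nat_lit 990) (nat_lit
  2561) (nat_lit 93) .nil)) (nat_lit 991) (nat_lit 20624) (nat_lit 974) (.node (.node .nil (nat_lit 992)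
  (nat_lit 7233) (nat_lit 1135) .nil) (nat_lit 993) (nat_lit 8993) (nat_lit 1126) .nil)))) (nat_lit 994)
  (nat_lit 2593) (nat_lit 97) (.node (.node (.node (.node (.node .nil (nat_lit 995) (nat_lit 19665) (nat_lit
  104) .nil) (nat_lit 996) (nat_lit 514) (nat_lit 2007) (.node .nil (nat_lit 997) (nat_lit 16946) (nat_lit
  2006) .nil)) (nat_lit 998) (nat_lit 8530) (nat_lit 2005) (.node (.node .nil (nat_lit 999) (nat_lit 6560)
  (nat_lit 1014) .nil) (nat_lit 1000) (nat_lit 16897) (nat_lit 96) (.node .nil (nat_lit 1001) (nat_lit 3153)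
  (nat_lit 105) .nil))) (nat_lit 1002) (nat_lit 6593) (nat_lit 1134) (.node (.node (.node .nil (nat_lit 1003)
  (nat_lit 7921) (nat_lit 1127) .nil) (nat_lit 1004) (nat_lit 18723) (nat_lit 2023) (.node .nil (nat_lit 1005)
  (nat_lit 6290) (nat_lit 990) .nil)) (nat_lit 1006) (nat_lit 18336) (nat_lit 2003) (.node (.node .nil
  (nat_lit 1007) (nat_lit 1666) (nat_lit 988) .nil) (nat_lit 1008) (nat_lit 8437) (nat_lit 897) .nil)))
  (nat_lit 1009) (nat_lit 17170) (nat_lit 1986) (.node (.node (.node (.node .nil (nat_lit 1010) (nat_lit 8514)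
  (nat_lit 1985) .nil) (nat_lit 1011) (nat_lit 6400) (nat_lit 994) (.node .nil (nat_lit 1012) (nat_lit 6993)
  (nat_lit 1147) .nil)) (nat_lit 1013) (nat_lit 193) (nat_lit 1138) (.node (.node .nil (nat_lit 1014) (nat_lit
  2657) (nat_lit 117) .nil) (nat_lit 1015) (nat_lit 19648) (nat_lit 2034) (.node .nil (nat_lit 1016) (nat_lit
  162) (nat_lit 971) .nil))) (nat_lit 1017) (nat_lit 6002) (nat_lit 970) (.node (.node (.node .nil (nat_lit
  1018) (nat_lit 18320) (nat_lit 1991) .nil) (nat_lit 1019) (nat_lit 6693) (nat_lit 898) (.node .nil (nat_lit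
  1020) (nat_lit 17106) (nat_lit 1999) .nil)) (nat_lit 1021) (nat_lit 3217) (nat_lit 125) (.node (.node .nil
  (nat_lit 1022) (nat_lit 6433) (nat_lit 1146) .nil) (nat_lit 1023) (nat_lit 7777) (nat_lit 1139) .nil))))))
def tR6_8 : T := (.node (.node (.node (.node (.node (.node (.node .nil (nat_lit 1089) (nat_lit 1157) (nat_lit
  240) .nil) (nat_lit 1090) (nat_lit 15956) (nat_lit 164) (.node .nil (nat_lit 1091) (nat_lit 7093) (nat_lit
  1276) .nil)) (nat_lit 1092) (nat_lit 10020) (nat_lit 141) (.node (.node .nil (nat_lit 1093) (nat_lit 11540)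
  (nat_lit 1177) .nil) (nat_lit 1094) (nat_lit 2851) (nat_lit 1117) (.node .nil (nat_lit 1095) (nat_lit 2930)
  (nat_lit 1141) .nil))) (nat_lit 1096) (nat_lit 6355) (nat_lit 83) (.node (.node (.node .nil (nat_lit 1097)
  (nat_lit 965) (nat_lit 1271) .nil) (nat_lit 1098) (nat_lit 14580) (nat_lit 156) (.node .nil (nat_lit 1099)
  (nat_lit 19701) (nat_lit 251) .nil)) (nat_lit 1100) (nat_lit 13232) (nat_lit 1273) (.node (.node .nil
  (nat_lit 1101) (nat_lit 13125) (nat_lit 249) .nil) (nat_lit 1102) (nat_lit 3107) (nat_lit 85) .nil)))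
  (nat_lit 1103) (nat_lit 3234) (nat_lit 125) (.node (.node (.node (.node .nil (nat_lit 1104) (nat_lit 10036)
  (nat_lit 141) .nil) (nat_lit 1105) (nat_lit 11556) (nat_lit 1177) (.node .nil (nat_lit 1106) (nat_lit 2803)
  (nat_lit 1097) .nil)) (nat_lit 1107) (nat_lit 976) (nat_lit 1271) (.node (.node .nil (nat_lit 1108) (nat_lit
  8162) (nat_lit 102) .nil) (nat_lit 1109) (nat_lit 1173) (nat_lit 240) (.node .nil (nat_lit 1110) (nat_lit
  15972) (nat_lit 164) .nil))) (nat_lit 1111) (nat_lit 7109) (nat_lit 1276) (.node (.node (.node .nil (nat_lit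
  1112) (nat_lit 13216) (nat_lit 1261) .nil) (nat_lit 1113) (nat_lit 13141) (nat_lit 249) (.node .nil (nat_lit
  1114) (nat_lit 3043) (nat_lit 65) .nil)) (nat_lit 1115) (nat_lit 3170) (nat_lit 105) (.node (.node .nil
  (nat_lit 1116) (nat_lit 6515) (nat_lit 71) .nil) (nat_lit 1117) (nat_lit 997) (nat_lit 1271) .nil))))
  (nat_lit 1118) (nat_lit 14596) (nat_lit 156) (.node (.node (.node (.node (.node .nil (nat_lit 1119) (nat_lit
  19717) (nat_lit 251) .nil) (nat_lit 1120) (nat_lit 6962) (nat_lit 1106) (.node .nil (nat_lit 1121) (nat_lit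
  752) (nat_lit 192) .nil)) (nat_lit 1122) (nat_lit 22082) (nat_lit 1104) (.node (.node .nil (nat_lit 1123)
  (nat_lit 14612) (nat_lit 156) .nil) (nat_lit 1124) (nat_lit 12992) (nat_lit 197) (.node .nil (nat_lit 1125)
  (nat_lit 13157) (nat_lit 249) .nil))) (nat_lit 1126) (nat_lit 3491) (nat_lit 1149) (.node (.node (.node .nil
  (nat_lit 1127) (nat_lit 3122) (nat_lit 85) .nil) (nat_lit 1128) (nat_lit 8562) (nat_lit 90) (.node .nil
  (nat_lit 1129) (nat_lit 98) (nat_lit 91) .nil)) (nat_lit 1130) (nat_lit 22181) (nat_lit 1268) (.node (.node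
  .nil (nat_lit 1131) (nat_lit 7125) (nat_lit 1276) .nil) (nat_lit 1132) (nat_lit 11572) (nat_lit 1177)
  .nil))) (nat_lit 1133) (nat_lit 10052) (nat_lit 141) (.node (.node (.node (.node .nil (nat_lit 1134)
  (nat_lit 2675) (nat_lit 117) .nil) (nat_lit 1135) (nat_lit 2866) (nat_lit 1117) (.node .nil (nat_lit 1136)
  (nat_lit 13008) (nat_lit 209) .nil)) (nat_lit 1137) (nat_lit 13173) (nat_lit 249) (.node (.node .nil
  (nat_lit 1138) (nat_lit 50) (nat_lit 64) .nil) (nat_lit 1139) (nat_lit 3058) (nat_lit 65) (.node .nil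
  (nat_lit 1140) (nat_lit 7202) (nat_lit 1094) .nil))) (nat_lit 1141) (nat_lit 1013) (nat_lit 1271) (.node
  (.node (.node .nil (nat_lit 1142) (nat_lit 22066) (nat_lit 1092) .nil) (nat_lit 1143) (nat_lit 14628)
  (nat_lit 156) (.node .nil (nat_lit 1144) (nat_lit 11588) (nat_lit 1177) .nil)) (nat_lit 1145) (nat_lit
  10068) (nat_lit 141) (.node (.node .nil (nat_lit 1146) (nat_lit 2611) (nat_lit 97) .nil) (nat_lit 1147)
  (nat_lit 2818) (nat_lit 1097) .nil))))) (nat_lit 1148) (nat_lit 8674) (nat_lit 78) (.node (.node (.node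
  (.node (.node (.node .nil (nat_lit 1149) (nat_lit 1189) (nat_lit 240) .nil) (nat_lit 1150) (nat_lit 13761)
  (nat_lit 138) (.node .nil (nat_lit 1151) (nat_lit 7141) (nat_lit 1276) .nil)) (nat_lit 1152) (nat_lit 22325)
  (nat_lit 1433) (.node (.node .nil (nat_lit 1153) (nat_lit 21073) (nat_lit 272) .nil) (nat_lit 1154) (nat_lit
  12485) (nat_lit 405) (.node .nil (nat_lit 1155) (nat_lit 24053) (nat_lit 413) .nil))) (nat_lit 1156)
  (nat_lit 25397) (nat_lit 407) (.node (.node (.node .nil (nat_lit 1157) (nat_lit 27041) (nat_lit 1306) .nil)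
  (nat_lit 1158) (nat_lit 29525) (nat_lit 1435) (.node .nil (nat_lit 1159) (nat_lit 16565) (nat_lit 1427)
  .nil)) (nat_lit 1160) (nat_lit 10853) (nat_lit 414) (.node (.node .nil (nat_lit 1161) (nat_lit 27057)
  (nat_lit 1311) .nil) (nat_lit 1162) (nat_lit 24960) (nat_lit 183) .nil))) (nat_lit 1163) (nat_lit 12293)
  (nat_lit 1434) (.node (.node (.node (.node .nil (nat_lit 1164) (nat_lit 25233) (nat_lit 284) .nil) (nat_lit
  1165) (nat_lit 3877) (nat_lit 1432) (.node .nil (nat_lit 1166) (nat_lit 10707) (nat_lit 165) .nil)) (nat_lit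
  1167) (nat_lit 22880) (nat_lit 178) (.node (.node .nil (nat_lit 1168) (nat_lit 25413) (nat_lit 407) .nil)
  (nat_lit 1169) (nat_lit 27025) (nat_lit 1294) (.node .nil (nat_lit 1170) (nat_lit 29541) (nat_lit 1435)
  .nil))) (nat_lit 1171) (nat_lit 5138) (nat_lit 184) (.node (.node (.node .nil (nat_lit 1172) (nat_lit 22341)
  (nat_lit 1433) .nil) (nat_lit 1173) (nat_lit 21041) (nat_lit 260) (.node .nil (nat_lit 1174) (nat_lit 12501)
  (nat_lit 405) .nil)) (nat_lit 1175) (nat_lit 24069) (nat_lit 413) (.node (.node .nil (nat_lit 1176) (nat_lit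
  25297) (nat_lit 264) .nil) (nat_lit 1177) (nat_lit 3893) (nat_lit 1432) .nil)))) (nat_lit 1178) (nat_lit
  10739) (nat_lit 177) (.node (.node (.node (.node (.node .nil (nat_lit 1179) (nat_lit 21312) (nat_lit 166)
  .nil) (nat_lit 1180) (nat_lit 10869) (nat_lit 414) (.node .nil (nat_lit 1181) (nat_lit 27009) (nat_lit 1291)
  .nil)) (nat_lit 1182) (nat_lit 24944) (nat_lit 163) (.node (.node .nil (nat_lit 1183) (nat_lit 12309)
  (nat_lit 1434) .nil) (nat_lit 1184) (nat_lit 10885) (nat_lit 414) (.node .nil (nat_lit 1185) (nat_lit 12849)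
  (nat_lit 1335) .nil))) (nat_lit 1186) (nat_lit 24976) (nat_lit 1163) (.node (.node (.node .nil (nat_lit
  1187) (nat_lit 12325) (nat_lit 1434) .nil) (nat_lit 1188) (nat_lit 25553) (nat_lit 308) (.node .nil (nat_lit
  1189) (nat_lit 3909) (nat_lit 1432) .nil)) (nat_lit 1190) (nat_lit 10914) (nat_lit 1165) (.node (.node .nil
  (nat_lit 1191) (nat_lit 22912) (nat_lit 1166) .nil) (nat_lit 1192) (nat_lit 22357) (nat_lit 1433) .nil)))
  (nat_lit 1193) (nat_lit 20977) (nat_lit 312) (.node (.node (.node (.node .nil (nat_lit 1194) (nat_lit 12517)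
  (nat_lit 405) .nil) (nat_lit 1195) (nat_lit 24085) (nat_lit 413) (.node .nil (nat_lit 1196) (nat_lit 25429)
  (nat_lit 407) .nil)) (nat_lit 1197) (nat_lit 27365) (nat_lit 415) (.node (.node .nil (nat_lit 1198) (nat_lit
  4417) (nat_lit 309) .nil) (nat_lit 1199) (nat_lit 16581) (nat_lit 1427) (.node .nil (nat_lit 1200) (nat_lit
  25489) (nat_lit 288) .nil))) (nat_lit 1201) (nat_lit 3925) (nat_lit 1432) (.node (.node (.node .nil (nat_lit
  1202) (nat_lit 5345) (nat_lit 1326) .nil) (nat_lit 1203) (nat_lit 22944) (nat_lit 1178) (.node .nil (nat_lit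
  1204) (nat_lit 10901) (nat_lit 414) .nil)) (nat_lit 1205) (nat_lit 28101) (nat_lit 406) (.node (.node .nil
  (nat_lit 1206) (nat_lit 24992) (nat_lit 1183) .nil) (nat_lit 1207) (nat_lit 4737) (nat_lit 301) .nil))))))
def tR6_9 : T := (.node (.node (.node (.node (.node (.node (.node .nil (nat_lit 1209) (nat_lit 27381) (nat_lit
  415) .nil) (nat_lit 1210) (nat_lit 29557) (nat_lit 1435) (.node .nil (nat_lit 1211) (nat_lit 16597) (nat_lit
  1427) .nil)) (nat_lit 1212) (nat_lit 22373) (nat_lit 1433) (.node (.node .nil (nat_lit 1213) (nat_lit 21025)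
  (nat_lit 300) .nil) (nat_lit 1214) (nat_lit 12533) (nat_lit 405) (.node .nil (nat_lit 1215) (nat_lit 24101)
  (nat_lit 413) .nil))) (nat_lit 1216) (nat_lit 2624) (nat_lit 97) (.node (.node (.node .nil (nat_lit 1217)
  (nat_lit 7810) (nat_lit 216) .nil) (nat_lit 1218) (nat_lit 12933) (nat_lit 365) (.node .nil (nat_lit 1219)
  (nat_lit 9345) (nat_lit 1446) .nil)) (nat_lit 1220) (nat_lit 22114) (nat_lit 1245) (.node (.node .nil
  (nat_lit 1221) (nat_lit 4645) (nat_lit 359) .nil) (nat_lit 1222) (nat_lit 8688) (nat_lit 78) .nil)))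
  (nat_lit 1223) (nat_lit 8032) (nat_lit 1115) (.node (.node (.node (.node .nil (nat_lit 1224) (nat_lit 11604)
  (nat_lit 1177) .nil) (nat_lit 1225) (nat_lit 10084) (nat_lit 141) (.node .nil (nat_lit 1226) (nat_lit 6608)
  (nat_lit 1134) .nil)) (nat_lit 1227) (nat_lit 5936) (nat_lit 123) (.node (.node .nil (nat_lit 1228) (nat_lit
  3392) (nat_lit 1089) .nil) (nat_lit 1229) (nat_lit 7474) (nat_lit 212) (.node .nil (nat_lit 1230) (nat_lit
  20994) (nat_lit 215) .nil))) (nat_lit 1231) (nat_lit 15988) (nat_lit 164) (.node (.node (.node .nil (nat_lit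
  1232) (nat_lit 22098) (nat_lit 1225) .nil) (nat_lit 1233) (nat_lit 4661) (nat_lit 359) (.node .nil (nat_lit
  1234) (nat_lit 8576) (nat_lit 90) .nil)) (nat_lit 1235) (nat_lit 8304) (nat_lit 1103) (.node (.node .nil
  (nat_lit 1236) (nat_lit 2688) (nat_lit 117) .nil) (nat_lit 1237) (nat_lit 7666) (nat_lit 204) .nil))))
  (nat_lit 1238) (nat_lit 12949) (nat_lit 365) (.node (.node (.node (.node (.node .nil (nat_lit 1239) (nat_lit
  12177) (nat_lit 1458) .nil) (nat_lit 1240) (nat_lit 3440) (nat_lit 1109) (.node .nil (nat_lit 1241) (nat_lit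
  64) (nat_lit 64) .nil)) (nat_lit 1242) (nat_lit 20946) (nat_lit 195) (.node (.node .nil (nat_lit 1243)
  (nat_lit 16004) (nat_lit 164) .nil) (nat_lit 1244) (nat_lit 11620) (nat_lit 1177) (.node .nil (nat_lit 1245)
  (nat_lit 10100) (nat_lit 141) .nil))) (nat_lit 1246) (nat_lit 6448) (nat_lit 1146) (.node (.node (.node .nil
  (nat_lit 1247) (nat_lit 6160) (nat_lit 111) .nil) (nat_lit 1248) (nat_lit 10116) (nat_lit 141) (.node .nil
  (nat_lit 1249) (nat_lit 11636) (nat_lit 1177) .nil)) (nat_lit 1250) (nat_lit 5904) (nat_lit 82) (.node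
  (.node .nil (nat_lit 1251) (nat_lit 7504) (nat_lit 1095) .nil) (nat_lit 1252) (nat_lit 3248) (nat_lit 125)
  .nil))) (nat_lit 1253) (nat_lit 5986) (nat_lit 252) (.node (.node (.node (.node .nil (nat_lit 1254) (nat_lit
  16020) (nat_lit 164) .nil) (nat_lit 1255) (nat_lit 18944) (nat_lit 87) (.node .nil (nat_lit 1256) (nat_lit
  2880) (nat_lit 1117) .nil)) (nat_lit 1257) (nat_lit 243) (nat_lit 1241) (.node (.node .nil (nat_lit 1258)
  (nat_lit 12965) (nat_lit 365) .nil) (nat_lit 1259) (nat_lit 12193) (nat_lit 1422) (.node .nil (nat_lit 1260)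
  (nat_lit 23939) (nat_lit 220) .nil))) (nat_lit 1261) (nat_lit 4677) (nat_lit 359) (.node (.node (.node .nil
  (nat_lit 1262) (nat_lit 208) (nat_lit 1138) .nil) (nat_lit 1263) (nat_lit 8784) (nat_lit 103) (.node .nil
  (nat_lit 1264) (nat_lit 3184) (nat_lit 105) .nil)) (nat_lit 1265) (nat_lit 6274) (nat_lit 232) (.node (.node
  .nil (nat_lit 1266) (nat_lit 16036) (nat_lit 164) .nil) (nat_lit 1267) (nat_lit 18928) (nat_lit 67)
  .nil))))) (nat_lit 1268) (nat_lit 10132) (nat_lit 141) (.node (.node (.node (.node (.node (.node .nil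
  (nat_lit 1269) (nat_lit 11652) (nat_lit 1177) .nil) (nat_lit 1270) (nat_lit 6064) (nat_lit 70) (.node .nil
  (nat_lit 1271) (nat_lit 291) (nat_lit 199) .nil)) (nat_lit 1272) (nat_lit 23923) (nat_lit 200) (.node (.node
  .nil (nat_lit 1273) (nat_lit 4693) (nat_lit 359) .nil) (nat_lit 1274) (nat_lit 9008) (nat_lit 1126) (.node
  .nil (nat_lit 1275) (nat_lit 8608) (nat_lit 115) .nil))) (nat_lit 1276) (nat_lit 2832) (nat_lit 1097) (.node
  (.node (.node .nil (nat_lit 1277) (nat_lit 8978) (nat_lit 228) .nil) (nat_lit 1278) (nat_lit 12981) (nat_lit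
  365) (.node .nil (nat_lit 1279) (nat_lit 12337) (nat_lit 1434) .nil)) (nat_lit 1280) (nat_lit 5829) (nat_lit
  1809) (.node (.node .nil (nat_lit 1281) (nat_lit 3568) (nat_lit 408) .nil) (nat_lit 1282) (nat_lit 5621)
  (nat_lit 797) .nil))) (nat_lit 1283) (nat_lit 7589) (nat_lit 789) (.node (.node (.node (.node .nil (nat_lit
  1284) (nat_lit 11668) (nat_lit 1177) .nil) (nat_lit 1285) (nat_lit 10148) (nat_lit 141) (.node .nil (nat_lit
  1286) (nat_lit 12208) (nat_lit 1442) .nil)) (nat_lit 1287) (nat_lit 16835) (nat_lit 298) (.node (.node .nil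
  (nat_lit 1288) (nat_lit 12784) (nat_lit 1469) .nil) (nat_lit 1289) (nat_lit 25314) (nat_lit 264) (.node .nil
  (nat_lit 1290) (nat_lit 23364) (nat_lit 1160) .nil))) (nat_lit 1291) (nat_lit 14644) (nat_lit 156) (.node
  (.node (.node .nil (nat_lit 1292) (nat_lit 22773) (nat_lit 1816) .nil) (nat_lit 1293) (nat_lit 25091)
  (nat_lit 1312) (.node .nil (nat_lit 1294) (nat_lit 14660) (nat_lit 156) .nil)) (nat_lit 1295) (nat_lit
  23380) (nat_lit 1160) (.node (.node .nil (nat_lit 1296) (nat_lit 11684) (nat_lit 1177) .nil) (nat_lit 1297)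
  (nat_lit 10164) (nat_lit 141) .nil)))) (nat_lit 1298) (nat_lit 12352) (nat_lit 1462) (.node (.node (.node
  (.node (.node .nil (nat_lit 1299) (nat_lit 16851) (nat_lit 318) .nil) (nat_lit 1300) (nat_lit 5845) (nat_lit
  1809) (.node .nil (nat_lit 1301) (nat_lit 3520) (nat_lit 396) .nil)) (nat_lit 1302) (nat_lit 5637) (nat_lit
  797) (.node (.node .nil (nat_lit 1303) (nat_lit 7605) (nat_lit 789) .nil) (nat_lit 1304) (nat_lit 1905)
  (nat_lit 512) (.node .nil (nat_lit 1305) (nat_lit 4705) (nat_lit 521) .nil))) (nat_lit 1306) (nat_lit 14676)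
  (nat_lit 156) (.node (.node (.node .nil (nat_lit 1307) (nat_lit 23396) (nat_lit 1160) .nil) (nat_lit 1308)
  (nat_lit 12736) (nat_lit 1449) (.node .nil (nat_lit 1309) (nat_lit 25250) (nat_lit 284) .nil)) (nat_lit
  1310) (nat_lit 23412) (nat_lit 1160) (.node (.node .nil (nat_lit 1311) (nat_lit 14692) (nat_lit 156) .nil)
  (nat_lit 1312) (nat_lit 12384) (nat_lit 385) .nil))) (nat_lit 1313) (nat_lit 25506) (nat_lit 288) (.node
  (.node (.node (.node .nil (nat_lit 1314) (nat_lit 14708) (nat_lit 156) .nil) (nat_lit 1315) (nat_lit 23428)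
  (nat_lit 1160) (.node .nil (nat_lit 1316) (nat_lit 22789) (nat_lit 1816) .nil)) (nat_lit 1317) (nat_lit
  25331) (nat_lit 264) (.node (.node .nil (nat_lit 1318) (nat_lit 23444) (nat_lit 1160) .nil) (nat_lit 1319)
  (nat_lit 14724) (nat_lit 156) (.node .nil (nat_lit 1320) (nat_lit 5861) (nat_lit 1809) .nil))) (nat_lit
  1321) (nat_lit 3952) (nat_lit 1444) (.node (.node (.node .nil (nat_lit 1322) (nat_lit 5653) (nat_lit 797)
  .nil) (nat_lit 1323) (nat_lit 7621) (nat_lit 789) (.node .nil (nat_lit 1324) (nat_lit 4754) (nat_lit 301)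
  .nil)) (nat_lit 1325) (nat_lit 11700) (nat_lit 1177) (.node (.node .nil (nat_lit 1326) (nat_lit 1970)
  (nat_lit 303) .nil) (nat_lit 1327) (nat_lit 16052) (nat_lit 164) .nil))))))
def tR6_10 : T := (.node (.node (.node (.node (.node (.node (.node .nil (nat_lit 1329) (nat_lit 25267)
  (nat_lit 284) .nil) (nat_lit 1330) (nat_lit 23460) (nat_lit 1160) (.node .nil (nat_lit 1331) (nat_lit 14740)
  (nat_lit 156) .nil)) (nat_lit 1332) (nat_lit 2113) (nat_lit 1570) (.node (.node .nil (nat_lit 1333) (nat_lit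
  25570) (nat_lit 308) .nil) (nat_lit 1334) (nat_lit 14756) (nat_lit 156) (.node .nil (nat_lit 1335) (nat_lit
  4433) (nat_lit 549) .nil))) (nat_lit 1336) (nat_lit 9299) (nat_lit 277) (.node (.node (.node .nil (nat_lit
  1337) (nat_lit 11716) (nat_lit 1177) .nil) (nat_lit 1338) (nat_lit 9312) (nat_lit 394) (.node .nil (nat_lit
  1339) (nat_lit 16068) (nat_lit 164) .nil)) (nat_lit 1340) (nat_lit 5877) (nat_lit 1809) (.node (.node .nil
  (nat_lit 1341) (nat_lit 4000) (nat_lit 1456) .nil) (nat_lit 1342) (nat_lit 5669) (nat_lit 797) .nil)))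
  (nat_lit 1343) (nat_lit 7637) (nat_lit 789) (.node (.node (.node (.node .nil (nat_lit 1344) (nat_lit 1409)
  (nat_lit 681) .nil) (nat_lit 1345) (nat_lit 20129) (nat_lit 672) (.node .nil (nat_lit 1346) (nat_lit 27813)
  (nat_lit 997) .nil)) (nat_lit 1347) (nat_lit 17525) (nat_lit 1005) (.node (.node .nil (nat_lit 1348)
  (nat_lit 18021) (nat_lit 999) .nil) (nat_lit 1349) (nat_lit 4517) (nat_lit 1007) (.node .nil (nat_lit 1350)
  (nat_lit 20753) (nat_lit 685) .nil))) (nat_lit 1351) (nat_lit 29665) (nat_lit 676) (.node (.node (.node .nil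
  (nat_lit 1352) (nat_lit 28032) (nat_lit 356) .nil) (nat_lit 1353) (nat_lit 20533) (nat_lit 998) (.node .nil
  (nat_lit 1354) (nat_lit 4307) (nat_lit 380) .nil)) (nat_lit 1355) (nat_lit 19313) (nat_lit 673) (.node
  (.node .nil (nat_lit 1356) (nat_lit 17217) (nat_lit 684) .nil) (nat_lit 1357) (nat_lit 29157) (nat_lit 2024)
  .nil)))) (nat_lit 1358) (nat_lit 28499) (nat_lit 376) (.node (.node (.node (.node (.node .nil (nat_lit 1359)
  (nat_lit 1749) (nat_lit 996) .nil) (nat_lit 1360) (nat_lit 18037) (nat_lit 999) (.node .nil (nat_lit 1361)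
  (nat_lit 4533) (nat_lit 1007) .nil)) (nat_lit 1362) (nat_lit 20769) (nat_lit 697) (.node (.node .nil
  (nat_lit 1363) (nat_lit 29681) (nat_lit 688) .nil) (nat_lit 1364) (nat_lit 1441) (nat_lit 701) (.node .nil
  (nat_lit 1365) (nat_lit 20161) (nat_lit 692) .nil))) (nat_lit 1366) (nat_lit 27829) (nat_lit 997) (.node
  (.node (.node .nil (nat_lit 1367) (nat_lit 17541) (nat_lit 1005) .nil) (nat_lit 1368) (nat_lit 17233)
  (nat_lit 696) (.node .nil (nat_lit 1369) (nat_lit 29173) (nat_lit 2024) .nil)) (nat_lit 1370) (nat_lit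
  28467) (nat_lit 364) (.node (.node .nil (nat_lit 1371) (nat_lit 1765) (nat_lit 996) .nil) (nat_lit 1372)
  (nat_lit 28112) (nat_lit 368) .nil))) (nat_lit 1373) (nat_lit 20549) (nat_lit 998) (.node (.node (.node
  (.node .nil (nat_lit 1374) (nat_lit 4275) (nat_lit 360) .nil) (nat_lit 1375) (nat_lit 19329) (nat_lit 693)
  (.node .nil (nat_lit 1376) (nat_lit 28016) (nat_lit 1368) .nil)) (nat_lit 1377) (nat_lit 20565) (nat_lit
  998) (.node (.node .nil (nat_lit 1378) (nat_lit 4177) (nat_lit 640) .nil) (nat_lit 1379) (nat_lit 19281)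
  (nat_lit 649) (.node .nil (nat_lit 1380) (nat_lit 17185) (nat_lit 644) .nil))) (nat_lit 1381) (nat_lit
  29189) (nat_lit 2024) (.node (.node (.node .nil (nat_lit 1382) (nat_lit 28579) (nat_lit 1360) .nil) (nat_lit
  1383) (nat_lit 1781) (nat_lit 996) (.node .nil (nat_lit 1384) (nat_lit 1265) (nat_lit 641) .nil)) (nat_lit
  1385) (nat_lit 19985) (nat_lit 648) (.node (.node .nil (nat_lit 1386) (nat_lit 27845) (nat_lit 997) .nil)
  (nat_lit 1387) (nat_lit 17557) (nat_lit 1005) .nil))))) (nat_lit 1388) (nat_lit 18053) (nat_lit 999) (.node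
  (.node (.node (.node (.node (.node .nil (nat_lit 1389) (nat_lit 4549) (nat_lit 1007) .nil) (nat_lit 1390)
  (nat_lit 20721) (nat_lit 645) (.node .nil (nat_lit 1391) (nat_lit 29649) (nat_lit 652) .nil)) (nat_lit 1392)
  (nat_lit 17201) (nat_lit 656) (.node (.node .nil (nat_lit 1393) (nat_lit 29205) (nat_lit 2024) .nil)
  (nat_lit 1394) (nat_lit 28547) (nat_lit 1348) (.node .nil (nat_lit 1395) (nat_lit 1797) (nat_lit 996)
  .nil))) (nat_lit 1396) (nat_lit 27984) (nat_lit 1356) (.node (.node (.node .nil (nat_lit 1397) (nat_lit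
  20581) (nat_lit 998) .nil) (nat_lit 1398) (nat_lit 4081) (nat_lit 660) (.node .nil (nat_lit 1399) (nat_lit
  19297) (nat_lit 669) .nil)) (nat_lit 1400) (nat_lit 18069) (nat_lit 999) (.node (.node .nil (nat_lit 1401)
  (nat_lit 4565) (nat_lit 1007) .nil) (nat_lit 1402) (nat_lit 20737) (nat_lit 657) .nil))) (nat_lit 1403)
  (nat_lit 29633) (nat_lit 664) (.node (.node (.node (.node .nil (nat_lit 1404) (nat_lit 1361) (nat_lit 661)
  .nil) (nat_lit 1405) (nat_lit 20081) (nat_lit 668) (.node .nil (nat_lit 1406) (nat_lit 27861) (nat_lit 997)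
  .nil)) (nat_lit 1407) (nat_lit 17573) (nat_lit 1005) (.node (.node .nil (nat_lit 1408) (nat_lit 20005)
  (nat_lit 648) .nil) (nat_lit 1409) (nat_lit 4197) (nat_lit 640) (.node .nil (nat_lit 1410) (nat_lit 17301)
  (nat_lit 1668) .nil))) (nat_lit 1411) (nat_lit 12754) (nat_lit 1449) (.node (.node (.node .nil (nat_lit
  1412) (nat_lit 25892) (nat_lit 1185) .nil) (nat_lit 1413) (nat_lit 25283) (nat_lit 387) (.node .nil (nat_lit
  1414) (nat_lit 14772) (nat_lit 156) .nil)) (nat_lit 1415) (nat_lit 12403) (nat_lit 385) (.node (.node .nil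
  (nat_lit 1416) (nat_lit 9187) (nat_lit 398) .nil) (nat_lit 1417) (nat_lit 11732) (nat_lit 1177) .nil))))
  (nat_lit 1418) (nat_lit 3539) (nat_lit 396) (.node (.node (.node (.node (.node .nil (nat_lit 1419) (nat_lit
  16084) (nat_lit 164) .nil) (nat_lit 1420) (nat_lit 1285) (nat_lit 641) (.node .nil (nat_lit 1421) (nat_lit
  10180) (nat_lit 141) .nil)) (nat_lit 1422) (nat_lit 3970) (nat_lit 1444) (.node (.node .nil (nat_lit 1423)
  (nat_lit 19536) (nat_lit 319) .nil) (nat_lit 1424) (nat_lit 25908) (nat_lit 1185) (.node .nil (nat_lit 1425)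
  (nat_lit 25459) (nat_lit 407) .nil))) (nat_lit 1426) (nat_lit 14788) (nat_lit 156) (.node (.node (.node .nil
  (nat_lit 1427) (nat_lit 5504) (nat_lit 283) .nil) (nat_lit 1428) (nat_lit 20021) (nat_lit 648) (.node .nil
  (nat_lit 1429) (nat_lit 4213) (nat_lit 640) .nil)) (nat_lit 1430) (nat_lit 17317) (nat_lit 1668) (.node
  (.node .nil (nat_lit 1431) (nat_lit 12802) (nat_lit 1469) .nil) (nat_lit 1432) (nat_lit 1301) (nat_lit 641)
  .nil))) (nat_lit 1433) (nat_lit 10196) (nat_lit 141) (.node (.node (.node (.node .nil (nat_lit 1434)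
  (nat_lit 4018) (nat_lit 1456) .nil) (nat_lit 1435) (nat_lit 19520) (nat_lit 299) (.node .nil (nat_lit 1436)
  (nat_lit 9251) (nat_lit 410) .nil)) (nat_lit 1437) (nat_lit 11748) (nat_lit 1177) (.node (.node .nil
  (nat_lit 1438) (nat_lit 3587) (nat_lit 408) .nil) (nat_lit 1439) (nat_lit 16100) (nat_lit 164) (.node .nil
  (nat_lit 1440) (nat_lit 9330) (nat_lit 394) .nil))) (nat_lit 1441) (nat_lit 5330) (nat_lit 395) (.node
  (.node (.node .nil (nat_lit 1442) (nat_lit 3987) (nat_lit 1444) .nil) (nat_lit 1443) (nat_lit 23986)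
  (nat_lit 393) (.node .nil (nat_lit 1444) (nat_lit 1317) (nat_lit 641) .nil)) (nat_lit 1445) (nat_lit 11764)
  (nat_lit 1177) (.node (.node .nil (nat_lit 1446) (nat_lit 3762) (nat_lit 1420) .nil) (nat_lit 1447) (nat_lit
  16116) (nat_lit 164) .nil))))))
def tR6_11 : T := (.node (.node (.node (.node (.node (.node (.node .nil (nat_lit 1449) (nat_lit 4229) (nat_lit
  640) .nil) (nat_lit 1450) (nat_lit 14804) (nat_lit 156) (.node .nil (nat_lit 1451) (nat_lit 12674) (nat_lit
  1409) .nil)) (nat_lit 1452) (nat_lit 2353) (nat_lit 810) (.node (.node .nil (nat_lit 1453) (nat_lit 25522)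
  (nat_lit 391) .nil) (nat_lit 1454) (nat_lit 23476) (nat_lit 1160) (.node .nil (nat_lit 1455) (nat_lit 12771)
  (nat_lit 1449) .nil))) (nat_lit 1456) (nat_lit 1333) (nat_lit 641) (.node (.node (.node .nil (nat_lit 1457)
  (nat_lit 11780) (nat_lit 1177) .nil) (nat_lit 1458) (nat_lit 3938) (nat_lit 1432) (.node .nil (nat_lit 1459)
  (nat_lit 16132) (nat_lit 164) .nil)) (nat_lit 1460) (nat_lit 4768) (nat_lit 301) (.node (.node .nil (nat_lit
  1461) (nat_lit 10212) (nat_lit 141) .nil) (nat_lit 1462) (nat_lit 4035) (nat_lit 1456) .nil))) (nat_lit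
  1463) (nat_lit 24114) (nat_lit 413) (.node (.node (.node (.node .nil (nat_lit 1464) (nat_lit 26690) (nat_lit
  402) .nil) (nat_lit 1465) (nat_lit 25586) (nat_lit 403) (.node .nil (nat_lit 1466) (nat_lit 23492) (nat_lit
  1160) .nil)) (nat_lit 1467) (nat_lit 12819) (nat_lit 1469) (.node (.node .nil (nat_lit 1468) (nat_lit 20053)
  (nat_lit 648) .nil) (nat_lit 1469) (nat_lit 4245) (nat_lit 640) (.node .nil (nat_lit 1470) (nat_lit 14820)
  (nat_lit 156) .nil))) (nat_lit 1471) (nat_lit 12722) (nat_lit 1429) (.node (.node (.node .nil (nat_lit 1472)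
  (nat_lit 21605) (nat_lit 624) .nil) (nat_lit 1473) (nat_lit 22865) (nat_lit 1977) (.node .nil (nat_lit 1474)
  (nat_lit 26357) (nat_lit 1660) .nil)) (nat_lit 1475) (nat_lit 24773) (nat_lit 1652) (.node (.node .nil
  (nat_lit 1476) (nat_lit 27205) (nat_lit 1662) .nil) (nat_lit 1477) (nat_lit 27461) (nat_lit 1654) .nil))))
  (nat_lit 1478) (nat_lit 28818) (nat_lit 1502) (.node (.node (.node (.node (.node .nil (nat_lit 1479)
  (nat_lit 15365) (nat_lit 634) .nil) (nat_lit 1480) (nat_lit 26469) (nat_lit 1655) (.node .nil (nat_lit 1481)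
  (nat_lit 28801) (nat_lit 950) .nil)) (nat_lit 1482) (nat_lit 17857) (nat_lit 1969) (.node (.node .nil
  (nat_lit 1483) (nat_lit 24881) (nat_lit 1976) .nil) (nat_lit 1484) (nat_lit 29281) (nat_lit 1973) (.node
  .nil (nat_lit 1485) (nat_lit 20705) (nat_lit 1980) .nil))) (nat_lit 1486) (nat_lit 22501) (nat_lit 1653)
  (.node (.node (.node .nil (nat_lit 1487) (nat_lit 26865) (nat_lit 946) .nil) (nat_lit 1488) (nat_lit 27221)
  (nat_lit 1662) (.node .nil (nat_lit 1489) (nat_lit 27477) (nat_lit 1654) .nil)) (nat_lit 1490) (nat_lit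
  28386) (nat_lit 1482) (.node (.node .nil (nat_lit 1491) (nat_lit 15381) (nat_lit 634) .nil) (nat_lit 1492)
  (nat_lit 21621) (nat_lit 624) .nil))) (nat_lit 1493) (nat_lit 22849) (nat_lit 1965) (.node (.node (.node
  (.node .nil (nat_lit 1494) (nat_lit 26373) (nat_lit 1660) .nil) (nat_lit 1495) (nat_lit 2401) (nat_lit 931)
  (.node .nil (nat_lit 1496) (nat_lit 2433) (nat_lit 1953) .nil)) (nat_lit 1497) (nat_lit 20897) (nat_lit
  1960) (.node (.node .nil (nat_lit 1498) (nat_lit 22517) (nat_lit 1653) .nil) (nat_lit 1499) (nat_lit 26849)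
  (nat_lit 934) (.node .nil (nat_lit 1500) (nat_lit 26485) (nat_lit 1655) .nil))) (nat_lit 1501) (nat_lit
  28369) (nat_lit 930) (.node (.node (.node .nil (nat_lit 1502) (nat_lit 18225) (nat_lit 1957) .nil) (nat_lit
  1503) (nat_lit 24865) (nat_lit 1964) (.node .nil (nat_lit 1504) (nat_lit 26501) (nat_lit 1655) .nil))
  (nat_lit 1505) (nat_lit 26833) (nat_lit 926) (.node (.node .nil (nat_lit 1506) (nat_lit 19233) (nat_lit
  1945) .nil) (nat_lit 1507) (nat_lit 22833) (nat_lit 1936) .nil))))) (nat_lit 1508) (nat_lit 29217) (nat_lit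
  1949) (.node (.node (.node (.node (.node (.node .nil (nat_lit 1509) (nat_lit 20369) (nat_lit 1940) .nil)
  (nat_lit 1510) (nat_lit 22533) (nat_lit 1653) (.node .nil (nat_lit 1511) (nat_lit 30065) (nat_lit 922)
  .nil)) (nat_lit 1512) (nat_lit 21637) (nat_lit 624) (.node (.node .nil (nat_lit 1513) (nat_lit 5697)
  (nat_lit 1937) .nil) (nat_lit 1514) (nat_lit 26389) (nat_lit 1660) (.node .nil (nat_lit 1515) (nat_lit
  24789) (nat_lit 1652) .nil))) (nat_lit 1516) (nat_lit 5713) (nat_lit 914) (.node (.node (.node .nil (nat_lit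
  1517) (nat_lit 26817) (nat_lit 923) .nil) (nat_lit 1518) (nat_lit 29234) (nat_lit 1526) (.node .nil (nat_lit
  1519) (nat_lit 15397) (nat_lit 634) .nil)) (nat_lit 1520) (nat_lit 29249) (nat_lit 1929) (.node (.node .nil
  (nat_lit 1521) (nat_lit 19921) (nat_lit 1920) .nil) (nat_lit 1522) (nat_lit 22549) (nat_lit 1653) .nil)))
  (nat_lit 1523) (nat_lit 29985) (nat_lit 910) (.node (.node (.node (.node .nil (nat_lit 1524) (nat_lit 2721)
  (nat_lit 899) .nil) (nat_lit 1525) (nat_lit 26785) (nat_lit 906) (.node .nil (nat_lit 1526) (nat_lit 19121)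
  (nat_lit 1933) .nil)) (nat_lit 1527) (nat_lit 22817) (nat_lit 1924) (.node (.node .nil (nat_lit 1528)
  (nat_lit 27237) (nat_lit 1662) .nil) (nat_lit 1529) (nat_lit 26801) (nat_lit 911) (.node .nil (nat_lit 1530)
  (nat_lit 29266) (nat_lit 1506) .nil))) (nat_lit 1531) (nat_lit 15413) (nat_lit 634) (.node (.node (.node
  .nil (nat_lit 1532) (nat_lit 21653) (nat_lit 624) .nil) (nat_lit 1533) (nat_lit 24849) (nat_lit 1925) (.node
  .nil (nat_lit 1534) (nat_lit 5539) (nat_lit 483) .nil)) (nat_lit 1535) (nat_lit 24805) (nat_lit 1652) (.node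
  (.node .nil (nat_lit 1536) (nat_lit 17747) (nat_lit 1558) .nil) (nat_lit 1537) (nat_lit 17618) (nat_lit
  1578) .nil)))) (nat_lit 1538) (nat_lit 6577) (nat_lit 1014) (.node (.node (.node (.node (.node .nil (nat_lit
  1539) (nat_lit 19745) (nat_lit 1023) .nil) (nat_lit 1540) (nat_lit 20433) (nat_lit 1010) (.node .nil
  (nat_lit 1541) (nat_lit 16789) (nat_lit 1534) .nil)) (nat_lit 1542) (nat_lit 27650) (nat_lit 557) (.node
  (.node .nil (nat_lit 1543) (nat_lit 17760) (nat_lit 1558) .nil) (nat_lit 1544) (nat_lit 27522) (nat_lit 547)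
  (.node .nil (nat_lit 1545) (nat_lit 17793) (nat_lit 1022) .nil))) (nat_lit 1546) (nat_lit 18593) (nat_lit
  2041) (.node (.node (.node .nil (nat_lit 1547) (nat_lit 16661) (nat_lit 507) .nil) (nat_lit 1548) (nat_lit
  8357) (nat_lit 497) (.node .nil (nat_lit 1549) (nat_lit 16961) (nat_lit 2036) .nil)) (nat_lit 1550) (nat_lit
  17713) (nat_lit 1011) (.node (.node .nil (nat_lit 1551) (nat_lit 20402) (nat_lit 1572) .nil) (nat_lit 1552)
  (nat_lit 20593) (nat_lit 998) .nil))) (nat_lit 1553) (nat_lit 1842) (nat_lit 570) (.node (.node (.node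
  (.node .nil (nat_lit 1554) (nat_lit 27666) (nat_lit 569) .nil) (nat_lit 1555) (nat_lit 18112) (nat_lit 1538)
  (.node .nil (nat_lit 1556) (nat_lit 18131) (nat_lit 1538) .nil)) (nat_lit 1557) (nat_lit 17074) (nat_lit
  1598) (.node (.node .nil (nat_lit 1558) (nat_lit 6417) (nat_lit 994) .nil) (nat_lit 1559) (nat_lit 19841)
  (nat_lit 1003) (.node .nil (nat_lit 1560) (nat_lit 1585) (nat_lit 2025) .nil))) (nat_lit 1561) (nat_lit
  17377) (nat_lit 2016) (.node (.node (.node .nil (nat_lit 1562) (nat_lit 18081) (nat_lit 999) .nil) (nat_lit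
  1563) (nat_lit 20418) (nat_lit 1584) (.node .nil (nat_lit 1564) (nat_lit 27538) (nat_lit 567) .nil))
  (nat_lit 1565) (nat_lit 18161) (nat_lit 1002) (.node (.node .nil (nat_lit 1566) (nat_lit 18657) (nat_lit
  2029) .nil) (nat_lit 1567) (nat_lit 16677) (nat_lit 507) .nil))))))
def tR6_12 : T := (.node (.node (.node (.node (.node (.node (.node .nil (nat_lit 1569) (nat_lit 18753)
  (nat_lit 982) .nil) (nat_lit 1570) (nat_lit 659) (nat_lit 1588) (.node .nil (nat_lit 1571) (nat_lit 16693)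
  (nat_lit 507) .nil)) (nat_lit 1572) (nat_lit 8373) (nat_lit 497) (.node (.node .nil (nat_lit 1573) (nat_lit
  17681) (nat_lit 2012) .nil) (nat_lit 1574) (nat_lit 18625) (nat_lit 987) (.node .nil (nat_lit 1575) (nat_lit
  20386) (nat_lit 1548) .nil))) (nat_lit 1576) (nat_lit 18499) (nat_lit 574) (.node (.node (.node .nil
  (nat_lit 1577) (nat_lit 18146) (nat_lit 1538) .nil) (nat_lit 1578) (nat_lit 6305) (nat_lit 990) (.node .nil
  (nat_lit 1579) (nat_lit 19905) (nat_lit 983) .nil)) (nat_lit 1580) (nat_lit 577) (nat_lit 986) (.node (.node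
  .nil (nat_lit 1581) (nat_lit 16805) (nat_lit 1534) .nil) (nat_lit 1582) (nat_lit 27618) (nat_lit 517)
  .nil))) (nat_lit 1583) (nat_lit 18448) (nat_lit 554) (.node (.node (.node (.node .nil (nat_lit 1584)
  (nat_lit 8389) (nat_lit 497) .nil) (nat_lit 1585) (nat_lit 17921) (nat_lit 1992) (.node .nil (nat_lit 1586)
  (nat_lit 18561) (nat_lit 975) .nil)) (nat_lit 1587) (nat_lit 2145) (nat_lit 966) (.node (.node .nil (nat_lit
  1588) (nat_lit 177) (nat_lit 971) .nil) (nat_lit 1589) (nat_lit 19169) (nat_lit 962) (.node .nil (nat_lit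
  1590) (nat_lit 18673) (nat_lit 1989) .nil))) (nat_lit 1591) (nat_lit 16709) (nat_lit 507) (.node (.node
  (.node .nil (nat_lit 1592) (nat_lit 20641) (nat_lit 974) .nil) (nat_lit 1593) (nat_lit 16821) (nat_lit 1534)
  (.node .nil (nat_lit 1594) (nat_lit 27634) (nat_lit 529) .nil)) (nat_lit 1595) (nat_lit 18512) (nat_lit 574)
  (.node (.node .nil (nat_lit 1596) (nat_lit 18467) (nat_lit 554) .nil) (nat_lit 1597) (nat_lit 17778)
  (nat_lit 1558) .nil)))) (nat_lit 1598) (nat_lit 6017) (nat_lit 970) (.node (.node (.node (.node (.node .nil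
  (nat_lit 1599) (nat_lit 20353) (nat_lit 963) .nil) (nat_lit 1600) (nat_lit 13317) (nat_lit 256) (.node .nil
  (nat_lit 1601) (nat_lit 24163) (nat_lit 588) .nil)) (nat_lit 1602) (nat_lit 23508) (nat_lit 1160) (.node
  (.node .nil (nat_lit 1603) (nat_lit 14836) (nat_lit 156) .nil) (nat_lit 1604) (nat_lit 24579) (nat_lit 1609)
  (.node .nil (nat_lit 1605) (nat_lit 21379) (nat_lit 584) .nil))) (nat_lit 1606) (nat_lit 5237) (nat_lit 258)
  (.node (.node (.node .nil (nat_lit 1607) (nat_lit 23524) (nat_lit 1160) .nil) (nat_lit 1608) (nat_lit 10228)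
  (nat_lit 141) (.node .nil (nat_lit 1609) (nat_lit 11796) (nat_lit 1177) .nil)) (nat_lit 1610) (nat_lit
  26629) (nat_lit 267) (.node (.node .nil (nat_lit 1611) (nat_lit 13589) (nat_lit 259) .nil) (nat_lit 1612)
  (nat_lit 11812) (nat_lit 1177) .nil))) (nat_lit 1613) (nat_lit 10244) (nat_lit 141) (.node (.node (.node
  (.node .nil (nat_lit 1614) (nat_lit 16148) (nat_lit 164) .nil) (nat_lit 1615) (nat_lit 30450) (nat_lit 598)
  (.node .nil (nat_lit 1616) (nat_lit 24594) (nat_lit 1609) .nil)) (nat_lit 1617) (nat_lit 21427) (nat_lit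
  604) (.node (.node .nil (nat_lit 1618) (nat_lit 5253) (nat_lit 258) .nil) (nat_lit 1619) (nat_lit 23540)
  (nat_lit 1160) (.node .nil (nat_lit 1620) (nat_lit 13333) (nat_lit 256) .nil))) (nat_lit 1621) (nat_lit
  24178) (nat_lit 588) (.node (.node (.node .nil (nat_lit 1622) (nat_lit 23556) (nat_lit 1160) .nil) (nat_lit
  1623) (nat_lit 14852) (nat_lit 156) (.node .nil (nat_lit 1624) (nat_lit 11828) (nat_lit 1177) .nil))
  (nat_lit 1625) (nat_lit 10260) (nat_lit 141) (.node (.node .nil (nat_lit 1626) (nat_lit 16164) (nat_lit 164)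
  .nil) (nat_lit 1627) (nat_lit 30418) (nat_lit 578) .nil))))) (nat_lit 1628) (nat_lit 10276) (nat_lit 141)
  (.node (.node (.node (.node (.node (.node .nil (nat_lit 1629) (nat_lit 11844) (nat_lit 1177) .nil) (nat_lit
  1630) (nat_lit 26645) (nat_lit 267) (.node .nil (nat_lit 1631) (nat_lit 13605) (nat_lit 259) .nil)) (nat_lit
  1632) (nat_lit 11860) (nat_lit 1177) (.node (.node .nil (nat_lit 1633) (nat_lit 10292) (nat_lit 141) .nil)
  (nat_lit 1634) (nat_lit 16180) (nat_lit 164) (.node .nil (nat_lit 1635) (nat_lit 13621) (nat_lit 259)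
  .nil))) (nat_lit 1636) (nat_lit 10308) (nat_lit 141) (.node (.node (.node .nil (nat_lit 1637) (nat_lit
  10773) (nat_lit 257) .nil) (nat_lit 1638) (nat_lit 22245) (nat_lit 1285) (.node .nil (nat_lit 1639) (nat_lit
  16196) (nat_lit 164) .nil)) (nat_lit 1640) (nat_lit 13349) (nat_lit 256) (.node (.node .nil (nat_lit 1641)
  (nat_lit 21666) (nat_lit 624) .nil) (nat_lit 1642) (nat_lit 14868) (nat_lit 156) .nil))) (nat_lit 1643)
  (nat_lit 23572) (nat_lit 1160) (.node (.node (.node (.node .nil (nat_lit 1644) (nat_lit 21475) (nat_lit 609)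
  .nil) (nat_lit 1645) (nat_lit 24659) (nat_lit 1632) (.node .nil (nat_lit 1646) (nat_lit 5269) (nat_lit 258)
  .nil)) (nat_lit 1647) (nat_lit 14884) (nat_lit 156) (.node (.node .nil (nat_lit 1648) (nat_lit 10324)
  (nat_lit 141) .nil) (nat_lit 1649) (nat_lit 10789) (nat_lit 257) (.node .nil (nat_lit 1650) (nat_lit 22261)
  (nat_lit 1285) .nil))) (nat_lit 1651) (nat_lit 16212) (nat_lit 164) (.node (.node (.node .nil (nat_lit 1652)
  (nat_lit 11876) (nat_lit 1177) .nil) (nat_lit 1653) (nat_lit 10340) (nat_lit 141) (.node .nil (nat_lit 1654)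
  (nat_lit 16228) (nat_lit 164) .nil)) (nat_lit 1655) (nat_lit 13637) (nat_lit 259) (.node (.node .nil
  (nat_lit 1656) (nat_lit 21699) (nat_lit 629) .nil) (nat_lit 1657) (nat_lit 24674) (nat_lit 1632) .nil))))
  (nat_lit 1658) (nat_lit 5285) (nat_lit 258) (.node (.node (.node (.node (.node .nil (nat_lit 1659) (nat_lit
  14900) (nat_lit 156) .nil) (nat_lit 1660) (nat_lit 13365) (nat_lit 256) (.node .nil (nat_lit 1661) (nat_lit
  21522) (nat_lit 612) .nil)) (nat_lit 1662) (nat_lit 14916) (nat_lit 156) (.node (.node .nil (nat_lit 1663)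
  (nat_lit 23588) (nat_lit 1160) .nil) (nat_lit 1664) (nat_lit 1571) (nat_lit 1725) (.node .nil (nat_lit 1665)
  (nat_lit 405) (nat_lit 1129) .nil))) (nat_lit 1666) (nat_lit 21253) (nat_lit 109) (.node (.node (.node .nil
  (nat_lit 1667) (nat_lit 26101) (nat_lit 101) .nil) (nat_lit 1668) (nat_lit 6181) (nat_lit 111) (.node .nil
  (nat_lit 1669) (nat_lit 8805) (nat_lit 103) .nil)) (nat_lit 1670) (nat_lit 26949) (nat_lit 1123) (.node
  (.node .nil (nat_lit 1671) (nat_lit 19045) (nat_lit 1131) .nil) (nat_lit 1672) (nat_lit 8181) (nat_lit 102)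
  .nil))) (nat_lit 1673) (nat_lit 7381) (nat_lit 110) (.node (.node (.node (.node .nil (nat_lit 1674) (nat_lit
  30373) (nat_lit 1130) .nil) (nat_lit 1675) (nat_lit 21809) (nat_lit 745) (.node .nil (nat_lit 1676) (nat_lit
  20304) (nat_lit 1716) .nil)) (nat_lit 1677) (nat_lit 18853) (nat_lit 1120) (.node (.node .nil (nat_lit 1678)
  (nat_lit 26229) (nat_lit 100) .nil) (nat_lit 1679) (nat_lit 23861) (nat_lit 108) (.node .nil (nat_lit 1680)
  (nat_lit 6197) (nat_lit 111) .nil))) (nat_lit 1681) (nat_lit 8821) (nat_lit 103) (.node (.node (.node .nil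
  (nat_lit 1682) (nat_lit 26965) (nat_lit 1123) .nil) (nat_lit 1683) (nat_lit 19061) (nat_lit 1131) (.node
  .nil (nat_lit 1684) (nat_lit 1539) (nat_lit 1705) .nil)) (nat_lit 1685) (nat_lit 421) (nat_lit 1129) (.node
  (.node .nil (nat_lit 1686) (nat_lit 21269) (nat_lit 109) .nil) (nat_lit 1687) (nat_lit 26117) (nat_lit 101)
  .nil))))))
def tR6_13 : T := (.node (.node (.node (.node (.node (.node (.node .nil (nat_lit 1689) (nat_lit 18869)
  (nat_lit 1120) .nil) (nat_lit 1690) (nat_lit 26245) (nat_lit 100) (.node .nil (nat_lit 1691) (nat_lit 23877)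
  (nat_lit 108) .nil)) (nat_lit 1692) (nat_lit 8197) (nat_lit 102) (.node (.node .nil (nat_lit 1693) (nat_lit
  7397) (nat_lit 110) .nil) (nat_lit 1694) (nat_lit 30389) (nat_lit 1130) (.node .nil (nat_lit 1695) (nat_lit
  21985) (nat_lit 765) .nil))) (nat_lit 1696) (nat_lit 8213) (nat_lit 102) (.node (.node (.node .nil (nat_lit
  1697) (nat_lit 7413) (nat_lit 110) .nil) (nat_lit 1698) (nat_lit 30291) (nat_lit 1695) (.node .nil (nat_lit
  1699) (nat_lit 24257) (nat_lit 705) .nil)) (nat_lit 1700) (nat_lit 20064) (nat_lit 648) (.node (.node .nil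
  (nat_lit 1701) (nat_lit 18885) (nat_lit 1120) .nil) (nat_lit 1702) (nat_lit 26261) (nat_lit 100) .nil)))
  (nat_lit 1703) (nat_lit 23893) (nat_lit 108) (.node (.node (.node (.node .nil (nat_lit 1704) (nat_lit 1379)
  (nat_lit 661) .nil) (nat_lit 1705) (nat_lit 437) (nat_lit 1129) (.node .nil (nat_lit 1706) (nat_lit 21285)
  (nat_lit 109) .nil)) (nat_lit 1707) (nat_lit 26133) (nat_lit 101) (.node (.node .nil (nat_lit 1708) (nat_lit
  6213) (nat_lit 111) .nil) (nat_lit 1709) (nat_lit 8837) (nat_lit 103) (.node .nil (nat_lit 1710) (nat_lit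
  26981) (nat_lit 1123) .nil))) (nat_lit 1711) (nat_lit 19077) (nat_lit 1131) (.node (.node (.node .nil
  (nat_lit 1712) (nat_lit 20096) (nat_lit 668) .nil) (nat_lit 1713) (nat_lit 18901) (nat_lit 1120) (.node .nil
  (nat_lit 1714) (nat_lit 26277) (nat_lit 100) .nil)) (nat_lit 1715) (nat_lit 23909) (nat_lit 108) (.node
  (.node .nil (nat_lit 1716) (nat_lit 8229) (nat_lit 102) .nil) (nat_lit 1717) (nat_lit 7429) (nat_lit 110)
  .nil)))) (nat_lit 1718) (nat_lit 30275) (nat_lit 1675) (.node (.node (.node (.node (.node .nil (nat_lit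
  1719) (nat_lit 24273) (nat_lit 725) .nil) (nat_lit 1720) (nat_lit 6229) (nat_lit 111) (.node .nil (nat_lit
  1721) (nat_lit 8853) (nat_lit 103) .nil)) (nat_lit 1722) (nat_lit 26997) (nat_lit 1123) (.node (.node .nil
  (nat_lit 1723) (nat_lit 19093) (nat_lit 1131) .nil) (nat_lit 1724) (nat_lit 1347) (nat_lit 641) (.node .nil
  (nat_lit 1725) (nat_lit 453) (nat_lit 1129) .nil))) (nat_lit 1726) (nat_lit 21301) (nat_lit 109) (.node
  (.node (.node .nil (nat_lit 1727) (nat_lit 26149) (nat_lit 101) .nil) (nat_lit 1728) (nat_lit 10356)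
  (nat_lit 141) (.node .nil (nat_lit 1729) (nat_lit 11892) (nat_lit 1177) .nil)) (nat_lit 1730) (nat_lit
  27121) (nat_lit 1623) (.node (.node .nil (nat_lit 1731) (nat_lit 16244) (nat_lit 164) .nil) (nat_lit 1732)
  (nat_lit 11908) (nat_lit 1177) .nil))) (nat_lit 1733) (nat_lit 10372) (nat_lit 141) (.node (.node (.node
  (.node .nil (nat_lit 1734) (nat_lit 16260) (nat_lit 164) .nil) (nat_lit 1735) (nat_lit 13845) (nat_lit 1171)
  (.node .nil (nat_lit 1736) (nat_lit 30194) (nat_lit 1786) .nil)) (nat_lit 1737) (nat_lit 25173) (nat_lit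
  150) (.node (.node .nil (nat_lit 1738) (nat_lit 21891) (nat_lit 748) .nil) (nat_lit 1739) (nat_lit 14932)
  (nat_lit 156) (.node .nil (nat_lit 1740) (nat_lit 21441) (nat_lit 604) .nil))) (nat_lit 1741) (nat_lit
  30256) (nat_lit 1656) (.node (.node (.node .nil (nat_lit 1742) (nat_lit 14948) (nat_lit 156) .nil) (nat_lit
  1743) (nat_lit 22002) (nat_lit 765) (.node .nil (nat_lit 1744) (nat_lit 11924) (nat_lit 1177) .nil))
  (nat_lit 1745) (nat_lit 10388) (nat_lit 141) (.node (.node .nil (nat_lit 1746) (nat_lit 16276) (nat_lit 164)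
  .nil) (nat_lit 1747) (nat_lit 13861) (nat_lit 1171) .nil))))) (nat_lit 1748) (nat_lit 10404) (nat_lit 141)
  (.node (.node (.node (.node (.node (.node .nil (nat_lit 1749) (nat_lit 11940) (nat_lit 1177) .nil) (nat_lit
  1750) (nat_lit 27105) (nat_lit 1603) (.node .nil (nat_lit 1751) (nat_lit 16292) (nat_lit 164) .nil))
  (nat_lit 1752) (nat_lit 21393) (nat_lit 584) (.node (.node .nil (nat_lit 1753) (nat_lit 30160) (nat_lit
  1644) .nil) (nat_lit 1754) (nat_lit 14964) (nat_lit 156) (.node .nil (nat_lit 1755) (nat_lit 21826) (nat_lit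
  745) .nil))) (nat_lit 1756) (nat_lit 30224) (nat_lit 1641) (.node (.node (.node .nil (nat_lit 1757) (nat_lit
  25189) (nat_lit 150) .nil) (nat_lit 1758) (nat_lit 21955) (nat_lit 760) (.node .nil (nat_lit 1759) (nat_lit
  14980) (nat_lit 156) .nil)) (nat_lit 1760) (nat_lit 25924) (nat_lit 1185) (.node (.node .nil (nat_lit 1761)
  (nat_lit 25205) (nat_lit 150) .nil) (nat_lit 1762) (nat_lit 14996) (nat_lit 156) .nil))) (nat_lit 1763)
  (nat_lit 21747) (nat_lit 709) (.node (.node (.node (.node .nil (nat_lit 1764) (nat_lit 24241) (nat_lit 628)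
  .nil) (nat_lit 1765) (nat_lit 25940) (nat_lit 1185) (.node .nil (nat_lit 1766) (nat_lit 15013) (nat_lit 156)
  .nil)) (nat_lit 1767) (nat_lit 15028) (nat_lit 156) (.node (.node .nil (nat_lit 1768) (nat_lit 11956)
  (nat_lit 1177) .nil) (nat_lit 1769) (nat_lit 10420) (nat_lit 141) (.node .nil (nat_lit 1770) (nat_lit 16308)
  (nat_lit 164) .nil))) (nat_lit 1771) (nat_lit 27489) (nat_lit 1654) (.node (.node (.node .nil (nat_lit 1772)
  (nat_lit 10436) (nat_lit 141) .nil) (nat_lit 1773) (nat_lit 11972) (nat_lit 1177) (.node .nil (nat_lit 1774)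
  (nat_lit 21713) (nat_lit 629) .nil)) (nat_lit 1775) (nat_lit 13877) (nat_lit 1171) (.node (.node .nil
  (nat_lit 1776) (nat_lit 24225) (nat_lit 608) .nil) (nat_lit 1777) (nat_lit 25956) (nat_lit 1185) .nil))))
  (nat_lit 1778) (nat_lit 15045) (nat_lit 156) (.node (.node (.node (.node (.node .nil (nat_lit 1779) (nat_lit
  15060) (nat_lit 156) .nil) (nat_lit 1780) (nat_lit 25972) (nat_lit 1185) (.node .nil (nat_lit 1781) (nat_lit
  25221) (nat_lit 150) .nil)) (nat_lit 1782) (nat_lit 15076) (nat_lit 156) (.node (.node .nil (nat_lit 1783)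
  (nat_lit 21779) (nat_lit 721) .nil) (nat_lit 1784) (nat_lit 10452) (nat_lit 141) (.node .nil (nat_lit 1785)
  (nat_lit 11988) (nat_lit 1177) .nil))) (nat_lit 1786) (nat_lit 21489) (nat_lit 609) (.node (.node (.node
  .nil (nat_lit 1787) (nat_lit 13893) (nat_lit 1171) .nil) (nat_lit 1788) (nat_lit 12004) (nat_lit 1177)
  (.node .nil (nat_lit 1789) (nat_lit 10468) (nat_lit 141) .nil)) (nat_lit 1790) (nat_lit 16324) (nat_lit 164)
  (.node (.node .nil (nat_lit 1791) (nat_lit 27425) (nat_lit 1634) .nil) (nat_lit 1792) (nat_lit 22629)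
  (nat_lit 1769) .nil))) (nat_lit 1793) (nat_lit 26771) (nat_lit 826) (.node (.node (.node (.node .nil
  (nat_lit 1794) (nat_lit 15092) (nat_lit 156) .nil) (nat_lit 1795) (nat_lit 23604) (nat_lit 1160) (.node .nil
  (nat_lit 1796) (nat_lit 17872) (nat_lit 1969) .nil)) (nat_lit 1797) (nat_lit 25988) (nat_lit 1185) (.node
  (.node .nil (nat_lit 1798) (nat_lit 23620) (nat_lit 1160) .nil) (nat_lit 1799) (nat_lit 15108) (nat_lit 156)
  (.node .nil (nat_lit 1800) (nat_lit 12020) (nat_lit 1177) .nil))) (nat_lit 1801) (nat_lit 10484) (nat_lit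
  141) (.node (.node (.node .nil (nat_lit 1802) (nat_lit 16340) (nat_lit 164) .nil) (nat_lit 1803) (nat_lit
  24386) (nat_lit 801) (.node .nil (nat_lit 1804) (nat_lit 10500) (nat_lit 141) .nil)) (nat_lit 1805) (nat_lit
  12036) (nat_lit 1177) (.node (.node .nil (nat_lit 1806) (nat_lit 21909) (nat_lit 748) .nil) (nat_lit 1807)
  (nat_lit 16356) (nat_lit 164) .nil))))))
def tR6_14 : T := (.node (.node (.node (.node (.node (.node (.node .nil (nat_lit 1809) (nat_lit 2371) (nat_lit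
  810) .nil) (nat_lit 1810) (nat_lit 23636) (nat_lit 1160) (.node .nil (nat_lit 1811) (nat_lit 15124) (nat_lit
  156) .nil)) (nat_lit 1812) (nat_lit 22645) (nat_lit 1769) (.node (.node .nil (nat_lit 1813) (nat_lit 26755)
  (nat_lit 814) .nil) (nat_lit 1814) (nat_lit 15140) (nat_lit 156) (.node .nil (nat_lit 1815) (nat_lit 23652)
  (nat_lit 1160) .nil))) (nat_lit 1816) (nat_lit 10516) (nat_lit 141) (.node (.node (.node .nil (nat_lit 1817)
  (nat_lit 3296) (nat_lit 896) .nil) (nat_lit 1818) (nat_lit 21925) (nat_lit 748) (.node .nil (nat_lit 1819)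
  (nat_lit 16372) (nat_lit 164) .nil)) (nat_lit 1820) (nat_lit 12052) (nat_lit 1177) (.node (.node .nil
  (nat_lit 1821) (nat_lit 10532) (nat_lit 141) .nil) (nat_lit 1822) (nat_lit 16388) (nat_lit 164) .nil)))
  (nat_lit 1823) (nat_lit 24434) (nat_lit 821) (.node (.node (.node (.node .nil (nat_lit 1824) (nat_lit 10548)
  (nat_lit 141) .nil) (nat_lit 1825) (nat_lit 12068) (nat_lit 1177) (.node .nil (nat_lit 1826) (nat_lit 5728)
  (nat_lit 914) .nil)) (nat_lit 1827) (nat_lit 16404) (nat_lit 164) (.node (.node .nil (nat_lit 1828) (nat_lit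
  12084) (nat_lit 1177) .nil) (nat_lit 1829) (nat_lit 10564) (nat_lit 141) (.node .nil (nat_lit 1830) (nat_lit
  16420) (nat_lit 164) .nil))) (nat_lit 1831) (nat_lit 24355) (nat_lit 796) (.node (.node (.node .nil (nat_lit
  1832) (nat_lit 22661) (nat_lit 1769) .nil) (nat_lit 1833) (nat_lit 26004) (nat_lit 1185) (.node .nil
  (nat_lit 1834) (nat_lit 23668) (nat_lit 1160) .nil)) (nat_lit 1835) (nat_lit 15156) (nat_lit 156) (.node
  (.node .nil (nat_lit 1836) (nat_lit 17008) (nat_lit 909) .nil) (nat_lit 1837) (nat_lit 26549) (nat_lit 751)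
  .nil)))) (nat_lit 1838) (nat_lit 1040) (nat_lit 1970) (.node (.node (.node (.node (.node .nil (nat_lit 1839)
  (nat_lit 23684) (nat_lit 1160) .nil) (nat_lit 1840) (nat_lit 12100) (nat_lit 1177) (.node .nil (nat_lit
  1841) (nat_lit 10580) (nat_lit 141) .nil)) (nat_lit 1842) (nat_lit 16436) (nat_lit 164) (.node (.node .nil
  (nat_lit 1843) (nat_lit 2736) (nat_lit 899) .nil) (nat_lit 1844) (nat_lit 10596) (nat_lit 141) (.node .nil
  (nat_lit 1845) (nat_lit 12116) (nat_lit 1177) .nil))) (nat_lit 1846) (nat_lit 24370) (nat_lit 796) (.node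
  (.node (.node .nil (nat_lit 1847) (nat_lit 2288) (nat_lit 1939) .nil) (nat_lit 1848) (nat_lit 17424)
  (nat_lit 921) (.node .nil (nat_lit 1849) (nat_lit 26565) (nat_lit 751) .nil)) (nat_lit 1850) (nat_lit 15172)
  (nat_lit 156) (.node (.node .nil (nat_lit 1851) (nat_lit 23700) (nat_lit 1160) .nil) (nat_lit 1852) (nat_lit
  22677) (nat_lit 1769) .nil))) (nat_lit 1853) (nat_lit 26020) (nat_lit 1185) (.node (.node (.node (.node .nil
  (nat_lit 1854) (nat_lit 23716) (nat_lit 1160) .nil) (nat_lit 1855) (nat_lit 15188) (nat_lit 156) (.node .nil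
  (nat_lit 1856) (nat_lit 4853) (nat_lit 1553) .nil)) (nat_lit 1857) (nat_lit 28193) (nat_lit 344) (.node
  (.node .nil (nat_lit 1858) (nat_lit 29345) (nat_lit 1375) .nil) (nat_lit 1859) (nat_lit 29029) (nat_lit 533)
  (.node .nil (nat_lit 1860) (nat_lit 2053) (nat_lit 543) .nil))) (nat_lit 1861) (nat_lit 30049) (nat_lit
  1362) (.node (.node (.node .nil (nat_lit 1862) (nat_lit 28725) (nat_lit 1555) .nil) (nat_lit 1863) (nat_lit
  29797) (nat_lit 1563) (.node .nil (nat_lit 1864) (nat_lit 5029) (nat_lit 534) .nil)) (nat_lit 1865) (nat_lit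
  28293) (nat_lit 542) (.node (.node .nil (nat_lit 1866) (nat_lit 28449) (nat_lit 336) .nil) (nat_lit 1867)
  (nat_lit 30661) (nat_lit 1554) .nil))))) (nat_lit 1868) (nat_lit 4385) (nat_lit 340) (.node (.node (.node
  (.node (.node (.node .nil (nat_lit 1869) (nat_lit 29873) (nat_lit 349) .nil) (nat_lit 1870) (nat_lit 28901)
  (nat_lit 532) (.node .nil (nat_lit 1871) (nat_lit 30533) (nat_lit 540) .nil)) (nat_lit 1872) (nat_lit 2069)
  (nat_lit 543) (.node (.node .nil (nat_lit 1873) (nat_lit 30033) (nat_lit 1350) .nil) (nat_lit 1874) (nat_lit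
  28741) (nat_lit 1555) (.node .nil (nat_lit 1875) (nat_lit 29813) (nat_lit 1563) .nil))) (nat_lit 1876)
  (nat_lit 4869) (nat_lit 1553) (.node (.node (.node .nil (nat_lit 1877) (nat_lit 28161) (nat_lit 332) .nil)
  (nat_lit 1878) (nat_lit 29329) (nat_lit 1355) (.node .nil (nat_lit 1879) (nat_lit 29045) (nat_lit 533)
  .nil)) (nat_lit 1880) (nat_lit 4353) (nat_lit 320) (.node (.node .nil (nat_lit 1881) (nat_lit 29857)
  (nat_lit 329) .nil) (nat_lit 1882) (nat_lit 28917) (nat_lit 532) .nil))) (nat_lit 1883) (nat_lit 30549)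
  (nat_lit 540) (.node (.node (.node (.node .nil (nat_lit 1884) (nat_lit 5045) (nat_lit 534) .nil) (nat_lit
  1885) (nat_lit 28309) (nat_lit 542) (.node .nil (nat_lit 1886) (nat_lit 28417) (nat_lit 324) .nil)) (nat_lit
  1887) (nat_lit 30677) (nat_lit 1554) (.node (.node .nil (nat_lit 1888) (nat_lit 5061) (nat_lit 534) .nil)
  (nat_lit 1889) (nat_lit 28325) (nat_lit 542) (.node .nil (nat_lit 1890) (nat_lit 28513) (nat_lit 376)
  .nil))) (nat_lit 1891) (nat_lit 30693) (nat_lit 1554) (.node (.node (.node .nil (nat_lit 1892) (nat_lit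
  4321) (nat_lit 380) .nil) (nat_lit 1893) (nat_lit 29905) (nat_lit 373) (.node .nil (nat_lit 1894) (nat_lit
  28933) (nat_lit 532) .nil)) (nat_lit 1895) (nat_lit 30565) (nat_lit 540) (.node (.node .nil (nat_lit 1896)
  (nat_lit 4885) (nat_lit 1553) .nil) (nat_lit 1897) (nat_lit 28129) (nat_lit 368) .nil)))) (nat_lit 1898)
  (nat_lit 29313) (nat_lit 1399) (.node (.node (.node (.node (.node .nil (nat_lit 1899) (nat_lit 29061)
  (nat_lit 533) .nil) (nat_lit 1900) (nat_lit 2085) (nat_lit 543) (.node .nil (nat_lit 1901) (nat_lit 30017)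
  (nat_lit 1402) .nil)) (nat_lit 1902) (nat_lit 28757) (nat_lit 1555) (.node (.node .nil (nat_lit 1903)
  (nat_lit 29829) (nat_lit 1563) .nil) (nat_lit 1904) (nat_lit 4289) (nat_lit 360) (.node .nil (nat_lit 1905)
  (nat_lit 29889) (nat_lit 353) .nil))) (nat_lit 1906) (nat_lit 28949) (nat_lit 532) (.node (.node (.node .nil
  (nat_lit 1907) (nat_lit 30581) (nat_lit 540) .nil) (nat_lit 1908) (nat_lit 5077) (nat_lit 534) (.node .nil
  (nat_lit 1909) (nat_lit 28341) (nat_lit 542) .nil)) (nat_lit 1910) (nat_lit 28481) (nat_lit 364) (.node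
  (.node .nil (nat_lit 1911) (nat_lit 30709) (nat_lit 1554) .nil) (nat_lit 1912) (nat_lit 2101) (nat_lit 543)
  .nil))) (nat_lit 1913) (nat_lit 30001) (nat_lit 1390) (.node (.node (.node (.node .nil (nat_lit 1914)
  (nat_lit 28773) (nat_lit 1555) .nil) (nat_lit 1915) (nat_lit 29845) (nat_lit 1563) (.node .nil (nat_lit
  1916) (nat_lit 4901) (nat_lit 1553) .nil)) (nat_lit 1917) (nat_lit 28049) (nat_lit 356) (.node (.node .nil
  (nat_lit 1918) (nat_lit 29297) (nat_lit 1379) .nil) (nat_lit 1919) (nat_lit 29077) (nat_lit 533) (.node .nil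
  (nat_lit 1920) (nat_lit 8065) (nat_lit 1264) .nil))) (nat_lit 1921) (nat_lit 5413) (nat_lit 888) (.node
  (.node (.node .nil (nat_lit 1922) (nat_lit 13445) (nat_lit 1916) .nil) (nat_lit 1923) (nat_lit 13701)
  (nat_lit 1908) (.node .nil (nat_lit 1924) (nat_lit 10612) (nat_lit 141) .nil)) (nat_lit 1925) (nat_lit
  12132) (nat_lit 1177) (.node (.node .nil (nat_lit 1926) (nat_lit 22193) (nat_lit 1268) .nil) (nat_lit 1927)
  (nat_lit 16452) (nat_lit 164) .nil))))))
def tR6_15 : T := (.node (.node (.node (.node (.node (.node (.node .nil (nat_lit 1929) (nat_lit 19153)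
  (nat_lit 246) .nil) (nat_lit 1930) (nat_lit 15204) (nat_lit 156) (.node .nil (nat_lit 1931) (nat_lit 23732)
  (nat_lit 1160) .nil)) (nat_lit 1932) (nat_lit 19138) (nat_lit 1933) (.node (.node .nil (nat_lit 1933)
  (nat_lit 7153) (nat_lit 1276) .nil) (nat_lit 1934) (nat_lit 19729) (nat_lit 251) (.node .nil (nat_lit 1935)
  (nat_lit 15220) (nat_lit 156) .nil))) (nat_lit 1936) (nat_lit 10628) (nat_lit 141) (.node (.node (.node .nil
  (nat_lit 1937) (nat_lit 2194) (nat_lit 912) .nil) (nat_lit 1938) (nat_lit 22129) (nat_lit 1248) (.node .nil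
  (nat_lit 1939) (nat_lit 785) (nat_lit 1257) .nil)) (nat_lit 1940) (nat_lit 8337) (nat_lit 1252) (.node
  (.node .nil (nat_lit 1941) (nat_lit 5429) (nat_lit 888) .nil) (nat_lit 1942) (nat_lit 13461) (nat_lit 1916)
  .nil))) (nat_lit 1943) (nat_lit 13717) (nat_lit 1908) (.node (.node (.node (.node .nil (nat_lit 1944)
  (nat_lit 19250) (nat_lit 1945) .nil) (nat_lit 1945) (nat_lit 7265) (nat_lit 1256) (.node .nil (nat_lit 1946)
  (nat_lit 19825) (nat_lit 239) .nil)) (nat_lit 1947) (nat_lit 15236) (nat_lit 156) (.node (.node .nil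
  (nat_lit 1948) (nat_lit 21057) (nat_lit 235) .nil) (nat_lit 1949) (nat_lit 18737) (nat_lit 226) (.node .nil
  (nat_lit 1950) (nat_lit 15252) (nat_lit 156) .nil))) (nat_lit 1951) (nat_lit 23748) (nat_lit 1160) (.node
  (.node (.node .nil (nat_lit 1952) (nat_lit 21009) (nat_lit 215) .nil) (nat_lit 1953) (nat_lit 865) (nat_lit
  222) (.node .nil (nat_lit 1954) (nat_lit 257) (nat_lit 1241) .nil)) (nat_lit 1955) (nat_lit 15268) (nat_lit
  156) (.node (.node .nil (nat_lit 1956) (nat_lit 18258) (nat_lit 1957) .nil) (nat_lit 1957) (nat_lit 6641)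
  (nat_lit 1236) .nil)))) (nat_lit 1958) (nat_lit 15284) (nat_lit 156) (.node (.node (.node (.node (.node .nil
  (nat_lit 1959) (nat_lit 23764) (nat_lit 1160) .nil) (nat_lit 1960) (nat_lit 8897) (nat_lit 1240) (.node .nil
  (nat_lit 1961) (nat_lit 5445) (nat_lit 888) .nil)) (nat_lit 1962) (nat_lit 13477) (nat_lit 1916) (.node
  (.node .nil (nat_lit 1963) (nat_lit 13733) (nat_lit 1908) .nil) (nat_lit 1964) (nat_lit 12148) (nat_lit
  1177) (.node .nil (nat_lit 1965) (nat_lit 10644) (nat_lit 141) .nil))) (nat_lit 1966) (nat_lit 16468)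
  (nat_lit 164) (.node (.node (.node .nil (nat_lit 1967) (nat_lit 19601) (nat_lit 1237) .nil) (nat_lit 1968)
  (nat_lit 17890) (nat_lit 1969) (.node .nil (nat_lit 1969) (nat_lit 6481) (nat_lit 1216) .nil)) (nat_lit
  1970) (nat_lit 305) (nat_lit 199) (.node (.node .nil (nat_lit 1971) (nat_lit 1058) (nat_lit 1970) .nil)
  (nat_lit 1972) (nat_lit 20961) (nat_lit 195) .nil))) (nat_lit 1973) (nat_lit 19265) (nat_lit 202) (.node
  (.node (.node (.node .nil (nat_lit 1974) (nat_lit 19489) (nat_lit 1229) .nil) (nat_lit 1975) (nat_lit 15300)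
  (nat_lit 156) (.node .nil (nat_lit 1976) (nat_lit 12164) (nat_lit 1177) .nil)) (nat_lit 1977) (nat_lit
  10660) (nat_lit 141) (.node (.node .nil (nat_lit 1978) (nat_lit 16484) (nat_lit 164) .nil) (nat_lit 1979)
  (nat_lit 19777) (nat_lit 1217) (.node .nil (nat_lit 1980) (nat_lit 8657) (nat_lit 1228) .nil))) (nat_lit
  1981) (nat_lit 5461) (nat_lit 888) (.node (.node (.node .nil (nat_lit 1982) (nat_lit 13493) (nat_lit 1916)
  .nil) (nat_lit 1983) (nat_lit 13749) (nat_lit 1908) (.node .nil (nat_lit 1984) (nat_lit 17665) (nat_lit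
  1096) .nil)) (nat_lit 1985) (nat_lit 3317) (nat_lit 896) (.node (.node .nil (nat_lit 1986) (nat_lit 6081)
  (nat_lit 70) .nil) (nat_lit 1987) (nat_lit 8945) (nat_lit 79) .nil))))) (nat_lit 1988) (nat_lit 17123)
  (nat_lit 1999) (.node (.node (.node (.node (.node (.node .nil (nat_lit 1989) (nat_lit 6898) (nat_lit 2038)
  .nil) (nat_lit 1990) (nat_lit 18352) (nat_lit 2031) (.node .nil (nat_lit 1991) (nat_lit 6709) (nat_lit 898)
  .nil)) (nat_lit 1992) (nat_lit 6529) (nat_lit 71) (.node (.node .nil (nat_lit 1993) (nat_lit 8705) (nat_lit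
  78) .nil) (nat_lit 1994) (nat_lit 2757) (nat_lit 899) (.node .nil (nat_lit 1995) (nat_lit 19857) (nat_lit
  1088) .nil))) (nat_lit 1996) (nat_lit 8453) (nat_lit 897) (.node (.node (.node .nil (nat_lit 1997) (nat_lit
  17810) (nat_lit 1022) .nil) (nat_lit 1998) (nat_lit 8274) (nat_lit 1021) (.node .nil (nat_lit 1999) (nat_lit
  6032) (nat_lit 970) .nil)) (nat_lit 2000) (nat_lit 17651) (nat_lit 2011) (.node (.node .nil (nat_lit 2001)
  (nat_lit 595) (nat_lit 986) .nil) (nat_lit 2002) (nat_lit 18368) (nat_lit 2043) .nil))) (nat_lit 2003)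
  (nat_lit 6725) (nat_lit 898) (.node (.node (.node (.node .nil (nat_lit 2004) (nat_lit 17905) (nat_lit 1116)
  .nil) (nat_lit 2005) (nat_lit 3333) (nat_lit 896) (.node .nil (nat_lit 2006) (nat_lit 5921) (nat_lit 82)
  .nil)) (nat_lit 2007) (nat_lit 113) (nat_lit 91) (.node (.node .nil (nat_lit 2008) (nat_lit 8469) (nat_lit
  897) .nil) (nat_lit 2009) (nat_lit 18178) (nat_lit 1002) (.node .nil (nat_lit 2010) (nat_lit 8002) (nat_lit
  1001) .nil))) (nat_lit 2011) (nat_lit 6320) (nat_lit 990) (.node (.node (.node .nil (nat_lit 2012) (nat_lit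
  6369) (nat_lit 83) .nil) (nat_lit 2013) (nat_lit 8593) (nat_lit 90) (.node .nil (nat_lit 2014) (nat_lit
  2773) (nat_lit 899) .nil)) (nat_lit 2015) (nat_lit 20177) (nat_lit 1108) (.node (.node .nil (nat_lit 2016)
  (nat_lit 6241) (nat_lit 111) .nil) (nat_lit 2017) (nat_lit 8241) (nat_lit 102) .nil)))) (nat_lit 2018)
  (nat_lit 1603) (nat_lit 2025) (.node (.node (.node (.node (.node .nil (nat_lit 2019) (nat_lit 20608)
  (nat_lit 998) .nil) (nat_lit 2020) (nat_lit 8485) (nat_lit 897) (.node .nil (nat_lit 2021) (nat_lit 18770)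
  (nat_lit 982) .nil)) (nat_lit 2022) (nat_lit 7842) (nat_lit 981) (.node (.node .nil (nat_lit 2023) (nat_lit
  6912) (nat_lit 2038) .nil) (nat_lit 2024) (nat_lit 18642) (nat_lit 987) (.node .nil (nat_lit 2025) (nat_lit
  465) (nat_lit 1129) .nil))) (nat_lit 2026) (nat_lit 7441) (nat_lit 110) (.node (.node (.node .nil (nat_lit
  2027) (nat_lit 8865) (nat_lit 103) .nil) (nat_lit 2028) (nat_lit 18099) (nat_lit 999) (.node .nil (nat_lit
  2029) (nat_lit 6882) (nat_lit 2014) .nil)) (nat_lit 2030) (nat_lit 18288) (nat_lit 979) (.node (.node .nil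
  (nat_lit 2031) (nat_lit 6741) (nat_lit 898) .nil) (nat_lit 2032) (nat_lit 8501) (nat_lit 897) .nil)))
  (nat_lit 2033) (nat_lit 19186) (nat_lit 962) (.node (.node (.node (.node .nil (nat_lit 2034) (nat_lit 7698)
  (nat_lit 961) .nil) (nat_lit 2035) (nat_lit 562) (nat_lit 960) (.node .nil (nat_lit 2036) (nat_lit 5953)
  (nat_lit 123) .nil)) (nat_lit 2037) (nat_lit 7969) (nat_lit 114) (.node (.node .nil (nat_lit 2038) (nat_lit
  2789) (nat_lit 899) .nil) (nat_lit 2039) (nat_lit 20448) (nat_lit 1010) (.node .nil (nat_lit 2040) (nat_lit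
  17731) (nat_lit 1011) .nil))) (nat_lit 2041) (nat_lit 6850) (nat_lit 1994) (.node (.node (.node .nil
  (nat_lit 2042) (nat_lit 18272) (nat_lit 967) .nil) (nat_lit 2043) (nat_lit 6757) (nat_lit 898) (.node .nil
  (nat_lit 2044) (nat_lit 18578) (nat_lit 975) .nil)) (nat_lit 2045) (nat_lit 3349) (nat_lit 896) (.node
  (.node .nil (nat_lit 2046) (nat_lit 528) (nat_lit 2007) .nil) (nat_lit 2047) (nat_lit 8625) (nat_lit 115)
  .nil))))))
def tR6 : T := (.node (.node (.node (.node tR6_0 (nat_lit 184) (nat_lit 1921) (nat_lit 303) tR6_1) (nat_lit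
  304) (nat_lit 22757) (nat_lit 1816) (.node tR6_2 (nat_lit 424) (nat_lit 19957) (nat_lit 648) tR6_3))
  (nat_lit 544) (nat_lit 27554) (nat_lit 1547) (.node (.node tR6_4 (nat_lit 664) (nat_lit 20112) (nat_lit 672)
  tR6_5) (nat_lit 784) (nat_lit 19456) (nat_lit 933) (.node tR6_6 (nat_lit 904) (nat_lit 25025) (nat_lit 1279)
  tR6_7))) (nat_lit 1088) (nat_lit 7954) (nat_lit 114) (.node (.node (.node tR6_8 (nat_lit 1208) (nat_lit
  25445) (nat_lit 407) tR6_9) (nat_lit 1328) (nat_lit 22805) (nat_lit 1816) (.node tR6_10 (nat_lit 1448)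
  (nat_lit 20037) (nat_lit 648) tR6_11)) (nat_lit 1568) (nat_lit 27506) (nat_lit 523) (.node (.node tR6_12
  (nat_lit 1688) (nat_lit 20272) (nat_lit 1696) tR6_13) (nat_lit 1808) (nat_lit 18240) (nat_lit 1957) (.node
  tR6_14 (nat_lit 1928) (nat_lit 21089) (nat_lit 255) tR6_15))))
def tF6 : T := (.node (.node (.node (.node (.node .nil (nat_lit 1) (nat_lit 1093) (nat_lit 1049) .nil)
  (nat_lit 2) (nat_lit 2853) (nat_lit 6) (.node .nil (nat_lit 4) (nat_lit 2833) (nat_lit 6) .nil)) (nat_lit 6)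
  (nat_lit 839) (nat_lit 441) (.node (.node .nil (nat_lit 8) (nat_lit 1104) (nat_lit 48) .nil) (nat_lit 16)
  (nat_lit 4448) (nat_lit 1028) .nil)) (nat_lit 27) (nat_lit 135) (nat_lit 64) (.node (.node (.node .nil
  (nat_lit 32) (nat_lit 6304) (nat_lit 1036) .nil) (nat_lit 48) (nat_lit 231) (nat_lit 1241) .nil) (nat_lit
  56) (nat_lit 292) (nat_lit 184) (.node (.node .nil (nat_lit 64) (nat_lit 0) (nat_lit 64) .nil) (nat_lit 128)
  (nat_lit 240) (nat_lit 184) .nil))) (nat_lit 184) (nat_lit 33) (nat_lit 64) (.node (.node (.node (.node .nil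
  (nat_lit 256) (nat_lit 1345) (nat_lit 1171) .nil) (nat_lit 441) (nat_lit 145) (nat_lit 1241) (.node .nil
  (nat_lit 512) (nat_lit 2529) (nat_lit 1304) .nil)) (nat_lit 1024) (nat_lit 1414) (nat_lit 56) (.node (.node
  .nil (nat_lit 1028) (nat_lit 1573) (nat_lit 1067) .nil) (nat_lit 1036) (nat_lit 2501) (nat_lit 1046) .nil))
  (nat_lit 1046) (nat_lit 705) (nat_lit 27) (.node (.node (.node .nil (nat_lit 1049) (nat_lit 214) (nat_lit
  1241) .nil) (nat_lit 1067) (nat_lit 326) (nat_lit 184) .nil) (nat_lit 1171) (nat_lit 274) (nat_lit 184)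
  (.node (.node .nil (nat_lit 1241) (nat_lit 16) (nat_lit 64) .nil) (nat_lit 1304) (nat_lit 736) (nat_lit 441)
  .nil))))
/-- Generators of a stabiliser. -/
def lC6 : List ℕ := [nat_lit 0x80040062c18d0b84d940c40403041043f415, nat_lit 0x8004003f86115190b842741e40f40a40e009, nat_lit
  0x80040022b1010ab472420410408404002001, nat_lit 0x80040021612d0ab05b020010408004002401]
/-- Generators of a stabiliser and their commutator maps. -/
def lD6 : List ℕ := [nat_lit 0x80040062c18d0b84d940c40403041043f415, nat_lit 0x8004003f86115190b842741e40f40a40e009, nat_lit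
  0x80040022b1010ab472420410408404002001, nat_lit 0x80040021612d0ab05b020010408004002401, nat_lit
  0x42c08d03849942c41403841443d414, nat_lit 0x1f87115990f840740e40740e40c008, nat_lit
  0x2b00102b432400400400400000000, nat_lit 0x1602d02b01b000000400000000400]
/-- Words. -/
def wC6 : List ℕ := [nat_lit 0xce94250842123, nat_lit 0x339d0739ce3, nat_lit 0x1d2149ce3, nat_lit 0x1a4e539d23]

/-- Generators of the normaliser of `V` in `H`, as matrices. -/
noncomputable def gJ (f : ℕ) : List ℕ := lE ++ [mW, mY, lget lG 0 f]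
/-- Orbit number. -/
def cl (tbq a : ℕ) : ℕ := Nat.land (Nat.shiftRight tbq (Nat.mul (nat_lit 4) a)) (nat_lit 15)
/-- Orbit representatives. -/
noncomputable def rep (i : ℕ) : ℕ := lget [0, 1024, 1, 20, 64, 65, 83] 0 i
/-- Bit test. -/
def tbq (m i : ℕ) : Bool := Nat.beq (Nat.land (Nat.shiftRight m i) (nat_lit 1)) (nat_lit 1)
/-- Convolution count. -/
noncomputable def cv (t m m' x : ℕ) : ℕ := bsum (fun a => b2n (band (tbq m (cl t a)) (tbq m' (cl t (a ^^^ x))))) 11 0
/-- Certificate for the orbits. -/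
noncomputable def orbC (f t : ℕ) (tr : T) : Bool :=
  band (forChk lin (gJ f) (fun k => band (Nat.ble k 2047) (Nat.beq k (rep (cl t k)))) tr)
    (ball (fun a => band (band (tr.has a) (Nat.ble (cl t a) 6))
      (lall (gJ f) fun s => Nat.beq (force (lin s a) (cl t)) (cl t a))) 11 0)
/-- Certificate excluding the orbit of length 36. -/
noncomputable def exC (f r : ℕ) (lC lD wC : List ℕ) (tR tF : T) : Bool :=
  band (band (wordsChk mm id idm (gJ f) lC wC) (lall lC fun k => fx k 20))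
    (band (band (lall lD fun k => lany lC fun c => bor (Nat.beq k c) (Nat.beq k (c ^^^ idm)))
      (band (revChk lin lD r tR) (connChk lin lD r tF)))
      (band (ball (fun a => bor (Nat.beq (a &&& 960) 0) (tR.has a)) 11 0) (nall 11 fun i => tF.has (2 ^ i))))
/-- The counting test. -/
noncomputable def cntC (t : ℕ) (l : List ℕ) : Bool :=
  nall 128 fun m => bor (bor (tbq m 0) (!tbq m 1)) (bor (lany l (Nat.beq m)) (force (cv t m m 1024) fun c =>
    nany 7 fun i => band (tbq m i) (!Nat.beq (cv t m m (rep i)) c)))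

theorem orbC0 : orbC 0 clT0 tJ0 = true := by decide +kernel
theorem orbC6 : orbC 6 clT6 tJ6 = true := by decide +kernel
theorem exC0 : exC 0 64 lC0 lD0 wC0 tR0 tF0 = true := by decide +kernel
theorem exC6 : exC 6 64 lC6 lD6 wC6 tR6 tF6 = true := by decide +kernel
theorem cntC0 : cntC clT0 [2, 66, 14, 126] = true := by decide +kernel
theorem cntC6 : cntC clT6 [2, 102, 14, 126] = true := by decide +kernel

end Cfsg.Agent.J4
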