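import Cfsg.Agent.J4.Bits
import Cfsg.Agent.M24.LinAct

/-!
# The model `3.M₂₂.2` acting on `𝔽₂¹²`: generators, quadratic form, orbits on vectors
-/

set_option autoImplicit false

namespace Cfsg.Agent.J4

open Cfsg.Agent.M24

/-- Parity of a six-bit number. -/
def par6 (x : ℕ) : ℕ := Nat.land (Nat.shiftRight (nat_lit 0x6996966996696996) x) (nat_lit 1)
/-- The quadratic form. -/
def Qf (a : ℕ) : ℕ := par6 (Nat.land (Nat.land a (Nat.shiftRight a (nat_lit 6))) (nat_lit 63))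
/-- The polar form. -/
def Bf (a b : ℕ) : ℕ := par6 (Nat.land (Nat.xor (Nat.land a (Nat.shiftRight b (nat_lit 6)))
  (Nat.land b (Nat.shiftRight a (nat_lit 6)))) (nat_lit 63))

/-- Code of a generator. -/
def kW : ℕ := nat_lit 0xbdab49ca307b9ac5a928398a418820c008003002000c008001003000400c001003400c001003000400c003002000c008003002
/-- Code of a generator. -/
def kX : ℕ := nat_lit 0xbd6717b56939461b52507314831040f31a12f32a13622d33c854cfb9cdf873692d1eb3bd740ec049fc65b7ddab2be3e9f00500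
/-- Code of a generator. -/
def kY : ℕ := nat_lit 0xbba8ab116d7c52899d90286a219a408004007c0e80f80a4002301200b00600f00a8004002c0180fc0a8002701e00f00a00e009
/-- Code of a generator. -/
def kU : ℕ := nat_lit 0xbd990592651c695724ea409a67c82001402801a02f002003e00700a00f00ac0f4001402801c02400f005bc0d40fc05400800c0
/-- Code of a generator. -/
def kV : ℕ := nat_lit 0x5883388a1c8f5140b46cd317aed702801402a015008004880440080040a0050002801402a015008004880440080040a00500
/-- Code of the square of `kW`. -/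
def kW2 : ℕ := nat_lit 0xbdab49ca307b9ac5a928398a418820400c001003000400c003002000c008003002c008003002000c008001003000400c001003
/-- The cocycle of the canonical section. -/
def be (a b : ℕ) : ℕ := Bf (lin kW2 a) b
/-- The generators of the model. -/
def gL : List ℕ := [kW, kX, kY, kU, kV]
/-- The model group. -/
noncomputable def Lm : Subgroup R := gen rc gL
/-- `1` for the elements moving the point `0`. -/
noncomputable def ou (c : ℕ) : ℕ := bif' (Nat.beq (ap (rp c) (nat_lit 0)) (nat_lit 0)) (nat_lit 0) (nat_lit 1)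

def tv1_0 : T := (.node (.node (.node (.node (.node (.node (.node (.node .nil (nat_lit 1) (nat_lit 0) (nat_lit
  1) .nil) (nat_lit 2) (nat_lit 16) (nat_lit 1) .nil) (nat_lit 3) (nat_lit 80) (nat_lit 2) (.node (.node .nil
  (nat_lit 4) (nat_lit 355) (nat_lit 3840) .nil) (nat_lit 5) (nat_lit 610) (nat_lit 12) .nil)) (nat_lit 6)
  (nat_lit 226) (nat_lit 9) (.node (.node (.node .nil (nat_lit 7) (nat_lit 290) (nat_lit 3) .nil) (nat_lit 8)
  (nat_lit 468) (nat_lit 128) .nil) (nat_lit 9) (nat_lit 50) (nat_lit 1) (.node .nil (nat_lit 10) (nat_lit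
  275) (nat_lit 192) .nil))) (nat_lit 11) (nat_lit 386) (nat_lit 14) (.node (.node (.node (.node .nil (nat_lit
  12) (nat_lit 195) (nat_lit 1280) .nil) (nat_lit 13) (nat_lit 834) (nat_lit 7) .nil) (nat_lit 14) (nat_lit
  114) (nat_lit 2) (.node (.node .nil (nat_lit 15) (nat_lit 451) (nat_lit 128) .nil) (nat_lit 16) (nat_lit
  10739) (nat_lit 1792) .nil)) (nat_lit 18) (nat_lit 10306) (nat_lit 29) (.node (.node (.node .nil (nat_lit
  21) (nat_lit 4641) (nat_lit 26) .nil) (nat_lit 22) (nat_lit 8385) (nat_lit 3585) .nil) (nat_lit 26) (nat_lit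
  2497) (nat_lit 2149) (.node .nil (nat_lit 27) (nat_lit 10338) (nat_lit 28) .nil)))) (nat_lit 28) (nat_lit
  7282) (nat_lit 31) (.node (.node (.node (.node (.node .nil (nat_lit 29) (nat_lit 7234) (nat_lit 21) .nil)
  (nat_lit 30) (nat_lit 7441) (nat_lit 1437) .nil) (nat_lit 31) (nat_lit 4658) (nat_lit 26) (.node (.node .nil
  (nat_lit 32) (nat_lit 10673) (nat_lit 3205) .nil) (nat_lit 35) (nat_lit 10356) (nat_lit 1920) .nil))
  (nat_lit 36) (nat_lit 6145) (nat_lit 381) (.node (.node (.node .nil (nat_lit 37) (nat_lit 6658) (nat_lit 47)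
  .nil) (nat_lit 38) (nat_lit 9746) (nat_lit 42) .nil) (nat_lit 39) (nat_lit 5505) (nat_lit 3942) (.node .nil
  (nat_lit 42) (nat_lit 6641) (nat_lit 47) .nil))) (nat_lit 43) (nat_lit 10049) (nat_lit 2306) (.node (.node
  (.node (.node .nil (nat_lit 45) (nat_lit 9234) (nat_lit 36) .nil) (nat_lit 47) (nat_lit 4193) (nat_lit 1274)
  .nil) (nat_lit 48) (nat_lit 10644) (nat_lit 3264) (.node (.node .nil (nat_lit 49) (nat_lit 8850) (nat_lit
  59) .nil) (nat_lit 53) (nat_lit 1665) (nat_lit 3231) .nil)) (nat_lit 54) (nat_lit 8946) (nat_lit 56) (.node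
  (.node (.node .nil (nat_lit 56) (nat_lit 5970) (nat_lit 58) .nil) (nat_lit 57) (nat_lit 6945) (nat_lit 2811)
  .nil) (nat_lit 58) (nat_lit 3602) (nat_lit 53) (.node .nil (nat_lit 59) (nat_lit 5922) (nat_lit 63)
  .nil))))) (nat_lit 61) (nat_lit 9027) (nat_lit 832) (.node (.node (.node (.node (.node (.node .nil (nat_lit
  63) (nat_lit 3585) (nat_lit 53) .nil) (nat_lit 64) (nat_lit 307) (nat_lit 3) .nil) (nat_lit 76) (nat_lit
  2785) (nat_lit 2903) (.node (.node .nil (nat_lit 80) (nat_lit 10388) (nat_lit 1092) .nil) (nat_lit 92)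
  (nat_lit 10162) (nat_lit 2655) .nil)) (nat_lit 98) (nat_lit 10852) (nat_lit 644) (.node (.node (.node .nil
  (nat_lit 110) (nat_lit 9108) (nat_lit 580) .nil) (nat_lit 114) (nat_lit 10562) (nat_lit 2686) .nil) (nat_lit
  126) (nat_lit 5297) (nat_lit 1067) (.node .nil (nat_lit 128) (nat_lit 131) (nat_lit 2) .nil))) (nat_lit 136)
  (nat_lit 2017) (nat_lit 3518) (.node (.node (.node (.node .nil (nat_lit 145) (nat_lit 11028) (nat_lit 328)
  .nil) (nat_lit 153) (nat_lit 9636) (nat_lit 456) .nil) (nat_lit 161) (nat_lit 9666) (nat_lit 4009) (.node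
  (.node .nil (nat_lit 169) (nat_lit 7825) (nat_lit 2070) .nil) (nat_lit 176) (nat_lit 8628) (nat_lit 3272)
  .nil)) (nat_lit 184) (nat_lit 8658) (nat_lit 4026) (.node (.node (.node .nil (nat_lit 192) (nat_lit 67)
  (nat_lit 1) .nil) (nat_lit 196) (nat_lit 3409) (nat_lit 1769) .nil) (nat_lit 211) (nat_lit 9138) (nat_lit
  1495) (.node .nil (nat_lit 215) (nat_lit 6817) (nat_lit 3133) .nil)))) (nat_lit 224) (nat_lit 8354) (nat_lit
  1507) (.node (.node (.node (.node (.node .nil (nat_lit 228) (nat_lit 10402) (nat_lit 1509) .nil) (nat_lit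
  243) (nat_lit 10916) (nat_lit 972) .nil) (nat_lit 247) (nat_lit 10532) (nat_lit 908) (.node (.node .nil
  (nat_lit 256) (nat_lit 6675) (nat_lit 47) .nil) (nat_lit 257) (nat_lit 8563) (nat_lit 3951) .nil)) (nat_lit
  280) (nat_lit 785) (nat_lit 1344) (.node (.node (.node .nil (nat_lit 281) (nat_lit 3921) (nat_lit 3181)
  .nil) (nat_lit 296) (nat_lit 7939) (nat_lit 1071) .nil) (nat_lit 297) (nat_lit 10019) (nat_lit 2927) (.node
  .nil (nat_lit 304) (nat_lit 2963) (nat_lit 2351) .nil))) (nat_lit 305) (nat_lit 3667) (nat_lit 1647) (.node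
  (.node (.node (.node .nil (nat_lit 322) (nat_lit 8164) (nat_lit 2577) .nil) (nat_lit 327) (nat_lit 11059)
  (nat_lit 2732) .nil) (nat_lit 328) (nat_lit 10209) (nat_lit 3260) (.node .nil (nat_lit 333) (nat_lit 4993)
  (nat_lit 2153) .nil)) (nat_lit 338) (nat_lit 2644) (nat_lit 3665) (.node (.node (.node .nil (nat_lit 343)
  (nat_lit 593) (nat_lit 12) .nil) (nat_lit 344) (nat_lit 4290) (nat_lit 1241) .nil) (nat_lit 349) (nat_lit
  4052) (nat_lit 401) (.node .nil (nat_lit 354) (nat_lit 5057) (nat_lit 3219) .nil)))))) (nat_lit 359)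
  (nat_lit 9042) (nat_lit 1248) (.node (.node (.node (.node (.node (.node (.node .nil (nat_lit 360) (nat_lit
  8770) (nat_lit 1256) .nil) (nat_lit 365) (nat_lit 8178) (nat_lit 1252) .nil) (nat_lit 370) (nat_lit 5714)
  (nat_lit 1278) (.node (.node .nil (nat_lit 375) (nat_lit 3235) (nat_lit 940) .nil) (nat_lit 376) (nat_lit
  2771) (nat_lit 812) .nil)) (nat_lit 381) (nat_lit 3714) (nat_lit 1270) (.node (.node (.node .nil (nat_lit
  384) (nat_lit 9794) (nat_lit 256) .nil) (nat_lit 393) (nat_lit 7476) (nat_lit 1437) .nil) (nat_lit 401)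
  (nat_lit 1970) (nat_lit 280) (.node .nil (nat_lit 408) (nat_lit 4611) (nat_lit 3373) .nil))) (nat_lit 417)
  (nat_lit 3793) (nat_lit 2457) (.node (.node (.node (.node .nil (nat_lit 424) (nat_lit 3939) (nat_lit 1069)
  .nil) (nat_lit 432) (nat_lit 1412) (nat_lit 3293) .nil) (nat_lit 441) (nat_lit 3892) (nat_lit 2397) (.node
  (.node .nil (nat_lit 451) (nat_lit 10435) (nat_lit 1454) .nil) (nat_lit 453) (nat_lit 9121) (nat_lit 1495)
  .nil)) (nat_lit 456) (nat_lit 6530) (nat_lit 2891) (.node (.node (.node .nil (nat_lit 462) (nat_lit 10274)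
  (nat_lit 2882) .nil) (nat_lit 467) (nat_lit 865) (nat_lit 3030) .nil) (nat_lit 469) (nat_lit 1953) (nat_lit
  280) (.node .nil (nat_lit 472) (nat_lit 2609) (nat_lit 3665) .nil)))) (nat_lit 478) (nat_lit 1073) (nat_lit
  1183) (.node (.node (.node (.node (.node .nil (nat_lit 483) (nat_lit 6993) (nat_lit 924) .nil) (nat_lit 485)
  (nat_lit 3201) (nat_lit 2386) .nil) (nat_lit 488) (nat_lit 3553) (nat_lit 1563) (.node (.node .nil (nat_lit
  494) (nat_lit 3969) (nat_lit 3285) .nil) (nat_lit 499) (nat_lit 5091) (nat_lit 3246) .nil)) (nat_lit 501)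
  (nat_lit 3812) (nat_lit 2457) (.node (.node (.node .nil (nat_lit 504) (nat_lit 3266) (nat_lit 2938) .nil)
  (nat_lit 510) (nat_lit 3108) (nat_lit 1561) .nil) (nat_lit 512) (nat_lit 4675) (nat_lit 26) (.node .nil
  (nat_lit 515) (nat_lit 10371) (nat_lit 1434) .nil))) (nat_lit 532) (nat_lit 8036) (nat_lit 1066) (.node
  (.node (.node (.node .nil (nat_lit 535) (nat_lit 8291) (nat_lit 3482) .nil) (nat_lit 544) (nat_lit 2243)
  (nat_lit 3610) .nil) (nat_lit 547) (nat_lit 4850) (nat_lit 2022) (.node (.node .nil (nat_lit 564) (nat_lit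
  1569) (nat_lit 2688) .nil) (nat_lit 567) (nat_lit 3825) (nat_lit 1179) .nil)) (nat_lit 578) (nat_lit 9409)
  (nat_lit 1335) (.node (.node (.node .nil (nat_lit 580) (nat_lit 6066) (nat_lit 3462) .nil) (nat_lit 585)
  (nat_lit 8818) (nat_lit 3457) .nil) (nat_lit 591) (nat_lit 10545) (nat_lit 2686) (.node .nil (nat_lit 594)
  (nat_lit 5569) (nat_lit 504) .nil))))) (nat_lit 596) (nat_lit 6625) (nat_lit 2870) (.node (.node (.node
  (.node (.node (.node .nil (nat_lit 601) (nat_lit 5345) (nat_lit 1151) .nil) (nat_lit 607) (nat_lit 3985)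
  (nat_lit 3761) .nil) (nat_lit 610) (nat_lit 4307) (nat_lit 1241) (.node (.node .nil (nat_lit 612) (nat_lit
  4786) (nat_lit 3493) .nil) (nat_lit 617) (nat_lit 4340) (nat_lit 3374) .nil)) (nat_lit 623) (nat_lit 4579)
  (nat_lit 3737) (.node (.node (.node .nil (nat_lit 626) (nat_lit 497) (nat_lit 3453) .nil) (nat_lit 628)
  (nat_lit 2305) (nat_lit 1971) .nil) (nat_lit 633) (nat_lit 721) (nat_lit 2298) (.node .nil (nat_lit 639)
  (nat_lit 3441) (nat_lit 564) .nil))) (nat_lit 641) (nat_lit 9859) (nat_lit 3928) (.node (.node (.node (.node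
  .nil (nat_lit 644) (nat_lit 8753) (nat_lit 1256) .nil) (nat_lit 651) (nat_lit 4113) (nat_lit 3223) .nil)
  (nat_lit 654) (nat_lit 11011) (nat_lit 4056) (.node (.node .nil (nat_lit 657) (nat_lit 4497) (nat_lit 1266)
  .nil) (nat_lit 660) (nat_lit 8321) (nat_lit 39) .nil)) (nat_lit 667) (nat_lit 9396) (nat_lit 3042) (.node
  (.node (.node .nil (nat_lit 670) (nat_lit 8707) (nat_lit 2264) .nil) (nat_lit 673) (nat_lit 5010) (nat_lit
  2153) .nil) (nat_lit 676) (nat_lit 1987) (nat_lit 280) (.node .nil (nat_lit 683) (nat_lit 6690) (nat_lit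
  2157) .nil)))) (nat_lit 686) (nat_lit 3378) (nat_lit 2145) (.node (.node (.node (.node (.node .nil (nat_lit
  689) (nat_lit 1460) (nat_lit 2530) .nil) (nat_lit 692) (nat_lit 3042) (nat_lit 2167) .nil) (nat_lit 699)
  (nat_lit 3762) (nat_lit 2175) (.node (.node .nil (nat_lit 702) (nat_lit 1169) (nat_lit 8) .nil) (nat_lit
  704) (nat_lit 7330) (nat_lit 512) .nil)) (nat_lit 711) (nat_lit 5556) (nat_lit 3942) (.node (.node (.node
  .nil (nat_lit 723) (nat_lit 6705) (nat_lit 3831) .nil) (nat_lit 724) (nat_lit 6739) (nat_lit 2075) .nil)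
  (nat_lit 736) (nat_lit 2273) (nat_lit 2214) (.node .nil (nat_lit 743) (nat_lit 3843) (nat_lit 1179) .nil)))
  (nat_lit 755) (nat_lit 1249) (nat_lit 626) (.node (.node (.node (.node .nil (nat_lit 756) (nat_lit 3571)
  (nat_lit 1563) .nil) (nat_lit 768) (nat_lit 3619) (nat_lit 53) .nil) (nat_lit 770) (nat_lit 10115) (nat_lit
  2805) (.node .nil (nat_lit 784) (nat_lit 1347) (nat_lit 1845) .nil)) (nat_lit 786) (nat_lit 3874) (nat_lit
  2397) (.node (.node (.node .nil (nat_lit 812) (nat_lit 1137) (nat_lit 4032) .nil) (nat_lit 814) (nat_lit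
  3682) (nat_lit 2401) .nil) (nat_lit 828) (nat_lit 9891) (nat_lit 3125) (.node .nil (nat_lit 830) (nat_lit
  8515) (nat_lit 1781) .nil)))))))
def tv1_1 : T := (.node (.node (.node (.node (.node (.node (.node (.node .nil (nat_lit 846) (nat_lit 6980)
  (nat_lit 2811) .nil) (nat_lit 848) (nat_lit 1377) (nat_lit 3293) .nil) (nat_lit 862) (nat_lit 3154) (nat_lit
  784) (.node (.node .nil (nat_lit 866) (nat_lit 2754) (nat_lit 812) .nil) (nat_lit 876) (nat_lit 2993)
  (nat_lit 755) .nil)) (nat_lit 882) (nat_lit 4817) (nat_lit 1902) (.node (.node (.node .nil (nat_lit 892)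
  (nat_lit 4867) (nat_lit 3126) .nil) (nat_lit 897) (nat_lit 9299) (nat_lit 3959) .nil) (nat_lit 903) (nat_lit
  9316) (nat_lit 3959) (.node .nil (nat_lit 906) (nat_lit 9649) (nat_lit 4009) .nil))) (nat_lit 908) (nat_lit
  7682) (nat_lit 1741) (.node (.node (.node (.node .nil (nat_lit 913) (nat_lit 3059) (nat_lit 2167) .nil)
  (nat_lit 919) (nat_lit 5124) (nat_lit 2871) .nil) (nat_lit 922) (nat_lit 3539) (nat_lit 2039) (.node (.node
  .nil (nat_lit 924) (nat_lit 4450) (nat_lit 1759) .nil) (nat_lit 929) (nat_lit 1185) (nat_lit 1707) .nil))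
  (nat_lit 935) (nat_lit 2113) (nat_lit 3173) (.node (.node (.node .nil (nat_lit 938) (nat_lit 2737) (nat_lit
  812) .nil) (nat_lit 940) (nat_lit 1425) (nat_lit 2530) .nil) (nat_lit 945) (nat_lit 7489) (nat_lit 612)
  (.node .nil (nat_lit 951) (nat_lit 4897) (nat_lit 2218) .nil)))) (nat_lit 954) (nat_lit 4401) (nat_lit 2019)
  (.node (.node (.node (.node (.node .nil (nat_lit 956) (nat_lit 4593) (nat_lit 3373) .nil) (nat_lit 963)
  (nat_lit 7907) (nat_lit 1460) .nil) (nat_lit 966) (nat_lit 5458) (nat_lit 3209) (.node (.node .nil (nat_lit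
  969) (nat_lit 11076) (nat_lit 1459) .nil) (nat_lit 972) (nat_lit 9201) (nat_lit 2132) .nil)) (nat_lit 979)
  (nat_lit 4130) (nat_lit 3223) (.node (.node (.node .nil (nat_lit 982) (nat_lit 4738) (nat_lit 3227) .nil)
  (nat_lit 985) (nat_lit 4419) (nat_lit 628) .nil) (nat_lit 988) (nat_lit 1682) (nat_lit 3231) (.node .nil
  (nat_lit 995) (nat_lit 2340) (nat_lit 1971) .nil))) (nat_lit 998) (nat_lit 3028) (nat_lit 755) (.node (.node
  (.node (.node .nil (nat_lit 1001) (nat_lit 945) (nat_lit 4) .nil) (nat_lit 1004) (nat_lit 4564) (nat_lit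
  2163) .nil) (nat_lit 1011) (nat_lit 3361) (nat_lit 2145) (.node (.node .nil (nat_lit 1014) (nat_lit 9970)
  (nat_lit 3256) .nil) (nat_lit 1017) (nat_lit 9554) (nat_lit 3248) .nil)) (nat_lit 1020) (nat_lit 10226)
  (nat_lit 3260) (.node (.node (.node .nil (nat_lit 1056) (nat_lit 7057) (nat_lit 1687) .nil) (nat_lit 1057)
  (nat_lit 8641) (nat_lit 4026) .nil) (nat_lit 1058) (nat_lit 6225) (nat_lit 417) (.node .nil (nat_lit 1059)
  (nat_lit 7971) (nat_lit 2984) .nil))))) (nat_lit 1060) (nat_lit 10001) (nat_lit 2927) (.node (.node (.node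
  (.node (.node (.node .nil (nat_lit 1061) (nat_lit 7922) (nat_lit 1071) .nil) (nat_lit 1062) (nat_lit 8018)
  (nat_lit 1066) .nil) (nat_lit 1063) (nat_lit 10098) (nat_lit 1056) (.node (.node .nil (nat_lit 1064)
  (nat_lit 10993) (nat_lit 3339) .nil) (nat_lit 1065) (nat_lit 8915) (nat_lit 2920) .nil)) (nat_lit 1066)
  (nat_lit 5267) (nat_lit 3816) (.node (.node (.node .nil (nat_lit 1067) (nat_lit 3137) (nat_lit 784) .nil)
  (nat_lit 1068) (nat_lit 8802) (nat_lit 1070) .nil) (nat_lit 1069) (nat_lit 1889) (nat_lit 2526) (.node .nil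
  (nat_lit 1070) (nat_lit 5875) (nat_lit 488) .nil))) (nat_lit 1071) (nat_lit 5233) (nat_lit 3816) (.node
  (.node (.node (.node .nil (nat_lit 1088) (nat_lit 9537) (nat_lit 1825) .nil) (nat_lit 1092) (nat_lit 7362)
  (nat_lit 3654) .nil) (nat_lit 1107) (nat_lit 978) (nat_lit 3671) (.node (.node .nil (nat_lit 1111) (nat_lit
  2097) (nat_lit 13) .nil) (nat_lit 1128) (nat_lit 5315) (nat_lit 1067) .nil)) (nat_lit 1132) (nat_lit 8210)
  (nat_lit 3694) (.node (.node (.node .nil (nat_lit 1147) (nat_lit 1219) (nat_lit 1707) .nil) (nat_lit 1151)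
  (nat_lit 3172) (nat_lit 784) .nil) (nat_lit 1152) (nat_lit 9763) (nat_lit 42) (.node .nil (nat_lit 1156)
  (nat_lit 9585) (nat_lit 456) .nil)))) (nat_lit 1179) (nat_lit 1841) (nat_lit 3448) (.node (.node (.node
  (.node (.node .nil (nat_lit 1183) (nat_lit 417) (nat_lit 128) .nil) (nat_lit 1192) (nat_lit 7954) (nat_lit
  2984) .nil) (nat_lit 1196) (nat_lit 7121) (nat_lit 1745) (.node (.node .nil (nat_lit 1203) (nat_lit 3506)
  (nat_lit 2996) .nil) (nat_lit 1207) (nat_lit 4931) (nat_lit 938) .nil)) (nat_lit 1219) (nat_lit 10882)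
  (nat_lit 453) (.node (.node (.node .nil (nat_lit 1223) (nat_lit 4385) (nat_lit 736) .nil) (nat_lit 1227)
  (nat_lit 9683) (nat_lit 4009) .nil) (nat_lit 1231) (nat_lit 9602) (nat_lit 456) (.node .nil (nat_lit 1233)
  (nat_lit 4161) (nat_lit 3297) .nil))) (nat_lit 1237) (nat_lit 2004) (nat_lit 280) (.node (.node (.node
  (.node .nil (nat_lit 1241) (nat_lit 2162) (nat_lit 467) .nil) (nat_lit 1245) (nat_lit 4002) (nat_lit 469)
  .nil) (nat_lit 1248) (nat_lit 6049) (nat_lit 3462) (.node .nil (nat_lit 1252) (nat_lit 5410) (nat_lit 485)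
  .nil)) (nat_lit 1256) (nat_lit 5858) (nat_lit 488) (.node (.node (.node .nil (nat_lit 1260) (nat_lit 6402)
  (nat_lit 494) .nil) (nat_lit 1266) (nat_lit 2371) (nat_lit 1001) .nil) (nat_lit 1270) (nat_lit 1731)
  (nat_lit 3305) (.node .nil (nat_lit 1274) (nat_lit 2083) (nat_lit 2537) .nil)))))) (nat_lit 1278) (nat_lit
  3427) (nat_lit 1769) (.node (.node (.node (.node (.node (.node (.node .nil (nat_lit 1280) (nat_lit 33)
  (nat_lit 1) .nil) (nat_lit 1283) (nat_lit 2209) (nat_lit 3610) .nil) (nat_lit 1301) (nat_lit 10178) (nat_lit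
  2718) (.node (.node .nil (nat_lit 1302) (nat_lit 8420) (nat_lit 3585) .nil) (nat_lit 1313) (nat_lit 8836)
  (nat_lit 3457) .nil)) (nat_lit 1314) (nat_lit 6867) (nat_lit 1223) (.node (.node (.node .nil (nat_lit 1332)
  (nat_lit 9443) (nat_lit 1543) .nil) (nat_lit 1335) (nat_lit 6306) (nat_lit 2738) .nil) (nat_lit 1344)
  (nat_lit 258) (nat_lit 192) (.node .nil (nat_lit 1354) (nat_lit 5698) (nat_lit 196) .nil))) (nat_lit 1363)
  (nat_lit 4833) (nat_lit 2022) (.node (.node (.node (.node .nil (nat_lit 1369) (nat_lit 9091) (nat_lit 580)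
  .nil) (nat_lit 1383) (nat_lit 9729) (nat_lit 596) .nil) (nat_lit 1389) (nat_lit 5617) (nat_lit 3838) (.node
  (.node .nil (nat_lit 1396) (nat_lit 10708) (nat_lit 3205) .nil) (nat_lit 1406) (nat_lit 8001) (nat_lit 1066)
  .nil)) (nat_lit 1408) (nat_lit 178) (nat_lit 1280) (.node (.node (.node .nil (nat_lit 1415) (nat_lit 1761)
  (nat_lit 1472) .nil) (nat_lit 1434) (nat_lit 7345) (nat_lit 3654) .nil) (nat_lit 1437) (nat_lit 4769)
  (nat_lit 3493) (.node .nil (nat_lit 1449) (nat_lit 9938) (nat_lit 1314) .nil)))) (nat_lit 1454) (nat_lit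
  7425) (nat_lit 3060) (.node (.node (.node (.node (.node .nil (nat_lit 1459) (nat_lit 10691) (nat_lit 3205)
  .nil) (nat_lit 1460) (nat_lit 5217) (nat_lit 913) .nil) (nat_lit 1472) (nat_lit 707) (nat_lit 6) (.node
  (.node .nil (nat_lit 1478) (nat_lit 2657) (nat_lit 478) .nil) (nat_lit 1489) (nat_lit 7748) (nat_lit 333)
  .nil)) (nat_lit 1495) (nat_lit 6083) (nat_lit 3462) (.node (.node (.node .nil (nat_lit 1507) (nat_lit 5522)
  (nat_lit 3942) .nil) (nat_lit 1509) (nat_lit 7379) (nat_lit 3654) .nil) (nat_lit 1522) (nat_lit 7716)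
  (nat_lit 1741) (.node .nil (nat_lit 1524) (nat_lit 9282) (nat_lit 3959) .nil))) (nat_lit 1540) (nat_lit
  8068) (nat_lit 126) (.node (.node (.node (.node .nil (nat_lit 1541) (nat_lit 6273) (nat_lit 501) .nil)
  (nat_lit 1542) (nat_lit 10596) (nat_lit 2686) .nil) (nat_lit 1543) (nat_lit 6323) (nat_lit 2738) (.node .nil
  (nat_lit 1560) (nat_lit 5043) (nat_lit 3378) .nil)) (nat_lit 1561) (nat_lit 1283) (nat_lit 626) (.node
  (.node (.node .nil (nat_lit 1562) (nat_lit 4723) (nat_lit 2034) .nil) (nat_lit 1563) (nat_lit 1651) (nat_lit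
  2226) .nil) (nat_lit 1568) (nat_lit 2580) (nat_lit 2238) (.node .nil (nat_lit 1569) (nat_lit 2052) (nat_lit
  3518) .nil))))) (nat_lit 1570) (nat_lit 2868) (nat_lit 702) (.node (.node (.node (.node (.node (.node .nil
  (nat_lit 1571) (nat_lit 641) (nat_lit 1982) .nil) (nat_lit 1596) (nat_lit 10948) (nat_lit 3134) .nil)
  (nat_lit 1597) (nat_lit 7523) (nat_lit 882) (.node (.node .nil (nat_lit 1598) (nat_lit 5650) (nat_lit 1011)
  .nil) (nat_lit 1599) (nat_lit 10804) (nat_lit 830) .nil)) (nat_lit 1600) (nat_lit 6004) (nat_lit 58) (.node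
  (.node (.node .nil (nat_lit 1611) (nat_lit 8676) (nat_lit 4026) .nil) (nat_lit 1619) (nat_lit 3284) (nat_lit
  2938) .nil) (nat_lit 1624) (nat_lit 2419) (nat_lit 3377) (.node .nil (nat_lit 1636) (nat_lit 772) (nat_lit
  2298) .nil))) (nat_lit 1647) (nat_lit 1697) (nat_lit 3305) (.node (.node (.node (.node .nil (nat_lit 1655)
  (nat_lit 6881) (nat_lit 954) .nil) (nat_lit 1660) (nat_lit 6786) (nat_lit 2492) .nil) (nat_lit 1664)
  (nat_lit 8882) (nat_lit 3136) (.node (.node .nil (nat_lit 1679) (nat_lit 7649) (nat_lit 2941) .nil) (nat_lit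
  1687) (nat_lit 4515) (nat_lit 3504) .nil)) (nat_lit 1688) (nat_lit 3732) (nat_lit 1270) (.node (.node (.node
  .nil (nat_lit 1700) (nat_lit 2130) (nat_lit 3173) .nil) (nat_lit 1707) (nat_lit 481) (nat_lit 2560) .nil)
  (nat_lit 1715) (nat_lit 7553) (nat_lit 1363) (.node .nil (nat_lit 1724) (nat_lit 4884) (nat_lit 3126)
  .nil)))) (nat_lit 1731) (nat_lit 9378) (nat_lit 1541) (.node (.node (.node (.node (.node .nil (nat_lit 1732)
  (nat_lit 8259) (nat_lit 3891) .nil) (nat_lit 1738) (nat_lit 6340) (nat_lit 2738) .nil) (nat_lit 1741)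
  (nat_lit 4961) (nat_lit 376) (.node (.node .nil (nat_lit 1745) (nat_lit 4547) (nat_lit 2163) .nil) (nat_lit
  1750) (nat_lit 3011) (nat_lit 755) .nil)) (nat_lit 1752) (nat_lit 3090) (nat_lit 1561) (.node (.node (.node
  .nil (nat_lit 1759) (nat_lit 2323) (nat_lit 1971) .nil) (nat_lit 1760) (nat_lit 1586) (nat_lit 1571) .nil)
  (nat_lit 1767) (nat_lit 1489) (nat_lit 343) (.node .nil (nat_lit 1769) (nat_lit 1553) (nat_lit 5) .nil)))
  (nat_lit 1774) (nat_lit 1300) (nat_lit 626) (.node (.node (.node (.node .nil (nat_lit 1778) (nat_lit 5667)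
  (nat_lit 1011) .nil) (nat_lit 1781) (nat_lit 5681) (nat_lit 686) .nil) (nat_lit 1787) (nat_lit 7540)
  (nat_lit 882) (.node .nil (nat_lit 1788) (nat_lit 7265) (nat_lit 31) .nil)) (nat_lit 1792) (nat_lit 8225)
  (nat_lit 3891) (.node (.node (.node .nil (nat_lit 1795) (nat_lit 7459) (nat_lit 1437) .nil) (nat_lit 1812)
  (nat_lit 5332) (nat_lit 1067) .nil) (nat_lit 1815) (nat_lit 9348) (nat_lit 2859) (.node .nil (nat_lit 1825)
  (nat_lit 6500) (nat_lit 3499) .nil)))))))
def tv1_2 : T := (.node (.node (.node (.node (.node (.node (.node (.node .nil (nat_lit 1845) (nat_lit 514)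
  (nat_lit 3453) .nil) (nat_lit 1846) (nat_lit 1236) (nat_lit 1707) .nil) (nat_lit 1856) (nat_lit 6032)
  (nat_lit 2432) (.node (.node .nil (nat_lit 1863) (nat_lit 8580) (nat_lit 3951) .nil) (nat_lit 1875) (nat_lit
  10036) (nat_lit 2927) .nil)) (nat_lit 1876) (nat_lit 5105) (nat_lit 2871) (.node (.node (.node .nil (nat_lit
  1897) (nat_lit 5027) (nat_lit 2910) .nil) (nat_lit 1902) (nat_lit 2675) (nat_lit 478) .nil) (nat_lit 1914)
  (nat_lit 1330) (nat_lit 1845) (.node .nil (nat_lit 1917) (nat_lit 2980) (nat_lit 2351) .nil))) (nat_lit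
  1920) (nat_lit 7299) (nat_lit 31) (.node (.node (.node (.node .nil (nat_lit 1933) (nat_lit 4529) (nat_lit
  1624) .nil) (nat_lit 1940) (nat_lit 9842) (nat_lit 724) .nil) (nat_lit 1945) (nat_lit 6435) (nat_lit 607)
  (.node (.node .nil (nat_lit 1959) (nat_lit 1107) (nat_lit 1183) .nil) (nat_lit 1962) (nat_lit 4355) (nat_lit
  3807) .nil)) (nat_lit 1971) (nat_lit 929) (nat_lit 3904) (.node (.node (.node .nil (nat_lit 1982) (nat_lit
  209) (nat_lit 9) .nil) (nat_lit 1984) (nat_lit 8340) (nat_lit 39) .nil) (nat_lit 1989) (nat_lit 10130)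
  (nat_lit 2188) (.node .nil (nat_lit 2001) (nat_lit 8977) (nat_lit 2496) .nil)))) (nat_lit 2004) (nat_lit
  10626) (nat_lit 2196) (.node (.node (.node (.node (.node .nil (nat_lit 2019) (nat_lit 2290) (nat_lit 2214)
  .nil) (nat_lit 2022) (nat_lit 2691) (nat_lit 3036) .nil) (nat_lit 2034) (nat_lit 2546) (nat_lit 2238) (.node
  (.node .nil (nat_lit 2039) (nat_lit 1634) (nat_lit 2226) .nil) (nat_lit 2064) (nat_lit 5729) (nat_lit 3070)
  .nil)) (nat_lit 2065) (nat_lit 9219) (nat_lit 2132) (.node (.node (.node .nil (nat_lit 2066) (nat_lit 8593)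
  (nat_lit 3272) .nil) (nat_lit 2067) (nat_lit 8932) (nat_lit 2920) .nil) (nat_lit 2068) (nat_lit 11041)
  (nat_lit 1542) (.node .nil (nat_lit 2069) (nat_lit 7811) (nat_lit 1876) .nil))) (nat_lit 2070) (nat_lit
  5153) (nat_lit 304) (.node (.node (.node (.node .nil (nat_lit 2071) (nat_lit 9473) (nat_lit 2077) .nil)
  (nat_lit 2072) (nat_lit 8788) (nat_lit 1256) .nil) (nat_lit 2073) (nat_lit 5892) (nat_lit 488) (.node (.node
  .nil (nat_lit 2074) (nat_lit 5284) (nat_lit 3816) .nil) (nat_lit 2075) (nat_lit 4273) (nat_lit 3705) .nil))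
  (nat_lit 2076) (nat_lit 8273) (nat_lit 3482) (.node (.node (.node .nil (nat_lit 2077) (nat_lit 6372)
  (nat_lit 424) .nil) (nat_lit 2078) (nat_lit 8546) (nat_lit 2064) .nil) (nat_lit 2079) (nat_lit 7988)
  (nat_lit 2984) (.node .nil (nat_lit 2114) (nat_lit 10723) (nat_lit 2775) .nil))))) (nat_lit 2118) (nat_lit
  9155) (nat_lit 1495) (.node (.node (.node (.node (.node (.node .nil (nat_lit 2122) (nat_lit 9074) (nat_lit
  580) .nil) (nat_lit 2126) (nat_lit 3185) (nat_lit 848) .nil) (nat_lit 2128) (nat_lit 7665) (nat_lit 1741)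
  (.node (.node .nil (nat_lit 2132) (nat_lit 6129) (nat_lit 2869) .nil) (nat_lit 2136) (nat_lit 8098) (nat_lit
  601) .nil)) (nat_lit 2140) (nat_lit 6418) (nat_lit 607) (.node (.node (.node .nil (nat_lit 2145) (nat_lit
  1523) (nat_lit 343) .nil) (nat_lit 2149) (nat_lit 995) (nat_lit 3671) .nil) (nat_lit 2153) (nat_lit 2803)
  (nat_lit 2903) (.node .nil (nat_lit 2157) (nat_lit 4227) (nat_lit 1111) .nil))) (nat_lit 2163) (nat_lit
  2433) (nat_lit 1107) (.node (.node (.node (.node .nil (nat_lit 2167) (nat_lit 1266) (nat_lit 626) .nil)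
  (nat_lit 2171) (nat_lit 5172) (nat_lit 876) .nil) (nat_lit 2175) (nat_lit 1794) (nat_lit 633) (.node (.node
  .nil (nat_lit 2176) (nat_lit 9329) (nat_lit 2323) .nil) (nat_lit 2188) (nat_lit 7090) (nat_lit 1933) .nil))
  (nat_lit 2196) (nat_lit 7843) (nat_lit 2070) (.node (.node (.node .nil (nat_lit 2200) (nat_lit 9009)
  (nat_lit 1600) .nil) (nat_lit 2214) (nat_lit 899) (nat_lit 3030) .nil) (nat_lit 2218) (nat_lit 2722)
  (nat_lit 1959) (.node .nil (nat_lit 2226) (nat_lit 658) (nat_lit 1982) .nil)))) (nat_lit 2238) (nat_lit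
  1025) (nat_lit 11) (.node (.node (.node (.node (.node .nil (nat_lit 2240) (nat_lit 7251) (nat_lit 21) .nil)
  (nat_lit 2252) (nat_lit 9057) (nat_lit 580) .nil) (nat_lit 2260) (nat_lit 10081) (nat_lit 3351) (.node
  (.node .nil (nat_lit 2264) (nat_lit 5809) (nat_lit 2931) .nil) (nat_lit 2274) (nat_lit 4084) (nat_lit 676)
  .nil)) (nat_lit 2286) (nat_lit 4019) (nat_lit 469) (.node (.node (.node .nil (nat_lit 2294) (nat_lit 3904)
  (nat_lit 3181) .nil) (nat_lit 2298) (nat_lit 241) (nat_lit 192) .nil) (nat_lit 2304) (nat_lit 8867) (nat_lit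
  59) (.node .nil (nat_lit 2306) (nat_lit 6963) (nat_lit 2811) .nil))) (nat_lit 2321) (nat_lit 6164) (nat_lit
  381) (.node (.node (.node (.node .nil (nat_lit 2323) (nat_lit 6211) (nat_lit 699) .nil) (nat_lit 2349)
  (nat_lit 548) (nat_lit 3453) .nil) (nat_lit 2351) (nat_lit 1202) (nat_lit 1707) (.node .nil (nat_lit 2364)
  (nat_lit 6852) (nat_lit 3133) .nil)) (nat_lit 2366) (nat_lit 10452) (nat_lit 1597) (.node (.node (.node .nil
  (nat_lit 2368) (nat_lit 8963) (nat_lit 56) .nil) (nat_lit 2383) (nat_lit 8610) (nat_lit 3272) .nil) (nat_lit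
  2386) (nat_lit 1394) (nat_lit 3293) (.node .nil (nat_lit 2397) (nat_lit 1859) (nat_lit 3448) .nil))))))
  (nat_lit 2401) (nat_lit 1714) (nat_lit 3305) (.node (.node (.node (.node (.node (.node (.node .nil (nat_lit
  2414) (nat_lit 1828) (nat_lit 633) .nil) (nat_lit 2419) (nat_lit 9987) (nat_lit 3256) .nil) (nat_lit 2428)
  (nat_lit 9922) (nat_lit 3324) (.node (.node .nil (nat_lit 2432) (nat_lit 3636) (nat_lit 53) .nil) (nat_lit
  2446) (nat_lit 8433) (nat_lit 594) .nil)) (nat_lit 2455) (nat_lit 4483) (nat_lit 3513) (.node (.node (.node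
  .nil (nat_lit 2457) (nat_lit 1811) (nat_lit 633) .nil) (nat_lit 2469) (nat_lit 2946) (nat_lit 2351) .nil)
  (nat_lit 2475) (nat_lit 1364) (nat_lit 1845) (.node .nil (nat_lit 2482) (nat_lit 8532) (nat_lit 1781)
  .nil))) (nat_lit 2492) (nat_lit 4321) (nat_lit 3374) (.node (.node (.node (.node .nil (nat_lit 2496)
  (nat_lit 5987) (nat_lit 58) .nil) (nat_lit 2507) (nat_lit 3489) (nat_lit 2996) .nil) (nat_lit 2517) (nat_lit
  3123) (nat_lit 1914) (.node (.node .nil (nat_lit 2526) (nat_lit 755) (nat_lit 2298) .nil) (nat_lit 2530)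
  (nat_lit 561) (nat_lit 1408) .nil)) (nat_lit 2537) (nat_lit 817) (nat_lit 7) (.node (.node (.node .nil
  (nat_lit 2551) (nat_lit 6915) (nat_lit 954) .nil) (nat_lit 2556) (nat_lit 7618) (nat_lit 892) .nil) (nat_lit
  2560) (nat_lit 148) (nat_lit 2) (.node .nil (nat_lit 2562) (nat_lit 1313) (nat_lit 1845) .nil)))) (nat_lit
  2577) (nat_lit 5363) (nat_lit 2126) (.node (.node (.node (.node (.node .nil (nat_lit 2579) (nat_lit 10292)
  (nat_lit 2882) .nil) (nat_lit 2604) (nat_lit 10978) (nat_lit 4078) .nil) (nat_lit 2606) (nat_lit 9810)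
  (nat_lit 4065) (.node (.node .nil (nat_lit 2621) (nat_lit 10068) (nat_lit 2306) .nil) (nat_lit 2623)
  (nat_lit 8738) (nat_lit 4089) .nil)) (nat_lit 2624) (nat_lit 578) (nat_lit 1408) (.node (.node (.node .nil
  (nat_lit 2637) (nat_lit 1777) (nat_lit 633) .nil) (nat_lit 2642) (nat_lit 7396) (nat_lit 3654) .nil)
  (nat_lit 2655) (nat_lit 7107) (nat_lit 1933) (.node .nil (nat_lit 2657) (nat_lit 6100) (nat_lit 3462)
  .nil))) (nat_lit 2668) (nat_lit 10418) (nat_lit 1454) (.node (.node (.node (.node .nil (nat_lit 2675)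
  (nat_lit 7890) (nat_lit 1460) .nil) (nat_lit 2686) (nat_lit 7699) (nat_lit 1741) .nil) (nat_lit 2688)
  (nat_lit 627) (nat_lit 12) (.node (.node .nil (nat_lit 2693) (nat_lit 4978) (nat_lit 76) .nil) (nat_lit
  2715) (nat_lit 7761) (nat_lit 1897) .nil)) (nat_lit 2718) (nat_lit 7153) (nat_lit 956) (.node (.node (.node
  .nil (nat_lit 2729) (nat_lit 8724) (nat_lit 3338) .nil) (nat_lit 2732) (nat_lit 10611) (nat_lit 2828) .nil)
  (nat_lit 2738) (nat_lit 3857) (nat_lit 2397) (.node .nil (nat_lit 2743) (nat_lit 10515) (nat_lit 908)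
  .nil))))) (nat_lit 2752) (nat_lit 404) (nat_lit 14) (.node (.node (.node (.node (.node (.node .nil (nat_lit
  2766) (nat_lit 1473) (nat_lit 2624) .nil) (nat_lit 2775) (nat_lit 8130) (nat_lit 2577) .nil) (nat_lit 2777)
  (nat_lit 9265) (nat_lit 3436) (.node (.node .nil (nat_lit 2786) (nat_lit 10963) (nat_lit 1231) .nil)
  (nat_lit 2796) (nat_lit 5380) (nat_lit 2126) .nil)) (nat_lit 2805) (nat_lit 7073) (nat_lit 1933) (.node
  (.node (.node .nil (nat_lit 2811) (nat_lit 4433) (nat_lit 1759) .nil) (nat_lit 2828) (nat_lit 7730) (nat_lit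
  333) .nil) (nat_lit 2829) (nat_lit 9172) (nat_lit 1495) (.node .nil (nat_lit 2830) (nat_lit 9827) (nat_lit
  4065) .nil))) (nat_lit 2831) (nat_lit 7137) (nat_lit 623) (.node (.node (.node (.node .nil (nat_lit 2832)
  (nat_lit 3744) (nat_lit 3376) .nil) (nat_lit 2833) (nat_lit 1540) (nat_lit 343) .nil) (nat_lit 2834)
  (nat_lit 1012) (nat_lit 3671) (.node (.node .nil (nat_lit 2835) (nat_lit 1506) (nat_lit 343) .nil) (nat_lit
  2856) (nat_lit 10465) (nat_lit 3337) .nil)) (nat_lit 2857) (nat_lit 7778) (nat_lit 354) (.node (.node (.node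
  .nil (nat_lit 2858) (nat_lit 10772) (nat_lit 535) .nil) (nat_lit 2859) (nat_lit 6243) (nat_lit 417) .nil)
  (nat_lit 2868) (nat_lit 4148) (nat_lit 3223) (.node .nil (nat_lit 2869) (nat_lit 3699) (nat_lit 2401)
  .nil)))) (nat_lit 2870) (nat_lit 4179) (nat_lit 3297) (.node (.node (.node (.node (.node .nil (nat_lit 2871)
  (nat_lit 2899) (nat_lit 929) .nil) (nat_lit 2882) (nat_lit 7217) (nat_lit 21) .nil) (nat_lit 2885) (nat_lit
  7604) (nat_lit 1363) (.node (.node .nil (nat_lit 2891) (nat_lit 4065) (nat_lit 676) .nil) (nat_lit 2892)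
  (nat_lit 9955) (nat_lit 1314) .nil)) (nat_lit 2896) (nat_lit 2484) (nat_lit 1107) (.node (.node (.node .nil
  (nat_lit 2903) (nat_lit 1153) (nat_lit 15) .nil) (nat_lit 2905) (nat_lit 2196) (nat_lit 467) .nil) (nat_lit
  2910) (nat_lit 2817) (nat_lit 702) (.node .nil (nat_lit 2913) (nat_lit 6577) (nat_lit 651) .nil))) (nat_lit
  2918) (nat_lit 9360) (nat_lit 3485) (.node (.node (.node (.node .nil (nat_lit 2920) (nat_lit 5953) (nat_lit
  58) .nil) (nat_lit 2927) (nat_lit 6929) (nat_lit 985) .nil) (nat_lit 2931) (nat_lit 3523) (nat_lit 3234)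
  (.node .nil (nat_lit 2932) (nat_lit 5076) (nat_lit 3219) .nil)) (nat_lit 2938) (nat_lit 1443) (nat_lit 2530)
  (.node (.node (.node .nil (nat_lit 2941) (nat_lit 4947) (nat_lit 866) .nil) (nat_lit 2944) (nat_lit 7316)
  (nat_lit 31) .nil) (nat_lit 2950) (nat_lit 8371) (nat_lit 1507) (.node .nil (nat_lit 2970) (nat_lit 4209)
  (nat_lit 1111) .nil)))))))
def tv1_3 : T := (.node (.node (.node (.node (.node (.node (.node (.node .nil (nat_lit 2984) (nat_lit 5250)
  (nat_lit 3816) .nil) (nat_lit 2990) (nat_lit 5393) (nat_lit 485) .nil) (nat_lit 2994) (nat_lit 4468)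
  (nat_lit 1759) (.node (.node .nil (nat_lit 2996) (nat_lit 1603) (nat_lit 1571) .nil) (nat_lit 3008) (nat_lit
  10817) (nat_lit 257) .nil)) (nat_lit 3018) (nat_lit 6481) (nat_lit 3499) (.node (.node (.node .nil (nat_lit
  3030) (nat_lit 321) (nat_lit 3840) .nil) (nat_lit 3036) (nat_lit 1090) (nat_lit 1183) .nil) (nat_lit 3042)
  (nat_lit 6289) (nat_lit 2738) (.node .nil (nat_lit 3048) (nat_lit 6384) (nat_lit 3412) .nil))) (nat_lit
  3060) (nat_lit 4756) (nat_lit 3227) (.node (.node (.node (.node .nil (nat_lit 3070) (nat_lit 3475) (nat_lit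
  1760) .nil) (nat_lit 3120) (nat_lit 7201) (nat_lit 3433) .nil) (nat_lit 3121) (nat_lit 9522) (nat_lit 3131)
  (.node (.node .nil (nat_lit 3122) (nat_lit 10145) (nat_lit 2655) .nil) (nat_lit 3123) (nat_lit 7505)
  (nat_lit 882) .nil)) (nat_lit 3124) (nat_lit 10244) (nat_lit 3260) (.node (.node (.node .nil (nat_lit 3125)
  (nat_lit 6769) (nat_lit 2492) .nil) (nat_lit 3126) (nat_lit 2705) (nat_lit 1959) .nil) (nat_lit 3127)
  (nat_lit 7187) (nat_lit 956) (.node .nil (nat_lit 3128) (nat_lit 8497) (nat_lit 1781) .nil)))) (nat_lit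
  3129) (nat_lit 10258) (nat_lit 3120) (.node (.node (.node (.node (.node .nil (nat_lit 3130) (nat_lit 9874)
  (nat_lit 3125) .nil) (nat_lit 3131) (nat_lit 6465) (nat_lit 2286) .nil) (nat_lit 3132) (nat_lit 10897)
  (nat_lit 2829) (.node (.node .nil (nat_lit 3133) (nat_lit 4369) (nat_lit 544) .nil) (nat_lit 3134) (nat_lit
  9505) (nat_lit 3131) .nil)) (nat_lit 3135) (nat_lit 6803) (nat_lit 2492) (.node (.node (.node .nil (nat_lit
  3136) (nat_lit 5939) (nat_lit 63) .nil) (nat_lit 3144) (nat_lit 10497) (nat_lit 908) .nil) (nat_lit 3153)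
  (nat_lit 3779) (nat_lit 2175) (.node .nil (nat_lit 3161) (nat_lit 5588) (nat_lit 504) .nil))) (nat_lit 3173)
  (nat_lit 849) (nat_lit 64) (.node (.node (.node (.node .nil (nat_lit 3181) (nat_lit 1876) (nat_lit 3448)
  .nil) (nat_lit 3188) (nat_lit 8465) (nat_lit 3490) .nil) (nat_lit 3196) (nat_lit 8481) (nat_lit 1598) (.node
  (.node .nil (nat_lit 3201) (nat_lit 10755) (nat_lit 3966) .nil) (nat_lit 3205) (nat_lit 8051) (nat_lit 126)
  .nil)) (nat_lit 3209) (nat_lit 3217) (nat_lit 432) (.node (.node (.node .nil (nat_lit 3213) (nat_lit 10579)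
  (nat_lit 2686) .nil) (nat_lit 3219) (nat_lit 2851) (nat_lit 702) .nil) (nat_lit 3223) (nat_lit 2035)
  (nat_lit 3518) (.node .nil (nat_lit 3227) (nat_lit 2563) (nat_lit 2238) .nil))))) (nat_lit 3231) (nat_lit
  675) (nat_lit 1982) (.node (.node (.node (.node (.node (.node .nil (nat_lit 3234) (nat_lit 1617) (nat_lit
  2226) .nil) (nat_lit 3238) (nat_lit 4914) (nat_lit 938) .nil) (nat_lit 3242) (nat_lit 3460) (nat_lit 564)
  (.node (.node .nil (nat_lit 3246) (nat_lit 2882) (nat_lit 929) .nil) (nat_lit 3248) (nat_lit 6513) (nat_lit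
  2891) .nil)) (nat_lit 3252) (nat_lit 7634) (nat_lit 951) (.node (.node (.node .nil (nat_lit 3256) (nat_lit
  6898) (nat_lit 954) .nil) (nat_lit 3260) (nat_lit 7170) (nat_lit 956) .nil) (nat_lit 3264) (nat_lit 7873)
  (nat_lit 3634) (.node .nil (nat_lit 3272) (nat_lit 5762) (nat_lit 2507) .nil))) (nat_lit 3285) (nat_lit
  1906) (nat_lit 2526) (.node (.node (.node (.node .nil (nat_lit 3293) (nat_lit 531) (nat_lit 3453) .nil)
  (nat_lit 3297) (nat_lit 2066) (nat_lit 2537) .nil) (nat_lit 3305) (nat_lit 689) (nat_lit 6) (.node (.node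
  .nil (nat_lit 3316) (nat_lit 9572) (nat_lit 3248) .nil) (nat_lit 3324) (nat_lit 6835) (nat_lit 3133) .nil))
  (nat_lit 3336) (nat_lit 6594) (nat_lit 651) (.node (.node (.node .nil (nat_lit 3337) (nat_lit 7587) (nat_lit
  1363) .nil) (nat_lit 3338) (nat_lit 5825) (nat_lit 922) .nil) (nat_lit 3339) (nat_lit 9700) (nat_lit 4009)
  (.node .nil (nat_lit 3348) (nat_lit 9425) (nat_lit 1543) .nil)))) (nat_lit 3349) (nat_lit 10834) (nat_lit
  670) (.node (.node (.node (.node (.node .nil (nat_lit 3350) (nat_lit 6113) (nat_lit 305) .nil) (nat_lit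
  3351) (nat_lit 7026) (nat_lit 657) .nil) (nat_lit 3372) (nat_lit 3347) (nat_lit 2835) (.node (.node .nil
  (nat_lit 3373) (nat_lit 2467) (nat_lit 1107) .nil) (nat_lit 3374) (nat_lit 2179) (nat_lit 467) .nil))
  (nat_lit 3375) (nat_lit 5603) (nat_lit 3731) (.node (.node (.node .nil (nat_lit 3376) (nat_lit 1748)
  (nat_lit 3305) .nil) (nat_lit 3377) (nat_lit 961) (nat_lit 3671) .nil) (nat_lit 3378) (nat_lit 2834)
  (nat_lit 702) (.node .nil (nat_lit 3379) (nat_lit 2388) (nat_lit 1001) .nil))) (nat_lit 3392) (nat_lit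
  10322) (nat_lit 2240) (.node (.node (.node (.node .nil (nat_lit 3397) (nat_lit 5185) (nat_lit 1750) .nil)
  (nat_lit 3409) (nat_lit 8690) (nat_lit 2264) .nil) (nat_lit 3412) (nat_lit 3956) (nat_lit 1069) (.node .nil
  (nat_lit 3433) (nat_lit 4628) (nat_lit 3373) .nil)) (nat_lit 3436) (nat_lit 6176) (nat_lit 1688) (.node
  (.node (.node .nil (nat_lit 3448) (nat_lit 738) (nat_lit 2298) .nil) (nat_lit 3453) (nat_lit 161) (nat_lit
  1280) .nil) (nat_lit 3457) (nat_lit 5905) (nat_lit 63) (.node .nil (nat_lit 3462) (nat_lit 3649) (nat_lit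
  988) .nil)))))) (nat_lit 3464) (nat_lit 8147) (nat_lit 2577) (.node (.node (.node (.node (.node (.node
  (.node .nil (nat_lit 3471) (nat_lit 9456) (nat_lit 1738) .nil) (nat_lit 3475) (nat_lit 7043) (nat_lit 657)
  .nil) (nat_lit 3476) (nat_lit 9777) (nat_lit 37) (.node (.node .nil (nat_lit 3482) (nat_lit 5489) (nat_lit
  375) .nil) (nat_lit 3485) (nat_lit 6260) (nat_lit 417) .nil)) (nat_lit 3490) (nat_lit 5634) (nat_lit 3372)
  (.node (.node (.node .nil (nat_lit 3493) (nat_lit 2627) (nat_lit 3665) .nil) (nat_lit 3499) (nat_lit 4035)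
  (nat_lit 401) .nil) (nat_lit 3500) (nat_lit 3396) (nat_lit 2145) (.node .nil (nat_lit 3504) (nat_lit 2402)
  (nat_lit 3377) .nil))) (nat_lit 3511) (nat_lit 2916) (nat_lit 929) (.node (.node (.node (.node .nil (nat_lit
  3513) (nat_lit 2353) (nat_lit 1001) .nil) (nat_lit 3518) (nat_lit 801) (nat_lit 10) .nil) (nat_lit 3520)
  (nat_lit 8992) (nat_lit 1600) (.node (.node .nil (nat_lit 3533) (nat_lit 8897) (nat_lit 2920) .nil) (nat_lit
  3540) (nat_lit 7794) (nat_lit 1876) .nil)) (nat_lit 3545) (nat_lit 5444) (nat_lit 485) (.node (.node (.node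
  .nil (nat_lit 3553) (nat_lit 4804) (nat_lit 3493) .nil) (nat_lit 3564) (nat_lit 2516) (nat_lit 2149) .nil)
  (nat_lit 3573) (nat_lit 2529) (nat_lit 2238) (.node .nil (nat_lit 3576) (nat_lit 1936) (nat_lit 1636)
  .nil)))) (nat_lit 3584) (nat_lit 8113) (nat_lit 2577) (.node (.node (.node (.node (.node .nil (nat_lit 3585)
  (nat_lit 5539) (nat_lit 3942) .nil) (nat_lit 3610) (nat_lit 882) (nat_lit 3030) .nil) (nat_lit 3611)
  (nat_lit 916) (nat_lit 3030) (.node (.node .nil (nat_lit 3624) (nat_lit 7860) (nat_lit 2070) .nil) (nat_lit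
  3625) (nat_lit 9188) (nat_lit 3350) .nil)) (nat_lit 3634) (nat_lit 5204) (nat_lit 1750) (.node (.node (.node
  .nil (nat_lit 3635) (nat_lit 7412) (nat_lit 982) .nil) (nat_lit 3648) (nat_lit 9489) (nat_lit 1826) .nil)
  (nat_lit 3654) (nat_lit 4705) (nat_lit 3564) (.node .nil (nat_lit 3665) (nat_lit 1057) (nat_lit 2752)
  .nil))) (nat_lit 3671) (nat_lit 369) (nat_lit 14) (.node (.node (.node (.node .nil (nat_lit 3688) (nat_lit
  6354) (nat_lit 424) .nil) (nat_lit 3694) (nat_lit 5427) (nat_lit 485) .nil) (nat_lit 3705) (nat_lit 2147)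
  (nat_lit 3173) (.node .nil (nat_lit 3711) (nat_lit 5139) (nat_lit 2469) .nil)) (nat_lit 3712) (nat_lit 9251)
  (nat_lit 36) (.node (.node (.node .nil (nat_lit 3722) (nat_lit 10196) (nat_lit 2718) .nil) (nat_lit 3731)
  (nat_lit 3313) (nat_lit 1767) .nil) (nat_lit 3737) (nat_lit 2450) (nat_lit 1107) (.node .nil (nat_lit 3746)
  (nat_lit 8195) (nat_lit 1252) .nil))))) (nat_lit 3752) (nat_lit 8082) (nat_lit 1128) (.node (.node (.node
  (.node (.node (.node .nil (nat_lit 3761) (nat_lit 1924) (nat_lit 2526) .nil) (nat_lit 3771) (nat_lit 4259)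
  (nat_lit 1700) .nil) (nat_lit 3776) (nat_lit 4692) (nat_lit 26) (.node (.node .nil (nat_lit 3785) (nat_lit
  8402) (nat_lit 3585) .nil) (nat_lit 3798) (nat_lit 2260) (nat_lit 3610) .nil)) (nat_lit 3807) (nat_lit 2226)
  (nat_lit 3610) (.node (.node (.node .nil (nat_lit 3809) (nat_lit 8308) (nat_lit 3482) .nil) (nat_lit 3816)
  (nat_lit 3073) (nat_lit 1561) .nil) (nat_lit 3831) (nat_lit 4243) (nat_lit 935) (.node .nil (nat_lit 3838)
  (nat_lit 3331) (nat_lit 1767) .nil))) (nat_lit 3840) (nat_lit 97) (nat_lit 2) (.node (.node (.node (.node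
  .nil (nat_lit 3841) (nat_lit 2929) (nat_lit 2351) .nil) (nat_lit 3864) (nat_lit 10483) (nat_lit 3337) .nil)
  (nat_lit 3865) (nat_lit 7570) (nat_lit 1363) (.node (.node .nil (nat_lit 3882) (nat_lit 10787) (nat_lit
  3785) .nil) (nat_lit 3883) (nat_lit 8450) (nat_lit 1389) .nil)) (nat_lit 3890) (nat_lit 10658) (nat_lit
  1406) (.node (.node (.node .nil (nat_lit 3891) (nat_lit 5475) (nat_lit 3209) .nil) (nat_lit 3904) (nat_lit
  338) (nat_lit 3840) .nil) (nat_lit 3913) (nat_lit 2593) (nat_lit 3968) (.node .nil (nat_lit 3921) (nat_lit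
  10867) (nat_lit 2122) .nil)))) (nat_lit 3928) (nat_lit 6753) (nat_lit 610) (.node (.node (.node (.node
  (.node .nil (nat_lit 3942) (nat_lit 3249) (nat_lit 2938) .nil) (nat_lit 3951) (nat_lit 5745) (nat_lit 2507)
  .nil) (nat_lit 3959) (nat_lit 6193) (nat_lit 1688) (.node (.node .nil (nat_lit 3966) (nat_lit 8242) (nat_lit
  3891) .nil) (nat_lit 3968) (nat_lit 1043) (nat_lit 11) .nil)) (nat_lit 3979) (nat_lit 3298) (nat_lit 2766)
  (.node (.node (.node .nil (nat_lit 3987) (nat_lit 6564) (nat_lit 2891) .nil) (nat_lit 3992) (nat_lit 10930)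
  (nat_lit 2777) .nil) (nat_lit 4002) (nat_lit 6612) (nat_lit 651) (.node .nil (nat_lit 4009) (nat_lit 6547)
  (nat_lit 2891) .nil))) (nat_lit 4017) (nat_lit 5796) (nat_lit 2507) (.node (.node (.node (.node .nil
  (nat_lit 4026) (nat_lit 5779) (nat_lit 2507) .nil) (nat_lit 4032) (nat_lit 434) (nat_lit 128) .nil) (nat_lit
  4047) (nat_lit 4098) (nat_lit 136) (.node .nil (nat_lit 4055) (nat_lit 9905) (nat_lit 3135) .nil)) (nat_lit
  4056) (nat_lit 9715) (nat_lit 3336) (.node (.node (.node .nil (nat_lit 4065) (nat_lit 6721) (nat_lit 3771)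
  .nil) (nat_lit 4078) (nat_lit 9619) (nat_lit 456) .nil) (nat_lit 4086) (nat_lit 7009) (nat_lit 2455) (.node
  .nil (nat_lit 4089) (nat_lit 5841) (nat_lit 488) .nil)))))))
def tv1 : T := (.node (.node tv1_0 (nat_lit 832) (nat_lit 6018) (nat_lit 768) tv1_1) (nat_lit 1826) (nat_lit
  6451) (nat_lit 1245) (.node tv1_2 (nat_lit 2972) (nat_lit 1124) (nat_lit 1183) tv1_3))

def tv2_0 : T := (.node (.node (.node (.node (.node (.node (.node (.node .nil (nat_lit 17) (nat_lit 10242)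
  (nat_lit 24) .nil) (nat_lit 19) (nat_lit 12899) (nat_lit 640) .nil) (nat_lit 20) (nat_lit 0) (nat_lit 20)
  (.node (.node .nil (nat_lit 23) (nat_lit 12324) (nat_lit 2816) .nil) (nat_lit 24) (nat_lit 5234) (nat_lit
  25) .nil)) (nat_lit 25) (nat_lit 2369) (nat_lit 1662) (.node (.node (.node .nil (nat_lit 33) (nat_lit 13651)
  (nat_lit 320) .nil) (nat_lit 34) (nat_lit 12916) (nat_lit 640) .nil) (nat_lit 40) (nat_lit 16) (nat_lit 20)
  (.node .nil (nat_lit 41) (nat_lit 15588) (nat_lit 3328) .nil))) (nat_lit 44) (nat_lit 8498) (nat_lit 46)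
  (.node (.node (.node (.node .nil (nat_lit 46) (nat_lit 4241) (nat_lit 3543) .nil) (nat_lit 50) (nat_lit
  19107) (nat_lit 960) .nil) (nat_lit 51) (nat_lit 18274) (nat_lit 52) (.node (.node .nil (nat_lit 52)
  (nat_lit 12353) (nat_lit 1458) .nil) (nat_lit 55) (nat_lit 8065) (nat_lit 2985) .nil)) (nat_lit 60) (nat_lit
  80) (nat_lit 40) (.node (.node (.node .nil (nat_lit 62) (nat_lit 16532) (nat_lit 1536) .nil) (nat_lit 66)
  (nat_lit 20929) (nat_lit 2565) .nil) (nat_lit 68) (nat_lit 22130) (nat_lit 2630) (.node .nil (nat_lit 70)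
  (nat_lit 21953) (nat_lit 2045) .nil)))) (nat_lit 72) (nat_lit 19569) (nat_lit 1711) (.node (.node (.node
  (.node (.node .nil (nat_lit 74) (nat_lit 21313) (nat_lit 409) .nil) (nat_lit 78) (nat_lit 15745) (nat_lit
  3169) .nil) (nat_lit 82) (nat_lit 14994) (nat_lit 2653) (.node (.node .nil (nat_lit 84) (nat_lit 20290)
  (nat_lit 2644) .nil) (nat_lit 86) (nat_lit 13633) (nat_lit 818) .nil)) (nat_lit 88) (nat_lit 7730) (nat_lit
  2649) (.node (.node (.node .nil (nat_lit 90) (nat_lit 5968) (nat_lit 181) .nil) (nat_lit 94) (nat_lit 4546)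
  (nat_lit 2640) .nil) (nat_lit 96) (nat_lit 9361) (nat_lit 438) (.node .nil (nat_lit 100) (nat_lit 11217)
  (nat_lit 3150) .nil))) (nat_lit 102) (nat_lit 5584) (nat_lit 157) (.node (.node (.node (.node .nil (nat_lit
  104) (nat_lit 18836) (nat_lit 2052) .nil) (nat_lit 106) (nat_lit 3570) (nat_lit 2663) .nil) (nat_lit 108)
  (nat_lit 10977) (nat_lit 2002) (.node (.node .nil (nat_lit 112) (nat_lit 14049) (nat_lit 1401) .nil)
  (nat_lit 116) (nat_lit 8321) (nat_lit 2177) .nil)) (nat_lit 118) (nat_lit 4787) (nat_lit 3267) (.node (.node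
  (.node .nil (nat_lit 120) (nat_lit 20017) (nat_lit 3813) .nil) (nat_lit 122) (nat_lit 275) (nat_lit 2499)
  .nil) (nat_lit 124) (nat_lit 18129) (nat_lit 797) (.node .nil (nat_lit 129) (nat_lit 21380) (nat_lit 1288)
  .nil))))) (nat_lit 132) (nat_lit 15409) (nat_lit 3034) (.node (.node (.node (.node (.node (.node .nil
  (nat_lit 133) (nat_lit 20532) (nat_lit 1352) .nil) (nat_lit 137) (nat_lit 18417) (nat_lit 1171) .nil)
  (nat_lit 140) (nat_lit 22002) (nat_lit 3981) (.node (.node .nil (nat_lit 141) (nat_lit 18609) (nat_lit 2411)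
  .nil) (nat_lit 144) (nat_lit 6497) (nat_lit 749) .nil)) (nat_lit 148) (nat_lit 16289) (nat_lit 3861) (.node
  (.node (.node .nil (nat_lit 149) (nat_lit 1538) (nat_lit 3998) .nil) (nat_lit 152) (nat_lit 14898) (nat_lit
  3993) .nil) (nat_lit 156) (nat_lit 16561) (nat_lit 1161) (.node .nil (nat_lit 157) (nat_lit 2612) (nat_lit
  392) .nil))) (nat_lit 160) (nat_lit 9217) (nat_lit 2727) (.node (.node (.node (.node .nil (nat_lit 164)
  (nat_lit 16260) (nat_lit 2248) .nil) (nat_lit 165) (nat_lit 147) (nat_lit 3650) .nil) (nat_lit 168) (nat_lit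
  17956) (nat_lit 2056) (.node (.node .nil (nat_lit 172) (nat_lit 4769) (nat_lit 3267) .nil) (nat_lit 173)
  (nat_lit 3091) (nat_lit 1090) .nil)) (nat_lit 177) (nat_lit 11458) (nat_lit 4027) (.node (.node (.node .nil
  (nat_lit 180) (nat_lit 6833) (nat_lit 912) .nil) (nat_lit 181) (nat_lit 2772) (nat_lit 2440) .nil) (nat_lit
  185) (nat_lit 2802) (nat_lit 4016) (.node .nil (nat_lit 188) (nat_lit 17986) (nat_lit 4028) .nil))))
  (nat_lit 189) (nat_lit 11444) (nat_lit 2312) (.node (.node (.node (.node (.node .nil (nat_lit 195) (nat_lit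
  21985) (nat_lit 1290) .nil) (nat_lit 199) (nat_lit 12689) (nat_lit 2290) .nil) (nat_lit 200) (nat_lit 20706)
  (nat_lit 1483) (.node (.node .nil (nat_lit 203) (nat_lit 20641) (nat_lit 3734) .nil) (nat_lit 204) (nat_lit
  12113) (nat_lit 3445) .nil)) (nat_lit 207) (nat_lit 18484) (nat_lit 4044) (.node (.node (.node .nil (nat_lit
  208) (nat_lit 6289) (nat_lit 4062) .nil) (nat_lit 212) (nat_lit 18850) (nat_lit 1492) .nil) (nat_lit 216)
  (nat_lit 3073) (nat_lit 1090) (.node .nil (nat_lit 219) (nat_lit 7713) (nat_lit 2649) .nil))) (nat_lit 220)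
  (nat_lit 19732) (nat_lit 1164) (.node (.node (.node (.node .nil (nat_lit 223) (nat_lit 675) (nat_lit 1921)
  .nil) (nat_lit 227) (nat_lit 10547) (nat_lit 2945) .nil) (nat_lit 231) (nat_lit 5698) (nat_lit 1504) (.node
  .nil (nat_lit 232) (nat_lit 22066) (nat_lit 1512) .nil)) (nat_lit 235) (nat_lit 14980) (nat_lit 1804) (.node
  (.node (.node .nil (nat_lit 236) (nat_lit 9585) (nat_lit 496) .nil) (nat_lit 239) (nat_lit 4516) (nat_lit
  1868) .nil) (nat_lit 240) (nat_lit 14113) (nat_lit 859) (.node .nil (nat_lit 244) (nat_lit 11330) (nat_lit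
  1527) .nil)))))) (nat_lit 248) (nat_lit 14817) (nat_lit 2247) (.node (.node (.node (.node (.node (.node
  (.node .nil (nat_lit 251) (nat_lit 4388) (nat_lit 844) .nil) (nat_lit 252) (nat_lit 21474) (nat_lit 1532)
  .nil) (nat_lit 255) (nat_lit 1330) (nat_lit 1529) (.node (.node .nil (nat_lit 258) (nat_lit 10212) (nat_lit
  2581) .nil) (nat_lit 259) (nat_lit 16324) (nat_lit 3861) .nil)) (nat_lit 264) (nat_lit 993) (nat_lit 399)
  (.node (.node (.node .nil (nat_lit 265) (nat_lit 16372) (nat_lit 1429) .nil) (nat_lit 266) (nat_lit 8932)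
  (nat_lit 2709) .nil) (nat_lit 267) (nat_lit 2515) (nat_lit 4015) (.node .nil (nat_lit 272) (nat_lit 10083)
  (nat_lit 1839) .nil))) (nat_lit 273) (nat_lit 9153) (nat_lit 2033) (.node (.node (.node (.node .nil (nat_lit
  274) (nat_lit 14884) (nat_lit 3669) .nil) (nat_lit 275) (nat_lit 15842) (nat_lit 3735) .nil) (nat_lit 282)
  (nat_lit 12211) (nat_lit 2031) (.node (.node .nil (nat_lit 283) (nat_lit 6578) (nat_lit 3740) .nil) (nat_lit
  288) (nat_lit 13569) (nat_lit 1686) .nil)) (nat_lit 289) (nat_lit 7139) (nat_lit 367) (.node (.node (.node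
  .nil (nat_lit 290) (nat_lit 1379) (nat_lit 1263) .nil) (nat_lit 291) (nat_lit 2708) (nat_lit 1941) .nil)
  (nat_lit 298) (nat_lit 19937) (nat_lit 2620) (.node .nil (nat_lit 299) (nat_lit 11186) (nat_lit 3757)
  .nil)))) (nat_lit 306) (nat_lit 10627) (nat_lit 1007) (.node (.node (.node (.node (.node .nil (nat_lit 307)
  (nat_lit 5442) (nat_lit 3764) .nil) (nat_lit 312) (nat_lit 2113) (nat_lit 2501) .nil) (nat_lit 313) (nat_lit
  21860) (nat_lit 2389) (.node (.node .nil (nat_lit 314) (nat_lit 14209) (nat_lit 3827) .nil) (nat_lit 315)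
  (nat_lit 17313) (nat_lit 2014) .nil)) (nat_lit 320) (nat_lit 7889) (nat_lit 1824) (.node (.node (.node .nil
  (nat_lit 325) (nat_lit 7857) (nat_lit 1013) .nil) (nat_lit 330) (nat_lit 10868) (nat_lit 2705) .nil)
  (nat_lit 335) (nat_lit 2324) (nat_lit 4049) (.node .nil (nat_lit 336) (nat_lit 10609) (nat_lit 1007) .nil)))
  (nat_lit 341) (nat_lit 10691) (nat_lit 1900) (.node (.node (.node (.node .nil (nat_lit 346) (nat_lit 13923)
  (nat_lit 2028) .nil) (nat_lit 351) (nat_lit 15891) (nat_lit 1964) .nil) (nat_lit 352) (nat_lit 13890)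
  (nat_lit 1251) (.node (.node .nil (nat_lit 357) (nat_lit 724) (nat_lit 3537) .nil) (nat_lit 362) (nat_lit
  7040) (nat_lit 661) .nil)) (nat_lit 367) (nat_lit 3459) (nat_lit 3756) (.node (.node (.node .nil (nat_lit
  368) (nat_lit 15778) (nat_lit 1265) .nil) (nat_lit 373) (nat_lit 16032) (nat_lit 687) .nil) (nat_lit 378)
  (nat_lit 19090) (nat_lit 1269) (.node .nil (nat_lit 383) (nat_lit 12801) (nat_lit 1813) .nil))))) (nat_lit
  385) (nat_lit 9924) (nat_lit 1309) (.node (.node (.node (.node (.node (.node .nil (nat_lit 390) (nat_lit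
  9889) (nat_lit 1791) .nil) (nat_lit 391) (nat_lit 3185) (nat_lit 4050) .nil) (nat_lit 392) (nat_lit 1075)
  (nat_lit 2605) (.node (.node .nil (nat_lit 398) (nat_lit 10785) (nat_lit 3427) .nil) (nat_lit 399) (nat_lit
  353) (nat_lit 1102) .nil)) (nat_lit 400) (nat_lit 16467) (nat_lit 1837) (.node (.node (.node .nil (nat_lit
  406) (nat_lit 6531) (nat_lit 749) .nil) (nat_lit 407) (nat_lit 11827) (nat_lit 3501) .nil) (nat_lit 409)
  (nat_lit 16772) (nat_lit 477) (.node .nil (nat_lit 414) (nat_lit 14019) (nat_lit 2285) .nil))) (nat_lit 415)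
  (nat_lit 16884) (nat_lit 2973) (.node (.node (.node (.node .nil (nat_lit 416) (nat_lit 5796) (nat_lit 2205)
  .nil) (nat_lit 422) (nat_lit 20083) (nat_lit 3053) .nil) (nat_lit 423) (nat_lit 12404) (nat_lit 2013) (.node
  (.node .nil (nat_lit 425) (nat_lit 3299) (nat_lit 2925) .nil) (nat_lit 430) (nat_lit 3507) (nat_lit 493)
  .nil)) (nat_lit 431) (nat_lit 6980) (nat_lit 1885) (.node (.node (.node .nil (nat_lit 433) (nat_lit 19969)
  (nat_lit 3414) .nil) (nat_lit 438) (nat_lit 4722) (nat_lit 312) .nil) (nat_lit 439) (nat_lit 16417) (nat_lit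
  1944) (.node .nil (nat_lit 440) (nat_lit 15491) (nat_lit 813) .nil)))) (nat_lit 446) (nat_lit 8385) (nat_lit
  1321) (.node (.node (.node (.node (.node .nil (nat_lit 447) (nat_lit 18164) (nat_lit 797) .nil) (nat_lit
  448) (nat_lit 5268) (nat_lit 25) .nil) (nat_lit 454) (nat_lit 7764) (nat_lit 2649) (.node (.node .nil
  (nat_lit 459) (nat_lit 6369) (nat_lit 1157) .nil) (nat_lit 461) (nat_lit 8450) (nat_lit 2887) .nil))
  (nat_lit 464) (nat_lit 21250) (nat_lit 2898) (.node (.node (.node .nil (nat_lit 470) (nat_lit 16435)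
  (nat_lit 750) .nil) (nat_lit 475) (nat_lit 9699) (nat_lit 2222) .nil) (nat_lit 477) (nat_lit 10723) (nat_lit
  3438) (.node .nil (nat_lit 480) (nat_lit 3536) (nat_lit 592) .nil))) (nat_lit 486) (nat_lit 13104) (nat_lit
  605) (.node (.node (.node (.node .nil (nat_lit 491) (nat_lit 177) (nat_lit 2048) .nil) (nat_lit 493)
  (nat_lit 1443) (nat_lit 1134) .nil) (nat_lit 496) (nat_lit 4850) (nat_lit 2929) (.node .nil (nat_lit 502)
  (nat_lit 16784) (nat_lit 621) .nil)) (nat_lit 507) (nat_lit 15683) (nat_lit 1710) (.node (.node (.node .nil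
  (nat_lit 509) (nat_lit 17762) (nat_lit 2934) .nil) (nat_lit 513) (nat_lit 14372) (nat_lit 1322) .nil)
  (nat_lit 514) (nat_lit 13747) (nat_lit 2778) (.node .nil (nat_lit 516) (nat_lit 3969) (nat_lit 714)
  .nil)))))))
def tv2_1 : T := (.node (.node (.node (.node (.node (.node (.node (.node .nil (nat_lit 518) (nat_lit 8115)
  (nat_lit 1498) .nil) (nat_lit 519) (nat_lit 17907) (nat_lit 2714) .nil) (nat_lit 528) (nat_lit 10516)
  (nat_lit 1130) (.node (.node .nil (nat_lit 529) (nat_lit 3619) (nat_lit 2138) .nil) (nat_lit 530) (nat_lit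
  4452) (nat_lit 3690) .nil)) (nat_lit 531) (nat_lit 13299) (nat_lit 666) (.node (.node (.node .nil (nat_lit
  533) (nat_lit 16961) (nat_lit 3880) .nil) (nat_lit 534) (nat_lit 10561) (nat_lit 307) .nil) (nat_lit 545)
  (nat_lit 17889) (nat_lit 2714) (.node .nil (nat_lit 546) (nat_lit 13906) (nat_lit 2028) .nil))) (nat_lit
  548) (nat_lit 1233) (nat_lit 3663) (.node (.node (.node (.node .nil (nat_lit 549) (nat_lit 9825) (nat_lit
  1890) .nil) (nat_lit 550) (nat_lit 15443) (nat_lit 3034) .nil) (nat_lit 551) (nat_lit 21571) (nat_lit 1178)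
  (.node (.node .nil (nat_lit 560) (nat_lit 9170) (nat_lit 2033) .nil) (nat_lit 561) (nat_lit 14849) (nat_lit
  3669) .nil)) (nat_lit 562) (nat_lit 19684) (nat_lit 1770) (.node (.node (.node .nil (nat_lit 563) (nat_lit
  6225) (nat_lit 2403) .nil) (nat_lit 565) (nat_lit 18529) (nat_lit 941) .nil) (nat_lit 566) (nat_lit 14162)
  (nat_lit 2040) (.node .nil (nat_lit 576) (nat_lit 5251) (nat_lit 25) .nil)))) (nat_lit 582) (nat_lit 2993)
  (nat_lit 2255) (.node (.node (.node (.node (.node .nil (nat_lit 587) (nat_lit 5106) (nat_lit 3470) .nil)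
  (nat_lit 589) (nat_lit 7747) (nat_lit 2649) .nil) (nat_lit 592) (nat_lit 1460) (nat_lit 1134) (.node (.node
  .nil (nat_lit 598) (nat_lit 561) (nat_lit 3072) .nil) (nat_lit 603) (nat_lit 3667) (nat_lit 2201) .nil))
  (nat_lit 605) (nat_lit 7300) (nat_lit 430) (.node (.node (.node .nil (nat_lit 608) (nat_lit 6802) (nat_lit
  3491) .nil) (nat_lit 614) (nat_lit 16452) (nat_lit 750) .nil) (nat_lit 619) (nat_lit 11810) (nat_lit 3501)
  (.node .nil (nat_lit 621) (nat_lit 10740) (nat_lit 3438) .nil))) (nat_lit 624) (nat_lit 22161) (nat_lit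
  2635) (.node (.node (.node (.node .nil (nat_lit 630) (nat_lit 15700) (nat_lit 1710) .nil) (nat_lit 635)
  (nat_lit 18465) (nat_lit 4044) .nil) (nat_lit 637) (nat_lit 19027) (nat_lit 857) (.node (.node .nil (nat_lit
  640) (nat_lit 7153) (nat_lit 2320) .nil) (nat_lit 645) (nat_lit 8740) (nat_lit 1378) .nil)) (nat_lit 650)
  (nat_lit 4228) (nat_lit 2722) (.node (.node (.node .nil (nat_lit 655) (nat_lit 7121) (nat_lit 367) .nil)
  (nat_lit 656) (nat_lit 8546) (nat_lit 2130) .nil) (nat_lit 661) (nat_lit 3348) (nat_lit 290) (.node .nil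
  (nat_lit 666) (nat_lit 7507) (nat_lit 2008) .nil))))) (nat_lit 671) (nat_lit 976) (nat_lit 1018) (.node
  (.node (.node (.node (.node (.node .nil (nat_lit 672) (nat_lit 16353) (nat_lit 1429) .nil) (nat_lit 677)
  (nat_lit 13474) (nat_lit 2159) .nil) (nat_lit 682) (nat_lit 16592) (nat_lit 981) (.node (.node .nil (nat_lit
  687) (nat_lit 9876) (nat_lit 1890) .nil) (nat_lit 688) (nat_lit 19361) (nat_lit 346) .nil)) (nat_lit 693)
  (nat_lit 8611) (nat_lit 2392) (.node (.node (.node .nil (nat_lit 698) (nat_lit 20692) (nat_lit 1634) .nil)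
  (nat_lit 703) (nat_lit 17488) (nat_lit 1002) .nil) (nat_lit 707) (nat_lit 10116) (nat_lit 3878) (.node .nil
  (nat_lit 708) (nat_lit 4035) (nat_lit 3867) .nil))) (nat_lit 713) (nat_lit 14577) (nat_lit 1682) (.node
  (.node (.node (.node .nil (nat_lit 714) (nat_lit 1697) (nat_lit 2185) .nil) (nat_lit 717) (nat_lit 16916)
  (nat_lit 1510) .nil) (nat_lit 718) (nat_lit 4833) (nat_lit 1393) (.node (.node .nil (nat_lit 720) (nat_lit
  8804) (nat_lit 1126) .nil) (nat_lit 727) (nat_lit 7427) (nat_lit 3483) .nil)) (nat_lit 729) (nat_lit 7555)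
  (nat_lit 603) (.node (.node (.node .nil (nat_lit 730) (nat_lit 7588) (nat_lit 3814) .nil) (nat_lit 733)
  (nat_lit 17299) (nat_lit 3419) .nil) (nat_lit 734) (nat_lit 14273) (nat_lit 446) (.node .nil (nat_lit 739)
  (nat_lit 20402) (nat_lit 550) .nil)))) (nat_lit 740) (nat_lit 12195) (nat_lit 283) (.node (.node (.node
  (.node (.node .nil (nat_lit 745) (nat_lit 5025) (nat_lit 2583) .nil) (nat_lit 746) (nat_lit 20273) (nat_lit
  1036) .nil) (nat_lit 749) (nat_lit 3026) (nat_lit 548) (.node (.node .nil (nat_lit 750) (nat_lit 10385)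
  (nat_lit 2548) .nil) (nat_lit 752) (nat_lit 16547) (nat_lit 2331) .nil)) (nat_lit 759) (nat_lit 16163)
  (nat_lit 923) (.node (.node (.node .nil (nat_lit 761) (nat_lit 9123) (nat_lit 3163) .nil) (nat_lit 762)
  (nat_lit 21348) (nat_lit 1638) .nil) (nat_lit 765) (nat_lit 11601) (nat_lit 800) (.node .nil (nat_lit 766)
  (nat_lit 11570) (nat_lit 563) .nil))) (nat_lit 769) (nat_lit 13059) (nat_lit 3957) (.node (.node (.node
  (.node .nil (nat_lit 771) (nat_lit 16272) (nat_lit 258) .nil) (nat_lit 780) (nat_lit 1889) (nat_lit 837)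
  .nil) (nat_lit 781) (nat_lit 4339) (nat_lit 2677) (.node .nil (nat_lit 782) (nat_lit 17284) (nat_lit 2815)
  .nil)) (nat_lit 783) (nat_lit 5956) (nat_lit 4095) (.node (.node (.node .nil (nat_lit 785) (nat_lit 8594)
  (nat_lit 2392) .nil) (nat_lit 787) (nat_lit 14483) (nat_lit 693) .nil) (nat_lit 796) (nat_lit 4113) (nat_lit
  1930) (.node .nil (nat_lit 797) (nat_lit 12147) (nat_lit 3445) .nil)))))) (nat_lit 798) (nat_lit 21460)
  (nat_lit 3775) (.node (.node (.node (.node (.node (.node (.node .nil (nat_lit 799) (nat_lit 19249) (nat_lit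
  2449) .nil) (nat_lit 800) (nat_lit 6242) (nat_lit 2403) .nil) (nat_lit 801) (nat_lit 18802) (nat_lit 2409)
  (.node (.node .nil (nat_lit 802) (nat_lit 14033) (nat_lit 3730) .nil) (nat_lit 803) (nat_lit 11297) (nat_lit
  1983) .nil)) (nat_lit 813) (nat_lit 9442) (nat_lit 2404) (.node (.node (.node .nil (nat_lit 815) (nat_lit
  15523) (nat_lit 3765) .nil) (nat_lit 816) (nat_lit 10452) (nat_lit 3327) .nil) (nat_lit 817) (nat_lit 5872)
  (nat_lit 291) (.node .nil (nat_lit 818) (nat_lit 7875) (nat_lit 1013) .nil))) (nat_lit 819) (nat_lit 1587)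
  (nat_lit 3253) (.node (.node (.node (.node .nil (nat_lit 829) (nat_lit 14802) (nat_lit 2422) .nil) (nat_lit
  831) (nat_lit 20753) (nat_lit 1300) .nil) (nat_lit 834) (nat_lit 11204) (nat_lit 2619) (.node (.node .nil
  (nat_lit 837) (nat_lit 737) (nat_lit 3271) .nil) (nat_lit 839) (nat_lit 14723) (nat_lit 2742) .nil))
  (nat_lit 841) (nat_lit 6753) (nat_lit 2723) (.node (.node (.node .nil (nat_lit 843) (nat_lit 11476) (nat_lit
  4027) .nil) (nat_lit 844) (nat_lit 1971) (nat_lit 1334) .nil) (nat_lit 850) (nat_lit 17025) (nat_lit 3051)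
  (.node .nil (nat_lit 853) (nat_lit 17937) (nat_lit 2056) .nil)))) (nat_lit 855) (nat_lit 13809) (nat_lit
  3902) (.node (.node (.node (.node (.node .nil (nat_lit 857) (nat_lit 13089) (nat_lit 3692) .nil) (nat_lit
  859) (nat_lit 8290) (nat_lit 796) .nil) (nat_lit 860) (nat_lit 19603) (nat_lit 566) (.node (.node .nil
  (nat_lit 864) (nat_lit 17250) (nat_lit 803) .nil) (nat_lit 869) (nat_lit 19908) (nat_lit 3579) .nil))
  (nat_lit 871) (nat_lit 6195) (nat_lit 1206) (.node (.node (.node .nil (nat_lit 873) (nat_lit 17779) (nat_lit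
  2934) .nil) (nat_lit 875) (nat_lit 9395) (nat_lit 438) .nil) (nat_lit 878) (nat_lit 21296) (nat_lit 409)
  (.node .nil (nat_lit 880) (nat_lit 9812) (nat_lit 3323) .nil))) (nat_lit 885) (nat_lit 9937) (nat_lit 1165)
  (.node (.node (.node (.node .nil (nat_lit 887) (nat_lit 3891) (nat_lit 950) .nil) (nat_lit 889) (nat_lit
  9953) (nat_lit 745) .nil) (nat_lit 891) (nat_lit 20915) (nat_lit 1718) (.node .nil (nat_lit 894) (nat_lit
  3715) (nat_lit 1782) .nil)) (nat_lit 896) (nat_lit 10288) (nat_lit 448) (.node (.node (.node .nil (nat_lit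
  902) (nat_lit 11347) (nat_lit 1527) .nil) (nat_lit 907) (nat_lit 7059) (nat_lit 4023) .nil) (nat_lit 909)
  (nat_lit 4689) (nat_lit 3146) (.node .nil (nat_lit 912) (nat_lit 3218) (nat_lit 1746) .nil))))) (nat_lit
  918) (nat_lit 15170) (nat_lit 1755) (.node (.node (.node (.node (.node (.node .nil (nat_lit 923) (nat_lit
  10049) (nat_lit 587) .nil) (nat_lit 925) (nat_lit 12627) (nat_lit 3447) .nil) (nat_lit 928) (nat_lit 22114)
  (nat_lit 1763) (.node (.node .nil (nat_lit 934) (nat_lit 14547) (nat_lit 3063) .nil) (nat_lit 939) (nat_lit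
  21059) (nat_lit 439) .nil)) (nat_lit 941) (nat_lit 12644) (nat_lit 3447) (.node (.node (.node .nil (nat_lit
  944) (nat_lit 930) (nat_lit 1777) .nil) (nat_lit 950) (nat_lit 1651) (nat_lit 3319) .nil) (nat_lit 955)
  (nat_lit 5203) (nat_lit 1719) (.node .nil (nat_lit 957) (nat_lit 209) (nat_lit 1024) .nil))) (nat_lit 960)
  (nat_lit 13313) (nat_lit 3632) (.node (.node (.node (.node .nil (nat_lit 965) (nat_lit 3121) (nat_lit 2789)
  .nil) (nat_lit 970) (nat_lit 13281) (nat_lit 666) .nil) (nat_lit 975) (nat_lit 5668) (nat_lit 4083) (.node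
  (.node .nil (nat_lit 976) (nat_lit 12722) (nat_lit 3218) .nil) (nat_lit 981) (nat_lit 10596) (nat_lit 307)
  .nil)) (nat_lit 986) (nat_lit 14260) (nat_lit 3827) (.node (.node (.node .nil (nat_lit 991) (nat_lit 12866)
  (nat_lit 3226) .nil) (nat_lit 992) (nat_lit 14465) (nat_lit 693) .nil) (nat_lit 997) (nat_lit 18756)
  (nat_lit 3571) (.node .nil (nat_lit 1002) (nat_lit 11588) (nat_lit 563) .nil)))) (nat_lit 1007) (nat_lit
  5459) (nat_lit 3764) (.node (.node (.node (.node (.node .nil (nat_lit 1008) (nat_lit 5330) (nat_lit 3249)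
  .nil) (nat_lit 1013) (nat_lit 3843) (nat_lit 2420) .nil) (nat_lit 1018) (nat_lit 340) (nat_lit 1651) (.node
  (.node .nil (nat_lit 1023) (nat_lit 2226) (nat_lit 3257) .nil) (nat_lit 1024) (nat_lit 68) (nat_lit 20)
  .nil)) (nat_lit 1025) (nat_lit 20788) (nat_lit 1300) (.node (.node (.node .nil (nat_lit 1026) (nat_lit
  11956) (nat_lit 2580) .nil) (nat_lit 1027) (nat_lit 20194) (nat_lit 1029) .nil) (nat_lit 1028) (nat_lit
  16995) (nat_lit 3880) (.node .nil (nat_lit 1029) (nat_lit 15105) (nat_lit 3783) .nil))) (nat_lit 1030)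
  (nat_lit 20324) (nat_lit 2644) (.node (.node (.node (.node .nil (nat_lit 1031) (nat_lit 9331) (nat_lit 2728)
  .nil) (nat_lit 1032) (nat_lit 13410) (nat_lit 1035) .nil) (nat_lit 1033) (nat_lit 21491) (nat_lit 1384)
  (.node .nil (nat_lit 1034) (nat_lit 19409) (nat_lit 1720) .nil)) (nat_lit 1035) (nat_lit 7601) (nat_lit
  3989) (.node (.node (.node .nil (nat_lit 1036) (nat_lit 15251) (nat_lit 1320) .nil) (nat_lit 1037) (nat_lit
  15298) (nat_lit 1031) .nil) (nat_lit 1038) (nat_lit 17924) (nat_lit 2772) (.node .nil (nat_lit 1039)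
  (nat_lit 6484) (nat_lit 4052) .nil)))))))
def tv2_2 : T := (.node (.node (.node (.node (.node (.node (.node (.node .nil (nat_lit 1094) (nat_lit 4580)
  (nat_lit 2640) .nil) (nat_lit 1096) (nat_lit 7953) (nat_lit 3261) .nil) (nat_lit 1098) (nat_lit 19202)
  (nat_lit 3652) (.node (.node .nil (nat_lit 1100) (nat_lit 11700) (nat_lit 208) .nil) (nat_lit 1102) (nat_lit
  130) (nat_lit 3650) .nil)) (nat_lit 1105) (nat_lit 16628) (nat_lit 336) (.node (.node (.node .nil (nat_lit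
  1109) (nat_lit 16115) (nat_lit 1899) .nil) (nat_lit 1113) (nat_lit 17859) (nat_lit 619) .nil) (nat_lit 1115)
  (nat_lit 9633) (nat_lit 1641) (.node .nil (nat_lit 1117) (nat_lit 14866) (nat_lit 3669) .nil))) (nat_lit
  1119) (nat_lit 12051) (nat_lit 1963) (.node (.node (.node (.node .nil (nat_lit 1120) (nat_lit 11169)
  (nat_lit 2980) .nil) (nat_lit 1122) (nat_lit 7235) (nat_lit 1259) .nil) (nat_lit 1124) (nat_lit 4593)
  (nat_lit 1628) (.node (.node .nil (nat_lit 1126) (nat_lit 4418) (nat_lit 3690) .nil) (nat_lit 1130) (nat_lit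
  5409) (nat_lit 1806) .nil)) (nat_lit 1134) (nat_lit 531) (nat_lit 491) (.node (.node (.node .nil (nat_lit
  1137) (nat_lit 20147) (nat_lit 1643) .nil) (nat_lit 1139) (nat_lit 18708) (nat_lit 976) .nil) (nat_lit 1141)
  (nat_lit 15346) (nat_lit 3709) (.node .nil (nat_lit 1143) (nat_lit 6868) (nat_lit 912) .nil)))) (nat_lit
  1145) (nat_lit 16945) (nat_lit 3546) (.node (.node (.node (.node (.node .nil (nat_lit 1149) (nat_lit 7204)
  (nat_lit 2320) .nil) (nat_lit 1153) (nat_lit 9905) (nat_lit 1309) .nil) (nat_lit 1157) (nat_lit 2976)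
  (nat_lit 2255) (.node (.node .nil (nat_lit 1160) (nat_lit 15857) (nat_lit 1964) .nil) (nat_lit 1161)
  (nat_lit 10530) (nat_lit 2945) .nil)) (nat_lit 1164) (nat_lit 14355) (nat_lit 1322) (.node (.node (.node
  .nil (nat_lit 1165) (nat_lit 5010) (nat_lit 2951) .nil) (nat_lit 1170) (nat_lit 16866) (nat_lit 2973) .nil)
  (nat_lit 1171) (nat_lit 12562) (nat_lit 2967) (.node .nil (nat_lit 1174) (nat_lit 20049) (nat_lit 561)
  .nil))) (nat_lit 1175) (nat_lit 21537) (nat_lit 2844) (.node (.node (.node (.node .nil (nat_lit 1178)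
  (nat_lit 17442) (nat_lit 2966) .nil) (nat_lit 1182) (nat_lit 6612) (nat_lit 3740) .nil) (nat_lit 1184)
  (nat_lit 5985) (nat_lit 181) (.node (.node .nil (nat_lit 1185) (nat_lit 8082) (nat_lit 2985) .nil) (nat_lit
  1188) (nat_lit 9057) (nat_lit 3405) .nil)) (nat_lit 1189) (nat_lit 4435) (nat_lit 3690) (.node (.node (.node
  .nil (nat_lit 1193) (nat_lit 1666) (nat_lit 2978) .nil) (nat_lit 1197) (nat_lit 10499) (nat_lit 1130) .nil)
  (nat_lit 1202) (nat_lit 4369) (nat_lit 844) (.node .nil (nat_lit 1206) (nat_lit 2882) (nat_lit 3000)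
  .nil))))) (nat_lit 1210) (nat_lit 4644) (nat_lit 1628) (.node (.node (.node (.node (.node (.node .nil
  (nat_lit 1211) (nat_lit 20451) (nat_lit 1706) .nil) (nat_lit 1214) (nat_lit 15217) (nat_lit 1320) .nil)
  (nat_lit 1215) (nat_lit 6624) (nat_lit 2282) (.node (.node .nil (nat_lit 1216) (nat_lit 10260) (nat_lit 24)
  .nil) (nat_lit 1220) (nat_lit 9761) (nat_lit 3323) .nil)) (nat_lit 1224) (nat_lit 11858) (nat_lit 459)
  (.node (.node (.node .nil (nat_lit 1228) (nat_lit 6660) (nat_lit 216) .nil) (nat_lit 1234) (nat_lit 15987)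
  (nat_lit 3561) .nil) (nat_lit 1238) (nat_lit 9971) (nat_lit 745) (.node .nil (nat_lit 1242) (nat_lit 20097)
  (nat_lit 2406) .nil))) (nat_lit 1246) (nat_lit 12241) (nat_lit 1182) (.node (.node (.node (.node .nil
  (nat_lit 1251) (nat_lit 8099) (nat_lit 2985) .nil) (nat_lit 1255) (nat_lit 3923) (nat_lit 1193) .nil)
  (nat_lit 1259) (nat_lit 3490) (nat_lit 493) (.node (.node .nil (nat_lit 1263) (nat_lit 514) (nat_lit 491)
  .nil) (nat_lit 1265) (nat_lit 9667) (nat_lit 1641) .nil)) (nat_lit 1269) (nat_lit 13217) (nat_lit 3484)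
  (.node (.node (.node .nil (nat_lit 1273) (nat_lit 8628) (nat_lit 2392) .nil) (nat_lit 1277) (nat_lit 16497)
  (nat_lit 1536) .nil) (nat_lit 1281) (nat_lit 20545) (nat_lit 2348) (.node .nil (nat_lit 1282) (nat_lit
  21666) (nat_lit 2703) .nil)))) (nat_lit 1288) (nat_lit 16849) (nat_lit 2973) (.node (.node (.node (.node
  (.node .nil (nat_lit 1289) (nat_lit 22033) (nat_lit 688) .nil) (nat_lit 1290) (nat_lit 18643) (nat_lit 199)
  .nil) (nat_lit 1291) (nat_lit 18545) (nat_lit 1414) (.node (.node .nil (nat_lit 1300) (nat_lit 15921)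
  (nat_lit 2358) .nil) (nat_lit 1303) (nat_lit 10850) (nat_lit 2705) .nil)) (nat_lit 1308) (nat_lit 16068)
  (nat_lit 1153) (.node (.node (.node .nil (nat_lit 1309) (nat_lit 4993) (nat_lit 2951) .nil) (nat_lit 1310)
  (nat_lit 14835) (nat_lit 2247) .nil) (nat_lit 1311) (nat_lit 5313) (nat_lit 3249) (.node .nil (nat_lit 1312)
  (nat_lit 5395) (nat_lit 3591) .nil))) (nat_lit 1315) (nat_lit 480) (nat_lit 2578) (.node (.node (.node
  (.node .nil (nat_lit 1320) (nat_lit 9314) (nat_lit 2728) .nil) (nat_lit 1321) (nat_lit 4194) (nat_lit 2722)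
  .nil) (nat_lit 1322) (nat_lit 8481) (nat_lit 46) (.node .nil (nat_lit 1323) (nat_lit 6787) (nat_lit 391)
  .nil)) (nat_lit 1333) (nat_lit 2564) (nat_lit 2433) (.node (.node (.node .nil (nat_lit 1334) (nat_lit 771)
  (nat_lit 3271) .nil) (nat_lit 1340) (nat_lit 20481) (nat_lit 3631) .nil) (nat_lit 1341) (nat_lit 14706)
  (nat_lit 2742) (.node .nil (nat_lit 1342) (nat_lit 18243) (nat_lit 1735) .nil)))))) (nat_lit 1343) (nat_lit
  18257) (nat_lit 52) (.node (.node (.node (.node (.node (.node (.node .nil (nat_lit 1346) (nat_lit 20980)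
  (nat_lit 2565) .nil) (nat_lit 1349) (nat_lit 15073) (nat_lit 2535) .nil) (nat_lit 1351) (nat_lit 21185)
  (nat_lit 3793) (.node (.node .nil (nat_lit 1352) (nat_lit 15649) (nat_lit 1710) .nil) (nat_lit 1357)
  (nat_lit 18626) (nat_lit 199) .nil)) (nat_lit 1359) (nat_lit 20355) (nat_lit 132) (.node (.node (.node .nil
  (nat_lit 1361) (nat_lit 6642) (nat_lit 216) .nil) (nat_lit 1364) (nat_lit 18819) (nat_lit 2052) .nil)
  (nat_lit 1366) (nat_lit 3729) (nat_lit 819) (.node .nil (nat_lit 1371) (nat_lit 12995) (nat_lit 2180)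
  .nil))) (nat_lit 1372) (nat_lit 1762) (nat_lit 223) (.node (.node (.node (.node .nil (nat_lit 1374) (nat_lit
  11666) (nat_lit 208) .nil) (nat_lit 1376) (nat_lit 16195) (nat_lit 3588) .nil) (nat_lit 1378) (nat_lit 4401)
  (nat_lit 1665) (.node (.node .nil (nat_lit 1381) (nat_lit 8721) (nat_lit 1378) .nil) (nat_lit 1384) (nat_lit
  17105) (nat_lit 2603) .nil)) (nat_lit 1386) (nat_lit 8195) (nat_lit 3780) (.node (.node (.node .nil (nat_lit
  1391) (nat_lit 14916) (nat_lit 1861) .nil) (nat_lit 1393) (nat_lit 2164) (nat_lit 2501) .nil) (nat_lit 1395)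
  (nat_lit 3937) (nat_lit 2915) (.node .nil (nat_lit 1398) (nat_lit 11489) (nat_lit 4022) .nil)))) (nat_lit
  1401) (nat_lit 8257) (nat_lit 1993) (.node (.node (.node (.node (.node .nil (nat_lit 1403) (nat_lit 1924)
  (nat_lit 837) .nil) (nat_lit 1404) (nat_lit 8273) (nat_lit 796) .nil) (nat_lit 1409) (nat_lit 21137)
  (nat_lit 3854) (.node (.node .nil (nat_lit 1414) (nat_lit 12657) (nat_lit 3309) .nil) (nat_lit 1416)
  (nat_lit 20963) (nat_lit 2565) .nil)) (nat_lit 1417) (nat_lit 20179) (nat_lit 1349) (.node (.node (.node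
  .nil (nat_lit 1422) (nat_lit 16129) (nat_lit 1905) .nil) (nat_lit 1423) (nat_lit 20801) (nat_lit 3676) .nil)
  (nat_lit 1426) (nat_lit 7700) (nat_lit 3657) (.node .nil (nat_lit 1427) (nat_lit 1617) (nat_lit 3319)
  .nil))) (nat_lit 1428) (nat_lit 20003) (nat_lit 2053) (.node (.node (.node (.node .nil (nat_lit 1429)
  (nat_lit 10321) (nat_lit 1593) .nil) (nat_lit 1435) (nat_lit 5172) (nat_lit 3017) .nil) (nat_lit 1436)
  (nat_lit 10338) (nat_lit 1311) (.node (.node .nil (nat_lit 1440) (nat_lit 1104) (nat_lit 2768) .nil)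
  (nat_lit 1441) (nat_lit 8402) (nat_lit 1321) .nil)) (nat_lit 1446) (nat_lit 14338) (nat_lit 1322) (.node
  (.node (.node .nil (nat_lit 1447) (nat_lit 6336) (nat_lit 2782) .nil) (nat_lit 1448) (nat_lit 15234)
  (nat_lit 1320) .nil) (nat_lit 1455) (nat_lit 12514) (nat_lit 1323) (.node .nil (nat_lit 1458) (nat_lit 6707)
  (nat_lit 965) .nil))))) (nat_lit 1461) (nat_lit 17712) (nat_lit 2799) (.node (.node (.node (.node (.node
  (.node .nil (nat_lit 1466) (nat_lit 2147) (nat_lit 2501) .nil) (nat_lit 1467) (nat_lit 12452) (nat_lit 841)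
  .nil) (nat_lit 1468) (nat_lit 18032) (nat_lit 2792) (.node (.node .nil (nat_lit 1469) (nat_lit 1907)
  (nat_lit 837) .nil) (nat_lit 1475) (nat_lit 18579) (nat_lit 1414) .nil)) (nat_lit 1477) (nat_lit 20866)
  (nat_lit 3916) (.node (.node (.node .nil (nat_lit 1480) (nat_lit 21906) (nat_lit 3915) .nil) (nat_lit 1483)
  (nat_lit 15825) (nat_lit 3735) .nil) (nat_lit 1485) (nat_lit 21825) (nat_lit 1113) (.node .nil (nat_lit
  1486) (nat_lit 20628) (nat_lit 2765) .nil))) (nat_lit 1490) (nat_lit 10146) (nat_lit 3933) (.node (.node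
  (.node (.node .nil (nat_lit 1492) (nat_lit 12835) (nat_lit 2054) .nil) (nat_lit 1497) (nat_lit 6419)
  (nat_lit 582) .nil) (nat_lit 1498) (nat_lit 4003) (nat_lit 1990) (.node (.node .nil (nat_lit 1500) (nat_lit
  8338) (nat_lit 3935) .nil) (nat_lit 1503) (nat_lit 20212) (nat_lit 2957) .nil)) (nat_lit 1504) (nat_lit
  2657) (nat_lit 1941) (.node (.node (.node .nil (nat_lit 1510) (nat_lit 10947) (nat_lit 3014) .nil) (nat_lit
  1512) (nat_lit 19537) (nat_lit 3081) .nil) (nat_lit 1515) (nat_lit 2052) (nat_lit 1805) (.node .nil (nat_lit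
  1517) (nat_lit 9108) (nat_lit 3405) .nil)))) (nat_lit 1518) (nat_lit 7474) (nat_lit 3937) (.node (.node
  (.node (.node (.node .nil (nat_lit 1521) (nat_lit 15201) (nat_lit 2679) .nil) (nat_lit 1527) (nat_lit 6049)
  (nat_lit 185) .nil) (nat_lit 1529) (nat_lit 497) (nat_lit 491) (.node (.node .nil (nat_lit 1530) (nat_lit
  13042) (nat_lit 3957) .nil) (nat_lit 1532) (nat_lit 17075) (nat_lit 3078) .nil)) (nat_lit 1535) (nat_lit
  3283) (nat_lit 2438) (.node (.node (.node .nil (nat_lit 1536) (nat_lit 10465) (nat_lit 1312) .nil) (nat_lit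
  1537) (nat_lit 19057) (nat_lit 3085) .nil) (nat_lit 1538) (nat_lit 3411) (nat_lit 2802) (.node .nil (nat_lit
  1539) (nat_lit 6690) (nat_lit 965) .nil))) (nat_lit 1564) (nat_lit 15617) (nat_lit 1931) (.node (.node
  (.node (.node .nil (nat_lit 1565) (nat_lit 14308) (nat_lit 446) .nil) (nat_lit 1566) (nat_lit 12707)
  (nat_lit 2290) .nil) (nat_lit 1567) (nat_lit 19652) (nat_lit 3006) (.node .nil (nat_lit 1572) (nat_lit
  16659) (nat_lit 306) .nil)) (nat_lit 1573) (nat_lit 6932) (nat_lit 3582) (.node (.node (.node .nil (nat_lit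
  1574) (nat_lit 15377) (nat_lit 875) .nil) (nat_lit 1575) (nat_lit 8675) (nat_lit 1202) .nil) (nat_lit 1592)
  (nat_lit 900) (nat_lit 3198) (.node .nil (nat_lit 1593) (nat_lit 5299) (nat_lit 3186) .nil)))))))
def tv2_3 : T := (.node (.node (.node (.node (.node (.node (.node (.node .nil (nat_lit 1595) (nat_lit 2195)
  (nat_lit 1714) .nil) (nat_lit 1602) (nat_lit 8579) (nat_lit 2801) .nil) (nat_lit 1604) (nat_lit 852)
  (nat_lit 122) (.node (.node .nil (nat_lit 1606) (nat_lit 19490) (nat_lit 2441) .nil) (nat_lit 1609) (nat_lit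
  2546) (nat_lit 2433) .nil)) (nat_lit 1613) (nat_lit 19012) (nat_lit 1530) (.node (.node (.node .nil (nat_lit
  1615) (nat_lit 2738) (nat_lit 2440) .nil) (nat_lit 1617) (nat_lit 19378) (nat_lit 2456) .nil) (nat_lit 1621)
  (nat_lit 12930) (nat_lit 2462) (.node .nil (nat_lit 1623) (nat_lit 19266) (nat_lit 2449) .nil))) (nat_lit
  1626) (nat_lit 9187) (nat_lit 2033) (.node (.node (.node (.node .nil (nat_lit 1628) (nat_lit 2065) (nat_lit
  2744) .nil) (nat_lit 1630) (nat_lit 5089) (nat_lit 3470) .nil) (nat_lit 1632) (nat_lit 21763) (nat_lit 3633)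
  (.node (.node .nil (nat_lit 1634) (nat_lit 15795) (nat_lit 1265) .nil) (nat_lit 1638) (nat_lit 16803)
  (nat_lit 3057) .nil)) (nat_lit 1641) (nat_lit 4867) (nat_lit 2929) (.node (.node (.node .nil (nat_lit 1643)
  (nat_lit 15041) (nat_lit 273) .nil) (nat_lit 1645) (nat_lit 22147) (nat_lit 1137) .nil) (nat_lit 1649)
  (nat_lit 3825) (nat_lit 2420) (.node .nil (nat_lit 1651) (nat_lit 113) (nat_lit 3650) .nil)))) (nat_lit
  1653) (nat_lit 15907) (nat_lit 2417) (.node (.node (.node (.node (.node .nil (nat_lit 1656) (nat_lit 11152)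
  (nat_lit 2980) .nil) (nat_lit 1658) (nat_lit 13713) (nat_lit 3315) .nil) (nat_lit 1662) (nat_lit 947)
  (nat_lit 1777) (.node (.node .nil (nat_lit 1665) (nat_lit 1988) (nat_lit 1334) .nil) (nat_lit 1668) (nat_lit
  9508) (nat_lit 118) .nil)) (nat_lit 1669) (nat_lit 17380) (nat_lit 1398) (.node (.node (.node .nil (nat_lit
  1674) (nat_lit 14740) (nat_lit 2742) .nil) (nat_lit 1675) (nat_lit 2819) (nat_lit 4016) .nil) (nat_lit 1678)
  (nat_lit 3553) (nat_lit 592) (.node .nil (nat_lit 1682) (nat_lit 8705) (nat_lit 251) .nil))) (nat_lit 1683)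
  (nat_lit 17796) (nat_lit 2934) (.node (.node (.node (.node .nil (nat_lit 1686) (nat_lit 7777) (nat_lit 3331)
  .nil) (nat_lit 1689) (nat_lit 13954) (nat_lit 3155) .nil) (nat_lit 1692) (nat_lit 6212) (nat_lit 1206)
  (.node (.node .nil (nat_lit 1693) (nat_lit 9412) (nat_lit 438) .nil) (nat_lit 1696) (nat_lit 13347) (nat_lit
  3632) .nil)) (nat_lit 1697) (nat_lit 20433) (nat_lit 1706) (.node (.node (.node .nil (nat_lit 1701) (nat_lit
  21233) (nat_lit 2898) .nil) (nat_lit 1706) (nat_lit 15473) (nat_lit 813) .nil) (nat_lit 1710) (nat_lit 9603)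
  (nat_lit 496) (.node .nil (nat_lit 1711) (nat_lit 14145) (nat_lit 2040) .nil))))) (nat_lit 1714) (nat_lit
  865) (nat_lit 3198) (.node (.node (.node (.node (.node (.node .nil (nat_lit 1718) (nat_lit 16049) (nat_lit
  390) .nil) (nat_lit 1719) (nat_lit 2355) (nat_lit 944) .nil) (nat_lit 1720) (nat_lit 13986) (nat_lit 3194)
  (.node (.node .nil (nat_lit 1721) (nat_lit 13618) (nat_lit 3184) .nil) (nat_lit 1725) (nat_lit 15956)
  (nat_lit 2358) .nil)) (nat_lit 1728) (nat_lit 16514) (nat_lit 1536) (.node (.node (.node .nil (nat_lit 1735)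
  (nat_lit 12338) (nat_lit 1539) .nil) (nat_lit 1737) (nat_lit 8051) (nat_lit 1395) .nil) (nat_lit 1742)
  (nat_lit 3428) (nat_lit 2802) (.node .nil (nat_lit 1746) (nat_lit 1313) (nat_lit 3528) .nil))) (nat_lit
  1749) (nat_lit 16676) (nat_lit 306) (.node (.node (.node (.node .nil (nat_lit 1755) (nat_lit 9265) (nat_lit
  3961) .nil) (nat_lit 1756) (nat_lit 8692) (nat_lit 1202) .nil) (nat_lit 1763) (nat_lit 19827) (nat_lit 2995)
  (.node (.node .nil (nat_lit 1764) (nat_lit 10579) (nat_lit 307) .nil) (nat_lit 1770) (nat_lit 14243)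
  (nat_lit 3827) .nil)) (nat_lit 1773) (nat_lit 21154) (nat_lit 1572) (.node (.node (.node .nil (nat_lit 1777)
  (nat_lit 323) (nat_lit 1651) .nil) (nat_lit 1782) (nat_lit 1569) (nat_lit 3253) .nil) (nat_lit 1784)
  (nat_lit 3747) (nat_lit 819) (.node .nil (nat_lit 1791) (nat_lit 4979) (nat_lit 2483) .nil)))) (nat_lit
  1793) (nat_lit 10163) (nat_lit 3933) (.node (.node (.node (.node (.node .nil (nat_lit 1794) (nat_lit 16243)
  (nat_lit 2781) .nil) (nat_lit 1804) (nat_lit 9074) (nat_lit 3405) .nil) (nat_lit 1805) (nat_lit 801)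
  (nat_lit 122) (.node (.node .nil (nat_lit 1806) (nat_lit 2468) (nat_lit 2795) .nil) (nat_lit 1807) (nat_lit
  4465) (nat_lit 1868) .nil)) (nat_lit 1813) (nat_lit 6963) (nat_lit 1885) (.node (.node (.node .nil (nat_lit
  1814) (nat_lit 16641) (nat_lit 306) .nil) (nat_lit 1816) (nat_lit 7252) (nat_lit 1259) .nil) (nat_lit 1817)
  (nat_lit 548) (nat_lit 491) (.node .nil (nat_lit 1818) (nat_lit 12387) (nat_lit 2013) .nil))) (nat_lit 1819)
  (nat_lit 5779) (nat_lit 2205) (.node (.node (.node (.node .nil (nat_lit 1824) (nat_lit 3857) (nat_lit 950)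
  .nil) (nat_lit 1827) (nat_lit 11793) (nat_lit 3501) .nil) (nat_lit 1836) (nat_lit 10706) (nat_lit 3438)
  (.node .nil (nat_lit 1837) (nat_lit 10401) (nat_lit 3327) .nil)) (nat_lit 1838) (nat_lit 16755) (nat_lit
  477) (.node (.node (.node .nil (nat_lit 1839) (nat_lit 5137) (nat_lit 3017) .nil) (nat_lit 1844) (nat_lit
  12610) (nat_lit 3447) .nil) (nat_lit 1847) (nat_lit 18515) (nat_lit 925) (.node .nil (nat_lit 1848) (nat_lit
  18147) (nat_lit 797) .nil)))))) (nat_lit 1849) (nat_lit 12962) (nat_lit 3440) (.node (.node (.node (.node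
  (.node (.node (.node .nil (nat_lit 1850) (nat_lit 12130) (nat_lit 3445) .nil) (nat_lit 1851) (nat_lit 15396)
  (nat_lit 875) .nil) (nat_lit 1858) (nat_lit 1953) (nat_lit 1334) (.node (.node .nil (nat_lit 1861) (nat_lit
  9027) (nat_lit 94) .nil) (nat_lit 1865) (nat_lit 16226) (nat_lit 1793) .nil)) (nat_lit 1867) (nat_lit 1555)
  (nat_lit 3998) (.node (.node (.node .nil (nat_lit 1868) (nat_lit 2018) (nat_lit 1805) .nil) (nat_lit 1870)
  (nat_lit 6307) (nat_lit 4062) .nil) (nat_lit 1873) (nat_lit 4179) (nat_lit 2142) (.node .nil (nat_lit 1878)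
  (nat_lit 11026) (nat_lit 1819) .nil))) (nat_lit 1880) (nat_lit 1396) (nat_lit 1263) (.node (.node (.node
  (.node .nil (nat_lit 1882) (nat_lit 17331) (nat_lit 2014) .nil) (nat_lit 1885) (nat_lit 3265) (nat_lit 2438)
  .nil) (nat_lit 1887) (nat_lit 11139) (nat_lit 1950) (.node (.node .nil (nat_lit 1888) (nat_lit 17810)
  (nat_lit 1827) .nil) (nat_lit 1890) (nat_lit 4961) (nat_lit 2483) .nil)) (nat_lit 1893) (nat_lit 4529)
  (nat_lit 2640) (.node (.node (.node .nil (nat_lit 1895) (nat_lit 7906) (nat_lit 1824) .nil) (nat_lit 1899)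
  (nat_lit 10017) (nat_lit 2818) .nil) (nat_lit 1900) (nat_lit 5521) (nat_lit 2273) (.node .nil (nat_lit 1905)
  (nat_lit 10035) (nat_lit 1630) .nil)))) (nat_lit 1907) (nat_lit 10644) (nat_lit 1007) (.node (.node (.node
  (.node (.node .nil (nat_lit 1908) (nat_lit 18659) (nat_lit 1566) .nil) (nat_lit 1910) (nat_lit 18176)
  (nat_lit 2477) .nil) (nat_lit 1912) (nat_lit 18098) (nat_lit 1850) (.node (.node .nil (nat_lit 1919)
  (nat_lit 12947) (nat_lit 2462) .nil) (nat_lit 1921) (nat_lit 225) (nat_lit 60) .nil)) (nat_lit 1926)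
  (nat_lit 18865) (nat_lit 991) (.node (.node (.node .nil (nat_lit 1927) (nat_lit 3377) (nat_lit 2802) .nil)
  (nat_lit 1930) (nat_lit 1779) (nat_lit 223) .nil) (nat_lit 1931) (nat_lit 9554) (nat_lit 718) (.node .nil
  (nat_lit 1932) (nat_lit 10355) (nat_lit 1311) .nil))) (nat_lit 1938) (nat_lit 18049) (nat_lit 2792) (.node
  (.node (.node (.node .nil (nat_lit 1939) (nat_lit 2432) (nat_lit 2546) .nil) (nat_lit 1941) (nat_lit 1121)
  (nat_lit 2315) .nil) (nat_lit 1944) (nat_lit 10368) (nat_lit 2548) (.node .nil (nat_lit 1950) (nat_lit 5843)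
  (nat_lit 2271) .nil)) (nat_lit 1951) (nat_lit 7108) (nat_lit 2979) (.node (.node (.node .nil (nat_lit 1952)
  (nat_lit 20387) (nat_lit 3615) .nil) (nat_lit 1953) (nat_lit 2209) (nat_lit 3257) .nil) (nat_lit 1958)
  (nat_lit 20225) (nat_lit 3930) (.node .nil (nat_lit 1963) (nat_lit 6514) (nat_lit 749) .nil))))) (nat_lit
  1964) (nat_lit 9747) (nat_lit 2847) (.node (.node (.node (.node (.node (.node .nil (nat_lit 1965) (nat_lit
  10820) (nat_lit 3427) .nil) (nat_lit 1970) (nat_lit 17474) (nat_lit 766) .nil) (nat_lit 1972) (nat_lit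
  21042) (nat_lit 759) (.node (.node .nil (nat_lit 1973) (nat_lit 17522) (nat_lit 765) .nil) (nat_lit 1976)
  (nat_lit 22019) (nat_lit 799) .nil)) (nat_lit 1977) (nat_lit 6260) (nat_lit 2403) (.node (.node (.node .nil
  (nat_lit 1983) (nat_lit 6019) (nat_lit 2463) .nil) (nat_lit 1987) (nat_lit 16387) (nat_lit 1436) .nil)
  (nat_lit 1990) (nat_lit 1714) (nat_lit 2185) (.node .nil (nat_lit 1993) (nat_lit 4099) (nat_lit 1372)
  .nil))) (nat_lit 1994) (nat_lit 9252) (nat_lit 2727) (.node (.node (.node (.node .nil (nat_lit 1996)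
  (nat_lit 6385) (nat_lit 582) .nil) (nat_lit 1999) (nat_lit 18882) (nat_lit 2184) .nil) (nat_lit 2002)
  (nat_lit 5762) (nat_lit 2205) (.node (.node .nil (nat_lit 2007) (nat_lit 13235) (nat_lit 3484) .nil)
  (nat_lit 2008) (nat_lit 3650) (nat_lit 2201) .nil)) (nat_lit 2011) (nat_lit 6162) (nat_lit 2204) (.node
  (.node (.node .nil (nat_lit 2013) (nat_lit 6721) (nat_lit 4004) .nil) (nat_lit 2014) (nat_lit 11411)
  (nat_lit 2268) .nil) (nat_lit 2016) (nat_lit 21586) (nat_lit 2211) (.node .nil (nat_lit 2021) (nat_lit 5281)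
  (nat_lit 3186) .nil)))) (nat_lit 2025) (nat_lit 15633) (nat_lit 2582) (.node (.node (.node (.node (.node
  .nil (nat_lit 2026) (nat_lit 20337) (nat_lit 1037) .nil) (nat_lit 2028) (nat_lit 8129) (nat_lit 3779) .nil)
  (nat_lit 2031) (nat_lit 6595) (nat_lit 3740) (.node (.node .nil (nat_lit 2033) (nat_lit 4627) (nat_lit 1628)
  .nil) (nat_lit 2036) (nat_lit 20499) (nat_lit 1564) .nil)) (nat_lit 2040) (nat_lit 8307) (nat_lit 796)
  (.node (.node (.node .nil (nat_lit 2043) (nat_lit 11540) (nat_lit 871) .nil) (nat_lit 2045) (nat_lit 18402)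
  (nat_lit 2230) .nil) (nat_lit 2046) (nat_lit 14564) (nat_lit 1575) (.node .nil (nat_lit 2048) (nat_lit 51)
  (nat_lit 20) .nil))) (nat_lit 2049) (nat_lit 15268) (nat_lit 1320) (.node (.node (.node (.node .nil (nat_lit
  2050) (nat_lit 17650) (nat_lit 2063) .nil) (nat_lit 2051) (nat_lit 17012) (nat_lit 3880) .nil) (nat_lit
  2052) (nat_lit 12818) (nat_lit 2054) (.node .nil (nat_lit 2053) (nat_lit 14753) (nat_lit 3044) .nil))
  (nat_lit 2054) (nat_lit 6993) (nat_lit 1535) (.node (.node (.node .nil (nat_lit 2055) (nat_lit 21444)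
  (nat_lit 3944) .nil) (nat_lit 2056) (nat_lit 11939) (nat_lit 2580) .nil) (nat_lit 2057) (nat_lit 20260)
  (nat_lit 1448) (.node .nil (nat_lit 2058) (nat_lit 9348) (nat_lit 2728) .nil)))))))
def tv2_4 : T := (.node (.node (.node (.node (.node (.node (.node (.node .nil (nat_lit 2060) (nat_lit 20771)
  (nat_lit 1300) .nil) (nat_lit 2061) (nat_lit 20307) (nat_lit 2644) .nil) (nat_lit 2062) (nat_lit 6467)
  (nat_lit 4052) (.node (.node .nil (nat_lit 2063) (nat_lit 11713) (nat_lit 1870) .nil) (nat_lit 2112)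
  (nat_lit 10274) (nat_lit 576) .nil)) (nat_lit 2116) (nat_lit 6402) (nat_lit 582) (.node (.node (.node .nil
  (nat_lit 2120) (nat_lit 5059) (nat_lit 2583) .nil) (nat_lit 2124) (nat_lit 8753) (nat_lit 1126) .nil)
  (nat_lit 2130) (nat_lit 4275) (nat_lit 3543) (.node .nil (nat_lit 2134) (nat_lit 7538) (nat_lit 603) .nil)))
  (nat_lit 2138) (nat_lit 1506) (nat_lit 598) (.node (.node (.node (.node .nil (nat_lit 2142) (nat_lit 1811)
  (nat_lit 2263) .nil) (nat_lit 2147) (nat_lit 12579) (nat_lit 2967) .nil) (nat_lit 2151) (nat_lit 10656)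
  (nat_lit 3230) (.node (.node .nil (nat_lit 2155) (nat_lit 12289) (nat_lit 2816) .nil) (nat_lit 2159)
  (nat_lit 7649) (nat_lit 1784) .nil)) (nat_lit 2161) (nat_lit 21970) (nat_lit 635) (.node (.node (.node .nil
  (nat_lit 2165) (nat_lit 19169) (nat_lit 3741) .nil) (nat_lit 2169) (nat_lit 15537) (nat_lit 2297) .nil)
  (nat_lit 2173) (nat_lit 19299) (nat_lit 855) (.node .nil (nat_lit 2177) (nat_lit 4130) (nat_lit 1930)
  .nil)))) (nat_lit 2180) (nat_lit 7217) (nat_lit 1259) (.node (.node (.node (.node (.node .nil (nat_lit 2181)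
  (nat_lit 16402) (nat_lit 1932) .nil) (nat_lit 2184) (nat_lit 12881) (nat_lit 655) .nil) (nat_lit 2185)
  (nat_lit 658) (nat_lit 1921) (.node (.node .nil (nat_lit 2189) (nat_lit 5732) (nat_lit 1504) .nil) (nat_lit
  2192) (nat_lit 14785) (nat_lit 3548) .nil)) (nat_lit 2193) (nat_lit 13379) (nat_lit 2134) (.node (.node
  (.node .nil (nat_lit 2197) (nat_lit 8561) (nat_lit 2313) .nil) (nat_lit 2201) (nat_lit 1523) (nat_lit 598)
  .nil) (nat_lit 2204) (nat_lit 2865) (nat_lit 3000) (.node .nil (nat_lit 2205) (nat_lit 2674) (nat_lit 1941)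
  .nil))) (nat_lit 2210) (nat_lit 15874) (nat_lit 1964) (.node (.node (.node (.node .nil (nat_lit 2211)
  (nat_lit 17459) (nat_lit 2966) .nil) (nat_lit 2215) (nat_lit 20737) (nat_lit 1653) .nil) (nat_lit 2219)
  (nat_lit 7940) (nat_lit 1824) (.node (.node .nil (nat_lit 2222) (nat_lit 4914) (nat_lit 1953) .nil) (nat_lit
  2223) (nat_lit 12034) (nat_lit 1963) .nil)) (nat_lit 2227) (nat_lit 19764) (nat_lit 992) (.node (.node
  (.node .nil (nat_lit 2230) (nat_lit 12545) (nat_lit 2967) .nil) (nat_lit 2231) (nat_lit 20243) (nat_lit 918)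
  .nil) (nat_lit 2234) (nat_lit 18721) (nat_lit 3571) (.node .nil (nat_lit 2235) (nat_lit 11314) (nat_lit
  1983) .nil))))) (nat_lit 2239) (nat_lit 11620) (nat_lit 800) (.node (.node (.node (.node (.node (.node .nil
  (nat_lit 2243) (nat_lit 8882) (nat_lit 3525) .nil) (nat_lit 2244) (nat_lit 16307) (nat_lit 3861) .nil)
  (nat_lit 2247) (nat_lit 8915) (nat_lit 2709) (.node (.node .nil (nat_lit 2248) (nat_lit 10195) (nat_lit
  2581) .nil) (nat_lit 2251) (nat_lit 6740) (nat_lit 4004) .nil)) (nat_lit 2255) (nat_lit 1220) (nat_lit 4068)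
  (.node (.node (.node .nil (nat_lit 2256) (nat_lit 8945) (nat_lit 239) .nil) (nat_lit 2259) (nat_lit 4258)
  (nat_lit 3543) .nil) (nat_lit 2263) (nat_lit 690) (nat_lit 3537) (.node .nil (nat_lit 2267) (nat_lit 14435)
  (nat_lit 2197) .nil))) (nat_lit 2268) (nat_lit 6097) (nat_lit 1675) (.node (.node (.node (.node .nil
  (nat_lit 2271) (nat_lit 2691) (nat_lit 1941) .nil) (nat_lit 2273) (nat_lit 2577) (nat_lit 392) .nil)
  (nat_lit 2277) (nat_lit 6272) (nat_lit 3167) (.node (.node .nil (nat_lit 2278) (nat_lit 17841) (nat_lit 619)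
  .nil) (nat_lit 2281) (nat_lit 11905) (nat_lit 2580) .nil)) (nat_lit 2282) (nat_lit 3060) (nat_lit 548)
  (.node (.node (.node .nil (nat_lit 2285) (nat_lit 8226) (nat_lit 3556) .nil) (nat_lit 2289) (nat_lit 18915)
  (nat_lit 1621) .nil) (nat_lit 2290) (nat_lit 6898) (nat_lit 3582) (.node .nil (nat_lit 2293) (nat_lit 17553)
  (nat_lit 2239) .nil)))) (nat_lit 2297) (nat_lit 9476) (nat_lit 2404) (.node (.node (.node (.node (.node .nil
  (nat_lit 2301) (nat_lit 17233) (nat_lit 803) .nil) (nat_lit 2302) (nat_lit 18738) (nat_lit 3571) .nil)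
  (nat_lit 2305) (nat_lit 17121) (nat_lit 3087) (.node (.node .nil (nat_lit 2307) (nat_lit 18356) (nat_lit
  3901) .nil) (nat_lit 2312) (nat_lit 6114) (nat_lit 1675) .nil)) (nat_lit 2313) (nat_lit 4308) (nat_lit 1469)
  (.node (.node (.node .nil (nat_lit 2314) (nat_lit 2721) (nat_lit 2440) .nil) (nat_lit 2315) (nat_lit 417)
  (nat_lit 165) .nil) (nat_lit 2320) (nat_lit 3473) (nat_lit 493) (.node .nil (nat_lit 2322) (nat_lit 15153)
  (nat_lit 1755) .nil))) (nat_lit 2328) (nat_lit 19394) (nat_lit 1689) (.node (.node (.node (.node .nil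
  (nat_lit 2329) (nat_lit 21796) (nat_lit 509) .nil) (nat_lit 2330) (nat_lit 13153) (nat_lit 3399) .nil)
  (nat_lit 2331) (nat_lit 10481) (nat_lit 1130) (.node .nil (nat_lit 2340) (nat_lit 18065) (nat_lit 1119)
  .nil)) (nat_lit 2341) (nat_lit 19586) (nat_lit 1711) (.node (.node (.node .nil (nat_lit 2342) (nat_lit
  17540) (nat_lit 765) .nil) (nat_lit 2343) (nat_lit 19154) (nat_lit 1696) .nil) (nat_lit 2348) (nat_lit
  15666) (nat_lit 1710) (.node .nil (nat_lit 2350) (nat_lit 20563) (nat_lit 507) .nil)))))) (nat_lit 2356)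
  (nat_lit 4899) (nat_lit 1595) (.node (.node (.node (.node (.node (.node (.node .nil (nat_lit 2357) (nat_lit
  16483) (nat_lit 2427) .nil) (nat_lit 2358) (nat_lit 9795) (nat_lit 3323) .nil) (nat_lit 2359) (nat_lit 628)
  (nat_lit 957) (.node (.node .nil (nat_lit 2365) (nat_lit 20898) (nat_lit 1718) .nil) (nat_lit 2367) (nat_lit
  13187) (nat_lit 2491) .nil)) (nat_lit 2370) (nat_lit 17220) (nat_lit 2617) (.node (.node (.node .nil
  (nat_lit 2373) (nat_lit 11760) (nat_lit 3727) .nil) (nat_lit 2375) (nat_lit 2083) (nat_lit 2744) .nil)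
  (nat_lit 2376) (nat_lit 6084) (nat_lit 185) (.node .nil (nat_lit 2378) (nat_lit 20035) (nat_lit 248) .nil)))
  (nat_lit 2381) (nat_lit 754) (nat_lit 3271) (.node (.node (.node (.node .nil (nat_lit 2384) (nat_lit 21412)
  (nat_lit 1145) .nil) (nat_lit 2389) (nat_lit 18017) (nat_lit 2059) .nil) (nat_lit 2391) (nat_lit 18337)
  (nat_lit 3901) (.node (.node .nil (nat_lit 2392) (nat_lit 4353) (nat_lit 1858) .nil) (nat_lit 2394) (nat_lit
  14179) (nat_lit 2040) .nil)) (nat_lit 2399) (nat_lit 13857) (nat_lit 1185) (.node (.node (.node .nil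
  (nat_lit 2403) (nat_lit 2899) (nat_lit 3000) .nil) (nat_lit 2404) (nat_lit 4739) (nat_lit 312) .nil)
  (nat_lit 2406) (nat_lit 15028) (nat_lit 761) (.node .nil (nat_lit 2409) (nat_lit 12769) (nat_lit 1573)
  .nil)))) (nat_lit 2411) (nat_lit 12674) (nat_lit 3309) (.node (.node (.node (.node (.node .nil (nat_lit
  2412) (nat_lit 20468) (nat_lit 2169) .nil) (nat_lit 2417) (nat_lit 9778) (nat_lit 3323) .nil) (nat_lit 2420)
  (nat_lit 1634) (nat_lit 3319) (.node (.node .nil (nat_lit 2422) (nat_lit 8897) (nat_lit 2709) .nil) (nat_lit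
  2425) (nat_lit 16899) (nat_lit 3192) .nil)) (nat_lit 2427) (nat_lit 10418) (nat_lit 3327) (.node (.node
  (.node .nil (nat_lit 2430) (nat_lit 7667) (nat_lit 1784) .nil) (nat_lit 2433) (nat_lit 1057) (nat_lit 2605)
  .nil) (nat_lit 2438) (nat_lit 1347) (nat_lit 1529) (.node .nil (nat_lit 2439) (nat_lit 13076) (nat_lit 3957)
  .nil))) (nat_lit 2440) (nat_lit 1138) (nat_lit 2315) (.node (.node (.node (.node .nil (nat_lit 2441)
  (nat_lit 14067) (nat_lit 1401) .nil) (nat_lit 2447) (nat_lit 6067) (nat_lit 185) .nil) (nat_lit 2448)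
  (nat_lit 18931) (nat_lit 1849) (.node (.node .nil (nat_lit 2449) (nat_lit 13777) (nat_lit 3810) .nil)
  (nat_lit 2454) (nat_lit 13172) (nat_lit 3637) .nil)) (nat_lit 2456) (nat_lit 13937) (nat_lit 3155) (.node
  (.node (.node .nil (nat_lit 2462) (nat_lit 7170) (nat_lit 2320) .nil) (nat_lit 2463) (nat_lit 2785) (nat_lit
  4016) .nil) (nat_lit 2466) (nat_lit 14500) (nat_lit 693) (.node .nil (nat_lit 2467) (nat_lit 19315) (nat_lit
  3001) .nil))))) (nat_lit 2468) (nat_lit 21652) (nat_lit 2293) (.node (.node (.node (.node (.node (.node .nil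
  (nat_lit 2474) (nat_lit 19139) (nat_lit 3833) .nil) (nat_lit 2476) (nat_lit 20659) (nat_lit 2873) .nil)
  (nat_lit 2477) (nat_lit 12164) (nat_lit 3445) (.node (.node .nil (nat_lit 2483) (nat_lit 2243) (nat_lit
  3257) .nil) (nat_lit 2484) (nat_lit 1604) (nat_lit 3253) .nil)) (nat_lit 2485) (nat_lit 19233) (nat_lit
  3999) (.node (.node (.node .nil (nat_lit 2490) (nat_lit 19427) (nat_lit 2553) .nil) (nat_lit 2491) (nat_lit
  7393) (nat_lit 3789) .nil) (nat_lit 2493) (nat_lit 15938) (nat_lit 2358) (.node .nil (nat_lit 2499) (nat_lit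
  97) (nat_lit 40) .nil))) (nat_lit 2501) (nat_lit 835) (nat_lit 122) (.node (.node (.node (.node .nil
  (nat_lit 2502) (nat_lit 12418) (nat_lit 841) .nil) (nat_lit 2504) (nat_lit 17364) (nat_lit 177) .nil)
  (nat_lit 2509) (nat_lit 19986) (nat_lit 839) (.node (.node .nil (nat_lit 2510) (nat_lit 7457) (nat_lit 3937)
  .nil) (nat_lit 2512) (nat_lit 18115) (nat_lit 1850) .nil)) (nat_lit 2515) (nat_lit 4884) (nat_lit 2929)
  (.node (.node (.node .nil (nat_lit 2518) (nat_lit 14130) (nat_lit 859) .nil) (nat_lit 2520) (nat_lit 15812)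
  (nat_lit 1265) .nil) (nat_lit 2523) (nat_lit 16820) (nat_lit 3057) (.node .nil (nat_lit 2525) (nat_lit
  21729) (nat_lit 1461) .nil)))) (nat_lit 2529) (nat_lit 21810) (nat_lit 873) (.node (.node (.node (.node
  (.node .nil (nat_lit 2532) (nat_lit 19619) (nat_lit 314) .nil) (nat_lit 2535) (nat_lit 9204) (nat_lit 2033)
  .nil) (nat_lit 2538) (nat_lit 10899) (nat_lit 3834) (.node (.node .nil (nat_lit 2540) (nat_lit 20817)
  (nat_lit 1234) .nil) (nat_lit 2543) (nat_lit 14403) (nat_lit 3770) .nil)) (nat_lit 2545) (nat_lit 19219)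
  (nat_lit 1658) (.node (.node (.node .nil (nat_lit 2546) (nat_lit 964) (nat_lit 1777) .nil) (nat_lit 2548)
  (nat_lit 5348) (nat_lit 3249) .nil) (nat_lit 2553) (nat_lit 14003) (nat_lit 3194) (.node .nil (nat_lit 2554)
  (nat_lit 7844) (nat_lit 1649) .nil))) (nat_lit 2559) (nat_lit 4049) (nat_lit 3590) (.node (.node (.node
  (.node .nil (nat_lit 2561) (nat_lit 17586) (nat_lit 4042) .nil) (nat_lit 2563) (nat_lit 20993) (nat_lit
  3608) .nil) (nat_lit 2564) (nat_lit 19889) (nat_lit 3579) (.node .nil (nat_lit 2565) (nat_lit 16081)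
  (nat_lit 1238) .nil)) (nat_lit 2566) (nat_lit 20577) (nat_lit 2765) (.node (.node (.node .nil (nat_lit 2567)
  (nat_lit 19745) (nat_lit 992) .nil) (nat_lit 2576) (nat_lit 3108) (nat_lit 1090) .nil) (nat_lit 2578)
  (nat_lit 164) (nat_lit 3650) (.node .nil (nat_lit 2580) (nat_lit 6450) (nat_lit 4052) .nil)))))))
def tv2_5 : T := (.node (.node (.node (.node (.node (.node (.node (.node .nil (nat_lit 2582) (nat_lit 9571)
  (nat_lit 718) .nil) (nat_lit 2583) (nat_lit 2290) (nat_lit 4049) .nil) (nat_lit 2600) (nat_lit 18289)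
  (nat_lit 1818) (.node (.node .nil (nat_lit 2601) (nat_lit 13603) (nat_lit 2894) .nil) (nat_lit 2602)
  (nat_lit 14385) (nat_lit 44) .nil)) (nat_lit 2603) (nat_lit 11074) (nat_lit 4077) (.node (.node (.node .nil
  (nat_lit 2605) (nat_lit 387) (nat_lit 1102) .nil) (nat_lit 2607) (nat_lit 2947) (nat_lit 3726) .nil)
  (nat_lit 2616) (nat_lit 10882) (nat_lit 4090) (.node .nil (nat_lit 2617) (nat_lit 11235) (nat_lit 3150)
  .nil))) (nat_lit 2618) (nat_lit 13251) (nat_lit 2510) (.node (.node (.node (.node .nil (nat_lit 2619)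
  (nat_lit 5922) (nat_lit 4095) .nil) (nat_lit 2620) (nat_lit 14657) (nat_lit 3629) .nil) (nat_lit 2622)
  (nat_lit 5650) (nat_lit 4083) (.node (.node .nil (nat_lit 2626) (nat_lit 20611) (nat_lit 2765) .nil)
  (nat_lit 2628) (nat_lit 18562) (nat_lit 1414) .nil)) (nat_lit 2630) (nat_lit 19873) (nat_lit 2046) (.node
  (.node (.node .nil (nat_lit 2633) (nat_lit 18596) (nat_lit 1414) .nil) (nat_lit 2635) (nat_lit 21010)
  (nat_lit 1422) .nil) (nat_lit 2639) (nat_lit 21284) (nat_lit 4038) (.node .nil (nat_lit 2640) (nat_lit 2035)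
  (nat_lit 1805) .nil)))) (nat_lit 2644) (nat_lit 15281) (nat_lit 1031) (.node (.node (.node (.node (.node
  .nil (nat_lit 2646) (nat_lit 2848) (nat_lit 4029) .nil) (nat_lit 2649) (nat_lit 3778) (nat_lit 1427) .nil)
  (nat_lit 2651) (nat_lit 10964) (nat_lit 3014) (.node (.node .nil (nat_lit 2653) (nat_lit 9091) (nat_lit
  3405) .nil) (nat_lit 2659) (nat_lit 16177) (nat_lit 4014) .nil)) (nat_lit 2661) (nat_lit 12483) (nat_lit
  3661) (.node (.node (.node .nil (nat_lit 2663) (nat_lit 1489) (nat_lit 598) .nil) (nat_lit 2664) (nat_lit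
  12852) (nat_lit 2054) .nil) (nat_lit 2666) (nat_lit 7411) (nat_lit 3789) (.node .nil (nat_lit 2670) (nat_lit
  6436) (nat_lit 582) .nil))) (nat_lit 2673) (nat_lit 18324) (nat_lit 2502) (.node (.node (.node (.node .nil
  (nat_lit 2677) (nat_lit 1939) (nat_lit 2381) .nil) (nat_lit 2679) (nat_lit 9299) (nat_lit 909) .nil)
  (nat_lit 2680) (nat_lit 4818) (nat_lit 1466) (.node (.node .nil (nat_lit 2682) (nat_lit 21712) (nat_lit
  4005) .nil) (nat_lit 2684) (nat_lit 17092) (nat_lit 3078) .nil)) (nat_lit 2689) (nat_lit 20883) (nat_lit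
  3916) (.node (.node (.node .nil (nat_lit 2692) (nat_lit 18369) (nat_lit 3033) .nil) (nat_lit 2698) (nat_lit
  18083) (nat_lit 204) .nil) (nat_lit 2699) (nat_lit 19841) (nat_lit 934) (.node .nil (nat_lit 2702) (nat_lit
  16705) (nat_lit 1907) .nil))))) (nat_lit 2703) (nat_lit 17569) (nat_lit 3678) (.node (.node (.node (.node
  (.node (.node .nil (nat_lit 2704) (nat_lit 14963) (nat_lit 1804) .nil) (nat_lit 2705) (nat_lit 5617)
  (nat_lit 3011) .nil) (nat_lit 2708) (nat_lit 21520) (nat_lit 4092) (.node (.node .nil (nat_lit 2709)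
  (nat_lit 4499) (nat_lit 1868) .nil) (nat_lit 2714) (nat_lit 11875) (nat_lit 1996) .nil)) (nat_lit 2719)
  (nat_lit 10833) (nat_lit 2705) (.node (.node (.node .nil (nat_lit 2722) (nat_lit 1841) (nat_lit 3474) .nil)
  (nat_lit 2723) (nat_lit 3168) (nat_lit 4050) .nil) (nat_lit 2726) (nat_lit 2480) (nat_lit 4061) (.node .nil
  (nat_lit 2727) (nat_lit 4657) (nat_lit 2375) .nil))) (nat_lit 2728) (nat_lit 4705) (nat_lit 312) (.node
  (.node (.node (.node .nil (nat_lit 2733) (nat_lit 15009) (nat_lit 1517) .nil) (nat_lit 2739) (nat_lit 14194)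
  (nat_lit 116) .nil) (nat_lit 2742) (nat_lit 8817) (nat_lit 1189) (.node (.node .nil (nat_lit 2744) (nat_lit
  818) (nat_lit 122) .nil) (nat_lit 2745) (nat_lit 19458) (nat_lit 112) .nil)) (nat_lit 2748) (nat_lit 17633)
  (nat_lit 2063) (.node (.node (.node .nil (nat_lit 2749) (nat_lit 3313) (nat_lit 290) .nil) (nat_lit 2755)
  (nat_lit 20946) (nat_lit 2565) .nil) (nat_lit 2756) (nat_lit 19665) (nat_lit 1770) (.node .nil (nat_lit
  2759) (nat_lit 21683) (nat_lit 2703) .nil)))) (nat_lit 2761) (nat_lit 21028) (nat_lit 1422) (.node (.node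
  (.node (.node (.node .nil (nat_lit 2762) (nat_lit 21220) (nat_lit 2702) .nil) (nat_lit 2765) (nat_lit 15713)
  (nat_lit 1115) .nil) (nat_lit 2768) (nat_lit 404) (nat_lit 1102) (.node (.node .nil (nat_lit 2771) (nat_lit
  5042) (nat_lit 2583) .nil) (nat_lit 2772) (nat_lit 11922) (nat_lit 2580) .nil)) (nat_lit 2778) (nat_lit
  7985) (nat_lit 887) (.node (.node (.node .nil (nat_lit 2781) (nat_lit 10178) (nat_lit 2581) .nil) (nat_lit
  2782) (nat_lit 2964) (nat_lit 3726) .nil) (nat_lit 2785) (nat_lit 5124) (nat_lit 3470) (.node .nil (nat_lit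
  2789) (nat_lit 1267) (nat_lit 3663) .nil))) (nat_lit 2790) (nat_lit 7329) (nat_lit 3417) (.node (.node
  (.node (.node .nil (nat_lit 2792) (nat_lit 12004) (nat_lit 2062) .nil) (nat_lit 2795) (nat_lit 1011)
  (nat_lit 399) .nil) (nat_lit 2799) (nat_lit 11748) (nat_lit 1870) (.node .nil (nat_lit 2801) (nat_lit 4321)
  (nat_lit 2677) .nil)) (nat_lit 2802) (nat_lit 1409) (nat_lit 1134) (.node (.node (.node .nil (nat_lit 2806)
  (nat_lit 7380) (nat_lit 1678) .nil) (nat_lit 2808) (nat_lit 11252) (nat_lit 3150) .nil) (nat_lit 2812)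
  (nat_lit 17155) (nat_lit 3087) (.node .nil (nat_lit 2815) (nat_lit 11363) (nat_lit 2447) .nil)))))) (nat_lit
  2816) (nat_lit 6673) (nat_lit 2576) (.node (.node (.node (.node (.node (.node (.node .nil (nat_lit 2817)
  (nat_lit 7491) (nat_lit 3937) .nil) (nat_lit 2818) (nat_lit 5076) (nat_lit 2583) .nil) (nat_lit 2819)
  (nat_lit 13393) (nat_lit 1035) (.node (.node .nil (nat_lit 2844) (nat_lit 17265) (nat_lit 2235) .nil)
  (nat_lit 2845) (nat_lit 12065) (nat_lit 406) .nil)) (nat_lit 2846) (nat_lit 5555) (nat_lit 2273) (.node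
  (.node (.node .nil (nat_lit 2847) (nat_lit 4931) (nat_lit 1953) .nil) (nat_lit 2852) (nat_lit 1828) (nat_lit
  2263) .nil) (nat_lit 2853) (nat_lit 4292) (nat_lit 3543) (.node .nil (nat_lit 2854) (nat_lit 8003) (nat_lit
  3041) .nil))) (nat_lit 2855) (nat_lit 13875) (nat_lit 1185) (.node (.node (.node (.node .nil (nat_lit 2872)
  (nat_lit 18305) (nat_lit 2502) .nil) (nat_lit 2873) (nat_lit 15763) (nat_lit 3169) .nil) (nat_lit 2874)
  (nat_lit 20848) (nat_lit 3365) (.node (.node .nil (nat_lit 2875) (nat_lit 12369) (nat_lit 2013) .nil)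
  (nat_lit 2880) (nat_lit 12306) (nat_lit 2816) .nil)) (nat_lit 2887) (nat_lit 4211) (nat_lit 2722) (.node
  (.node (.node .nil (nat_lit 2889) (nat_lit 3812) (nat_lit 1427) .nil) (nat_lit 2894) (nat_lit 7809) (nat_lit
  1649) .nil) (nat_lit 2898) (nat_lit 16723) (nat_lit 3554) (.node .nil (nat_lit 2901) (nat_lit 9859) (nat_lit
  1890) .nil)))) (nat_lit 2907) (nat_lit 20113) (nat_lit 1643) (.node (.node (.node (.node (.node .nil
  (nat_lit 2908) (nat_lit 9730) (nat_lit 2847) .nil) (nat_lit 2915) (nat_lit 1683) (nat_lit 2978) .nil)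
  (nat_lit 2916) (nat_lit 3331) (nat_lit 290) (.node (.node .nil (nat_lit 2922) (nat_lit 13795) (nat_lit 3810)
  .nil) (nat_lit 2925) (nat_lit 1361) (nat_lit 1263) .nil)) (nat_lit 2929) (nat_lit 2177) (nat_lit 1604)
  (.node (.node (.node .nil (nat_lit 2934) (nat_lit 11777) (nat_lit 1447) .nil) (nat_lit 2936) (nat_lit 10752)
  (nat_lit 3492) .nil) (nat_lit 2943) (nat_lit 19796) (nat_lit 787) (.node .nil (nat_lit 2945) (nat_lit 5427)
  (nat_lit 3939) .nil))) (nat_lit 2951) (nat_lit 2273) (nat_lit 4049) (.node (.node (.node (.node .nil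
  (nat_lit 2954) (nat_lit 8178) (nat_lit 3780) .nil) (nat_lit 2955) (nat_lit 19043) (nat_lit 4003) .nil)
  (nat_lit 2956) (nat_lit 1296) (nat_lit 3528) (.node .nil (nat_lit 2957) (nat_lit 15122) (nat_lit 3783)
  .nil)) (nat_lit 2960) (nat_lit 17827) (nat_lit 1827) (.node (.node (.node .nil (nat_lit 2961) (nat_lit
  18451) (nat_lit 2147) .nil) (nat_lit 2966) (nat_lit 11553) (nat_lit 563) .nil) (nat_lit 2967) (nat_lit 6819)
  (nat_lit 3491) (.node .nil (nat_lit 2971) (nat_lit 21603) (nat_lit 2211) .nil))))) (nat_lit 2973) (nat_lit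
  10803) (nat_lit 3427) (.node (.node (.node (.node (.node (.node .nil (nat_lit 2978) (nat_lit 641) (nat_lit
  1921) .nil) (nat_lit 2979) (nat_lit 3441) (nat_lit 3756) .nil) (nat_lit 2980) (nat_lit 5860) (nat_lit 2271)
  (.node (.node .nil (nat_lit 2981) (nat_lit 13009) (nat_lit 1122) .nil) (nat_lit 2985) (nat_lit 3955)
  (nat_lit 2915) .nil)) (nat_lit 2991) (nat_lit 14643) (nat_lit 3747) (.node (.node (.node .nil (nat_lit 2995)
  (nat_lit 14514) (nat_lit 3828) .nil) (nat_lit 2997) (nat_lit 6036) (nat_lit 2463) .nil) (nat_lit 3000)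
  (nat_lit 1185) (nat_lit 4068) (.node .nil (nat_lit 3001) (nat_lit 13825) (nat_lit 1737) .nil))) (nat_lit
  3006) (nat_lit 14226) (nat_lit 3827) (.node (.node (.node (.node .nil (nat_lit 3007) (nat_lit 19122)
  (nat_lit 3833) .nil) (nat_lit 3011) (nat_lit 2624) (nat_lit 3394) .nil) (nat_lit 3013) (nat_lit 15331)
  (nat_lit 96) (.node (.node .nil (nat_lit 3014) (nat_lit 5715) (nat_lit 1504) .nil) (nat_lit 3017) (nat_lit
  2337) (nat_lit 944) .nil)) (nat_lit 3020) (nat_lit 8961) (nat_lit 1893) (.node (.node (.node .nil (nat_lit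
  3023) (nat_lit 13489) (nat_lit 2430) .nil) (nat_lit 3024) (nat_lit 7923) (nat_lit 1824) .nil) (nat_lit 3027)
  (nat_lit 18193) (nat_lit 3029) (.node .nil (nat_lit 3029) (nat_lit 12177) (nat_lit 283) .nil)))) (nat_lit
  3033) (nat_lit 12531) (nat_lit 608) (.node (.node (.node (.node (.node .nil (nat_lit 3034) (nat_lit 9425)
  (nat_lit 2404) .nil) (nat_lit 3039) (nat_lit 21554) (nat_lit 1178) .nil) (nat_lit 3041) (nat_lit 3905)
  (nat_lit 1193) (.node (.node .nil (nat_lit 3044) (nat_lit 8834) (nat_lit 1189) .nil) (nat_lit 3047) (nat_lit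
  11282) (nat_lit 1184) .nil)) (nat_lit 3051) (nat_lit 11044) (nat_lit 1819) (.node (.node (.node .nil
  (nat_lit 3053) (nat_lit 14930) (nat_lit 1188) .nil) (nat_lit 3054) (nat_lit 7312) (nat_lit 3417) .nil)
  (nat_lit 3057) (nat_lit 10769) (nat_lit 102) (.node .nil (nat_lit 3058) (nat_lit 15188) (nat_lit 1755)
  .nil))) (nat_lit 3063) (nat_lit 8658) (nat_lit 1202) (.node (.node (.node (.node .nil (nat_lit 3064)
  (nat_lit 9140) (nat_lit 3163) .nil) (nat_lit 3067) (nat_lit 12096) (nat_lit 3430) .nil) (nat_lit 3069)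
  (nat_lit 6178) (nat_lit 1206) (.node .nil (nat_lit 3072) (nat_lit 192) (nat_lit 1024) .nil)) (nat_lit 3073)
  (nat_lit 22050) (nat_lit 3082) (.node (.node (.node .nil (nat_lit 3074) (nat_lit 17138) (nat_lit 3087) .nil)
  (nat_lit 3075) (nat_lit 17968) (nat_lit 1026) .nil) (nat_lit 3076) (nat_lit 17058) (nat_lit 3078) (.node
  .nil (nat_lit 3077) (nat_lit 12016) (nat_lit 1039) .nil)))))))
def tv2_6 : T := (.node (.node (.node (.node (.node (.node (.node (.node .nil (nat_lit 3079) (nat_lit 21121)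
  (nat_lit 1728) .nil) (nat_lit 3080) (nat_lit 19955) (nat_lit 2620) .nil) (nat_lit 3081) (nat_lit 14099)
  (nat_lit 1404) (.node (.node .nil (nat_lit 3082) (nat_lit 19473) (nat_lit 2441) .nil) (nat_lit 3083)
  (nat_lit 18003) (nat_lit 4028) .nil)) (nat_lit 3084) (nat_lit 19074) (nat_lit 3085) (.node (.node (.node
  .nil (nat_lit 3085) (nat_lit 13201) (nat_lit 2666) .nil) (nat_lit 3086) (nat_lit 21506) (nat_lit 3074) .nil)
  (nat_lit 3087) (nat_lit 11105) (nat_lit 3420) (.node .nil (nat_lit 3138) (nat_lit 5890) (nat_lit 1615)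
  .nil))) (nat_lit 3140) (nat_lit 19347) (nat_lit 3903) (.node (.node (.node (.node .nil (nat_lit 3142)
  (nat_lit 5490) (nat_lit 1609) .nil) (nat_lit 3146) (nat_lit 2100) (nat_lit 2744) .nil) (nat_lit 3148)
  (nat_lit 18769) (nat_lit 3700) (.node (.node .nil (nat_lit 3150) (nat_lit 5939) (nat_lit 4095) .nil)
  (nat_lit 3155) (nat_lit 8145) (nat_lit 708) .nil)) (nat_lit 3157) (nat_lit 4756) (nat_lit 312) (.node (.node
  (.node .nil (nat_lit 3159) (nat_lit 19505) (nat_lit 3900) .nil) (nat_lit 3163) (nat_lit 4610) (nat_lit 1628)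
  .nil) (nat_lit 3165) (nat_lit 18898) (nat_lit 1621) (.node .nil (nat_lit 3167) (nat_lit 2916) (nat_lit 3000)
  .nil)))) (nat_lit 3169) (nat_lit 9650) (nat_lit 1641) (.node (.node (.node (.node (.node .nil (nat_lit 3171)
  (nat_lit 21201) (nat_lit 2702) .nil) (nat_lit 3175) (nat_lit 12224) (nat_lit 1182) .nil) (nat_lit 3177)
  (nat_lit 20674) (nat_lit 1634) (.node (.node .nil (nat_lit 3179) (nat_lit 20065) (nat_lit 274) .nil)
  (nat_lit 3183) (nat_lit 20130) (nat_lit 1643) .nil)) (nat_lit 3184) (nat_lit 7826) (nat_lit 1649) (.node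
  (.node (.node .nil (nat_lit 3186) (nat_lit 2386) (nat_lit 1662) .nil) (nat_lit 3190) (nat_lit 10435)
  (nat_lit 3327) .nil) (nat_lit 3192) (nat_lit 10929) (nat_lit 3014) (.node .nil (nat_lit 3194) (nat_lit 8163)
  (nat_lit 2559) .nil))) (nat_lit 3198) (nat_lit 306) (nat_lit 1651) (.node (.node (.node (.node .nil (nat_lit
  3200) (nat_lit 16336) (nat_lit 1216) .nil) (nat_lit 3204) (nat_lit 12272) (nat_lit 1228) .nil) (nat_lit
  3208) (nat_lit 5745) (nat_lit 2205) (.node (.node .nil (nat_lit 3212) (nat_lit 9282) (nat_lit 909) .nil)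
  (nat_lit 3218) (nat_lit 6915) (nat_lit 3582) .nil)) (nat_lit 3222) (nat_lit 15553) (nat_lit 3328) (.node
  (.node (.node .nil (nat_lit 3226) (nat_lit 7009) (nat_lit 2916) .nil) (nat_lit 3230) (nat_lit 5476) (nat_lit
  3764) .nil) (nat_lit 3235) (nat_lit 19635) (nat_lit 3006) (.node .nil (nat_lit 3239) (nat_lit 18209)
  (nat_lit 3175) .nil))))) (nat_lit 3243) (nat_lit 14291) (nat_lit 446) (.node (.node (.node (.node (.node
  (.node .nil (nat_lit 3247) (nat_lit 17409) (nat_lit 2043) .nil) (nat_lit 3249) (nat_lit 2403) (nat_lit 1662)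
  .nil) (nat_lit 3253) (nat_lit 594) (nat_lit 957) (.node (.node .nil (nat_lit 3257) (nat_lit 883) (nat_lit
  3198) .nil) (nat_lit 3261) (nat_lit 3874) (nat_lit 950) .nil)) (nat_lit 3267) (nat_lit 2130) (nat_lit 2501)
  (.node (.node (.node .nil (nat_lit 3268) (nat_lit 17616) (nat_lit 1100) .nil) (nat_lit 3271) (nat_lit 258)
  (nat_lit 2499) .nil) (nat_lit 3275) (nat_lit 2836) (nat_lit 4016) (.node .nil (nat_lit 3276) (nat_lit 13361)
  (nat_lit 2134) .nil))) (nat_lit 3279) (nat_lit 17348) (nat_lit 4080) (.node (.node (.node (.node .nil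
  (nat_lit 3281) (nat_lit 18673) (nat_lit 976) .nil) (nat_lit 3282) (nat_lit 17681) (nat_lit 3531) .nil)
  (nat_lit 3286) (nat_lit 12976) (nat_lit 1149) (.node (.node .nil (nat_lit 3289) (nat_lit 9620) (nat_lit 496)
  .nil) (nat_lit 3290) (nat_lit 19554) (nat_lit 2518) .nil)) (nat_lit 3294) (nat_lit 19921) (nat_lit 2991)
  (.node (.node (.node .nil (nat_lit 3298) (nat_lit 21107) (nat_lit 1277) .nil) (nat_lit 3301) (nat_lit 15363)
  (nat_lit 3709) .nil) (nat_lit 3302) (nat_lit 11507) (nat_lit 3069) (.node .nil (nat_lit 3306) (nat_lit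
  15060) (nat_lit 560) .nil)))) (nat_lit 3309) (nat_lit 6881) (nat_lit 3582) (.node (.node (.node (.node
  (.node .nil (nat_lit 3310) (nat_lit 21779) (nat_lit 509) .nil) (nat_lit 3312) (nat_lit 17185) (nat_lit 1656)
  .nil) (nat_lit 3315) (nat_lit 7971) (nat_lit 3261) (.node (.node .nil (nat_lit 3319) (nat_lit 611) (nat_lit
  957) .nil) (nat_lit 3320) (nat_lit 8209) (nat_lit 3556) .nil)) (nat_lit 3323) (nat_lit 4945) (nat_lit 1023)
  (.node (.node (.node .nil (nat_lit 3327) (nat_lit 5377) (nat_lit 3591) .nil) (nat_lit 3328) (nat_lit 9521)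
  (nat_lit 3888) .nil) (nat_lit 3329) (nat_lit 8420) (nat_lit 1321) (.node .nil (nat_lit 3330) (nat_lit 10003)
  (nat_lit 2771) .nil))) (nat_lit 3331) (nat_lit 3795) (nat_lit 1427) (.node (.node (.node (.node .nil
  (nat_lit 3356) (nat_lit 2256) (nat_lit 1592) .nil) (nat_lit 3357) (nat_lit 4163) (nat_lit 3411) .nil)
  (nat_lit 3358) (nat_lit 8531) (nat_lit 2259) (.node .nil (nat_lit 3359) (nat_lit 5360) (nat_lit 1594) .nil))
  (nat_lit 3364) (nat_lit 12465) (nat_lit 3661) (.node (.node (.node .nil (nat_lit 3365) (nat_lit 16004)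
  (nat_lit 3561) .nil) (nat_lit 3366) (nat_lit 9988) (nat_lit 745) .nil) (nat_lit 3367) (nat_lit 18435)
  (nat_lit 1171) (.node .nil (nat_lit 3384) (nat_lit 17393) (nat_lit 3302) .nil)))))) (nat_lit 3385) (nat_lit
  13971) (nat_lit 3155) (.node (.node (.node (.node (.node (.node (.node .nil (nat_lit 3386) (nat_lit 9684)
  (nat_lit 1641) .nil) (nat_lit 3387) (nat_lit 17505) (nat_lit 765) .nil) (nat_lit 3394) (nat_lit 1092)
  (nat_lit 2605) (.node (.node .nil (nat_lit 3399) (nat_lit 7345) (nat_lit 480) .nil) (nat_lit 3400) (nat_lit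
  6001) (nat_lit 2463) .nil)) (nat_lit 3402) (nat_lit 11683) (nat_lit 208) (.node (.node (.node .nil (nat_lit
  3405) (nat_lit 4563) (nat_lit 2640) .nil) (nat_lit 3407) (nat_lit 11092) (nat_lit 4077) .nil) (nat_lit 3411)
  (nat_lit 1793) (nat_lit 2263) (.node .nil (nat_lit 3414) (nat_lit 14692) (nat_lit 3629) .nil))) (nat_lit
  3417) (nat_lit 3524) (nat_lit 493) (.node (.node (.node (.node .nil (nat_lit 3419) (nat_lit 11394) (nat_lit
  2268) .nil) (nat_lit 3420) (nat_lit 5826) (nat_lit 2271) .nil) (nat_lit 3422) (nat_lit 11121) (nat_lit 1950)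
  (.node (.node .nil (nat_lit 3425) (nat_lit 11844) (nat_lit 3501) .nil) (nat_lit 3427) (nat_lit 5601)
  (nat_lit 157) .nil)) (nat_lit 3428) (nat_lit 7617) (nat_lit 894) (.node (.node (.node .nil (nat_lit 3430)
  (nat_lit 6548) (nat_lit 749) .nil) (nat_lit 3435) (nat_lit 13265) (nat_lit 2817) .nil) (nat_lit 3438)
  (nat_lit 5538) (nat_lit 2273) (.node .nil (nat_lit 3440) (nat_lit 7187) (nat_lit 2320) .nil)))) (nat_lit
  3442) (nat_lit 18691) (nat_lit 976) (.node (.node (.node (.node (.node .nil (nat_lit 3445) (nat_lit 6561)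
  (nat_lit 3740) .nil) (nat_lit 3447) (nat_lit 6851) (nat_lit 912) .nil) (nat_lit 3450) (nat_lit 21634)
  (nat_lit 2293) (.node (.node .nil (nat_lit 3455) (nat_lit 15508) (nat_lit 813) .nil) (nat_lit 3456) (nat_lit
  15570) (nat_lit 3328) .nil)) (nat_lit 3463) (nat_lit 7072) (nat_lit 1742) (.node (.node (.node .nil (nat_lit
  3465) (nat_lit 7089) (nat_lit 2979) .nil) (nat_lit 3470) (nat_lit 2307) (nat_lit 4049) .nil) (nat_lit 3474)
  (nat_lit 707) (nat_lit 3537) (.node .nil (nat_lit 3477) (nat_lit 8371) (nat_lit 1873) .nil))) (nat_lit 3483)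
  (nat_lit 3601) (nat_lit 2138) (.node (.node (.node (.node .nil (nat_lit 3484) (nat_lit 7443) (nat_lit 529)
  .nil) (nat_lit 3491) (nat_lit 3201) (nat_lit 2956) .nil) (nat_lit 3492) (nat_lit 5572) (nat_lit 2273) (.node
  .nil (nat_lit 3498) (nat_lit 21168) (nat_lit 1749) .nil)) (nat_lit 3501) (nat_lit 6353) (nat_lit 2782)
  (.node (.node (.node .nil (nat_lit 3505) (nat_lit 21618) (nat_lit 3387) .nil) (nat_lit 3510) (nat_lit 17425)
  (nat_lit 2966) .nil) (nat_lit 3512) (nat_lit 14451) (nat_lit 785) (.node .nil (nat_lit 3519) (nat_lit 19283)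
  (nat_lit 2449) .nil))))) (nat_lit 3523) (nat_lit 13540) (nat_lit 3877) (.node (.node (.node (.node (.node
  (.node .nil (nat_lit 3525) (nat_lit 4482) (nat_lit 1868) .nil) (nat_lit 3526) (nat_lit 16211) (nat_lit 1490)
  .nil) (nat_lit 3528) (nat_lit 468) (nat_lit 165) (.node (.node .nil (nat_lit 3531) (nat_lit 11730) (nat_lit
  1870) .nil) (nat_lit 3534) (nat_lit 3156) (nat_lit 2789) .nil)) (nat_lit 3537) (nat_lit 241) (nat_lit 2499)
  (.node (.node (.node .nil (nat_lit 3538) (nat_lit 6946) (nat_lit 1885) .nil) (nat_lit 3543) (nat_lit 1859)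
  (nat_lit 3474) .nil) (nat_lit 3546) (nat_lit 10995) (nat_lit 2002) (.node .nil (nat_lit 3548) (nat_lit 8868)
  (nat_lit 1189) .nil))) (nat_lit 3551) (nat_lit 18980) (nat_lit 2981) (.node (.node (.node (.node .nil
  (nat_lit 3554) (nat_lit 10674) (nat_lit 1900) .nil) (nat_lit 3556) (nat_lit 4081) (nat_lit 1372) .nil)
  (nat_lit 3559) (nat_lit 8433) (nat_lit 2887) (.node (.node .nil (nat_lit 3561) (nat_lit 9842) (nat_lit 1890)
  .nil) (nat_lit 3562) (nat_lit 13666) (nat_lit 1895) .nil)) (nat_lit 3567) (nat_lit 8996) (nat_lit 1893)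
  (.node (.node (.node .nil (nat_lit 3568) (nat_lit 16146) (nat_lit 1905) .nil) (nat_lit 3571) (nat_lit 12739)
  (nat_lit 3218) .nil) (nat_lit 3574) (nat_lit 21699) (nat_lit 3282) (.node .nil (nat_lit 3579) (nat_lit
  14595) (nat_lit 1682) .nil)))) (nat_lit 3581) (nat_lit 19441) (nat_lit 802) (.node (.node (.node (.node
  (.node .nil (nat_lit 3582) (nat_lit 3235) (nat_lit 1746) .nil) (nat_lit 3586) (nat_lit 13139) (nat_lit 2790)
  .nil) (nat_lit 3587) (nat_lit 19715) (nat_lit 1446) (.node (.node .nil (nat_lit 3588) (nat_lit 10099)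
  (nat_lit 3878) .nil) (nat_lit 3589) (nat_lit 7636) (nat_lit 1366) .nil)) (nat_lit 3590) (nat_lit 1745)
  (nat_lit 223) (.node (.node (.node .nil (nat_lit 3591) (nat_lit 2449) (nat_lit 2546) .nil) (nat_lit 3608)
  (nat_lit 16100) (nat_lit 1238) .nil) (nat_lit 3609) (nat_lit 21076) (nat_lit 470) (.node .nil (nat_lit 3612)
  (nat_lit 20419) (nat_lit 550) .nil))) (nat_lit 3613) (nat_lit 12084) (nat_lit 406) (.node (.node (.node
  (.node .nil (nat_lit 3614) (nat_lit 13698) (nat_lit 3024) .nil) (nat_lit 3615) (nat_lit 15426) (nat_lit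
  3034) .nil) (nat_lit 3626) (nat_lit 7571) (nat_lit 3814) (.node .nil (nat_lit 3627) (nat_lit 19777) (nat_lit
  787) .nil)) (nat_lit 3628) (nat_lit 13024) (nat_lit 1816) (.node (.node (.node .nil (nat_lit 3629) (nat_lit
  8787) (nat_lit 1126) .nil) (nat_lit 3630) (nat_lit 1472) (nat_lit 1817) .nil) (nat_lit 3631) (nat_lit 15603)
  (nat_lit 3750) (.node .nil (nat_lit 3632) (nat_lit 7521) (nat_lit 603) .nil)))))))
def tv2_7 : T := (.node (.node (.node (.node (.node (.node (.node (.node .nil (nat_lit 3636) (nat_lit 14530)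
  (nat_lit 3063) .nil) (nat_lit 3637) (nat_lit 7361) (nat_lit 1678) .nil) (nat_lit 3638) (nat_lit 13588)
  (nat_lit 1686) (.node (.node .nil (nat_lit 3639) (nat_lit 19859) (nat_lit 934) .nil) (nat_lit 3650) (nat_lit
  33) (nat_lit 20) .nil)) (nat_lit 3652) (nat_lit 13523) (nat_lit 3877) (.node (.node (.node .nil (nat_lit
  3657) (nat_lit 3761) (nat_lit 1427) .nil) (nat_lit 3659) (nat_lit 16834) (nat_lit 398) .nil) (nat_lit 3661)
  (nat_lit 6770) (nat_lit 391) (.node .nil (nat_lit 3663) (nat_lit 451) (nat_lit 165) .nil))) (nat_lit 3667)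
  (nat_lit 17874) (nat_lit 407) (.node (.node (.node (.node .nil (nat_lit 3669) (nat_lit 8979) (nat_lit 1893)
  .nil) (nat_lit 3672) (nat_lit 20836) (nat_lit 1234) .nil) (nat_lit 3674) (nat_lit 10307) (nat_lit 2021)
  (.node (.node .nil (nat_lit 3676) (nat_lit 15971) (nat_lit 549) .nil) (nat_lit 3678) (nat_lit 11632)
  (nat_lit 1977) .nil)) (nat_lit 3681) (nat_lit 1876) (nat_lit 3474) (.node (.node (.node .nil (nat_lit 3683)
  (nat_lit 18963) (nat_lit 2981) .nil) (nat_lit 3685) (nat_lit 12788) (nat_lit 3538) .nil) (nat_lit 3687)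
  (nat_lit 8851) (nat_lit 1189) (.node .nil (nat_lit 3690) (nat_lit 2001) (nat_lit 1805) .nil)))) (nat_lit
  3692) (nat_lit 7282) (nat_lit 430) (.node (.node (.node (.node (.node .nil (nat_lit 3696) (nat_lit 21425)
  (nat_lit 3944) .nil) (nat_lit 3698) (nat_lit 3252) (nat_lit 1746) .nil) (nat_lit 3700) (nat_lit 12756)
  (nat_lit 3218) (.node (.node .nil (nat_lit 3702) (nat_lit 14612) (nat_lit 1682) .nil) (nat_lit 3707)
  (nat_lit 17729) (nat_lit 2799) .nil)) (nat_lit 3709) (nat_lit 9378) (nat_lit 438) (.node (.node (.node .nil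
  (nat_lit 3713) (nat_lit 19187) (nat_lit 3940) .nil) (nat_lit 3716) (nat_lit 9044) (nat_lit 94) .nil)
  (nat_lit 3717) (nat_lit 17203) (nat_lit 100) (.node .nil (nat_lit 3723) (nat_lit 370) (nat_lit 1102) .nil)))
  (nat_lit 3726) (nat_lit 1203) (nat_lit 4068) (.node (.node (.node (.node .nil (nat_lit 3727) (nat_lit 6324)
  (nat_lit 4062) .nil) (nat_lit 3730) (nat_lit 8243) (nat_lit 3556) .nil) (nat_lit 3734) (nat_lit 15730)
  (nat_lit 1115) (.node (.node .nil (nat_lit 3735) (nat_lit 9713) (nat_lit 2847) .nil) (nat_lit 3736) (nat_lit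
  18228) (nat_lit 1246) .nil)) (nat_lit 3740) (nat_lit 3043) (nat_lit 548) (.node (.node (.node .nil (nat_lit
  3741) (nat_lit 13459) (nat_lit 3428) .nil) (nat_lit 3747) (nat_lit 8770) (nat_lit 1126) .nil) (nat_lit 3750)
  (nat_lit 9537) (nat_lit 2680) (.node .nil (nat_lit 3751) (nat_lit 14947) (nat_lit 1188) .nil))))) (nat_lit
  3753) (nat_lit 7027) (nat_lit 2916) (.node (.node (.node (.node (.node (.node .nil (nat_lit 3756) (nat_lit
  1426) (nat_lit 1134) .nil) (nat_lit 3757) (nat_lit 5905) (nat_lit 4095) .nil) (nat_lit 3760) (nat_lit 21393)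
  (nat_lit 1145) (.node (.node .nil (nat_lit 3764) (nat_lit 2529) (nat_lit 2433) .nil) (nat_lit 3765) (nat_lit
  9459) (nat_lit 2404) .nil)) (nat_lit 3770) (nat_lit 8513) (nat_lit 2259) (.node (.node (.node .nil (nat_lit
  3774) (nat_lit 12497) (nat_lit 1323) .nil) (nat_lit 3775) (nat_lit 17041) (nat_lit 3078) .nil) (nat_lit
  3779) (nat_lit 4017) (nat_lit 3867) (.node .nil (nat_lit 3780) (nat_lit 4066) (nat_lit 3590) .nil)))
  (nat_lit 3783) (nat_lit 9235) (nat_lit 2727) (.node (.node (.node (.node .nil (nat_lit 3786) (nat_lit 10915)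
  (nat_lit 231) .nil) (nat_lit 3789) (nat_lit 3587) (nat_lit 2663) .nil) (nat_lit 3790) (nat_lit 13764)
  (nat_lit 2778) (.node (.node .nil (nat_lit 3793) (nat_lit 16688) (nat_lit 1907) .nil) (nat_lit 3794)
  (nat_lit 14323) (nat_lit 3559) .nil)) (nat_lit 3797) (nat_lit 13683) (nat_lit 1895) (.node (.node (.node
  .nil (nat_lit 3800) (nat_lit 21841) (nat_lit 3667) .nil) (nat_lit 3803) (nat_lit 15460) (nat_lit 3034) .nil)
  (nat_lit 3804) (nat_lit 20370) (nat_lit 3615) (.node .nil (nat_lit 3810) (nat_lit 8019) (nat_lit 1255)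
  .nil)))) (nat_lit 3813) (nat_lit 14771) (nat_lit 3687) (.node (.node (.node (.node (.node .nil (nat_lit
  3814) (nat_lit 3681) (nat_lit 1867) .nil) (nat_lit 3819) (nat_lit 14674) (nat_lit 3629) .nil) (nat_lit 3820)
  (nat_lit 3360) (nat_lit 1880) (.node (.node .nil (nat_lit 3823) (nat_lit 18993) (nat_lit 1530) .nil)
  (nat_lit 3824) (nat_lit 21746) (nat_lit 3633) .nil)) (nat_lit 3827) (nat_lit 8353) (nat_lit 1873) (.node
  (.node (.node .nil (nat_lit 3828) (nat_lit 8641) (nat_lit 1202) .nil) (nat_lit 3833) (nat_lit 13330)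
  (nat_lit 3632) .nil) (nat_lit 3834) (nat_lit 5681) (nat_lit 1504) (.node .nil (nat_lit 3837) (nat_lit 11523)
  (nat_lit 871) .nil))) (nat_lit 3842) (nat_lit 18497) (nat_lit 1844) (.node (.node (.node (.node .nil
  (nat_lit 3843) (nat_lit 20162) (nat_lit 1349) .nil) (nat_lit 3852) (nat_lit 21329) (nat_lit 1638) .nil)
  (nat_lit 3853) (nat_lit 21889) (nat_lit 3915) (.node .nil (nat_lit 3854) (nat_lit 16609) (nat_lit 336)
  .nil)) (nat_lit 3855) (nat_lit 20514) (nat_lit 1352) (.node (.node (.node .nil (nat_lit 3860) (nat_lit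
  21089) (nat_lit 2357) .nil) (nat_lit 3861) (nat_lit 10225) (nat_lit 24) .nil) (nat_lit 3862) (nat_lit 18946)
  (nat_lit 1371) (.node .nil (nat_lit 3863) (nat_lit 12258) (nat_lit 1361) .nil)))))) (nat_lit 3866) (nat_lit
  5504) (nat_lit 1333) (.node (.node (.node (.node (.node (.node (.node .nil (nat_lit 3867) (nat_lit 1731)
  (nat_lit 2185) .nil) (nat_lit 3876) (nat_lit 14626) (nat_lit 1381) .nil) (nat_lit 3877) (nat_lit 7683)
  (nat_lit 3657) (.node (.node .nil (nat_lit 3878) (nat_lit 5155) (nat_lit 3017) .nil) (nat_lit 3879) (nat_lit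
  16579) (nat_lit 1161) .nil)) (nat_lit 3880) (nat_lit 11009) (nat_lit 1819) (.node (.node (.node .nil
  (nat_lit 3881) (nat_lit 7796) (nat_lit 3331) .nil) (nat_lit 3888) (nat_lit 4804) (nat_lit 3267) .nil)
  (nat_lit 3889) (nat_lit 292) (nat_lit 2499) (.node .nil (nat_lit 3900) (nat_lit 14082) (nat_lit 1404)
  .nil))) (nat_lit 3901) (nat_lit 12435) (nat_lit 841) (.node (.node (.node (.node .nil (nat_lit 3902)
  (nat_lit 8034) (nat_lit 1395) .nil) (nat_lit 3903) (nat_lit 13841) (nat_lit 55) .nil) (nat_lit 3906)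
  (nat_lit 22097) (nat_lit 2567) (.node (.node .nil (nat_lit 3909) (nat_lit 22081) (nat_lit 2532) .nil)
  (nat_lit 3911) (nat_lit 19697) (nat_lit 3794) .nil)) (nat_lit 3915) (nat_lit 18385) (nat_lit 2230) (.node
  (.node (.node .nil (nat_lit 3916) (nat_lit 16017) (nat_lit 2901) .nil) (nat_lit 3918) (nat_lit 17603)
  (nat_lit 4042) .nil) (nat_lit 3923) (nat_lit 8468) (nat_lit 2887) (.node .nil (nat_lit 3924) (nat_lit 15316)
  (nat_lit 1031) .nil)))) (nat_lit 3926) (nat_lit 3987) (nat_lit 714) (.node (.node (.node (.node (.node .nil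
  (nat_lit 3930) (nat_lit 15140) (nat_lit 3783) .nil) (nat_lit 3933) (nat_lit 5185) (nat_lit 1719) .nil)
  (nat_lit 3935) (nat_lit 4147) (nat_lit 1930) (.node (.node .nil (nat_lit 3937) (nat_lit 3633) (nat_lit 2201)
  .nil) (nat_lit 3939) (nat_lit 2497) (nat_lit 4015) .nil)) (nat_lit 3940) (nat_lit 13506) (nat_lit 3877)
  (.node (.node (.node .nil (nat_lit 3944) (nat_lit 16978) (nat_lit 3880) .nil) (nat_lit 3946) (nat_lit 14417)
  (nat_lit 3358) .nil) (nat_lit 3949) (nat_lit 10128) (nat_lit 1435) (.node .nil (nat_lit 3952) (nat_lit 788)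
  (nat_lit 3271) .nil))) (nat_lit 3954) (nat_lit 13553) (nat_lit 589) (.node (.node (.node (.node .nil
  (nat_lit 3957) (nat_lit 7265) (nat_lit 430) .nil) (nat_lit 3961) (nat_lit 4676) (nat_lit 2375) .nil)
  (nat_lit 3963) (nat_lit 19330) (nat_lit 3903) (.node .nil (nat_lit 3964) (nat_lit 19522) (nat_lit 3900)
  .nil)) (nat_lit 3969) (nat_lit 21923) (nat_lit 3915) (.node (.node (.node .nil (nat_lit 3974) (nat_lit
  20723) (nat_lit 1483) .nil) (nat_lit 3975) (nat_lit 21940) (nat_lit 3915) .nil) (nat_lit 3978) (nat_lit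
  21873) (nat_lit 2698) (.node .nil (nat_lit 3980) (nat_lit 20594) (nat_lit 2765) .nil))))) (nat_lit 3981)
  (nat_lit 18785) (nat_lit 2409) (.node (.node (.node (.node (.node (.node .nil (nat_lit 3986) (nat_lit 11889)
  (nat_lit 1497) .nil) (nat_lit 3988) (nat_lit 13444) (nat_lit 1035) .nil) (nat_lit 3989) (nat_lit 3699)
  (nat_lit 1867) (.node (.node .nil (nat_lit 3993) (nat_lit 9009) (nat_lit 94) .nil) (nat_lit 3998) (nat_lit
  577) (nat_lit 957) .nil)) (nat_lit 3999) (nat_lit 13730) (nat_lit 2778) (.node (.node (.node .nil (nat_lit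
  4003) (nat_lit 13122) (nat_lit 2790) .nil) (nat_lit 4004) (nat_lit 3138) (nat_lit 2789) .nil) (nat_lit 4005)
  (nat_lit 17700) (nat_lit 3531) (.node .nil (nat_lit 4008) (nat_lit 13427) (nat_lit 1035) .nil))) (nat_lit
  4014) (nat_lit 10068) (nat_lit 587) (.node (.node (.node (.node .nil (nat_lit 4015) (nat_lit 1043) (nat_lit
  3723) .nil) (nat_lit 4016) (nat_lit 1155) (nat_lit 2315) .nil) (nat_lit 4022) (nat_lit 6148) (nat_lit 1675)
  (.node (.node .nil (nat_lit 4023) (nat_lit 3394) (nat_lit 2802) .nil) (nat_lit 4027) (nat_lit 6131) (nat_lit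
  1675) .nil)) (nat_lit 4028) (nat_lit 11969) (nat_lit 2062) (.node (.node (.node .nil (nat_lit 4029) (nat_lit
  1172) (nat_lit 2315) .nil) (nat_lit 4035) (nat_lit 21361) (nat_lit 1288) .nil) (nat_lit 4037) (nat_lit
  21265) (nat_lit 4038) (.node .nil (nat_lit 4038) (nat_lit 16737) (nat_lit 477) .nil)))) (nat_lit 4041)
  (nat_lit 19809) (nat_lit 2466) (.node (.node (.node (.node (.node .nil (nat_lit 4042) (nat_lit 11649)
  (nat_lit 1977) .nil) (nat_lit 4044) (nat_lit 12593) (nat_lit 3447) .nil) (nat_lit 4049) (nat_lit 913)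
  (nat_lit 1777) (.node (.node .nil (nat_lit 4050) (nat_lit 1284) (nat_lit 3663) .nil) (nat_lit 4052) (nat_lit
  3009) (nat_lit 548) .nil)) (nat_lit 4059) (nat_lit 16929) (nat_lit 2651) (.node (.node (.node .nil (nat_lit
  4061) (nat_lit 1028) (nat_lit 399) .nil) (nat_lit 4062) (nat_lit 2929) (nat_lit 3726) .nil) (nat_lit 4066)
  (nat_lit 9490) (nat_lit 172) (.node .nil (nat_lit 4068) (nat_lit 434) (nat_lit 165) .nil))) (nat_lit 4071)
  (nat_lit 15090) (nat_lit 160) (.node (.node (.node (.node .nil (nat_lit 4072) (nat_lit 17668) (nat_lit 2063)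
  .nil) (nat_lit 4075) (nat_lit 2595) (nat_lit 392) .nil) (nat_lit 4077) (nat_lit 5809) (nat_lit 2271) (.node
  .nil (nat_lit 4080) (nat_lit 11427) (nat_lit 2312) .nil)) (nat_lit 4083) (nat_lit 2641) (nat_lit 3394)
  (.node (.node (.node .nil (nat_lit 4085) (nat_lit 11380) (nat_lit 2447) .nil) (nat_lit 4090) (nat_lit 5633)
  (nat_lit 4083) .nil) (nat_lit 4092) (nat_lit 17172) (nat_lit 3087) (.node .nil (nat_lit 4095) (nat_lit 2755)
  (nat_lit 2440) .nil)))))))
def tv2 : T := (.node (.node (.node tv2_0 (nat_lit 517) (nat_lit 11264) (nat_lit 783) tv2_1) (nat_lit 1090)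
  (nat_lit 1250) (nat_lit 3663) (.node tv2_2 (nat_lit 1594) (nat_lit 2420) (nat_lit 1662) tv2_3)) (nat_lit
  2059) (nat_lit 11986) (nat_lit 2062) (.node (.node tv2_4 (nat_lit 2581) (nat_lit 5217) (nat_lit 25) tv2_5)
  (nat_lit 3078) (nat_lit 11057) (nat_lit 4077) (.node tv2_6 (nat_lit 3633) (nat_lit 17745) (nat_lit 2934)
  tv2_7)))

def tv3_0 : T := (.node (.node (.node (.node (.node (.node (.node .nil (nat_lit 65) (nat_lit 0) (nat_lit 65)
  .nil) (nat_lit 67) (nat_lit 3297) (nat_lit 808) (.node .nil (nat_lit 69) (nat_lit 7811) (nat_lit 67) .nil))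
  (nat_lit 71) (nat_lit 15362) (nat_lit 2627) (.node (.node .nil (nat_lit 73) (nat_lit 995) (nat_lit 1347)
  .nil) (nat_lit 75) (nat_lit 3892) (nat_lit 3972) (.node .nil (nat_lit 77) (nat_lit 13794) (nat_lit 2631)
  .nil))) (nat_lit 79) (nat_lit 403) (nat_lit 131) (.node (.node (.node .nil (nat_lit 81) (nat_lit 30771)
  (nat_lit 2115) .nil) (nat_lit 83) (nat_lit 10033) (nat_lit 2023) (.node .nil (nat_lit 85) (nat_lit 13252)
  (nat_lit 260) .nil)) (nat_lit 87) (nat_lit 27441) (nat_lit 2591) (.node (.node .nil (nat_lit 89) (nat_lit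
  9907) (nat_lit 579) .nil) (nat_lit 91) (nat_lit 23378) (nat_lit 2652) (.node .nil (nat_lit 93) (nat_lit
  31410) (nat_lit 2645) .nil)))) (nat_lit 95) (nat_lit 4561) (nat_lit 387) (.node (.node (.node (.node .nil
  (nat_lit 97) (nat_lit 28561) (nat_lit 2203) .nil) (nat_lit 99) (nat_lit 25348) (nat_lit 1924) (.node .nil
  (nat_lit 101) (nat_lit 26163) (nat_lit 3651) .nil)) (nat_lit 103) (nat_lit 3540) (nat_lit 1988) (.node
  (.node .nil (nat_lit 105) (nat_lit 11473) (nat_lit 775) .nil) (nat_lit 107) (nat_lit 4595) (nat_lit 387)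
  (.node .nil (nat_lit 109) (nat_lit 19425) (nat_lit 3839) .nil))) (nat_lit 111) (nat_lit 15041) (nat_lit
  2505) (.node (.node (.node .nil (nat_lit 113) (nat_lit 15345) (nat_lit 3156) .nil) (nat_lit 115) (nat_lit
  29299) (nat_lit 3203) (.node .nil (nat_lit 117) (nat_lit 15809) (nat_lit 428) .nil)) (nat_lit 119) (nat_lit
  28242) (nat_lit 2674) (.node (.node .nil (nat_lit 121) (nat_lit 24819) (nat_lit 3139) .nil) (nat_lit 123)
  (nat_lit 25377) (nat_lit 254) (.node .nil (nat_lit 125) (nat_lit 11251) (nat_lit 835) .nil))))) (nat_lit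
  127) (nat_lit 20627) (nat_lit 2435) (.node (.node (.node (.node (.node .nil (nat_lit 130) (nat_lit 1809)
  (nat_lit 276) .nil) (nat_lit 131) (nat_lit 96) (nat_lit 194) (.node .nil (nat_lit 134) (nat_lit 3731)
  (nat_lit 1474) .nil)) (nat_lit 135) (nat_lit 3203) (nat_lit 2690) (.node (.node .nil (nat_lit 138) (nat_lit
  147) (nat_lit 194) .nil) (nat_lit 139) (nat_lit 6978) (nat_lit 3982) (.node .nil (nat_lit 142) (nat_lit
  10530) (nat_lit 3970) .nil))) (nat_lit 143) (nat_lit 4659) (nat_lit 130) (.node (.node (.node .nil (nat_lit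
  146) (nat_lit 25121) (nat_lit 1499) .nil) (nat_lit 147) (nat_lit 25620) (nat_lit 2888) (.node .nil (nat_lit
  150) (nat_lit 14210) (nat_lit 3995) .nil)) (nat_lit 151) (nat_lit 23777) (nat_lit 270) (.node (.node .nil
  (nat_lit 154) (nat_lit 10193) (nat_lit 3655) .nil) (nat_lit 155) (nat_lit 20210) (nat_lit 3996) (.node .nil
  (nat_lit 158) (nat_lit 5232) (nat_lit 249) .nil)))) (nat_lit 159) (nat_lit 21683) (nat_lit 1922) (.node
  (.node (.node (.node .nil (nat_lit 162) (nat_lit 31491) (nat_lit 1218) .nil) (nat_lit 163) (nat_lit 17649)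
  (nat_lit 1212) (.node .nil (nat_lit 166) (nat_lit 20196) (nat_lit 712) .nil)) (nat_lit 167) (nat_lit 19251)
  (nat_lit 1154) (.node (.node .nil (nat_lit 170) (nat_lit 28612) (nat_lit 520) .nil) (nat_lit 171) (nat_lit
  23667) (nat_lit 386) (.node .nil (nat_lit 174) (nat_lit 30196) (nat_lit 584) .nil))) (nat_lit 175) (nat_lit
  11105) (nat_lit 728) (.node (.node (.node .nil (nat_lit 178) (nat_lit 23473) (nat_lit 2398) .nil) (nat_lit
  179) (nat_lit 24419) (nat_lit 3202) (.node .nil (nat_lit 182) (nat_lit 24881) (nat_lit 1190) .nil)) (nat_lit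
  183) (nat_lit 8018) (nat_lit 4018) (.node (.node .nil (nat_lit 186) (nat_lit 14305) (nat_lit 706) .nil)
  (nat_lit 187) (nat_lit 28962) (nat_lit 4031) (.node .nil (nat_lit 190) (nat_lit 24241) (nat_lit 3898)
  .nil)))))) (nat_lit 191) (nat_lit 17268) (nat_lit 776) (.node (.node (.node (.node (.node (.node .nil
  (nat_lit 193) (nat_lit 4385) (nat_lit 572) .nil) (nat_lit 194) (nat_lit 16) (nat_lit 65) (.node .nil
  (nat_lit 197) (nat_lit 67) (nat_lit 65) .nil)) (nat_lit 198) (nat_lit 9778) (nat_lit 1481) (.node (.node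
  .nil (nat_lit 201) (nat_lit 16676) (nat_lit 1420) .nil) (nat_lit 202) (nat_lit 9811) (nat_lit 193) (.node
  .nil (nat_lit 205) (nat_lit 2275) (nat_lit 2625) .nil))) (nat_lit 206) (nat_lit 1635) (nat_lit 4033) (.node
  (.node (.node .nil (nat_lit 209) (nat_lit 32099) (nat_lit 2113) .nil) (nat_lit 210) (nat_lit 10513) (nat_lit
  2280) (.node .nil (nat_lit 213) (nat_lit 25635) (nat_lit 1857) .nil)) (nat_lit 214) (nat_lit 15923) (nat_lit
  705) (.node (.node .nil (nat_lit 217) (nat_lit 27380) (nat_lit 460) .nil) (nat_lit 218) (nat_lit 23617)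
  (nat_lit 884) (.node .nil (nat_lit 221) (nat_lit 25268) (nat_lit 396) .nil)))) (nat_lit 222) (nat_lit 18050)
  (nat_lit 1488) (.node (.node (.node (.node .nil (nat_lit 225) (nat_lit 14913) (nat_lit 3769) .nil) (nat_lit
  226) (nat_lit 18643) (nat_lit 1217) (.node .nil (nat_lit 229) (nat_lit 7713) (nat_lit 833) .nil)) (nat_lit
  230) (nat_lit 27843) (nat_lit 3009) (.node (.node .nil (nat_lit 233) (nat_lit 18449) (nat_lit 1317) .nil)
  (nat_lit 234) (nat_lit 18979) (nat_lit 3777) (.node .nil (nat_lit 237) (nat_lit 19617) (nat_lit 2269)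
  .nil))) (nat_lit 238) (nat_lit 4882) (nat_lit 1505) (.node (.node (.node .nil (nat_lit 241) (nat_lit 20001)
  (nat_lit 2678) .nil) (nat_lit 242) (nat_lit 20596) (nat_lit 1740) (.node .nil (nat_lit 245) (nat_lit 18097)
  (nat_lit 1934) .nil)) (nat_lit 246) (nat_lit 19441) (nat_lit 2453) (.node (.node .nil (nat_lit 249) (nat_lit
  2068) (nat_lit 2380) .nil) (nat_lit 250) (nat_lit 29955) (nat_lit 2497) (.node .nil (nat_lit 253) (nat_lit
  7747) (nat_lit 833) .nil))))) (nat_lit 254) (nat_lit 16129) (nat_lit 521) (.node (.node (.node (.node (.node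
  .nil (nat_lit 260) (nat_lit 6465) (nat_lit 2027) .nil) (nat_lit 261) (nat_lit 24195) (nat_lit 111) (.node
  .nil (nat_lit 262) (nat_lit 30146) (nat_lit 3721) .nil)) (nat_lit 263) (nat_lit 18531) (nat_lit 2735) (.node
  (.node .nil (nat_lit 268) (nat_lit 26483) (nat_lit 1327) .nil) (nat_lit 269) (nat_lit 8289) (nat_lit 1370)
  (.node .nil (nat_lit 270) (nat_lit 14531) (nat_lit 4079) .nil))) (nat_lit 271) (nat_lit 7282) (nat_lit 3720)
  (.node (.node (.node .nil (nat_lit 276) (nat_lit 641) (nat_lit 804) .nil) (nat_lit 277) (nat_lit 1489)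
  (nat_lit 2569) (.node .nil (nat_lit 278) (nat_lit 5554) (nat_lit 3739) .nil)) (nat_lit 279) (nat_lit 6769)
  (nat_lit 3391) (.node (.node .nil (nat_lit 284) (nat_lit 1122) (nat_lit 3743) .nil) (nat_lit 285) (nat_lit
  22993) (nat_lit 405) (.node .nil (nat_lit 286) (nat_lit 6961) (nat_lit 3982) .nil)))) (nat_lit 287) (nat_lit
  3059) (nat_lit 1967) (.node (.node (.node (.node .nil (nat_lit 292) (nat_lit 22852) (nat_lit 2261) .nil)
  (nat_lit 293) (nat_lit 9873) (nat_lit 579) (.node .nil (nat_lit 294) (nat_lit 13729) (nat_lit 3160) .nil))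
  (nat_lit 295) (nat_lit 15300) (nat_lit 2005) (.node (.node .nil (nat_lit 300) (nat_lit 25010) (nat_lit 3758)
  .nil) (nat_lit 301) (nat_lit 11092) (nat_lit 3413) (.node .nil (nat_lit 302) (nat_lit 3489) (nat_lit 1988)
  .nil))) (nat_lit 303) (nat_lit 28180) (nat_lit 1877) (.node (.node (.node .nil (nat_lit 308) (nat_lit 13187)
  (nat_lit 1583) .nil) (nat_lit 309) (nat_lit 4963) (nat_lit 2415) (.node .nil (nat_lit 310) (nat_lit 1938)
  (nat_lit 3768) .nil)) (nat_lit 311) (nat_lit 11649) (nat_lit 442) (.node (.node .nil (nat_lit 316) (nat_lit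
  8801) (nat_lit 1085) .nil) (nat_lit 317) (nat_lit 8658) (nat_lit 3766) .nil))))))
def tv3_1 : T := (.node (.node (.node (.node (.node (.node (.node .nil (nat_lit 319) (nat_lit 1235) (nat_lit
  2479) .nil) (nat_lit 321) (nat_lit 22466) (nat_lit 1226) (.node .nil (nat_lit 323) (nat_lit 20516) (nat_lit
  3857) .nil)) (nat_lit 324) (nat_lit 26419) (nat_lit 3884) (.node (.node .nil (nat_lit 326) (nat_lit 14082)
  (nat_lit 1225) .nil) (nat_lit 329) (nat_lit 18626) (nat_lit 1217) (.node .nil (nat_lit 331) (nat_lit 31940)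
  (nat_lit 3985) .nil))) (nat_lit 332) (nat_lit 31010) (nat_lit 1229) (.node (.node (.node .nil (nat_lit 334)
  (nat_lit 26433) (nat_lit 1650) .nil) (nat_lit 337) (nat_lit 10545) (nat_lit 2754) (.node .nil (nat_lit 339)
  (nat_lit 6708) (nat_lit 2897) .nil)) (nat_lit 340) (nat_lit 18691) (nat_lit 2092) (.node (.node .nil
  (nat_lit 342) (nat_lit 1553) (nat_lit 2337) .nil) (nat_lit 345) (nat_lit 6097) (nat_lit 350) (.node .nil
  (nat_lit 347) (nat_lit 29428) (nat_lit 3025) .nil)))) (nat_lit 348) (nat_lit 7489) (nat_lit 1419) (.node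
  (.node (.node (.node .nil (nat_lit 350) (nat_lit 2497) (nat_lit 701) .nil) (nat_lit 353) (nat_lit 31921)
  (nat_lit 648) (.node .nil (nat_lit 355) (nat_lit 19700) (nat_lit 1937) .nil)) (nat_lit 356) (nat_lit 20465)
  (nat_lit 1629) (.node (.node .nil (nat_lit 358) (nat_lit 24945) (nat_lit 363) .nil) (nat_lit 361) (nat_lit
  16657) (nat_lit 2324) (.node .nil (nat_lit 363) (nat_lit 15843) (nat_lit 428) .nil))) (nat_lit 364) (nat_lit
  27681) (nat_lit 3521) (.node (.node (.node .nil (nat_lit 366) (nat_lit 31281) (nat_lit 2807) .nil) (nat_lit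
  369) (nat_lit 9427) (nat_lit 1644) (.node .nil (nat_lit 371) (nat_lit 17169) (nat_lit 369) .nil)) (nat_lit
  372) (nat_lit 4259) (nat_lit 1580) (.node (.node .nil (nat_lit 374) (nat_lit 21488) (nat_lit 685) .nil)
  (nat_lit 377) (nat_lit 31731) (nat_lit 3180) (.node .nil (nat_lit 379) (nat_lit 9539) (nat_lit 1708)
  .nil))))) (nat_lit 380) (nat_lit 24017) (nat_lit 2318) (.node (.node (.node (.node (.node .nil (nat_lit 382)
  (nat_lit 12435) (nat_lit 1772) .nil) (nat_lit 386) (nat_lit 14466) (nat_lit 271) (.node .nil (nat_lit 387)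
  (nat_lit 1777) (nat_lit 554) .nil)) (nat_lit 388) (nat_lit 30131) (nat_lit 3885) (.node (.node .nil (nat_lit
  389) (nat_lit 9041) (nat_lit 2276) .nil) (nat_lit 394) (nat_lit 13218) (nat_lit 260) (.node .nil (nat_lit
  395) (nat_lit 23794) (nat_lit 270) .nil))) (nat_lit 396) (nat_lit 16034) (nat_lit 269) (.node (.node (.node
  .nil (nat_lit 397) (nat_lit 17923) (nat_lit 2669) .nil) (nat_lit 402) (nat_lit 9985) (nat_lit 4040) (.node
  .nil (nat_lit 403) (nat_lit 13682) (nat_lit 279) .nil)) (nat_lit 404) (nat_lit 833) (nat_lit 1286) (.node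
  (.node .nil (nat_lit 405) (nat_lit 13954) (nat_lit 286) .nil) (nat_lit 410) (nat_lit 5619) (nat_lit 2029)
  (.node .nil (nat_lit 411) (nat_lit 2994) (nat_lit 284) .nil)))) (nat_lit 412) (nat_lit 7362) (nat_lit 287)
  (.node (.node (.node (.node .nil (nat_lit 413) (nat_lit 3922) (nat_lit 277) .nil) (nat_lit 418) (nat_lit
  21635) (nat_lit 1261) (.node .nil (nat_lit 419) (nat_lit 22578) (nat_lit 294) .nil)) (nat_lit 420) (nat_lit
  17682) (nat_lit 293) (.node (.node .nil (nat_lit 421) (nat_lit 29713) (nat_lit 1121) .nil) (nat_lit 426)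
  (nat_lit 24628) (nat_lit 541) (.node .nil (nat_lit 427) (nat_lit 11697) (nat_lit 1331) .nil))) (nat_lit 428)
  (nat_lit 8178) (nat_lit 302) (.node (.node (.node .nil (nat_lit 429) (nat_lit 29763) (nat_lit 1133) .nil)
  (nat_lit 434) (nat_lit 20337) (nat_lit 845) (.node .nil (nat_lit 435) (nat_lit 12179) (nat_lit 3245) .nil))
  (nat_lit 436) (nat_lit 12787) (nat_lit 1581) (.node (.node .nil (nat_lit 437) (nat_lit 8627) (nat_lit 2413)
  .nil) (nat_lit 442) (nat_lit 5331) (nat_lit 2541) .nil))))) (nat_lit 443) (nat_lit 3282) (nat_lit 319)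
  (.node (.node (.node (.node (.node (.node .nil (nat_lit 444) (nat_lit 16610) (nat_lit 316) .nil) (nat_lit
  445) (nat_lit 1891) (nat_lit 877) (.node .nil (nat_lit 449) (nat_lit 2913) (nat_lit 2095) .nil)) (nat_lit
  450) (nat_lit 25090) (nat_lit 2895) (.node (.node .nil (nat_lit 452) (nat_lit 17828) (nat_lit 89) .nil)
  (nat_lit 455) (nat_lit 29939) (nat_lit 2734) (.node .nil (nat_lit 457) (nat_lit 24099) (nat_lit 1390)
  .nil))) (nat_lit 458) (nat_lit 10723) (nat_lit 238) (.node (.node (.node .nil (nat_lit 460) (nat_lit 18001)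
  (nat_lit 1894) .nil) (nat_lit 463) (nat_lit 25586) (nat_lit 2888) (.node .nil (nat_lit 465) (nat_lit 12852)
  (nat_lit 345) .nil)) (nat_lit 466) (nat_lit 5921) (nat_lit 763) (.node (.node .nil (nat_lit 468) (nat_lit
  10371) (nat_lit 2094) .nil) (nat_lit 471) (nat_lit 6674) (nat_lit 2897) (.node .nil (nat_lit 473) (nat_lit
  29602) (nat_lit 2899) .nil)))) (nat_lit 474) (nat_lit 2612) (nat_lit 3801) (.node (.node (.node (.node .nil
  (nat_lit 476) (nat_lit 13156) (nat_lit 1177) .nil) (nat_lit 479) (nat_lit 25972) (nat_lit 2969) (.node .nil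
  (nat_lit 481) (nat_lit 17841) (nat_lit 1194) .nil)) (nat_lit 482) (nat_lit 31843) (nat_lit 1262) (.node
  (.node .nil (nat_lit 484) (nat_lit 8195) (nat_lit 302) .nil) (nat_lit 487) (nat_lit 19828) (nat_lit 2009)
  (.node .nil (nat_lit 489) (nat_lit 32132) (nat_lit 3353) .nil))) (nat_lit 490) (nat_lit 5092) (nat_lit 537)
  (.node (.node (.node .nil (nat_lit 492) (nat_lit 31265) (nat_lit 3043) .nil) (nat_lit 495) (nat_lit 22324)
  (nat_lit 1881) (.node .nil (nat_lit 497) (nat_lit 30915) (nat_lit 1646) .nil)) (nat_lit 498) (nat_lit 16385)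
  (nat_lit 3710) (.node (.node .nil (nat_lit 500) (nat_lit 5249) (nat_lit 1200) .nil) (nat_lit 503) (nat_lit
  30018) (nat_lit 2930) (.node .nil (nat_lit 505) (nat_lit 11585) (nat_lit 3065) .nil))))) (nat_lit 506)
  (nat_lit 12755) (nat_lit 2542) (.node (.node (.node (.node (.node .nil (nat_lit 508) (nat_lit 18768)
  (nat_lit 616) .nil) (nat_lit 511) (nat_lit 4147) (nat_lit 2478) (.node .nil (nat_lit 520) (nat_lit 19889)
  (nat_lit 1198) .nil)) (nat_lit 521) (nat_lit 8323) (nat_lit 1370) (.node (.node .nil (nat_lit 522) (nat_lit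
  3506) (nat_lit 1988) .nil) (nat_lit 523) (nat_lit 5169) (nat_lit 2741) (.node .nil (nat_lit 524) (nat_lit
  14817) (nat_lit 2390) .nil))) (nat_lit 525) (nat_lit 27554) (nat_lit 1991) (.node (.node (.node .nil
  (nat_lit 526) (nat_lit 28020) (nat_lit 2794) .nil) (nat_lit 527) (nat_lit 18419) (nat_lit 154) (.node .nil
  (nat_lit 536) (nat_lit 19810) (nat_lit 2009) .nil)) (nat_lit 537) (nat_lit 2017) (nat_lit 2380) (.node
  (.node .nil (nat_lit 538) (nat_lit 31252) (nat_lit 3818) .nil) (nat_lit 539) (nat_lit 15796) (nat_lit 3050)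
  (.node .nil (nat_lit 540) (nat_lit 17876) (nat_lit 1194) .nil)))) (nat_lit 541) (nat_lit 15266) (nat_lit
  2005) (.node (.node (.node (.node .nil (nat_lit 542) (nat_lit 17604) (nat_lit 3754) .nil) (nat_lit 543)
  (nat_lit 13825) (nat_lit 898) (.node .nil (nat_lit 552) (nat_lit 5777) (nat_lit 2091) .nil)) (nat_lit 553)
  (nat_lit 25332) (nat_lit 3370) (.node (.node .nil (nat_lit 554) (nat_lit 627) (nat_lit 3802) .nil) (nat_lit
  555) (nat_lit 5602) (nat_lit 2029) (.node .nil (nat_lit 556) (nat_lit 9331) (nat_lit 2842) .nil))) (nat_lit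
  557) (nat_lit 7234) (nat_lit 2020) (.node (.node (.node .nil (nat_lit 558) (nat_lit 6436) (nat_lit 618)
  .nil) (nat_lit 559) (nat_lit 6482) (nat_lit 2027) (.node .nil (nat_lit 568) (nat_lit 434) (nat_lit 2042)
  .nil)) (nat_lit 569) (nat_lit 9761) (nat_lit 1481) (.node (.node .nil (nat_lit 570) (nat_lit 1347) (nat_lit
  2522) .nil) (nat_lit 571) (nat_lit 20930) (nat_lit 2047) .nil))))))
def tv3_2 : T := (.node (.node (.node (.node (.node (.node (.node .nil (nat_lit 573) (nat_lit 9186) (nat_lit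
  2038) .nil) (nat_lit 574) (nat_lit 9649) (nat_lit 1578) (.node .nil (nat_lit 575) (nat_lit 881) (nat_lit
  3847) .nil)) (nat_lit 577) (nat_lit 19954) (nat_lit 3466) (.node (.node .nil (nat_lit 579) (nat_lit 4433)
  (nat_lit 3098) .nil) (nat_lit 581) (nat_lit 17811) (nat_lit 89) (.node .nil (nat_lit 583) (nat_lit 18259)
  (nat_lit 2713) .nil))) (nat_lit 584) (nat_lit 22370) (nat_lit 3467) (.node (.node (.node .nil (nat_lit 586)
  (nat_lit 29250) (nat_lit 3460) .nil) (nat_lit 588) (nat_lit 10740) (nat_lit 238) (.node .nil (nat_lit 590)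
  (nat_lit 26291) (nat_lit 4057) .nil)) (nat_lit 593) (nat_lit 29010) (nat_lit 3480) (.node (.node .nil
  (nat_lit 595) (nat_lit 22817) (nat_lit 2261) .nil) (nat_lit 597) (nat_lit 8212) (nat_lit 302) (.node .nil
  (nat_lit 599) (nat_lit 31827) (nat_lit 3481) .nil)))) (nat_lit 600) (nat_lit 28209) (nat_lit 3410) (.node
  (.node (.node (.node .nil (nat_lit 602) (nat_lit 17380) (nat_lit 3822) .nil) (nat_lit 604) (nat_lit 5075)
  (nat_lit 537) (.node .nil (nat_lit 606) (nat_lit 25028) (nat_lit 3758) .nil)) (nat_lit 609) (nat_lit 12835)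
  (nat_lit 345) (.node (.node .nil (nat_lit 611) (nat_lit 25955) (nat_lit 2969) .nil) (nat_lit 613) (nat_lit
  21524) (nat_lit 3566) (.node .nil (nat_lit 615) (nat_lit 11009) (nat_lit 3431) .nil))) (nat_lit 616)
  (nat_lit 10388) (nat_lit 2094) (.node (.node (.node .nil (nat_lit 618) (nat_lit 2595) (nat_lit 3801) .nil)
  (nat_lit 620) (nat_lit 14545) (nat_lit 2272) (.node .nil (nat_lit 622) (nat_lit 28130) (nat_lit 3489) .nil))
  (nat_lit 625) (nat_lit 12625) (nat_lit 870) (.node (.node .nil (nat_lit 627) (nat_lit 16706) (nat_lit 3508)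
  .nil) (nat_lit 629) (nat_lit 4164) (nat_lit 2478) (.node .nil (nat_lit 631) (nat_lit 32001) (nat_lit 2472)
  .nil))))) (nat_lit 632) (nat_lit 12308) (nat_lit 3182) (.node (.node (.node (.node (.node .nil (nat_lit 634)
  (nat_lit 26738) (nat_lit 3509) .nil) (nat_lit 636) (nat_lit 23571) (nat_lit 3097) (.node .nil (nat_lit 638)
  (nat_lit 5682) (nat_lit 3507) .nil)) (nat_lit 642) (nat_lit 16260) (nat_lit 2594) (.node (.node .nil
  (nat_lit 643) (nat_lit 21154) (nat_lit 2117) .nil) (nat_lit 646) (nat_lit 31873) (nat_lit 990) (.node .nil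
  (nat_lit 647) (nat_lit 27107) (nat_lit 2712) .nil))) (nat_lit 648) (nat_lit 27586) (nat_lit 2123) (.node
  (.node (.node .nil (nat_lit 649) (nat_lit 22017) (nat_lit 2977) .nil) (nat_lit 652) (nat_lit 21987) (nat_lit
  1304) (.node .nil (nat_lit 653) (nat_lit 17746) (nat_lit 2119) .nil)) (nat_lit 658) (nat_lit 24932) (nat_lit
  3682) (.node (.node .nil (nat_lit 659) (nat_lit 32177) (nat_lit 964) .nil) (nat_lit 662) (nat_lit 11139)
  (nat_lit 728) (.node .nil (nat_lit 663) (nat_lit 16561) (nat_lit 3644) .nil)))) (nat_lit 664) (nat_lit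
  31073) (nat_lit 1603) (.node (.node (.node (.node .nil (nat_lit 665) (nat_lit 28225) (nat_lit 3950) .nil)
  (nat_lit 668) (nat_lit 17185) (nat_lit 3003) (.node .nil (nat_lit 669) (nat_lit 19713) (nat_lit 662) .nil))
  (nat_lit 674) (nat_lit 13057) (nat_lit 675) (.node (.node .nil (nat_lit 675) (nat_lit 6371) (nat_lit 2968)
  .nil) (nat_lit 678) (nat_lit 6563) (nat_lit 3032) (.node .nil (nat_lit 679) (nat_lit 30963) (nat_lit 1176)
  .nil))) (nat_lit 680) (nat_lit 18177) (nat_lit 3593) (.node (.node (.node .nil (nat_lit 681) (nat_lit 13652)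
  (nat_lit 3362) .nil) (nat_lit 684) (nat_lit 2739) (nat_lit 2840) (.node .nil (nat_lit 685) (nat_lit 12500)
  (nat_lit 3426) .nil)) (nat_lit 690) (nat_lit 9172) (nat_lit 1762) (.node (.node .nil (nat_lit 691) (nat_lit
  20803) (nat_lit 3224) .nil) (nat_lit 694) (nat_lit 27906) (nat_lit 2168) .nil))))) (nat_lit 695) (nat_lit
  14721) (nat_lit 697) (.node (.node (.node (.node (.node (.node .nil (nat_lit 696) (nat_lit 3953) (nat_lit
  2758) .nil) (nat_lit 697) (nat_lit 7505) (nat_lit 1003) (.node .nil (nat_lit 700) (nat_lit 30515) (nat_lit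
  3096) .nil)) (nat_lit 701) (nat_lit 913) (nat_lit 3603) (.node (.node .nil (nat_lit 705) (nat_lit 8242)
  (nat_lit 522) .nil) (nat_lit 706) (nat_lit 7137) (nat_lit 789) (.node .nil (nat_lit 709) (nat_lit 17316)
  (nat_lit 1382) .nil))) (nat_lit 710) (nat_lit 16146) (nat_lit 521) (.node (.node (.node .nil (nat_lit 712)
  (nat_lit 11378) (nat_lit 523) .nil) (nat_lit 715) (nat_lit 14227) (nat_lit 3995) (.node .nil (nat_lit 716)
  (nat_lit 27521) (nat_lit 583) .nil)) (nat_lit 719) (nat_lit 5985) (nat_lit 3164) (.node (.node .nil (nat_lit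
  721) (nat_lit 19859) (nat_lit 2139) .nil) (nat_lit 722) (nat_lit 24594) (nat_lit 541) (.node .nil (nat_lit
  725) (nat_lit 22612) (nat_lit 294) .nil)))) (nat_lit 726) (nat_lit 16209) (nat_lit 2594) (.node (.node
  (.node (.node .nil (nat_lit 728) (nat_lit 5058) (nat_lit 537) .nil) (nat_lit 731) (nat_lit 27204) (nat_lit
  3046) (.node .nil (nat_lit 732) (nat_lit 22722) (nat_lit 543) .nil)) (nat_lit 735) (nat_lit 28481) (nat_lit
  2195) (.node (.node .nil (nat_lit 737) (nat_lit 30897) (nat_lit 395) .nil) (nat_lit 738) (nat_lit 13396)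
  (nat_lit 678) (.node .nil (nat_lit 741) (nat_lit 13092) (nat_lit 3558) .nil))) (nat_lit 742) (nat_lit 1794)
  (nat_lit 554) (.node (.node (.node .nil (nat_lit 744) (nat_lit 12354) (nat_lit 552) .nil) (nat_lit 747)
  (nat_lit 7203) (nat_lit 411) (.node .nil (nat_lit 748) (nat_lit 13124) (nat_lit 2150) .nil)) (nat_lit 751)
  (nat_lit 5571) (nat_lit 3739) (.node (.node .nil (nat_lit 753) (nat_lit 17091) (nat_lit 1627) .nil) (nat_lit
  754) (nat_lit 17121) (nat_lit 2911) (.node .nil (nat_lit 757) (nat_lit 9251) (nat_lit 2395) .nil)))))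
  (nat_lit 758) (nat_lit 1266) (nat_lit 568) (.node (.node (.node (.node (.node .nil (nat_lit 760) (nat_lit
  3618) (nat_lit 570) .nil) (nat_lit 763) (nat_lit 2434) (nat_lit 575) (.node .nil (nat_lit 764) (nat_lit
  3073) (nat_lit 2573) .nil)) (nat_lit 767) (nat_lit 17506) (nat_lit 569) (.node (.node .nil (nat_lit 772)
  (nat_lit 25041) (nat_lit 2265) .nil) (nat_lit 773) (nat_lit 2034) (nat_lit 2380) (.node .nil (nat_lit 774)
  (nat_lit 14497) (nat_lit 4079) .nil))) (nat_lit 775) (nat_lit 5203) (nat_lit 2741) (.node (.node (.node .nil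
  (nat_lit 776) (nat_lit 9489) (nat_lit 3773) .nil) (nat_lit 777) (nat_lit 24323) (nat_lit 1397) (.node .nil
  (nat_lit 778) (nat_lit 27427) (nat_lit 245) .nil)) (nat_lit 779) (nat_lit 28786) (nat_lit 2382) (.node
  (.node .nil (nat_lit 788) (nat_lit 14625) (nat_lit 3094) .nil) (nat_lit 789) (nat_lit 2979) (nat_lit 1909)
  (.node .nil (nat_lit 790) (nat_lit 9234) (nat_lit 2395) .nil)))) (nat_lit 791) (nat_lit 26755) (nat_lit
  3509) (.node (.node (.node (.node .nil (nat_lit 792) (nat_lit 6195) (nat_lit 3381) .nil) (nat_lit 793)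
  (nat_lit 9476) (nat_lit 511) (.node .nil (nat_lit 794) (nat_lit 8083) (nat_lit 2037) .nil)) (nat_lit 795)
  (nat_lit 3426) (nat_lit 2396) (.node (.node .nil (nat_lit 804) (nat_lit 194) (nat_lit 2405) .nil) (nat_lit
  805) (nat_lit 739) (nat_lit 3701) (.node .nil (nat_lit 806) (nat_lit 25682) (nat_lit 2410) .nil))) (nat_lit
  807) (nat_lit 13777) (nat_lit 2631) (.node (.node (.node .nil (nat_lit 808) (nat_lit 1249) (nat_lit 568)
  .nil) (nat_lit 809) (nat_lit 6820) (nat_lit 3391) (.node .nil (nat_lit 810) (nat_lit 2468) (nat_lit 575)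
  .nil)) (nat_lit 811) (nat_lit 8610) (nat_lit 2413) (.node (.node .nil (nat_lit 820) (nat_lit 30802) (nat_lit
  2423) .nil) (nat_lit 821) (nat_lit 29635) (nat_lit 2421) .nil))))))
def tv3_3 : T := (.node (.node (.node (.node (.node (.node (.node .nil (nat_lit 823) (nat_lit 7265) (nat_lit
  3720) .nil) (nat_lit 824) (nat_lit 14180) (nat_lit 3199) (.node .nil (nat_lit 825) (nat_lit 10468) (nat_lit
  2431) .nil)) (nat_lit 826) (nat_lit 7009) (nat_lit 449) (.node (.node .nil (nat_lit 827) (nat_lit 10434)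
  (nat_lit 2431) .nil) (nat_lit 833) (nat_lit 3265) (nat_lit 319) (.node .nil (nat_lit 835) (nat_lit 5122)
  (nat_lit 773) .nil))) (nat_lit 836) (nat_lit 23714) (nat_lit 774) (.node (.node (.node .nil (nat_lit 838)
  (nat_lit 22883) (nat_lit 1526) .nil) (nat_lit 840) (nat_lit 31763) (nat_lit 2614) (.node .nil (nat_lit 842)
  (nat_lit 12737) (nat_lit 1208) .nil)) (nat_lit 845) (nat_lit 11490) (nat_lit 775) (.node (.node .nil
  (nat_lit 847) (nat_lit 17234) (nat_lit 776) .nil) (nat_lit 849) (nat_lit 12946) (nat_lit 792) (.node .nil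
  (nat_lit 851) (nat_lit 25441) (nat_lit 710) .nil)))) (nat_lit 852) (nat_lit 17665) (nat_lit 293) (.node
  (.node (.node (.node .nil (nat_lit 854) (nat_lit 3379) (nat_lit 758) .nil) (nat_lit 856) (nat_lit 12995)
  (nat_lit 3382) (.node .nil (nat_lit 858) (nat_lit 9203) (nat_lit 2038) .nil)) (nat_lit 861) (nat_lit 7154)
  (nat_lit 789) (.node (.node .nil (nat_lit 863) (nat_lit 8403) (nat_lit 1974) .nil) (nat_lit 865) (nat_lit
  12913) (nat_lit 3514) (.node .nil (nat_lit 867) (nat_lit 14881) (nat_lit 2700) .nil))) (nat_lit 868)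
  (nat_lit 2146) (nat_lit 805) (.node (.node (.node .nil (nat_lit 870) (nat_lit 5972) (nat_lit 763) .nil)
  (nat_lit 872) (nat_lit 1425) (nat_lit 3851) (.node .nil (nat_lit 874) (nat_lit 22674) (nat_lit 807) .nil))
  (nat_lit 877) (nat_lit 658) (nat_lit 804) (.node (.node .nil (nat_lit 879) (nat_lit 8675) (nat_lit 3766)
  .nil) (nat_lit 881) (nat_lit 18866) (nat_lit 827) (.node .nil (nat_lit 883) (nat_lit 26115) (nat_lit 3254)
  .nil))))) (nat_lit 884) (nat_lit 14418) (nat_lit 823) (.node (.node (.node (.node (.node .nil (nat_lit 886)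
  (nat_lit 23332) (nat_lit 1723) .nil) (nat_lit 888) (nat_lit 14018) (nat_lit 826) (.node .nil (nat_lit 890)
  (nat_lit 30243) (nat_lit 2550) .nil)) (nat_lit 893) (nat_lit 20481) (nat_lit 3857) (.node (.node .nil
  (nat_lit 895) (nat_lit 18900) (nat_lit 827) .nil) (nat_lit 898) (nat_lit 6881) (nat_lit 1077) (.node .nil
  (nat_lit 899) (nat_lit 28675) (nat_lit 1463) .nil))) (nat_lit 900) (nat_lit 19330) (nat_lit 1734) (.node
  (.node (.node .nil (nat_lit 901) (nat_lit 20578) (nat_lit 1740) .nil) (nat_lit 904) (nat_lit 15556) (nat_lit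
  183) (.node .nil (nat_lit 905) (nat_lit 21827) (nat_lit 1399) .nil)) (nat_lit 910) (nat_lit 30739) (nat_lit
  4087) (.node (.node .nil (nat_lit 911) (nat_lit 15539) (nat_lit 183) .nil) (nat_lit 914) (nat_lit 21379)
  (nat_lit 3575) (.node .nil (nat_lit 915) (nat_lit 11937) (nat_lit 2519) .nil)))) (nat_lit 916) (nat_lit
  15220) (nat_lit 1079) (.node (.node (.node (.node .nil (nat_lit 917) (nat_lit 7555) (nat_lit 1911) .nil)
  (nat_lit 920) (nat_lit 8353) (nat_lit 3152) (.node .nil (nat_lit 921) (nat_lit 31714) (nat_lit 1747) .nil))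
  (nat_lit 926) (nat_lit 15729) (nat_lit 1694) (.node (.node .nil (nat_lit 927) (nat_lit 16963) (nat_lit 1975)
  .nil) (nat_lit 930) (nat_lit 12418) (nat_lit 1772) (.node .nil (nat_lit 931) (nat_lit 8993) (nat_lit 413)
  .nil))) (nat_lit 932) (nat_lit 12209) (nat_lit 638) (.node (.node (.node .nil (nat_lit 933) (nat_lit 21396)
  (nat_lit 3575) .nil) (nat_lit 936) (nat_lit 15203) (nat_lit 1079) (.node .nil (nat_lit 937) (nat_lit 9138)
  (nat_lit 1762) .nil)) (nat_lit 942) (nat_lit 31538) (nat_lit 1761) (.node (.node .nil (nat_lit 943) (nat_lit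
  6305) (nat_lit 2041) .nil) (nat_lit 946) (nat_lit 14129) (nat_lit 3199) .nil))))) (nat_lit 947) (nat_lit
  30643) (nat_lit 3255) (.node (.node (.node (.node (.node (.node .nil (nat_lit 948) (nat_lit 30610) (nat_lit
  1783) .nil) (nat_lit 949) (nat_lit 13460) (nat_lit 2487) (.node .nil (nat_lit 952) (nat_lit 14435) (nat_lit
  823) .nil)) (nat_lit 953) (nat_lit 23121) (nat_lit 2552) (.node (.node .nil (nat_lit 958) (nat_lit 30627)
  (nat_lit 1783) .nil) (nat_lit 959) (nat_lit 11216) (nat_lit 490) (.node .nil (nat_lit 961) (nat_lit 11748)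
  (nat_lit 1331) .nil))) (nat_lit 962) (nat_lit 26338) (nat_lit 3215) (.node (.node (.node .nil (nat_lit 964)
  (nat_lit 29891) (nat_lit 3892) .nil) (nat_lit 967) (nat_lit 29282) (nat_lit 3203) (.node .nil (nat_lit 968)
  (nat_lit 30931) (nat_lit 2612) .nil)) (nat_lit 971) (nat_lit 22786) (nat_lit 3214) (.node (.node .nil
  (nat_lit 973) (nat_lit 31970) (nat_lit 3207) .nil) (nat_lit 974) (nat_lit 24402) (nat_lit 3202) (.node .nil
  (nat_lit 977) (nat_lit 20786) (nat_lit 3224) .nil)))) (nat_lit 978) (nat_lit 14787) (nat_lit 3572) (.node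
  (.node (.node (.node .nil (nat_lit 980) (nat_lit 22241) (nat_lit 1799) .nil) (nat_lit 983) (nat_lit 16723)
  (nat_lit 3508) (.node .nil (nat_lit 984) (nat_lit 7619) (nat_lit 3380) .nil)) (nat_lit 987) (nat_lit 16788)
  (nat_lit 3059) (.node (.node .nil (nat_lit 989) (nat_lit 13506) (nat_lit 3221) .nil) (nat_lit 990) (nat_lit
  27299) (nat_lit 2292) (.node .nil (nat_lit 993) (nat_lit 5716) (nat_lit 3507) .nil))) (nat_lit 994) (nat_lit
  15377) (nat_lit 1411) (.node (.node (.node .nil (nat_lit 996) (nat_lit 2481) (nat_lit 3917) .nil) (nat_lit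
  999) (nat_lit 4049) (nat_lit 342) (.node .nil (nat_lit 1000) (nat_lit 24467) (nat_lit 1076) .nil)) (nat_lit
  1003) (nat_lit 3137) (nat_lit 1842) (.node (.node .nil (nat_lit 1005) (nat_lit 27329) (nat_lit 3580) .nil)
  (nat_lit 1006) (nat_lit 9265) (nat_lit 999) (.node .nil (nat_lit 1009) (nat_lit 22355) (nat_lit 1652)
  .nil))))) (nat_lit 1010) (nat_lit 32019) (nat_lit 1012) (.node (.node (.node (.node (.node .nil (nat_lit
  1012) (nat_lit 27985) (nat_lit 2946) .nil) (nat_lit 1015) (nat_lit 29538) (nat_lit 3250) (.node .nil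
  (nat_lit 1016) (nat_lit 13073) (nat_lit 3558) .nil)) (nat_lit 1019) (nat_lit 30785) (nat_lit 1021) (.node
  (.node .nil (nat_lit 1021) (nat_lit 23635) (nat_lit 884) .nil) (nat_lit 1022) (nat_lit 12321) (nat_lit 1832)
  (.node .nil (nat_lit 1040) (nat_lit 10562) (nat_lit 1042) .nil))) (nat_lit 1041) (nat_lit 27876) (nat_lit
  340) (.node (.node (.node .nil (nat_lit 1042) (nat_lit 4753) (nat_lit 2539) .nil) (nat_lit 1043) (nat_lit
  17521) (nat_lit 198) (.node .nil (nat_lit 1044) (nat_lit 2129) (nat_lit 805) .nil)) (nat_lit 1045) (nat_lit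
  1844) (nat_lit 276) (.node (.node .nil (nat_lit 1046) (nat_lit 21299) (nat_lit 744) .nil) (nat_lit 1047)
  (nat_lit 30356) (nat_lit 2836) (.node .nil (nat_lit 1048) (nat_lit 26785) (nat_lit 1345) .nil)))) (nat_lit
  1049) (nat_lit 18756) (nat_lit 468) (.node (.node (.node (.node .nil (nat_lit 1050) (nat_lit 28035) (nat_lit
  2024) .nil) (nat_lit 1051) (nat_lit 21330) (nat_lit 1052) (.node .nil (nat_lit 1052) (nat_lit 12371)
  (nat_lit 552) .nil)) (nat_lit 1053) (nat_lit 2321) (nat_lit 404) (.node (.node .nil (nat_lit 1054) (nat_lit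
  1092) (nat_lit 3732) .nil) (nat_lit 1055) (nat_lit 29571) (nat_lit 1960) (.node .nil (nat_lit 1072) (nat_lit
  31858) (nat_lit 1073) .nil))) (nat_lit 1073) (nat_lit 27217) (nat_lit 2933) (.node (.node (.node .nil
  (nat_lit 1074) (nat_lit 24081) (nat_lit 1390) .nil) (nat_lit 1075) (nat_lit 24450) (nat_lit 1076) (.node
  .nil (nat_lit 1076) (nat_lit 15186) (nat_lit 1079) .nil)) (nat_lit 1077) (nat_lit 2835) (nat_lit 2408)
  (.node (.node .nil (nat_lit 1078) (nat_lit 7842) (nat_lit 1080) .nil) (nat_lit 1079) (nat_lit 7777) (nat_lit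
  443) .nil))))))
def tv3_4 : T := (.node (.node (.node (.node (.node (.node (.node .nil (nat_lit 1081) (nat_lit 26051) (nat_lit
  3176) .nil) (nat_lit 1082) (nat_lit 6898) (nat_lit 1077) (.node .nil (nat_lit 1083) (nat_lit 26948) (nat_lit
  852) .nil)) (nat_lit 1084) (nat_lit 8451) (nat_lit 3112) (.node (.node .nil (nat_lit 1085) (nat_lit 3795)
  (nat_lit 872) .nil) (nat_lit 1086) (nat_lit 31138) (nat_lit 1075) (.node .nil (nat_lit 1087) (nat_lit 21344)
  (nat_lit 2090) .nil))) (nat_lit 1089) (nat_lit 24130) (nat_lit 3658) (.node (.node (.node .nil (nat_lit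
  1091) (nat_lit 26227) (nat_lit 1451) .nil) (nat_lit 1093) (nat_lit 10291) (nat_lit 107) (.node .nil (nat_lit
  1095) (nat_lit 26146) (nat_lit 3651) .nil)) (nat_lit 1097) (nat_lit 30065) (nat_lit 1424) (.node (.node .nil
  (nat_lit 1099) (nat_lit 13361) (nat_lit 678) .nil) (nat_lit 1101) (nat_lit 10210) (nat_lit 3655) (.node .nil
  (nat_lit 1103) (nat_lit 30819) (nat_lit 171) .nil)))) (nat_lit 1104) (nat_lit 16834) (nat_lit 3666) (.node
  (.node (.node (.node .nil (nat_lit 1106) (nat_lit 20884) (nat_lit 3664) .nil) (nat_lit 1108) (nat_lit 5762)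
  (nat_lit 3668) (.node .nil (nat_lit 1110) (nat_lit 14371) (nat_lit 747) .nil)) (nat_lit 1112) (nat_lit 5892)
  (nat_lit 1232) (.node (.node .nil (nat_lit 1114) (nat_lit 6499) (nat_lit 2027) .nil) (nat_lit 1116) (nat_lit
  785) (nat_lit 1418) (.node .nil (nat_lit 1118) (nat_lit 20866) (nat_lit 3664) .nil))) (nat_lit 1121)
  (nat_lit 21554) (nat_lit 3689) (.node (.node (.node .nil (nat_lit 1123) (nat_lit 31185) (nat_lit 1471) .nil)
  (nat_lit 1125) (nat_lit 19204) (nat_lit 3536) (.node .nil (nat_lit 1127) (nat_lit 17729) (nat_lit 2119)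
  .nil)) (nat_lit 1129) (nat_lit 24868) (nat_lit 3344) (.node (.node .nil (nat_lit 1131) (nat_lit 20531)
  (nat_lit 427) .nil) (nat_lit 1133) (nat_lit 21617) (nat_lit 1261) (.node .nil (nat_lit 1135) (nat_lit 26017)
  (nat_lit 987) .nil))))) (nat_lit 1136) (nat_lit 7698) (nat_lit 3697) (.node (.node (.node (.node (.node .nil
  (nat_lit 1138) (nat_lit 7523) (nat_lit 1003) .nil) (nat_lit 1140) (nat_lit 32146) (nat_lit 3703) (.node .nil
  (nat_lit 1142) (nat_lit 5426) (nat_lit 3704) .nil)) (nat_lit 1144) (nat_lit 8372) (nat_lit 3152) (.node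
  (.node .nil (nat_lit 1146) (nat_lit 722) (nat_lit 3701) .nil) (nat_lit 1148) (nat_lit 30547) (nat_lit 3115)
  (.node .nil (nat_lit 1150) (nat_lit 6592) (nat_lit 2217) .nil))) (nat_lit 1154) (nat_lit 10753) (nat_lit
  2822) (.node (.node (.node .nil (nat_lit 1155) (nat_lit 12129) (nat_lit 555) .nil) (nat_lit 1158) (nat_lit
  23396) (nat_lit 2652) (.node .nil (nat_lit 1159) (nat_lit 15988) (nat_lit 3932) .nil)) (nat_lit 1162)
  (nat_lit 18324) (nat_lit 2716) (.node (.node .nil (nat_lit 1163) (nat_lit 13425) (nat_lit 2487) .nil)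
  (nat_lit 1166) (nat_lit 12449) (nat_lit 3426) (.node .nil (nat_lit 1167) (nat_lit 32052) (nat_lit 4060)
  .nil)))) (nat_lit 1168) (nat_lit 2001) (nat_lit 2303) (.node (.node (.node (.node .nil (nat_lit 1169)
  (nat_lit 6354) (nat_lit 2968) .nil) (nat_lit 1172) (nat_lit 16545) (nat_lit 1287) (.node .nil (nat_lit 1173)
  (nat_lit 1984) (nat_lit 2303) .nil)) (nat_lit 1176) (nat_lit 23953) (nat_lit 867) (.node (.node .nil
  (nat_lit 1177) (nat_lit 6419) (nat_lit 618) .nil) (nat_lit 1180) (nat_lit 1746) (nat_lit 2975) (.node .nil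
  (nat_lit 1181) (nat_lit 8385) (nat_lit 1974) .nil))) (nat_lit 1186) (nat_lit 26468) (nat_lit 668) (.node
  (.node (.node .nil (nat_lit 1187) (nat_lit 24993) (nat_lit 3758) .nil) (nat_lit 1190) (nat_lit 15779)
  (nat_lit 3050) (.node .nil (nat_lit 1191) (nat_lit 7953) (nat_lit 854) .nil)) (nat_lit 1194) (nat_lit 9937)
  (nat_lit 3103) (.node (.node .nil (nat_lit 1195) (nat_lit 28898) (nat_lit 2989) .nil) (nat_lit 1198)
  (nat_lit 11204) (nat_lit 604) .nil))))) (nat_lit 1199) (nat_lit 17587) (nat_lit 3754) (.node (.node (.node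
  (.node (.node (.node .nil (nat_lit 1200) (nat_lit 2081) (nat_lit 1146) .nil) (nat_lit 1201) (nat_lit 8532)
  (nat_lit 2524) (.node .nil (nat_lit 1204) (nat_lit 9683) (nat_lit 1578) .nil)) (nat_lit 1205) (nat_lit
  12004) (nat_lit 2460) (.node (.node .nil (nat_lit 1208) (nat_lit 6020) (nat_lit 3164) .nil) (nat_lit 1209)
  (nat_lit 3460) (nat_lit 2396) (.node .nil (nat_lit 1212) (nat_lit 9860) (nat_lit 3100) .nil))) (nat_lit
  1213) (nat_lit 16530) (nat_lit 2998) (.node (.node (.node .nil (nat_lit 1217) (nat_lit 10337) (nat_lit 2094)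
  .nil) (nat_lit 1218) (nat_lit 25555) (nat_lit 2793) (.node .nil (nat_lit 1221) (nat_lit 20323) (nat_lit 105)
  .nil)) (nat_lit 1222) (nat_lit 28288) (nat_lit 2125) (.node (.node .nil (nat_lit 1225) (nat_lit 7026)
  (nat_lit 449) .nil) (nat_lit 1226) (nat_lit 13569) (nat_lit 3497) (.node .nil (nat_lit 1229) (nat_lit 24113)
  (nat_lit 3658) .nil)))) (nat_lit 1230) (nat_lit 31346) (nat_lit 450) (.node (.node (.node (.node .nil
  (nat_lit 1232) (nat_lit 2401) (nat_lit 1484) .nil) (nat_lit 1235) (nat_lit 13538) (nat_lit 471) (.node .nil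
  (nat_lit 1236) (nat_lit 18738) (nat_lit 468) .nil)) (nat_lit 1239) (nat_lit 2756) (nat_lit 2840) (.node
  (.node .nil (nat_lit 1240) (nat_lit 20849) (nat_lit 3664) .nil) (nat_lit 1243) (nat_lit 6580) (nat_lit 3032)
  (.node .nil (nat_lit 1244) (nat_lit 24497) (nat_lit 936) .nil))) (nat_lit 1247) (nat_lit 5665) (nat_lit
  3507) (.node (.node (.node .nil (nat_lit 1249) (nat_lit 25907) (nat_lit 361) .nil) (nat_lit 1250) (nat_lit
  31105) (nat_lit 2736) (.node .nil (nat_lit 1253) (nat_lit 16977) (nat_lit 2387) .nil)) (nat_lit 1254)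
  (nat_lit 11156) (nat_lit 728) (.node (.node .nil (nat_lit 1257) (nat_lit 30259) (nat_lit 2921) .nil)
  (nat_lit 1258) (nat_lit 28548) (nat_lit 536) (.node .nil (nat_lit 1261) (nat_lit 12641) (nat_lit 719)
  .nil))))) (nat_lit 1262) (nat_lit 27138) (nat_lit 481) (.node (.node (.node (.node (.node .nil (nat_lit
  1264) (nat_lit 32194) (nat_lit 497) .nil) (nat_lit 1267) (nat_lit 11570) (nat_lit 500) (.node .nil (nat_lit
  1268) (nat_lit 16369) (nat_lit 1201) .nil)) (nat_lit 1271) (nat_lit 16001) (nat_lit 2730) (.node (.node .nil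
  (nat_lit 1272) (nat_lit 13764) (nat_lit 3160) .nil) (nat_lit 1275) (nat_lit 9458) (nat_lit 511) (.node .nil
  (nat_lit 1276) (nat_lit 27888) (nat_lit 2152) .nil))) (nat_lit 1279) (nat_lit 4929) (nat_lit 310) (.node
  (.node (.node .nil (nat_lit 1284) (nat_lit 84) (nat_lit 65) .nil) (nat_lit 1285) (nat_lit 14898) (nat_lit
  2700) (.node .nil (nat_lit 1286) (nat_lit 258) (nat_lit 2697) .nil)) (nat_lit 1287) (nat_lit 8691) (nat_lit
  2695) (.node (.node .nil (nat_lit 1292) (nat_lit 3217) (nat_lit 1637) .nil) (nat_lit 1293) (nat_lit 3825)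
  (nat_lit 3912) (.node .nil (nat_lit 1294) (nat_lit 1171) (nat_lit 4039) .nil)))) (nat_lit 1295) (nat_lit
  1652) (nat_lit 4033) (.node (.node (.node (.node .nil (nat_lit 1296) (nat_lit 22275) (nat_lit 1799) .nil)
  (nat_lit 1297) (nat_lit 13921) (nat_lit 3555) (.node .nil (nat_lit 1298) (nat_lit 13314) (nat_lit 2717)
  .nil)) (nat_lit 1299) (nat_lit 25202) (nat_lit 2711) (.node (.node .nil (nat_lit 1304) (nat_lit 12963)
  (nat_lit 3335) .nil) (nat_lit 1305) (nat_lit 7044) (nat_lit 449) (.node .nil (nat_lit 1306) (nat_lit 18996)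
  (nat_lit 3777) .nil))) (nat_lit 1307) (nat_lit 18290) (nat_lit 2716) (.node (.node (.node .nil (nat_lit
  1316) (nat_lit 14946) (nat_lit 2725) .nil) (nat_lit 1317) (nat_lit 10227) (nat_lit 3655) (.node .nil
  (nat_lit 1318) (nat_lit 15649) (nat_lit 1610) .nil)) (nat_lit 1319) (nat_lit 25156) (nat_lit 1985) (.node
  (.node .nil (nat_lit 1324) (nat_lit 29922) (nat_lit 2734) .nil) (nat_lit 1325) (nat_lit 31635) (nat_lit
  1095) .nil))))))
def tv3_5 : T := (.node (.node (.node (.node (.node (.node (.node .nil (nat_lit 1327) (nat_lit 17201) (nat_lit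
  1275) .nil) (nat_lit 1328) (nat_lit 27569) (nat_lit 2123) (.node .nil (nat_lit 1329) (nat_lit 29315)
  (nat_lit 1607) .nil)) (nat_lit 1330) (nat_lit 29188) (nat_lit 1729) (.node (.node .nil (nat_lit 1331)
  (nat_lit 5377) (nat_lit 1616) .nil) (nat_lit 1336) (nat_lit 11507) (nat_lit 775) (.node .nil (nat_lit 1337)
  (nat_lit 25828) (nat_lit 2369) .nil))) (nat_lit 1338) (nat_lit 5186) (nat_lit 2741) (.node (.node (.node
  .nil (nat_lit 1339) (nat_lit 7764) (nat_lit 833) .nil) (nat_lit 1345) (nat_lit 17554) (nat_lit 202) (.node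
  .nil (nat_lit 1347) (nat_lit 306) (nat_lit 197) .nil)) (nat_lit 1348) (nat_lit 9747) (nat_lit 3844) (.node
  (.node .nil (nat_lit 1350) (nat_lit 1665) (nat_lit 2044) .nil) (nat_lit 1353) (nat_lit 3905) (nat_lit 3971)
  (.node .nil (nat_lit 1355) (nat_lit 3875) (nat_lit 3972) .nil)))) (nat_lit 1356) (nat_lit 324) (nat_lit 197)
  (.node (.node (.node (.node .nil (nat_lit 1358) (nat_lit 130) (nat_lit 194) .nil) (nat_lit 1360) (nat_lit
  18580) (nat_lit 1093) (.node .nil (nat_lit 1362) (nat_lit 31393) (nat_lit 3787) .nil)) (nat_lit 1365)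
  (nat_lit 27410) (nat_lit 222) (.node (.node .nil (nat_lit 1367) (nat_lit 25524) (nat_lit 2821) .nil)
  (nat_lit 1368) (nat_lit 21921) (nat_lit 609) (.node .nil (nat_lit 1370) (nat_lit 3523) (nat_lit 1988)
  .nil))) (nat_lit 1373) (nat_lit 16932) (nat_lit 389) (.node (.node (.node .nil (nat_lit 1375) (nat_lit
  19492) (nat_lit 2949) .nil) (nat_lit 1377) (nat_lit 27666) (nat_lit 233) (.node .nil (nat_lit 1379) (nat_lit
  18388) (nat_lit 1925) .nil)) (nat_lit 1380) (nat_lit 13235) (nat_lit 260) (.node (.node .nil (nat_lit 1382)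
  (nat_lit 9521) (nat_lit 2937) .nil) (nat_lit 1385) (nat_lit 19267) (nat_lit 2884) (.node .nil (nat_lit 1387)
  (nat_lit 28450) (nat_lit 237) .nil))))) (nat_lit 1388) (nat_lit 10706) (nat_lit 238) (.node (.node (.node
  (.node (.node .nil (nat_lit 1390) (nat_lit 14993) (nat_lit 229) .nil) (nat_lit 1392) (nat_lit 28403)
  (nat_lit 2308) (.node .nil (nat_lit 1394) (nat_lit 25394) (nat_lit 254) .nil)) (nat_lit 1397) (nat_lit
  15122) (nat_lit 253) (.node (.node .nil (nat_lit 1399) (nat_lit 12705) (nat_lit 1691) .nil) (nat_lit 1400)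
  (nat_lit 28625) (nat_lit 3812) (.node .nil (nat_lit 1402) (nat_lit 14273) (nat_lit 2514) .nil))) (nat_lit
  1405) (nat_lit 28370) (nat_lit 246) (.node (.node (.node .nil (nat_lit 1407) (nat_lit 5156) (nat_lit 773)
  .nil) (nat_lit 1410) (nat_lit 1524) (nat_lit 2569) (.node .nil (nat_lit 1411) (nat_lit 7891) (nat_lit 1413)
  .nil)) (nat_lit 1412) (nat_lit 850) (nat_lit 1286) (.node (.node .nil (nat_lit 1413) (nat_lit 3345) (nat_lit
  758) .nil) (nat_lit 1418) (nat_lit 241) (nat_lit 2697) (.node .nil (nat_lit 1419) (nat_lit 3122) (nat_lit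
  1294) .nil)))) (nat_lit 1420) (nat_lit 8850) (nat_lit 1293) (.node (.node (.node (.node .nil (nat_lit 1421)
  (nat_lit 9796) (nat_lit 1481) .nil) (nat_lit 1424) (nat_lit 22113) (nat_lit 748) (.node .nil (nat_lit 1425)
  (nat_lit 21171) (nat_lit 2117) .nil)) (nat_lit 1430) (nat_lit 18228) (nat_lit 3593) (.node (.node .nil
  (nat_lit 1431) (nat_lit 14449) (nat_lit 271) .nil) (nat_lit 1432) (nat_lit 14116) (nat_lit 1225) (.node .nil
  (nat_lit 1433) (nat_lit 27123) (nat_lit 581) .nil))) (nat_lit 1438) (nat_lit 30164) (nat_lit 3721) (.node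
  (.node (.node .nil (nat_lit 1439) (nat_lit 18371) (nat_lit 1925) .nil) (nat_lit 1442) (nat_lit 29027)
  (nat_lit 1221) (.node .nil (nat_lit 1443) (nat_lit 19475) (nat_lit 2949) .nil)) (nat_lit 1444) (nat_lit
  18466) (nat_lit 1317) (.node (.node .nil (nat_lit 1445) (nat_lit 22433) (nat_lit 3699) .nil) (nat_lit 1450)
  (nat_lit 16180) (nat_lit 521) .nil))))) (nat_lit 1451) (nat_lit 16915) (nat_lit 389) (.node (.node (.node
  (.node (.node (.node .nil (nat_lit 1452) (nat_lit 25507) (nat_lit 2821) .nil) (nat_lit 1453) (nat_lit 18563)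
  (nat_lit 1093) (.node .nil (nat_lit 1456) (nat_lit 21537) (nat_lit 3689) .nil)) (nat_lit 1457) (nat_lit
  15092) (nat_lit 2505) (.node (.node .nil (nat_lit 1462) (nat_lit 15409) (nat_lit 1191) .nil) (nat_lit 1463)
  (nat_lit 19937) (nat_lit 3466) (.node .nil (nat_lit 1464) (nat_lit 5139) (nat_lit 773) .nil))) (nat_lit
  1465) (nat_lit 31906) (nat_lit 1328) (.node (.node (.node .nil (nat_lit 1470) (nat_lit 11714) (nat_lit 1331)
  .nil) (nat_lit 1471) (nat_lit 24563) (nat_lit 2437) (.node .nil (nat_lit 1473) (nat_lit 8884) (nat_lit 1293)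
  .nil)) (nat_lit 1474) (nat_lit 1394) (nat_lit 3919) (.node (.node .nil (nat_lit 1476) (nat_lit 14675)
  (nat_lit 3846) .nil) (nat_lit 1479) (nat_lit 2306) (nat_lit 3907) (.node .nil (nat_lit 1481) (nat_lit 4355)
  (nat_lit 1350) .nil)))) (nat_lit 1482) (nat_lit 6868) (nat_lit 2701) (.node (.node (.node (.node .nil
  (nat_lit 1484) (nat_lit 867) (nat_lit 1286) .nil) (nat_lit 1487) (nat_lit 3842) (nat_lit 3912) (.node .nil
  (nat_lit 1488) (nat_lit 10049) (nat_lit 4063) .nil)) (nat_lit 1491) (nat_lit 26596) (nat_lit 2893) (.node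
  (.node .nil (nat_lit 1493) (nat_lit 16068) (nat_lit 269) .nil) (nat_lit 1494) (nat_lit 22913) (nat_lit 1297)
  (.node .nil (nat_lit 1496) (nat_lit 31044) (nat_lit 1229) .nil))) (nat_lit 1499) (nat_lit 15954) (nat_lit
  3932) (.node (.node (.node .nil (nat_lit 1501) (nat_lit 23409) (nat_lit 150) .nil) (nat_lit 1502) (nat_lit
  26563) (nat_lit 2246) (.node .nil (nat_lit 1505) (nat_lit 1921) (nat_lit 3768) .nil)) (nat_lit 1506)
  (nat_lit 26881) (nat_lit 163) (.node (.node .nil (nat_lit 1508) (nat_lit 17905) (nat_lit 2669) .nil)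
  (nat_lit 1511) (nat_lit 11809) (nat_lit 1142) (.node .nil (nat_lit 1513) (nat_lit 19312) (nat_lit 2647)
  .nil))))) (nat_lit 1514) (nat_lit 27459) (nat_lit 3782) (.node (.node (.node (.node (.node .nil (nat_lit
  1516) (nat_lit 10787) (nat_lit 2822) .nil) (nat_lit 1519) (nat_lit 30098) (nat_lit 3947) (.node .nil
  (nat_lit 1520) (nat_lit 17041) (nat_lit 858) .nil)) (nat_lit 1523) (nat_lit 29202) (nat_lit 3956) (.node
  (.node .nil (nat_lit 1525) (nat_lit 28884) (nat_lit 2445) .nil) (nat_lit 1526) (nat_lit 13905) (nat_lit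
  2452) (.node .nil (nat_lit 1528) (nat_lit 23731) (nat_lit 774) .nil))) (nat_lit 1531) (nat_lit 20372)
  (nat_lit 845) (.node (.node (.node .nil (nat_lit 1533) (nat_lit 30483) (nat_lit 838) .nil) (nat_lit 1534)
  (nat_lit 19347) (nat_lit 1734) (.node .nil (nat_lit 1544) (nat_lit 28915) (nat_lit 2610) .nil)) (nat_lit
  1545) (nat_lit 19665) (nat_lit 1937) (.node (.node .nil (nat_lit 1546) (nat_lit 11553) (nat_lit 2442) .nil)
  (nat_lit 1547) (nat_lit 8035) (nat_lit 4018) (.node .nil (nat_lit 1548) (nat_lit 25428) (nat_lit 254)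
  .nil)))) (nat_lit 1549) (nat_lit 28259) (nat_lit 2674) (.node (.node (.node (.node .nil (nat_lit 1550)
  (nat_lit 14753) (nat_lit 1138) .nil) (nat_lit 1551) (nat_lit 20132) (nat_lit 4094) (.node .nil (nat_lit
  1552) (nat_lit 3171) (nat_lit 1842) .nil)) (nat_lit 1553) (nat_lit 14866) (nat_lit 984) (.node (.node .nil
  (nat_lit 1554) (nat_lit 13475) (nat_lit 3570) .nil) (nat_lit 1555) (nat_lit 17028) (nat_lit 2942) (.node
  .nil (nat_lit 1556) (nat_lit 30178) (nat_lit 980) .nil))) (nat_lit 1557) (nat_lit 11425) (nat_lit 1338)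
  (.node (.node (.node .nil (nat_lit 1558) (nat_lit 26004) (nat_lit 3646) .nil) (nat_lit 1559) (nat_lit 23905)
  (nat_lit 524) (.node .nil (nat_lit 1576) (nat_lit 17489) (nat_lit 569) .nil)) (nat_lit 1577) (nat_lit 24722)
  (nat_lit 994) (.node (.node .nil (nat_lit 1578) (nat_lit 4305) (nat_lit 1295) .nil) (nat_lit 1579) (nat_lit
  29059) (nat_lit 434) .nil))))))
def tv3_6 : T := (.node (.node (.node (.node (.node (.node (.node .nil (nat_lit 1581) (nat_lit 6050) (nat_lit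
  996) .nil) (nat_lit 1582) (nat_lit 12244) (nat_lit 638) (.node .nil (nat_lit 1583) (nat_lit 6449) (nat_lit
  474) .nil)) (nat_lit 1584) (nat_lit 19361) (nat_lit 3434) (.node (.node .nil (nat_lit 1585) (nat_lit 26100)
  (nat_lit 2558) .nil) (nat_lit 1586) (nat_lit 21202) (nat_lit 1022) (.node .nil (nat_lit 1587) (nat_lit
  21236) (nat_lit 1022) .nil))) (nat_lit 1588) (nat_lit 29523) (nat_lit 1586) (.node (.node (.node .nil
  (nat_lit 1589) (nat_lit 30051) (nat_lit 2418) .nil) (nat_lit 1590) (nat_lit 14577) (nat_lit 1956) (.node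
  .nil (nat_lit 1591) (nat_lit 23283) (nat_lit 946) .nil)) (nat_lit 1601) (nat_lit 11460) (nat_lit 1338)
  (.node (.node .nil (nat_lit 1603) (nat_lit 24292) (nat_lit 3898) .nil) (nat_lit 1605) (nat_lit 18160)
  (nat_lit 2959) (.node .nil (nat_lit 1607) (nat_lit 20610) (nat_lit 2435) .nil)))) (nat_lit 1608) (nat_lit
  18400) (nat_lit 2948) (.node (.node (.node (.node .nil (nat_lit 1610) (nat_lit 8113) (nat_lit 1209) .nil)
  (nat_lit 1612) (nat_lit 28866) (nat_lit 2445) (.node .nil (nat_lit 1614) (nat_lit 24658) (nat_lit 2434)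
  .nil)) (nat_lit 1616) (nat_lit 2116) (nat_lit 1146) (.node (.node .nil (nat_lit 1618) (nat_lit 9715)
  (nat_lit 3569) .nil) (nat_lit 1620) (nat_lit 13892) (nat_lit 1082) (.node .nil (nat_lit 1622) (nat_lit 8596)
  (nat_lit 3642) .nil))) (nat_lit 1625) (nat_lit 21603) (nat_lit 625) (.node (.node (.node .nil (nat_lit 1627)
  (nat_lit 9217) (nat_lit 2395) .nil) (nat_lit 1629) (nat_lit 11668) (nat_lit 442) (.node .nil (nat_lit 1631)
  (nat_lit 12579) (nat_lit 1969) .nil)) (nat_lit 1633) (nat_lit 12932) (nat_lit 3514) (.node (.node .nil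
  (nat_lit 1635) (nat_lit 6833) (nat_lit 2701) .nil) (nat_lit 1637) (nat_lit 1218) (nat_lit 2479) (.node .nil
  (nat_lit 1639) (nat_lit 468) (nat_lit 2042) .nil))))) (nat_lit 1640) (nat_lit 26625) (nat_lit 3850) (.node
  (.node (.node (.node (.node .nil (nat_lit 1642) (nat_lit 3652) (nat_lit 570) .nil) (nat_lit 1644) (nat_lit
  4130) (nat_lit 2478) (.node .nil (nat_lit 1646) (nat_lit 23873) (nat_lit 1476) .nil)) (nat_lit 1648)
  (nat_lit 17777) (nat_lit 89) (.node (.node .nil (nat_lit 1650) (nat_lit 17153) (nat_lit 1903) .nil) (nat_lit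
  1652) (nat_lit 13442) (nat_lit 2487) (.node .nil (nat_lit 1654) (nat_lit 25185) (nat_lit 2711) .nil)))
  (nat_lit 1657) (nat_lit 21265) (nat_lit 744) (.node (.node (.node .nil (nat_lit 1659) (nat_lit 31777)
  (nat_lit 1502) .nil) (nat_lit 1661) (nat_lit 28067) (nat_lit 881) (.node .nil (nat_lit 1663) (nat_lit 14052)
  (nat_lit 826) .nil)) (nat_lit 1666) (nat_lit 24433) (nat_lit 1076) (.node (.node .nil (nat_lit 1667)
  (nat_lit 29699) (nat_lit 1456) .nil) (nat_lit 1670) (nat_lit 20020) (nat_lit 2678) (.node .nil (nat_lit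
  1671) (nat_lit 23985) (nat_lit 225) .nil)))) (nat_lit 1672) (nat_lit 30401) (nat_lit 2206) (.node (.node
  (.node (.node .nil (nat_lit 1673) (nat_lit 21121) (nat_lit 435) .nil) (nat_lit 1676) (nat_lit 17281)
  (nat_lit 1382) (.node .nil (nat_lit 1677) (nat_lit 22900) (nat_lit 1526) .nil)) (nat_lit 1680) (nat_lit
  11828) (nat_lit 1142) (.node (.node .nil (nat_lit 1681) (nat_lit 13746) (nat_lit 3160) .nil) (nat_lit 1684)
  (nat_lit 15332) (nat_lit 1078) (.node .nil (nat_lit 1685) (nat_lit 4948) (nat_lit 310) .nil))) (nat_lit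
  1690) (nat_lit 26370) (nat_lit 3158) (.node (.node (.node .nil (nat_lit 1691) (nat_lit 6002) (nat_lit 3164)
  .nil) (nat_lit 1694) (nat_lit 8147) (nat_lit 2288) (.node .nil (nat_lit 1695) (nat_lit 8001) (nat_lit 4018)
  .nil)) (nat_lit 1698) (nat_lit 25697) (nat_lit 2225) (.node (.node .nil (nat_lit 1699) (nat_lit 8420)
  (nat_lit 1974) .nil) (nat_lit 1702) (nat_lit 3396) (nat_lit 758) .nil))))) (nat_lit 1703) (nat_lit 5283)
  (nat_lit 1200) (.node (.node (.node (.node (.node (.node .nil (nat_lit 1704) (nat_lit 26034) (nat_lit 3176)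
  .nil) (nat_lit 1705) (nat_lit 12977) (nat_lit 3382) (.node .nil (nat_lit 1708) (nat_lit 4211) (nat_lit 2864)
  .nil)) (nat_lit 1709) (nat_lit 4289) (nat_lit 206) (.node (.node .nil (nat_lit 1712) (nat_lit 25569)
  (nat_lit 2888) .nil) (nat_lit 1713) (nat_lit 27091) (nat_lit 1648) (.node .nil (nat_lit 1716) (nat_lit
  26132) (nat_lit 3254) .nil))) (nat_lit 1717) (nat_lit 30596) (nat_lit 2486) (.node (.node (.node .nil
  (nat_lit 1722) (nat_lit 18930) (nat_lit 3189) .nil) (nat_lit 1723) (nat_lit 14146) (nat_lit 3199) (.node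
  .nil (nat_lit 1726) (nat_lit 20688) (nat_lit 3049) .nil)) (nat_lit 1727) (nat_lit 14401) (nat_lit 823)
  (.node (.node .nil (nat_lit 1729) (nat_lit 20418) (nat_lit 1546) .nil) (nat_lit 1730) (nat_lit 28932)
  (nat_lit 2610) (.node .nil (nat_lit 1733) (nat_lit 23681) (nat_lit 2788) .nil)))) (nat_lit 1734) (nat_lit
  10833) (nat_lit 1279) (.node (.node (.node (.node .nil (nat_lit 1736) (nat_lit 15586) (nat_lit 1547) .nil)
  (nat_lit 1739) (nat_lit 8052) (nat_lit 4018) (.node .nil (nat_lit 1740) (nat_lit 11731) (nat_lit 1331)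
  .nil)) (nat_lit 1743) (nat_lit 31123) (nat_lit 179) (.node (.node .nil (nat_lit 1744) (nat_lit 13008)
  (nat_lit 2928) .nil) (nat_lit 1747) (nat_lit 26305) (nat_lit 1253) (.node .nil (nat_lit 1748) (nat_lit
  30980) (nat_lit 1074) .nil))) (nat_lit 1751) (nat_lit 5699) (nat_lit 3507) (.node (.node (.node .nil
  (nat_lit 1753) (nat_lit 25668) (nat_lit 498) .nil) (nat_lit 1754) (nat_lit 17108) (nat_lit 3826) (.node .nil
  (nat_lit 1757) (nat_lit 20274) (nat_lit 1557) .nil)) (nat_lit 1758) (nat_lit 7586) (nat_lit 1552) (.node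
  (.node .nil (nat_lit 1761) (nat_lit 25937) (nat_lit 2969) .nil) (nat_lit 1762) (nat_lit 3985) (nat_lit 1410)
  (.node .nil (nat_lit 1765) (nat_lit 13170) (nat_lit 1583) .nil))))) (nat_lit 1766) (nat_lit 9666) (nat_lit
  1578) (.node (.node (.node (.node (.node .nil (nat_lit 1768) (nat_lit 26658) (nat_lit 1576) .nil) (nat_lit
  1771) (nat_lit 2688) (nat_lit 2902) (.node .nil (nat_lit 1772) (nat_lit 5857) (nat_lit 1232) .nil)) (nat_lit
  1775) (nat_lit 14001) (nat_lit 2763) (.node (.node .nil (nat_lit 1776) (nat_lit 31620) (nat_lit 3314) .nil)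
  (nat_lit 1779) (nat_lit 31955) (nat_lit 3251) (.node .nil (nat_lit 1780) (nat_lit 25361) (nat_lit 2947)
  .nil))) (nat_lit 1783) (nat_lit 23249) (nat_lit 1432) (.node (.node (.node .nil (nat_lit 1785) (nat_lit
  22449) (nat_lit 1226) .nil) (nat_lit 1786) (nat_lit 22531) (nat_lit 2547) (.node .nil (nat_lit 1789)
  (nat_lit 23810) (nat_lit 1590) .nil)) (nat_lit 1790) (nat_lit 21457) (nat_lit 1833) (.node (.node .nil
  (nat_lit 1796) (nat_lit 10308) (nat_lit 107) .nil) (nat_lit 1797) (nat_lit 27169) (nat_lit 3046) (.node .nil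
  (nat_lit 1798) (nat_lit 30707) (nat_lit 1501) .nil)))) (nat_lit 1799) (nat_lit 13331) (nat_lit 2717) (.node
  (.node (.node (.node .nil (nat_lit 1800) (nat_lit 26817) (nat_lit 1199) .nil) (nat_lit 1801) (nat_lit 26244)
  (nat_lit 1451) (.node .nil (nat_lit 1802) (nat_lit 30946) (nat_lit 3396) .nil)) (nat_lit 1803) (nat_lit
  28148) (nat_lit 4011) (.node (.node .nil (nat_lit 1808) (nat_lit 19603) (nat_lit 1821) .nil) (nat_lit 1809)
  (nat_lit 24980) (nat_lit 363) (.node .nil (nat_lit 1810) (nat_lit 24337) (nat_lit 3274) .nil))) (nat_lit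
  1811) (nat_lit 20705) (nat_lit 1511) (.node (.node (.node .nil (nat_lit 1820) (nat_lit 24611) (nat_lit 541)
  .nil) (nat_lit 1821) (nat_lit 11058) (nat_lit 3413) (.node .nil (nat_lit 1822) (nat_lit 19635) (nat_lit
  2269) .nil)) (nat_lit 1823) (nat_lit 31523) (nat_lit 1949) (.node (.node .nil (nat_lit 1828) (nat_lit 21012)
  (nat_lit 2283) .nil) (nat_lit 1829) (nat_lit 5473) (nat_lit 1891) .nil))))))
def tv3_7 : T := (.node (.node (.node (.node (.node (.node (.node .nil (nat_lit 1831) (nat_lit 6516) (nat_lit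
  2027) .nil) (nat_lit 1832) (nat_lit 5747) (nat_lit 1053) (.node .nil (nat_lit 1833) (nat_lit 12466) (nat_lit
  3426) .nil)) (nat_lit 1834) (nat_lit 11026) (nat_lit 3431) (.node (.node .nil (nat_lit 1835) (nat_lit 9027)
  (nat_lit 413) .nil) (nat_lit 1840) (nat_lit 10628) (nat_lit 3307) (.node .nil (nat_lit 1841) (nat_lit 4788)
  (nat_lit 2539) .nil))) (nat_lit 1842) (nat_lit 1185) (nat_lit 79) (.node (.node (.node .nil (nat_lit 1843)
  (nat_lit 6288) (nat_lit 2338) .nil) (nat_lit 1852) (nat_lit 29458) (nat_lit 3452) (.node .nil (nat_lit 1853)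
  (nat_lit 14339) (nat_lit 861) .nil)) (nat_lit 1854) (nat_lit 28995) (nat_lit 1757) (.node (.node .nil
  (nat_lit 1855) (nat_lit 14641) (nat_lit 3846) .nil) (nat_lit 1857) (nat_lit 16289) (nat_lit 2861) (.node
  .nil (nat_lit 1859) (nat_lit 17617) (nat_lit 3099) .nil)))) (nat_lit 1860) (nat_lit 24212) (nat_lit 111)
  (.node (.node (.node (.node .nil (nat_lit 1862) (nat_lit 28833) (nat_lit 2254) .nil) (nat_lit 1864) (nat_lit
  11969) (nat_lit 2460) (.node .nil (nat_lit 1866) (nat_lit 17569) (nat_lit 3754) .nil)) (nat_lit 1869)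
  (nat_lit 22258) (nat_lit 1799) (.node (.node .nil (nat_lit 1871) (nat_lit 11536) (nat_lit 2442) .nil)
  (nat_lit 1872) (nat_lit 28467) (nat_lit 1822) (.node .nil (nat_lit 1874) (nat_lit 19586) (nat_lit 1821)
  .nil))) (nat_lit 1877) (nat_lit 19107) (nat_lit 1886) (.node (.node (.node .nil (nat_lit 1879) (nat_lit
  31299) (nat_lit 3486) .nil) (nat_lit 1881) (nat_lit 13409) (nat_lit 1150) (.node .nil (nat_lit 1883)
  (nat_lit 30419) (nat_lit 2206) .nil)) (nat_lit 1884) (nat_lit 26852) (nat_lit 1199) (.node (.node .nil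
  (nat_lit 1886) (nat_lit 10595) (nat_lit 2270) .nil) (nat_lit 1889) (nat_lit 6131) (nat_lit 350) (.node .nil
  (nat_lit 1891) (nat_lit 2192) (nat_lit 2450) .nil))))) (nat_lit 1892) (nat_lit 11890) (nat_lit 1829) (.node
  (.node (.node (.node (.node .nil (nat_lit 1894) (nat_lit 10019) (nat_lit 3038) .nil) (nat_lit 1896) (nat_lit
  2948) (nat_lit 2095) (.node .nil (nat_lit 1898) (nat_lit 13265) (nat_lit 559) .nil)) (nat_lit 1901) (nat_lit
  27361) (nat_lit 460) (.node (.node .nil (nat_lit 1903) (nat_lit 9411) (nat_lit 3742) .nil) (nat_lit 1904)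
  (nat_lit 5841) (nat_lit 2634) (.node .nil (nat_lit 1906) (nat_lit 23076) (nat_lit 1775) .nil))) (nat_lit
  1909) (nat_lit 1105) (nat_lit 3743) (.node (.node (.node .nil (nat_lit 1911) (nat_lit 3154) (nat_lit 1842)
  .nil) (nat_lit 1913) (nat_lit 4980) (nat_lit 2415) (.node .nil (nat_lit 1915) (nat_lit 14705) (nat_lit 4045)
  .nil)) (nat_lit 1916) (nat_lit 29475) (nat_lit 3102) (.node (.node .nil (nat_lit 1918) (nat_lit 2705)
  (nat_lit 2840) .nil) (nat_lit 1922) (nat_lit 12658) (nat_lit 719) (.node .nil (nat_lit 1923) (nat_lit 26548)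
  (nat_lit 3875) .nil)))) (nat_lit 1924) (nat_lit 16099) (nat_lit 3871) (.node (.node (.node (.node .nil
  (nat_lit 1925) (nat_lit 10163) (nat_lit 95) .nil) (nat_lit 1928) (nat_lit 23442) (nat_lit 715) (.node .nil
  (nat_lit 1929) (nat_lit 15906) (nat_lit 705) .nil)) (nat_lit 1934) (nat_lit 10083) (nat_lit 4063) (.node
  (.node .nil (nat_lit 1935) (nat_lit 20162) (nat_lit 712) .nil) (nat_lit 1936) (nat_lit 31202) (nat_lit 722)
  (.node .nil (nat_lit 1937) (nat_lit 11122) (nat_lit 728) .nil))) (nat_lit 1942) (nat_lit 28433) (nat_lit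
  1808) (.node (.node (.node .nil (nat_lit 1943) (nat_lit 21585) (nat_lit 3645) .nil) (nat_lit 1946) (nat_lit
  9601) (nat_lit 372) (.node .nil (nat_lit 1947) (nat_lit 26611) (nat_lit 2207) .nil)) (nat_lit 1948) (nat_lit
  22739) (nat_lit 543) (.node (.node .nil (nat_lit 1949) (nat_lit 25761) (nat_lit 663) .nil) (nat_lit 1954)
  (nat_lit 12195) (nat_lit 1247) .nil))))) (nat_lit 1955) (nat_lit 1763) (nat_lit 2975) (.node (.node (.node
  (.node (.node (.node .nil (nat_lit 1956) (nat_lit 7379) (nat_lit 287) .nil) (nat_lit 1957) (nat_lit 12082)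
  (nat_lit 751) (.node .nil (nat_lit 1960) (nat_lit 21282) (nat_lit 744) .nil)) (nat_lit 1961) (nat_lit 11873)
  (nat_lit 1829) (.node (.node .nil (nat_lit 1966) (nat_lit 31572) (nat_lit 611) .nil) (nat_lit 1967) (nat_lit
  1139) (nat_lit 3743) (.node .nil (nat_lit 1968) (nat_lit 5523) (nat_lit 2335) .nil))) (nat_lit 1969)
  (nat_lit 5938) (nat_lit 763) (.node (.node (.node .nil (nat_lit 1974) (nat_lit 3571) (nat_lit 3295) .nil)
  (nat_lit 1975) (nat_lit 9073) (nat_lit 696) (.node .nil (nat_lit 1978) (nat_lit 9697) (nat_lit 3569) .nil))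
  (nat_lit 1979) (nat_lit 15491) (nat_lit 1695) (.node (.node .nil (nat_lit 1980) (nat_lit 7394) (nat_lit 764)
  .nil) (nat_lit 1981) (nat_lit 3362) (nat_lit 758) (.node .nil (nat_lit 1985) (nat_lit 15971) (nat_lit 3932)
  .nil)))) (nat_lit 1986) (nat_lit 23841) (nat_lit 788) (.node (.node (.node (.node .nil (nat_lit 1988)
  (nat_lit 1313) (nat_lit 2522) .nil) (nat_lit 1991) (nat_lit 18307) (nat_lit 2716) (.node .nil (nat_lit 1992)
  (nat_lit 18083) (nat_lit 2588) .nil)) (nat_lit 1995) (nat_lit 20227) (nat_lit 3996) (.node (.node .nil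
  (nat_lit 1997) (nat_lit 20724) (nat_lit 1511) .nil) (nat_lit 1998) (nat_lit 29810) (nat_lit 2178) (.node
  .nil (nat_lit 2000) (nat_lit 27044) (nat_lit 1127) .nil))) (nat_lit 2003) (nat_lit 26451) (nat_lit 668)
  (.node (.node (.node .nil (nat_lit 2005) (nat_lit 7825) (nat_lit 1080) .nil) (nat_lit 2006) (nat_lit 28578)
  (nat_lit 2203) (.node .nil (nat_lit 2009) (nat_lit 11169) (nat_lit 604) .nil)) (nat_lit 2010) (nat_lit
  24756) (nat_lit 3815) (.node (.node .nil (nat_lit 2012) (nat_lit 15444) (nat_lit 1191) .nil) (nat_lit 2015)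
  (nat_lit 30387) (nat_lit 1948) (.node .nil (nat_lit 2017) (nat_lit 6548) (nat_lit 3495) .nil))))) (nat_lit
  2018) (nat_lit 31155) (nat_lit 1244) (.node (.node (.node (.node (.node .nil (nat_lit 2020) (nat_lit 3011)
  (nat_lit 284) .nil) (nat_lit 2023) (nat_lit 4515) (nat_lit 1180) (.node .nil (nat_lit 2024) (nat_lit 18849)
  (nat_lit 827) .nil)) (nat_lit 2027) (nat_lit 2625) (nat_lit 3360) (.node (.node .nil (nat_lit 2029) (nat_lit
  2243) (nat_lit 1116) .nil) (nat_lit 2030) (nat_lit 9362) (nat_lit 2209) (.node .nil (nat_lit 2032) (nat_lit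
  24771) (nat_lit 2332) .nil))) (nat_lit 2035) (nat_lit 9300) (nat_lit 999) (.node (.node (.node .nil (nat_lit
  2037) (nat_lit 3443) (nat_lit 2396) .nil) (nat_lit 2038) (nat_lit 4002) (nat_lit 2232) (.node .nil (nat_lit
  2041) (nat_lit 2561) (nat_lit 3801) .nil)) (nat_lit 2042) (nat_lit 113) (nat_lit 194) (.node (.node .nil
  (nat_lit 2044) (nat_lit 593) (nat_lit 2572) .nil) (nat_lit 2047) (nat_lit 11987) (nat_lit 2460) (.node .nil
  (nat_lit 2080) (nat_lit 30034) (nat_lit 2083) .nil)))) (nat_lit 2081) (nat_lit 18241) (nat_lit 2713) (.node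
  (.node (.node (.node .nil (nat_lit 2082) (nat_lit 18674) (nat_lit 2092) .nil) (nat_lit 2083) (nat_lit 21953)
  (nat_lit 3503) (.node .nil (nat_lit 2084) (nat_lit 1827) (nat_lit 276) .nil)) (nat_lit 2085) (nat_lit 2930)
  (nat_lit 2095) (.node (.node .nil (nat_lit 2086) (nat_lit 21316) (nat_lit 744) .nil) (nat_lit 2087) (nat_lit
  25747) (nat_lit 1172) (.node .nil (nat_lit 2088) (nat_lit 5395) (nat_lit 1044) .nil))) (nat_lit 2089)
  (nat_lit 27858) (nat_lit 2082) (.node (.node (.node .nil (nat_lit 2090) (nat_lit 12388) (nat_lit 552) .nil)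
  (nat_lit 2091) (nat_lit 2355) (nat_lit 404) (.node .nil (nat_lit 2092) (nat_lit 10354) (nat_lit 2094) .nil))
  (nat_lit 2093) (nat_lit 4690) (nat_lit 2084) (.node (.node .nil (nat_lit 2094) (nat_lit 4625) (nat_lit 742)
  .nil) (nat_lit 2095) (nat_lit 1075) (nat_lit 3732) .nil))))))
def tv3_8 : T := (.node (.node (.node (.node (.node (.node (.node .nil (nat_lit 2097) (nat_lit 8788) (nat_lit
  2536) .nil) (nat_lit 2098) (nat_lit 22689) (nat_lit 77) (.node .nil (nat_lit 2099) (nat_lit 28193) (nat_lit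
  2400) .nil)) (nat_lit 2100) (nat_lit 24545) (nat_lit 2691) (.node (.node .nil (nat_lit 2101) (nat_lit 30275)
  (nat_lit 2388) .nil) (nat_lit 2102) (nat_lit 26721) (nat_lit 3509) (.node .nil (nat_lit 2103) (nat_lit
  24532) (nat_lit 936) .nil))) (nat_lit 2104) (nat_lit 23859) (nat_lit 788) (.node (.node (.node .nil (nat_lit
  2105) (nat_lit 2852) (nat_lit 2408) .nil) (nat_lit 2106) (nat_lit 27795) (nat_lit 2516) (.node .nil (nat_lit
  2107) (nat_lit 3812) (nat_lit 872) .nil)) (nat_lit 2108) (nat_lit 7345) (nat_lit 287) (.node (.node .nil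
  (nat_lit 2109) (nat_lit 26931) (nat_lit 852) .nil) (nat_lit 2110) (nat_lit 26676) (nat_lit 1576) (.node .nil
  (nat_lit 2111) (nat_lit 3332) (nat_lit 808) .nil)))) (nat_lit 2113) (nat_lit 28739) (nat_lit 3927) (.node
  (.node (.node (.node .nil (nat_lit 2115) (nat_lit 23553) (nat_lit 3097) .nil) (nat_lit 2117) (nat_lit 12257)
  (nat_lit 1751) (.node .nil (nat_lit 2119) (nat_lit 9890) (nat_lit 579) .nil)) (nat_lit 2121) (nat_lit 28706)
  (nat_lit 577) (.node (.node .nil (nat_lit 2123) (nat_lit 18337) (nat_lit 1925) .nil) (nat_lit 2125) (nat_lit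
  19300) (nat_lit 1516) (.node .nil (nat_lit 2127) (nat_lit 29073) (nat_lit 2685) .nil))) (nat_lit 2129)
  (nat_lit 31809) (nat_lit 4064) (.node (.node (.node .nil (nat_lit 2131) (nat_lit 25795) (nat_lit 663) .nil)
  (nat_lit 2133) (nat_lit 28529) (nat_lit 536) (.node .nil (nat_lit 2135) (nat_lit 31587) (nat_lit 3479)
  .nil)) (nat_lit 2137) (nat_lit 30450) (nat_lit 595) (.node (.node .nil (nat_lit 2139) (nat_lit 11186)
  (nat_lit 604) .nil) (nat_lit 2141) (nat_lit 15860) (nat_lit 428) (.node .nil (nat_lit 2143) (nat_lit 12817)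
  (nat_lit 3762) .nil))))) (nat_lit 2144) (nat_lit 31554) (nat_lit 611) (.node (.node (.node (.node (.node
  .nil (nat_lit 2146) (nat_lit 6756) (nat_lit 684) .nil) (nat_lit 2148) (nat_lit 13699) (nat_lit 279) (.node
  .nil (nat_lit 2150) (nat_lit 6402) (nat_lit 618) .nil)) (nat_lit 2152) (nat_lit 18708) (nat_lit 2092) (.node
  (.node .nil (nat_lit 2154) (nat_lit 9587) (nat_lit 3799) .nil) (nat_lit 2156) (nat_lit 20769) (nat_lit 2275)
  (.node .nil (nat_lit 2158) (nat_lit 13555) (nat_lit 471) .nil))) (nat_lit 2160) (nat_lit 7457) (nat_lit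
  2632) (.node (.node (.node .nil (nat_lit 2162) (nat_lit 12226) (nat_lit 638) .nil) (nat_lit 2164) (nat_lit
  12017) (nat_lit 1968) (.node .nil (nat_lit 2166) (nat_lit 8705) (nat_lit 134) .nil)) (nat_lit 2168) (nat_lit
  18721) (nat_lit 468) (.node (.node .nil (nat_lit 2170) (nat_lit 9121) (nat_lit 1762) .nil) (nat_lit 2172)
  (nat_lit 27953) (nat_lit 3116) (.node .nil (nat_lit 2174) (nat_lit 4276) (nat_lit 1580) .nil)))) (nat_lit
  2178) (nat_lit 21747) (nat_lit 2774) (.node (.node (.node (.node .nil (nat_lit 2179) (nat_lit 18354)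
  (nat_lit 1925) .nil) (nat_lit 2182) (nat_lit 22417) (nat_lit 989) (.node .nil (nat_lit 2183) (nat_lit 30004)
  (nat_lit 3936) .nil)) (nat_lit 2186) (nat_lit 25059) (nat_lit 214) (.node (.node .nil (nat_lit 2187)
  (nat_lit 18114) (nat_lit 1934) .nil) (nat_lit 2190) (nat_lit 21666) (nat_lit 1922) (.node .nil (nat_lit
  2191) (nat_lit 23427) (nat_lit 150) .nil))) (nat_lit 2194) (nat_lit 28001) (nat_lit 2794) (.node (.node
  (.node .nil (nat_lit 2195) (nat_lit 19747) (nat_lit 662) .nil) (nat_lit 2198) (nat_lit 25539) (nat_lit 726)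
  (.node .nil (nat_lit 2199) (nat_lit 19412) (nat_lit 2848) .nil)) (nat_lit 2202) (nat_lit 29665) (nat_lit
  374) (.node (.node .nil (nat_lit 2203) (nat_lit 19841) (nat_lit 2139) .nil) (nat_lit 2206) (nat_lit 22769)
  (nat_lit 3214) .nil))))) (nat_lit 2207) (nat_lit 17410) (nat_lit 1946) (.node (.node (.node (.node (.node
  (.node .nil (nat_lit 2208) (nat_lit 4546) (nat_lit 1955) .nil) (nat_lit 2209) (nat_lit 4083) (nat_lit 342)
  (.node .nil (nat_lit 2212) (nat_lit 11632) (nat_lit 3292) .nil)) (nat_lit 2213) (nat_lit 3042) (nat_lit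
  1967) (.node (.node .nil (nat_lit 2216) (nat_lit 29554) (nat_lit 1960) .nil) (nat_lit 2217) (nat_lit 2676)
  (nat_lit 3360) (.node .nil (nat_lit 2220) (nat_lit 32244) (nat_lit 2144) .nil))) (nat_lit 2221) (nat_lit
  14594) (nat_lit 1956) (.node (.node (.node .nil (nat_lit 2224) (nat_lit 12562) (nat_lit 1969) .nil) (nat_lit
  2225) (nat_lit 16484) (nat_lit 2528) (.node .nil (nat_lit 2228) (nat_lit 8948) (nat_lit 3232) .nil))
  (nat_lit 2229) (nat_lit 7922) (nat_lit 1981) (.node (.node .nil (nat_lit 2232) (nat_lit 1537) (nat_lit 2757)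
  .nil) (nat_lit 2233) (nat_lit 12034) (nat_lit 1968) (.node .nil (nat_lit 2236) (nat_lit 14610) (nat_lit
  1980) .nil)))) (nat_lit 2237) (nat_lit 7971) (nat_lit 854) (.node (.node (.node (.node .nil (nat_lit 2241)
  (nat_lit 23585) (nat_lit 3341) .nil) (nat_lit 2242) (nat_lit 10962) (nat_lit 3535) (.node .nil (nat_lit
  2245) (nat_lit 22212) (nat_lit 1380) .nil)) (nat_lit 2246) (nat_lit 17345) (nat_lit 3822) (.node (.node .nil
  (nat_lit 2249) (nat_lit 22625) (nat_lit 1681) .nil) (nat_lit 2250) (nat_lit 31329) (nat_lit 2186) (.node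
  .nil (nat_lit 2253) (nat_lit 27252) (nat_lit 1508) .nil))) (nat_lit 2254) (nat_lit 20064) (nat_lit 3145)
  (.node (.node (.node .nil (nat_lit 2257) (nat_lit 29236) (nat_lit 356) .nil) (nat_lit 2258) (nat_lit 19793)
  (nat_lit 2009) (.node .nil (nat_lit 2261) (nat_lit 13873) (nat_lit 1082) .nil)) (nat_lit 2262) (nat_lit
  30340) (nat_lit 3620) (.node (.node .nil (nat_lit 2265) (nat_lit 15892) (nat_lit 484) .nil) (nat_lit 2266)
  (nat_lit 15283) (nat_lit 2005) (.node .nil (nat_lit 2269) (nat_lit 11075) (nat_lit 3413) .nil))))) (nat_lit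
  2270) (nat_lit 4801) (nat_lit 445) (.node (.node (.node (.node (.node .nil (nat_lit 2272) (nat_lit 7313)
  (nat_lit 2213) .nil) (nat_lit 2275) (nat_lit 11840) (nat_lit 3154) (.node .nil (nat_lit 2276) (nat_lit 3939)
  (nat_lit 277) .nil)) (nat_lit 2279) (nat_lit 4992) (nat_lit 3166) (.node (.node .nil (nat_lit 2280) (nat_lit
  4708) (nat_lit 2084) .nil) (nat_lit 2283) (nat_lit 12098) (nat_lit 3565) (.node .nil (nat_lit 2284) (nat_lit
  12867) (nat_lit 2837) .nil))) (nat_lit 2287) (nat_lit 20836) (nat_lit 1892) (.node (.node (.node .nil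
  (nat_lit 2288) (nat_lit 3473) (nat_lit 3178) .nil) (nat_lit 2291) (nat_lit 6084) (nat_lit 996) (.node .nil
  (nat_lit 2292) (nat_lit 17953) (nat_lit 402) .nil)) (nat_lit 2295) (nat_lit 8721) (nat_lit 3977) (.node
  (.node .nil (nat_lit 2296) (nat_lit 7106) (nat_lit 3578) .nil) (nat_lit 2299) (nat_lit 5313) (nat_lit 2541)
  (.node .nil (nat_lit 2300) (nat_lit 12145) (nat_lit 2574) .nil)))) (nat_lit 2303) (nat_lit 692) (nat_lit
  804) (.node (.node (.node (.node .nil (nat_lit 2308) (nat_lit 19507) (nat_lit 3899) .nil) (nat_lit 2309)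
  (nat_lit 26530) (nat_lit 1676) (.node .nil (nat_lit 2310) (nat_lit 29092) (nat_lit 2685) .nil)) (nat_lit
  2311) (nat_lit 29169) (nat_lit 1729) (.node (.node .nil (nat_lit 2316) (nat_lit 15156) (nat_lit 253) .nil)
  (nat_lit 2317) (nat_lit 24307) (nat_lit 2683) (.node .nil (nat_lit 2318) (nat_lit 14977) (nat_lit 1136)
  .nil))) (nat_lit 2319) (nat_lit 30465) (nat_lit 3421) (.node (.node (.node .nil (nat_lit 2324) (nat_lit
  8820) (nat_lit 1085) .nil) (nat_lit 2325) (nat_lit 15746) (nat_lit 1694) (.node .nil (nat_lit 2326) (nat_lit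
  5955) (nat_lit 763) .nil)) (nat_lit 2327) (nat_lit 13715) (nat_lit 3515) (.node (.node .nil (nat_lit 2332)
  (nat_lit 15474) (nat_lit 1695) .nil) (nat_lit 2333) (nat_lit 4836) (nat_lit 445) .nil))))))
def tv3_9 : T := (.node (.node (.node (.node (.node (.node (.node .nil (nat_lit 2335) (nat_lit 2209) (nat_lit
  2450) .nil) (nat_lit 2336) (nat_lit 15460) (nat_lit 2237) (.node .nil (nat_lit 2337) (nat_lit 545) (nat_lit
  138) .nil)) (nat_lit 2338) (nat_lit 2548) (nat_lit 701) (.node (.node .nil (nat_lit 2339) (nat_lit 7940)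
  (nat_lit 1981) .nil) (nat_lit 2344) (nat_lit 29393) (nat_lit 571) (.node .nil (nat_lit 2345) (nat_lit 31506)
  (nat_lit 1698) .nil))) (nat_lit 2346) (nat_lit 8833) (nat_lit 1293) (.node (.node (.node .nil (nat_lit 2347)
  (nat_lit 7795) (nat_lit 443) .nil) (nat_lit 2352) (nat_lit 19009) (nat_lit 3432) (.node .nil (nat_lit 2353)
  (nat_lit 18545) (nat_lit 1093) .nil)) (nat_lit 2354) (nat_lit 29344) (nat_lit 3617) (.node (.node .nil
  (nat_lit 2355) (nat_lit 28512) (nat_lit 3618) .nil) (nat_lit 2360) (nat_lit 18883) (nat_lit 827) (.node .nil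
  (nat_lit 2361) (nat_lit 26257) (nat_lit 4057) .nil)))) (nat_lit 2362) (nat_lit 29507) (nat_lit 2555) (.node
  (.node (.node (.node .nil (nat_lit 2363) (nat_lit 23315) (nat_lit 1723) .nil) (nat_lit 2369) (nat_lit 16593)
  (nat_lit 316) (.node .nil (nat_lit 2371) (nat_lit 11299) (nat_lit 1464) .nil)) (nat_lit 2372) (nat_lit
  24226) (nat_lit 3270) (.node (.node .nil (nat_lit 2374) (nat_lit 30867) (nat_lit 1528) .nil) (nat_lit 2377)
  (nat_lit 32033) (nat_lit 2720) (.node .nil (nat_lit 2379) (nat_lit 20657) (nat_lit 3478) .nil))) (nat_lit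
  2380) (nat_lit 705) (nat_lit 3701) (.node (.node (.node .nil (nat_lit 2382) (nat_lit 20033) (nat_lit 2371)
  .nil) (nat_lit 2385) (nat_lit 27923) (nat_lit 2168) (.node .nil (nat_lit 2387) (nat_lit 9091) (nat_lit 696)
  .nil)) (nat_lit 2388) (nat_lit 22561) (nat_lit 294) (.node (.node .nil (nat_lit 2390) (nat_lit 7569)
  (nat_lit 1552) .nil) (nat_lit 2393) (nat_lit 6242) (nat_lit 3283) (.node .nil (nat_lit 2395) (nat_lit 4019)
  (nat_lit 2232) .nil))))) (nat_lit 2396) (nat_lit 1283) (nat_lit 568) (.node (.node (.node (.node (.node .nil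
  (nat_lit 2398) (nat_lit 14259) (nat_lit 2296) .nil) (nat_lit 2400) (nat_lit 19171) (nat_lit 3640) (.node
  .nil (nat_lit 2402) (nat_lit 12896) (nat_lit 3729) .nil)) (nat_lit 2405) (nat_lit 33) (nat_lit 65) (.node
  (.node .nil (nat_lit 2407) (nat_lit 6340) (nat_lit 2041) .nil) (nat_lit 2408) (nat_lit 1041) (nat_lit 3848)
  (.node .nil (nat_lit 2410) (nat_lit 16419) (nat_lit 3832) .nil))) (nat_lit 2413) (nat_lit 3682) (nat_lit
  3300) (.node (.node (.node .nil (nat_lit 2415) (nat_lit 1955) (nat_lit 3768) .nil) (nat_lit 2416) (nat_lit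
  23220) (nat_lit 3321) (.node .nil (nat_lit 2418) (nat_lit 22067) (nat_lit 1016) .nil)) (nat_lit 2421)
  (nat_lit 21409) (nat_lit 1166) (.node (.node .nil (nat_lit 2423) (nat_lit 23649) (nat_lit 952) .nil)
  (nat_lit 2424) (nat_lit 19136) (nat_lit 3748) (.node .nil (nat_lit 2426) (nat_lit 23155) (nat_lit 2552)
  .nil)))) (nat_lit 2429) (nat_lit 23091) (nat_lit 888) (.node (.node (.node (.node .nil (nat_lit 2431)
  (nat_lit 4673) (nat_lit 2084) .nil) (nat_lit 2434) (nat_lit 15313) (nat_lit 1078) (.node .nil (nat_lit 2435)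
  (nat_lit 11761) (nat_lit 3355) .nil)) (nat_lit 2436) (nat_lit 16401) (nat_lit 3832) (.node (.node .nil
  (nat_lit 2437) (nat_lit 15249) (nat_lit 2005) .nil) (nat_lit 2442) (nat_lit 5220) (nat_lit 2741) (.node .nil
  (nat_lit 2443) (nat_lit 24034) (nat_lit 2318) .nil))) (nat_lit 2444) (nat_lit 22161) (nat_lit 1380) (.node
  (.node (.node .nil (nat_lit 2445) (nat_lit 20081) (nat_lit 3145) .nil) (nat_lit 2450) (nat_lit 756) (nat_lit
  3701) (.node .nil (nat_lit 2451) (nat_lit 14739) (nat_lit 697) .nil)) (nat_lit 2452) (nat_lit 6916) (nat_lit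
  1077) (.node (.node .nil (nat_lit 2453) (nat_lit 10900) (nat_lit 309) .nil) (nat_lit 2458) (nat_lit 6323)
  (nat_lit 2041) .nil))))) (nat_lit 2459) (nat_lit 20947) (nat_lit 2233) (.node (.node (.node (.node (.node
  (.node .nil (nat_lit 2460) (nat_lit 5506) (nat_lit 2335) .nil) (nat_lit 2461) (nat_lit 15715) (nat_lit 3449)
  (.node .nil (nat_lit 2464) (nat_lit 14689) (nat_lit 3973) .nil)) (nat_lit 2465) (nat_lit 26772) (nat_lit
  3509) (.node (.node .nil (nat_lit 2470) (nat_lit 8961) (nat_lit 1355) .nil) (nat_lit 2471) (nat_lit 8100)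
  (nat_lit 2037) (.node .nil (nat_lit 2472) (nat_lit 27937) (nat_lit 1049) .nil))) (nat_lit 2473) (nat_lit
  6212) (nat_lit 3381) (.node (.node (.node .nil (nat_lit 2478) (nat_lit 1570) (nat_lit 2337) .nil) (nat_lit
  2479) (nat_lit 417) (nat_lit 2042) (.node .nil (nat_lit 2480) (nat_lit 27714) (nat_lit 2353) .nil)) (nat_lit
  2481) (nat_lit 13620) (nat_lit 2549) (.node (.node .nil (nat_lit 2486) (nat_lit 23203) (nat_lit 3321) .nil)
  (nat_lit 2487) (nat_lit 6609) (nat_lit 2217) (.node .nil (nat_lit 2488) (nat_lit 18948) (nat_lit 3189)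
  .nil)))) (nat_lit 2489) (nat_lit 23363) (nat_lit 3193) (.node (.node (.node (.node .nil (nat_lit 2494)
  (nat_lit 30227) (nat_lit 1785) .nil) (nat_lit 2495) (nat_lit 30691) (nat_lit 2489) (.node .nil (nat_lit
  2497) (nat_lit 21858) (nat_lit 842) .nil)) (nat_lit 2498) (nat_lit 26498) (nat_lit 847) (.node (.node .nil
  (nat_lit 2500) (nat_lit 24275) (nat_lit 3898) .nil) (nat_lit 2503) (nat_lit 11234) (nat_lit 835) (.node .nil
  (nat_lit 2505) (nat_lit 7730) (nat_lit 833) .nil))) (nat_lit 2506) (nat_lit 30850) (nat_lit 836) (.node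
  (.node (.node .nil (nat_lit 2508) (nat_lit 11443) (nat_lit 1338) .nil) (nat_lit 2511) (nat_lit 23539)
  (nat_lit 186) (.node .nil (nat_lit 2513) (nat_lit 16995) (nat_lit 2170) .nil)) (nat_lit 2514) (nat_lit 7123)
  (nat_lit 3578) (.node (.node .nil (nat_lit 2516) (nat_lit 18609) (nat_lit 1796) .nil) (nat_lit 2519)
  (nat_lit 5489) (nat_lit 2335) (.node .nil (nat_lit 2521) (nat_lit 28305) (nat_lit 2125) .nil))))) (nat_lit
  2522) (nat_lit 451) (nat_lit 2042) (.node (.node (.node (.node (.node .nil (nat_lit 2524) (nat_lit 3635)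
  (nat_lit 570) .nil) (nat_lit 2527) (nat_lit 17058) (nat_lit 858) (.node .nil (nat_lit 2528) (nat_lit 8579)
  (nat_lit 3642) .nil)) (nat_lit 2531) (nat_lit 12161) (nat_lit 3245) (.node (.node .nil (nat_lit 2533)
  (nat_lit 9732) (nat_lit 3569) .nil) (nat_lit 2534) (nat_lit 10675) (nat_lit 3066) (.node .nil (nat_lit 2536)
  (nat_lit 3778) (nat_lit 872) .nil))) (nat_lit 2539) (nat_lit 1874) (nat_lit 877) (.node (.node (.node .nil
  (nat_lit 2541) (nat_lit 2099) (nat_lit 1146) .nil) (nat_lit 2542) (nat_lit 6033) (nat_lit 996) (.node .nil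
  (nat_lit 2544) (nat_lit 28050) (nat_lit 881) .nil)) (nat_lit 2547) (nat_lit 13665) (nat_lit 2146) (.node
  (.node .nil (nat_lit 2549) (nat_lit 6721) (nat_lit 684) .nil) (nat_lit 2550) (nat_lit 22499) (nat_lit 3322)
  (.node .nil (nat_lit 2552) (nat_lit 14035) (nat_lit 826) .nil)))) (nat_lit 2555) (nat_lit 21185) (nat_lit
  1022) (.node (.node (.node (.node .nil (nat_lit 2557) (nat_lit 27732) (nat_lit 2353) .nil) (nat_lit 2558)
  (nat_lit 16865) (nat_lit 1835) (.node .nil (nat_lit 2568) (nat_lit 1729) (nat_lit 2975) .nil)) (nat_lit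
  2569) (nat_lit 515) (nat_lit 1358) (.node (.node .nil (nat_lit 2570) (nat_lit 2784) (nat_lit 3845) .nil)
  (nat_lit 2571) (nat_lit 2369) (nat_lit 1412) (.node .nil (nat_lit 2572) (nat_lit 164) (nat_lit 194) .nil)))
  (nat_lit 2573) (nat_lit 1154) (nat_lit 4039) (.node (.node (.node .nil (nat_lit 2574) (nat_lit 5635)
  (nat_lit 4046) .nil) (nat_lit 2575) (nat_lit 10002) (nat_lit 4040) (.node .nil (nat_lit 2584) (nat_lit
  26274) (nat_lit 4057) .nil)) (nat_lit 2585) (nat_lit 31364) (nat_lit 450) (.node (.node .nil (nat_lit 2586)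
  (nat_lit 13105) (nat_lit 2150) .nil) (nat_lit 2587) (nat_lit 29779) (nat_lit 2190) .nil))))))
def tv3_10 : T := (.node (.node (.node (.node (.node (.node (.node .nil (nat_lit 2589) (nat_lit 19457)
  (nat_lit 2949) .nil) (nat_lit 2590) (nat_lit 28816) (nat_lit 3897) (.node .nil (nat_lit 2591) (nat_lit
  18131) (nat_lit 1934) .nil)) (nat_lit 2592) (nat_lit 29828) (nat_lit 2178) (.node (.node .nil (nat_lit 2593)
  (nat_lit 26193) (nat_lit 1451) .nil) (nat_lit 2594) (nat_lit 8433) (nat_lit 2992) (.node .nil (nat_lit 2595)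
  (nat_lit 21700) (nat_lit 1922) .nil))) (nat_lit 2596) (nat_lit 19524) (nat_lit 2242) (.node (.node (.node
  .nil (nat_lit 2597) (nat_lit 14514) (nat_lit 4079) .nil) (nat_lit 2598) (nat_lit 10320) (nat_lit 3869)
  (.node .nil (nat_lit 2599) (nat_lit 21427) (nat_lit 1166) .nil)) (nat_lit 2608) (nat_lit 24051) (nat_lit
  2318) (.node (.node .nil (nat_lit 2609) (nat_lit 23938) (nat_lit 4091) .nil) (nat_lit 2610) (nat_lit 20114)
  (nat_lit 4094) (.node .nil (nat_lit 2611) (nat_lit 17457) (nat_lit 1618) .nil)))) (nat_lit 2612) (nat_lit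
  23891) (nat_lit 1550) (.node (.node (.node (.node .nil (nat_lit 2613) (nat_lit 24676) (nat_lit 2434) .nil)
  (nat_lit 2614) (nat_lit 26514) (nat_lit 4088) (.node .nil (nat_lit 2615) (nat_lit 13860) (nat_lit 898)
  .nil)) (nat_lit 2625) (nat_lit 802) (nat_lit 1418) (.node (.node .nil (nat_lit 2627) (nat_lit 7874) (nat_lit
  1413) .nil) (nat_lit 2629) (nat_lit 4372) (nat_lit 1350) (.node .nil (nat_lit 2631) (nat_lit 6851) (nat_lit
  2701) .nil))) (nat_lit 2632) (nat_lit 3107) (nat_lit 2573) (.node (.node (.node .nil (nat_lit 2634) (nat_lit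
  2386) (nat_lit 1412) .nil) (nat_lit 2636) (nat_lit 8867) (nat_lit 1293) (.node .nil (nat_lit 2638) (nat_lit
  3972) (nat_lit 2758) .nil)) (nat_lit 2641) (nat_lit 19025) (nat_lit 210) (.node (.node .nil (nat_lit 2643)
  (nat_lit 7217) (nat_lit 2020) .nil) (nat_lit 2645) (nat_lit 25297) (nat_lit 3370) (.node .nil (nat_lit 2647)
  (nat_lit 10804) (nat_lit 2822) .nil))))) (nat_lit 2648) (nat_lit 23603) (nat_lit 3341) (.node (.node (.node
  (.node (.node .nil (nat_lit 2650) (nat_lit 27476) (nat_lit 3782) .nil) (nat_lit 2652) (nat_lit 14193)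
  (nat_lit 3995) (.node .nil (nat_lit 2654) (nat_lit 23825) (nat_lit 2221) .nil)) (nat_lit 2656) (nat_lit
  16497) (nat_lit 437) (.node (.node .nil (nat_lit 2658) (nat_lit 31027) (nat_lit 1229) .nil) (nat_lit 2660)
  (nat_lit 16051) (nat_lit 269) (.node .nil (nat_lit 2662) (nat_lit 25460) (nat_lit 710) .nil))) (nat_lit
  2665) (nat_lit 26579) (nat_lit 2893) (.node (.node (.node .nil (nat_lit 2667) (nat_lit 27267) (nat_lit 397)
  .nil) (nat_lit 2669) (nat_lit 9969) (nat_lit 3836) (.node .nil (nat_lit 2671) (nat_lit 26210) (nat_lit 1451)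
  .nil)) (nat_lit 2672) (nat_lit 23489) (nat_lit 1402) (.node (.node .nil (nat_lit 2674) (nat_lit 19233)
  (nat_lit 588) .nil) (nat_lit 2676) (nat_lit 28658) (nat_lit 1463) (.node .nil (nat_lit 2678) (nat_lit 11282)
  (nat_lit 1464) .nil)))) (nat_lit 2681) (nat_lit 28945) (nat_lit 1995) (.node (.node (.node (.node .nil
  (nat_lit 2683) (nat_lit 15105) (nat_lit 253) .nil) (nat_lit 2685) (nat_lit 20355) (nat_lit 845) (.node .nil
  (nat_lit 2687) (nat_lit 20240) (nat_lit 4010) .nil)) (nat_lit 2690) (nat_lit 1202) (nat_lit 79) (.node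
  (.node .nil (nat_lit 2691) (nat_lit 15234) (nat_lit 69) .nil) (nat_lit 2694) (nat_lit 2419) (nat_lit 1484)
  (.node .nil (nat_lit 2695) (nat_lit 3713) (nat_lit 1474) .nil))) (nat_lit 2696) (nat_lit 580) (nat_lit 138)
  (.node (.node (.node .nil (nat_lit 2697) (nat_lit 50) (nat_lit 65) .nil) (nat_lit 2700) (nat_lit 7651)
  (nat_lit 1292) (.node .nil (nat_lit 2701) (nat_lit 2817) (nat_lit 2408) .nil)) (nat_lit 2706) (nat_lit
  24164) (nat_lit 3658) (.node (.node .nil (nat_lit 2707) (nat_lit 29681) (nat_lit 3317) .nil) (nat_lit 2710)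
  (nat_lit 30676) (nat_lit 3594) .nil))))) (nat_lit 2711) (nat_lit 16017) (nat_lit 269) (.node (.node (.node
  (.node (.node (.node .nil (nat_lit 2712) (nat_lit 17794) (nat_lit 89) .nil) (nat_lit 2713) (nat_lit 10129)
  (nat_lit 95) (.node .nil (nat_lit 2716) (nat_lit 10146) (nat_lit 95) .nil)) (nat_lit 2717) (nat_lit 6529)
  (nat_lit 3495) (.node (.node .nil (nat_lit 2720) (nat_lit 28099) (nat_lit 3596) .nil) (nat_lit 2721)
  (nat_lit 19988) (nat_lit 3466) (.node .nil (nat_lit 2724) (nat_lit 31650) (nat_lit 101) .nil))) (nat_lit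
  2725) (nat_lit 7681) (nat_lit 3697) (.node (.node (.node .nil (nat_lit 2730) (nat_lit 8276) (nat_lit 522)
  .nil) (nat_lit 2731) (nat_lit 25251) (nat_lit 396) (.node .nil (nat_lit 2734) (nat_lit 21841) (nat_lit 3062)
  .nil)) (nat_lit 2735) (nat_lit 10274) (nat_lit 107) (.node (.node .nil (nat_lit 2736) (nat_lit 24372)
  (nat_lit 3274) .nil) (nat_lit 2737) (nat_lit 31442) (nat_lit 123) (.node .nil (nat_lit 2740) (nat_lit 20897)
  (nat_lit 915) .nil)))) (nat_lit 2741) (nat_lit 2051) (nat_lit 2380) (.node (.node (.node (.node .nil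
  (nat_lit 2746) (nat_lit 15700) (nat_lit 1610) .nil) (nat_lit 2747) (nat_lit 21776) (nat_lit 4070) (.node
  .nil (nat_lit 2750) (nat_lit 20452) (nat_lit 1546) .nil)) (nat_lit 2751) (nat_lit 30115) (nat_lit 2444)
  (.node (.node .nil (nat_lit 2753) (nat_lit 1411) (nat_lit 3919) .nil) (nat_lit 2754) (nat_lit 4739) (nat_lit
  2767) (.node .nil (nat_lit 2757) (nat_lit 532) (nat_lit 1358) .nil))) (nat_lit 2758) (nat_lit 1506) (nat_lit
  2569) (.node (.node (.node .nil (nat_lit 2760) (nat_lit 5810) (nat_lit 2571) .nil) (nat_lit 2763) (nat_lit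
  6996) (nat_lit 3982) (.node .nil (nat_lit 2764) (nat_lit 3090) (nat_lit 2573) .nil)) (nat_lit 2767) (nat_lit
  1857) (nat_lit 877) (.node (.node .nil (nat_lit 2769) (nat_lit 31698) (nat_lit 2584) .nil) (nat_lit 2770)
  (nat_lit 10979) (nat_lit 3535) (.node .nil (nat_lit 2773) (nat_lit 20384) (nat_lit 3967) .nil))))) (nat_lit
  2774) (nat_lit 12675) (nat_lit 719) (.node (.node (.node (.node (.node .nil (nat_lit 2776) (nat_lit 29155)
  (nat_lit 3343) .nil) (nat_lit 2779) (nat_lit 18066) (nat_lit 2588) (.node .nil (nat_lit 2780) (nat_lit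
  21444) (nat_lit 1166) .nil)) (nat_lit 2783) (nat_lit 21137) (nat_lit 1954) (.node (.node .nil (nat_lit 2784)
  (nat_lit 29745) (nat_lit 1943) .nil) (nat_lit 2787) (nat_lit 18148) (nat_lit 1934) (.node .nil (nat_lit
  2788) (nat_lit 14483) (nat_lit 271) .nil))) (nat_lit 2791) (nat_lit 32164) (nat_lit 1998) (.node (.node
  (.node .nil (nat_lit 2793) (nat_lit 16226) (nat_lit 2594) .nil) (nat_lit 2794) (nat_lit 18819) (nat_lit
  3791) (.node .nil (nat_lit 2797) (nat_lit 10577) (nat_lit 2270) .nil)) (nat_lit 2798) (nat_lit 30833)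
  (nat_lit 1733) (.node (.node .nil (nat_lit 2800) (nat_lit 22001) (nat_lit 856) .nil) (nat_lit 2803) (nat_lit
  26355) (nat_lit 3215) (.node .nil (nat_lit 2804) (nat_lit 22804) (nat_lit 3214) .nil)))) (nat_lit 2807)
  (nat_lit 24803) (nat_lit 911) (.node (.node (.node (.node .nil (nat_lit 2809) (nat_lit 28804) (nat_lit 2382)
  .nil) (nat_lit 2810) (nat_lit 30755) (nat_lit 2511) (.node .nil (nat_lit 2813) (nat_lit 24068) (nat_lit
  2318) .nil)) (nat_lit 2814) (nat_lit 8225) (nat_lit 522) (.node (.node .nil (nat_lit 2820) (nat_lit 23234)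
  (nat_lit 326) .nil) (nat_lit 2821) (nat_lit 16193) (nat_lit 3781) (.node .nil (nat_lit 2822) (nat_lit 4899)
  (nat_lit 1505) .nil))) (nat_lit 2823) (nat_lit 22513) (nat_lit 2547) (.node (.node (.node .nil (nat_lit
  2824) (nat_lit 25217) (nat_lit 396) .nil) (nat_lit 2825) (nat_lit 9345) (nat_lit 2209) (.node .nil (nat_lit
  2826) (nat_lit 24003) (nat_lit 225) .nil)) (nat_lit 2827) (nat_lit 30209) (nat_lit 3991) (.node (.node .nil
  (nat_lit 2836) (nat_lit 22657) (nat_lit 807) .nil) (nat_lit 2837) (nat_lit 6114) (nat_lit 350) .nil))))))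
def tv3_11 : T := (.node (.node (.node (.node (.node (.node (.node .nil (nat_lit 2839) (nat_lit 19042)
  (nat_lit 337) .nil) (nat_lit 2840) (nat_lit 977) (nat_lit 1347) (.node .nil (nat_lit 2841) (nat_lit 12289)
  (nat_lit 3182) .nil)) (nat_lit 2842) (nat_lit 4066) (nat_lit 342) (.node (.node .nil (nat_lit 2843) (nat_lit
  9379) (nat_lit 2209) .nil) (nat_lit 2848) (nat_lit 10865) (nat_lit 1685) (.node .nil (nat_lit 2849) (nat_lit
  25890) (nat_lit 361) .nil))) (nat_lit 2850) (nat_lit 25812) (nat_lit 663) (.node (.node (.node .nil (nat_lit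
  2851) (nat_lit 22035) (nat_lit 2977) .nil) (nat_lit 2860) (nat_lit 28753) (nat_lit 241) (.node .nil (nat_lit
  2861) (nat_lit 8497) (nat_lit 2524) .nil)) (nat_lit 2862) (nat_lit 27155) (nat_lit 481) (.node (.node .nil
  (nat_lit 2863) (nat_lit 24962) (nat_lit 363) .nil) (nat_lit 2864) (nat_lit 1587) (nat_lit 2337) (.node .nil
  (nat_lit 2865) (nat_lit 11956) (nat_lit 2519) .nil)))) (nat_lit 2866) (nat_lit 12276) (nat_lit 1751) (.node
  (.node (.node (.node .nil (nat_lit 2867) (nat_lit 9618) (nat_lit 372) .nil) (nat_lit 2876) (nat_lit 23043)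
  (nat_lit 3105) (.node .nil (nat_lit 2877) (nat_lit 21971) (nat_lit 865) .nil)) (nat_lit 2878) (nat_lit
  17217) (nat_lit 776) (.node (.node .nil (nat_lit 2879) (nat_lit 23745) (nat_lit 2597) .nil) (nat_lit 2881)
  (nat_lit 29841) (nat_lit 3598) (.node .nil (nat_lit 2883) (nat_lit 25490) (nat_lit 2821) .nil))) (nat_lit
  2884) (nat_lit 10770) (nat_lit 2822) (.node (.node (.node .nil (nat_lit 2886) (nat_lit 10816) (nat_lit 3469)
  .nil) (nat_lit 2888) (nat_lit 16243) (nat_lit 2594) (.node .nil (nat_lit 2890) (nat_lit 27827) (nat_lit 226)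
  .nil)) (nat_lit 2893) (nat_lit 17393) (nat_lit 2154) (.node (.node .nil (nat_lit 2895) (nat_lit 15937)
  (nat_lit 3932) .nil) (nat_lit 2897) (nat_lit 2722) (nat_lit 2840) (.node .nil (nat_lit 2899) (nat_lit 21361)
  (nat_lit 3575) .nil))))) (nat_lit 2900) (nat_lit 26708) (nat_lit 1043) (.node (.node (.node (.node (.node
  .nil (nat_lit 2902) (nat_lit 964) (nat_lit 3603) .nil) (nat_lit 2904) (nat_lit 13635) (nat_lit 3362) (.node
  .nil (nat_lit 2906) (nat_lit 22705) (nat_lit 3910) .nil)) (nat_lit 2909) (nat_lit 12483) (nat_lit 3426)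
  (.node (.node .nil (nat_lit 2911) (nat_lit 9314) (nat_lit 2842) .nil) (nat_lit 2912) (nat_lit 28500)
  (nat_lit 2195) (.node .nil (nat_lit 2914) (nat_lit 32114) (nat_lit 2860) .nil))) (nat_lit 2917) (nat_lit
  24915) (nat_lit 3682) (.node (.node (.node .nil (nat_lit 2919) (nat_lit 19378) (nat_lit 2848) .nil) (nat_lit
  2921) (nat_lit 22545) (nat_lit 2327) (.node .nil (nat_lit 2923) (nat_lit 16306) (nat_lit 2861) .nil))
  (nat_lit 2924) (nat_lit 28417) (nat_lit 3522) (.node (.node .nil (nat_lit 2926) (nat_lit 30433) (nat_lit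
  2804) .nil) (nat_lit 2928) (nat_lit 6276) (nat_lit 3283) (.node .nil (nat_lit 2930) (nat_lit 21905) (nat_lit
  2143) .nil)))) (nat_lit 2933) (nat_lit 17889) (nat_lit 3004) (.node (.node (.node (.node .nil (nat_lit 2935)
  (nat_lit 20916) (nat_lit 915) .nil) (nat_lit 2937) (nat_lit 4194) (nat_lit 2864) (.node .nil (nat_lit 2939)
  (nat_lit 30882) (nat_lit 2879) .nil)) (nat_lit 2940) (nat_lit 30562) (nat_lit 2876) (.node (.node .nil
  (nat_lit 2942) (nat_lit 9155) (nat_lit 1762) .nil) (nat_lit 2946) (nat_lit 18802) (nat_lit 3791) (.node .nil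
  (nat_lit 2947) (nat_lit 16116) (nat_lit 3871) .nil))) (nat_lit 2948) (nat_lit 10180) (nat_lit 95) (.node
  (.node (.node .nil (nat_lit 2949) (nat_lit 10929) (nat_lit 2279) .nil) (nat_lit 2952) (nat_lit 29796)
  (nat_lit 159) (.node .nil (nat_lit 2953) (nat_lit 18962) (nat_lit 3777) .nil)) (nat_lit 2958) (nat_lit
  29361) (nat_lit 3424) (.node (.node .nil (nat_lit 2959) (nat_lit 10100) (nat_lit 4063) .nil) (nat_lit 2962)
  (nat_lit 2865) (nat_lit 4043) .nil))))) (nat_lit 2963) (nat_lit 9570) (nat_lit 3799) (.node (.node (.node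
  (.node (.node (.node .nil (nat_lit 2964) (nat_lit 23969) (nat_lit 1285) .nil) (nat_lit 2965) (nat_lit 5456)
  (nat_lit 3583) (.node .nil (nat_lit 2968) (nat_lit 2578) (nat_lit 3801) .nil)) (nat_lit 2969) (nat_lit
  16689) (nat_lit 2636) (.node (.node .nil (nat_lit 2974) (nat_lit 768) (nat_lit 3577) .nil) (nat_lit 2975)
  (nat_lit 610) (nat_lit 3802) (.node .nil (nat_lit 2976) (nat_lit 15505) (nat_lit 183) .nil))) (nat_lit 2977)
  (nat_lit 13025) (nat_lit 2458) (.node (.node (.node .nil (nat_lit 2982) (nat_lit 31234) (nat_lit 3818) .nil)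
  (nat_lit 2983) (nat_lit 26913) (nat_lit 852) (.node .nil (nat_lit 2986) (nat_lit 22756) (nat_lit 543) .nil))
  (nat_lit 2987) (nat_lit 30307) (nat_lit 419) (.node (.node .nil (nat_lit 2988) (nat_lit 17362) (nat_lit
  3822) .nil) (nat_lit 2989) (nat_lit 20097) (nat_lit 4094) (.node .nil (nat_lit 2992) (nat_lit 3588) (nat_lit
  3295) .nil)))) (nat_lit 2993) (nat_lit 11041) (nat_lit 3413) (.node (.node (.node (.node .nil (nat_lit 2998)
  (nat_lit 8641) (nat_lit 3766) .nil) (nat_lit 2999) (nat_lit 16819) (nat_lit 931) (.node .nil (nat_lit 3002)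
  (nat_lit 21107) (nat_lit 2531) .nil)) (nat_lit 3003) (nat_lit 9441) (nat_lit 511) (.node (.node .nil
  (nat_lit 3004) (nat_lit 9956) (nat_lit 3103) .nil) (nat_lit 3005) (nat_lit 5540) (nat_lit 2335) (.node .nil
  (nat_lit 3009) (nat_lit 18657) (nat_lit 2092) .nil))) (nat_lit 3010) (nat_lit 30657) (nat_lit 1591) (.node
  (.node (.node .nil (nat_lit 3012) (nat_lit 23185) (nat_lit 3321) .nil) (nat_lit 3015) (nat_lit 21026)
  (nat_lit 1155) (.node .nil (nat_lit 3016) (nat_lit 13297) (nat_lit 2717) .nil)) (nat_lit 3019) (nat_lit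
  14244) (nat_lit 3995) (.node (.node .nil (nat_lit 3021) (nat_lit 25140) (nat_lit 1499) .nil) (nat_lit 3022)
  (nat_lit 18017) (nat_lit 83) (.node .nil (nat_lit 3025) (nat_lit 20961) (nat_lit 3299) .nil))))) (nat_lit
  3026) (nat_lit 8465) (nat_lit 760) (.node (.node (.node (.node (.node .nil (nat_lit 3028) (nat_lit 25730)
  (nat_lit 1172) .nil) (nat_lit 3031) (nat_lit 12769) (nat_lit 1581) (.node .nil (nat_lit 3032) (nat_lit 2659)
  (nat_lit 3360) .nil)) (nat_lit 3035) (nat_lit 2769) (nat_lit 73) (.node (.node .nil (nat_lit 3037) (nat_lit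
  4848) (nat_lit 3451) .nil) (nat_lit 3038) (nat_lit 4497) (nat_lit 1180) (.node .nil (nat_lit 3040) (nat_lit
  28596) (nat_lit 2203) .nil))) (nat_lit 3043) (nat_lit 24787) (nat_lit 2976) (.node (.node (.node .nil
  (nat_lit 3045) (nat_lit 26834) (nat_lit 1199) .nil) (nat_lit 3046) (nat_lit 17858) (nat_lit 1194) (.node
  .nil (nat_lit 3049) (nat_lit 11796) (nat_lit 3355) .nil)) (nat_lit 3050) (nat_lit 8161) (nat_lit 302) (.node
  (.node .nil (nat_lit 3052) (nat_lit 19395) (nat_lit 2848) .nil) (nat_lit 3055) (nat_lit 29121) (nat_lit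
  1531) (.node .nil (nat_lit 3056) (nat_lit 16356) (nat_lit 3291) .nil)))) (nat_lit 3059) (nat_lit 8931)
  (nat_lit 3232) (.node (.node (.node (.node .nil (nat_lit 3061) (nat_lit 25714) (nat_lit 1213) .nil) (nat_lit
  3062) (nat_lit 12724) (nat_lit 1691) (.node .nil (nat_lit 3065) (nat_lit 5266) (nat_lit 1200) .nil))
  (nat_lit 3066) (nat_lit 4865) (nat_lit 1505) (.node (.node .nil (nat_lit 3068) (nat_lit 17636) (nat_lit
  3099) .nil) (nat_lit 3071) (nat_lit 8068) (nat_lit 795) (.node .nil (nat_lit 3088) (nat_lit 31746) (nat_lit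
  3090) .nil))) (nat_lit 3089) (nat_lit 30498) (nat_lit 3096) (.node (.node (.node .nil (nat_lit 3090)
  (nat_lit 26401) (nat_lit 1754) .nil) (nat_lit 3091) (nat_lit 30721) (nat_lit 4087) (.node .nil (nat_lit
  3092) (nat_lit 14563) (nat_lit 2108) .nil)) (nat_lit 3093) (nat_lit 16644) (nat_lit 316) (.node (.node .nil
  (nat_lit 3094) (nat_lit 7411) (nat_lit 764) .nil) (nat_lit 3095) (nat_lit 27649) (nat_lit 527) .nil))))))
def tv3_12 : T := (.node (.node (.node (.node (.node (.node (.node .nil (nat_lit 3097) (nat_lit 14321)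
  (nat_lit 861) .nil) (nat_lit 3098) (nat_lit 1699) (nat_lit 2044) (.node .nil (nat_lit 3099) (nat_lit 9842)
  (nat_lit 3100) .nil)) (nat_lit 3100) (nat_lit 4403) (nat_lit 572) (.node (.node .nil (nat_lit 3101) (nat_lit
  25860) (nat_lit 444) .nil) (nat_lit 3102) (nat_lit 21075) (nat_lit 2300) (.node .nil (nat_lit 3103) (nat_lit
  4450) (nat_lit 3098) .nil))) (nat_lit 3104) (nat_lit 15394) (nat_lit 3107) (.node (.node (.node .nil
  (nat_lit 3105) (nat_lit 13985) (nat_lit 139) .nil) (nat_lit 3106) (nat_lit 27970) (nat_lit 3116) (.node .nil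
  (nat_lit 3107) (nat_lit 7905) (nat_lit 1981) .nil)) (nat_lit 3108) (nat_lit 16627) (nat_lit 316) (.node
  (.node .nil (nat_lit 3109) (nat_lit 27348) (nat_lit 3580) .nil) (nat_lit 3110) (nat_lit 3761) (nat_lit 872)
  (.node .nil (nat_lit 3111) (nat_lit 1716) (nat_lit 2044) .nil)))) (nat_lit 3112) (nat_lit 3601) (nat_lit
  570) (.node (.node (.node (.node .nil (nat_lit 3113) (nat_lit 22980) (nat_lit 3388) .nil) (nat_lit 3114)
  (nat_lit 4420) (nat_lit 572) (.node .nil (nat_lit 3115) (nat_lit 23009) (nat_lit 3105) .nil)) (nat_lit 3116)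
  (nat_lit 18785) (nat_lit 4034) (.node (.node .nil (nat_lit 3117) (nat_lit 23057) (nat_lit 1775) .nil)
  (nat_lit 3118) (nat_lit 23026) (nat_lit 3105) (.node .nil (nat_lit 3119) (nat_lit 30530) (nat_lit 3115)
  .nil))) (nat_lit 3137) (nat_lit 15666) (nat_lit 1610) (.node (.node (.node .nil (nat_lit 3139) (nat_lit
  15569) (nat_lit 1547) .nil) (nat_lit 3141) (nat_lit 28641) (nat_lit 3269) (.node .nil (nat_lit 3143)
  (nat_lit 16753) (nat_lit 3059) .nil)) (nat_lit 3145) (nat_lit 11316) (nat_lit 1464) (.node (.node .nil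
  (nat_lit 3147) (nat_lit 28979) (nat_lit 4031) .nil) (nat_lit 3149) (nat_lit 22289) (nat_lit 1881) (.node
  .nil (nat_lit 3151) (nat_lit 24177) (nat_lit 111) .nil))))) (nat_lit 3152) (nat_lit 3553) (nat_lit 3295)
  (.node (.node (.node (.node (.node .nil (nat_lit 3154) (nat_lit 5444) (nat_lit 3704) .nil) (nat_lit 3156)
  (nat_lit 7860) (nat_lit 1080) (.node .nil (nat_lit 3158) (nat_lit 17074) (nat_lit 1627) .nil)) (nat_lit
  3160) (nat_lit 6803) (nat_lit 3391) (.node (.node .nil (nat_lit 3162) (nat_lit 16436) (nat_lit 3832) .nil)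
  (nat_lit 3164) (nat_lit 2451) (nat_lit 575) (.node .nil (nat_lit 3166) (nat_lit 1972) (nat_lit 3768) .nil)))
  (nat_lit 3168) (nat_lit 4036) (nat_lit 2232) (.node (.node (.node .nil (nat_lit 3170) (nat_lit 9108)
  (nat_lit 696) .nil) (nat_lit 3172) (nat_lit 3234) (nat_lit 1637) (.node .nil (nat_lit 3174) (nat_lit 8484)
  (nat_lit 760) .nil)) (nat_lit 3176) (nat_lit 16801) (nat_lit 3849) (.node (.node .nil (nat_lit 3178)
  (nat_lit 1300) (nat_lit 568) .nil) (nat_lit 3180) (nat_lit 26385) (nat_lit 753) (.node .nil (nat_lit 3182)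
  (nat_lit 5729) (nat_lit 1479) .nil)))) (nat_lit 3185) (nat_lit 23172) (nat_lit 2552) (.node (.node (.node
  (.node .nil (nat_lit 3187) (nat_lit 22084) (nat_lit 1016) .nil) (nat_lit 3189) (nat_lit 10451) (nat_lit
  2431) (.node .nil (nat_lit 3191) (nat_lit 19872) (nat_lit 1198) .nil)) (nat_lit 3193) (nat_lit 14163)
  (nat_lit 3199) (.node (.node .nil (nat_lit 3195) (nat_lit 23108) (nat_lit 888) .nil) (nat_lit 3197) (nat_lit
  28084) (nat_lit 2360) (.node .nil (nat_lit 3199) (nat_lit 7057) (nat_lit 2085) .nil))) (nat_lit 3202)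
  (nat_lit 15169) (nat_lit 1079) (.node (.node (.node .nil (nat_lit 3203) (nat_lit 20547) (nat_lit 1470) .nil)
  (nat_lit 3206) (nat_lit 28339) (nat_lit 1534) (.node .nil (nat_lit 3207) (nat_lit 27809) (nat_lit 226)
  .nil)) (nat_lit 3210) (nat_lit 25411) (nat_lit 254) (.node (.node .nil (nat_lit 3211) (nat_lit 24836)
  (nat_lit 4020) .nil) (nat_lit 3214) (nat_lit 13842) (nat_lit 898) .nil))))) (nat_lit 3215) (nat_lit 17009)
  (nat_lit 2942) (.node (.node (.node (.node (.node (.node .nil (nat_lit 3216) (nat_lit 29618) (nat_lit 914)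
  .nil) (nat_lit 3217) (nat_lit 9636) (nat_lit 372) (.node .nil (nat_lit 3220) (nat_lit 24484) (nat_lit 1076)
  .nil)) (nat_lit 3221) (nat_lit 6643) (nat_lit 1918) (.node (.node .nil (nat_lit 3224) (nat_lit 11857)
  (nat_lit 3154) .nil) (nat_lit 3225) (nat_lit 11345) (nat_lit 1407) (.node .nil (nat_lit 3228) (nat_lit
  17443) (nat_lit 574) .nil))) (nat_lit 3229) (nat_lit 14802) (nat_lit 917) (.node (.node (.node .nil (nat_lit
  3232) (nat_lit 3857) (nat_lit 3972) .nil) (nat_lit 3233) (nat_lit 16740) (nat_lit 3508) (.node .nil (nat_lit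
  3236) (nat_lit 27316) (nat_lit 2292) .nil)) (nat_lit 3237) (nat_lit 6657) (nat_lit 2897) (.node (.node .nil
  (nat_lit 3240) (nat_lit 24514) (nat_lit 936) .nil) (nat_lit 3241) (nat_lit 6161) (nat_lit 3381) (.node .nil
  (nat_lit 3244) (nat_lit 16449) (nat_lit 2528) .nil)))) (nat_lit 3245) (nat_lit 5649) (nat_lit 205) (.node
  (.node (.node (.node .nil (nat_lit 3250) (nat_lit 21219) (nat_lit 1022) .nil) (nat_lit 3251) (nat_lit 27761)
  (nat_lit 1360) (.node .nil (nat_lit 3254) (nat_lit 16881) (nat_lit 389) .nil)) (nat_lit 3255) (nat_lit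
  23266) (nat_lit 946) (.node (.node .nil (nat_lit 3258) (nat_lit 13345) (nat_lit 2017) .nil) (nat_lit 3259)
  (nat_lit 19776) (nat_lit 1254) (.node .nil (nat_lit 3262) (nat_lit 29651) (nat_lit 1790) .nil))) (nat_lit
  3263) (nat_lit 30578) (nat_lit 953) (.node (.node (.node .nil (nat_lit 3265) (nat_lit 29971) (nat_lit 3965)
  .nil) (nat_lit 3266) (nat_lit 28385) (nat_lit 2308) (.node .nil (nat_lit 3269) (nat_lit 19923) (nat_lit 125)
  .nil)) (nat_lit 3270) (nat_lit 15058) (nat_lit 2505) (.node (.node .nil (nat_lit 3273) (nat_lit 29265)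
  (nat_lit 3203) .nil) (nat_lit 3274) (nat_lit 15139) (nat_lit 253) (.node .nil (nat_lit 3277) (nat_lit 17329)
  (nat_lit 379) .nil))))) (nat_lit 3278) (nat_lit 29985) (nat_lit 3936) (.node (.node (.node (.node (.node
  .nil (nat_lit 3280) (nat_lit 14290) (nat_lit 2514) .nil) (nat_lit 3283) (nat_lit 2531) (nat_lit 701) (.node
  .nil (nat_lit 3284) (nat_lit 27778) (nat_lit 2516) .nil)) (nat_lit 3287) (nat_lit 4228) (nat_lit 2864)
  (.node (.node .nil (nat_lit 3288) (nat_lit 32066) (nat_lit 2521) .nil) (nat_lit 3291) (nat_lit 8514)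
  (nat_lit 2524) (.node .nil (nat_lit 3292) (nat_lit 5300) (nat_lit 1200) .nil))) (nat_lit 3295) (nat_lit
  1330) (nat_lit 2522) (.node (.node (.node .nil (nat_lit 3296) (nat_lit 21090) (nat_lit 2531) .nil) (nat_lit
  3299) (nat_lit 12052) (nat_lit 1968) (.node .nil (nat_lit 3300) (nat_lit 1377) (nat_lit 3919) .nil))
  (nat_lit 3303) (nat_lit 16466) (nat_lit 2528) (.node (.node .nil (nat_lit 3304) (nat_lit 8770) (nat_lit
  2536) .nil) (nat_lit 3307) (nat_lit 4819) (nat_lit 445) (.node .nil (nat_lit 3308) (nat_lit 12512) (nat_lit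
  1112) .nil)))) (nat_lit 3311) (nat_lit 4770) (nat_lit 2539) (.node (.node (.node (.node .nil (nat_lit 3313)
  (nat_lit 29490) (nat_lit 2555) .nil) (nat_lit 3314) (nat_lit 26082) (nat_lit 2558) (.node .nil (nat_lit
  3317) (nat_lit 21505) (nat_lit 685) .nil)) (nat_lit 3318) (nat_lit 23138) (nat_lit 2552) (.node (.node .nil
  (nat_lit 3321) (nat_lit 14065) (nat_lit 1225) .nil) (nat_lit 3322) (nat_lit 13602) (nat_lit 2549) (.node
  .nil (nat_lit 3325) (nat_lit 27697) (nat_lit 2353) .nil))) (nat_lit 3326) (nat_lit 19569) (nat_lit 1834)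
  (.node (.node (.node .nil (nat_lit 3332) (nat_lit 20145) (nat_lit 712) .nil) (nat_lit 3333) (nat_lit 18035)
  (nat_lit 83) (.node .nil (nat_lit 3334) (nat_lit 28321) (nat_lit 1534) .nil)) (nat_lit 3335) (nat_lit 6225)
  (nat_lit 3283) (.node (.node .nil (nat_lit 3340) (nat_lit 27058) (nat_lit 653) .nil) (nat_lit 3341) (nat_lit
  14387) (nat_lit 2643) .nil))))))
def tv3_13 : T := (.node (.node (.node (.node (.node (.node (.node .nil (nat_lit 3343) (nat_lit 20401)
  (nat_lit 1871) .nil) (nat_lit 3344) (nat_lit 15633) (nat_lit 3071) (.node .nil (nat_lit 3345) (nat_lit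
  25924) (nat_lit 361) .nil)) (nat_lit 3346) (nat_lit 21572) (nat_lit 3689) (.node (.node .nil (nat_lit 3347)
  (nat_lit 25778) (nat_lit 663) .nil) (nat_lit 3352) (nat_lit 31425) (nat_lit 99) (.node .nil (nat_lit 3353)
  (nat_lit 28769) (nat_lit 2382) .nil))) (nat_lit 3354) (nat_lit 19730) (nat_lit 662) (.node (.node (.node
  .nil (nat_lit 3355) (nat_lit 5409) (nat_lit 3704) .nil) (nat_lit 3360) (nat_lit 947) (nat_lit 3603) (.node
  .nil (nat_lit 3361) (nat_lit 13588) (nat_lit 3497) .nil)) (nat_lit 3362) (nat_lit 6738) (nat_lit 684) (.node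
  (.node .nil (nat_lit 3363) (nat_lit 13378) (nat_lit 678) .nil) (nat_lit 3368) (nat_lit 26691) (nat_lit 1043)
  (.node .nil (nat_lit 3369) (nat_lit 13201) (nat_lit 260) .nil)))) (nat_lit 3370) (nat_lit 16081) (nat_lit
  3871) (.node (.node (.node (.node .nil (nat_lit 3371) (nat_lit 21476) (nat_lit 1833) .nil) (nat_lit 3380)
  (nat_lit 3185) (nat_lit 2690) (.node .nil (nat_lit 3381) (nat_lit 2514) (nat_lit 701) .nil)) (nat_lit 3382)
  (nat_lit 6259) (nat_lit 3283) (.node (.node .nil (nat_lit 3383) (nat_lit 13137) (nat_lit 1177) .nil)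
  (nat_lit 3388) (nat_lit 13937) (nat_lit 286) (.node .nil (nat_lit 3389) (nat_lit 31459) (nat_lit 851)
  .nil))) (nat_lit 3390) (nat_lit 26641) (nat_lit 1576) (.node (.node (.node .nil (nat_lit 3391) (nat_lit
  2801) (nat_lit 3845) .nil) (nat_lit 3393) (nat_lit 31603) (nat_lit 3920) (.node .nil (nat_lit 3395) (nat_lit
  30083) (nat_lit 1424) .nil)) (nat_lit 3396) (nat_lit 23921) (nat_lit 4091) (.node (.node .nil (nat_lit 3398)
  (nat_lit 17940) (nat_lit 2669) .nil) (nat_lit 3401) (nat_lit 27748) (nat_lit 1453) (.node .nil (nat_lit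
  3403) (nat_lit 20979) (nat_lit 3984) .nil))))) (nat_lit 3404) (nat_lit 27009) (nat_lit 1127) (.node (.node
  (.node (.node (.node .nil (nat_lit 3406) (nat_lit 19092) (nat_lit 2797) .nil) (nat_lit 3408) (nat_lit 20561)
  (nat_lit 1740) (.node .nil (nat_lit 3410) (nat_lit 19187) (nat_lit 3536) .nil)) (nat_lit 3413) (nat_lit
  5041) (nat_lit 537) (.node (.node .nil (nat_lit 3415) (nat_lit 16324) (nat_lit 2861) .nil) (nat_lit 3416)
  (nat_lit 21652) (nat_lit 1261) (.node .nil (nat_lit 3418) (nat_lit 31473) (nat_lit 2662) .nil))) (nat_lit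
  3421) (nat_lit 22834) (nat_lit 2261) (.node (.node (.node .nil (nat_lit 3423) (nat_lit 24642) (nat_lit 2266)
  .nil) (nat_lit 3424) (nat_lit 20736) (nat_lit 1680) (.node .nil (nat_lit 3426) (nat_lit 5875) (nat_lit 1232)
  .nil)) (nat_lit 3429) (nat_lit 12116) (nat_lit 3565) (.node (.node .nil (nat_lit 3431) (nat_lit 5027)
  (nat_lit 1168) .nil) (nat_lit 3432) (nat_lit 10500) (nat_lit 2093) (.node .nil (nat_lit 3434) (nat_lit
  10848) (nat_lit 1685) .nil)))) (nat_lit 3437) (nat_lit 9058) (nat_lit 2276) (.node (.node (.node (.node .nil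
  (nat_lit 3439) (nat_lit 20994) (nat_lit 2283) .nil) (nat_lit 3441) (nat_lit 5348) (nat_lit 2541) (.node .nil
  (nat_lit 3443) (nat_lit 27282) (nat_lit 2292) .nil)) (nat_lit 3444) (nat_lit 7603) (nat_lit 1552) (.node
  (.node .nil (nat_lit 3446) (nat_lit 7633) (nat_lit 135) .nil) (nat_lit 3449) (nat_lit 8130) (nat_lit 2288)
  (.node .nil (nat_lit 3451) (nat_lit 1908) (nat_lit 877) .nil))) (nat_lit 3452) (nat_lit 21058) (nat_lit
  2300) (.node (.node (.node .nil (nat_lit 3454) (nat_lit 12804) (nat_lit 1581) .nil) (nat_lit 3458) (nat_lit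
  29138) (nat_lit 3343) (.node .nil (nat_lit 3459) (nat_lit 27394) (nat_lit 3333) .nil)) (nat_lit 3460)
  (nat_lit 20499) (nat_lit 3857) (.node (.node .nil (nat_lit 3461) (nat_lit 31793) (nat_lit 3527) .nil)
  (nat_lit 3466) (nat_lit 11265) (nat_lit 1464) .nil))))) (nat_lit 3467) (nat_lit 13489) (nat_lit 3221) (.node
  (.node (.node (.node (.node (.node .nil (nat_lit 3468) (nat_lit 22931) (nat_lit 1297) .nil) (nat_lit 3469)
  (nat_lit 4916) (nat_lit 1505) (.node .nil (nat_lit 3472) (nat_lit 29732) (nat_lit 1121) .nil)) (nat_lit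
  3473) (nat_lit 32226) (nat_lit 3352) (.node (.node .nil (nat_lit 3478) (nat_lit 11778) (nat_lit 3355) .nil)
  (nat_lit 3479) (nat_lit 25985) (nat_lit 3646) (.node .nil (nat_lit 3480) (nat_lit 20305) (nat_lit 1601)
  .nil))) (nat_lit 3481) (nat_lit 27073) (nat_lit 3948) (.node (.node (.node .nil (nat_lit 3486) (nat_lit
  24850) (nat_lit 3344) .nil) (nat_lit 3487) (nat_lit 19683) (nat_lit 1937) (.node .nil (nat_lit 3488)
  (nat_lit 9396) (nat_lit 2209) .nil)) (nat_lit 3489) (nat_lit 19059) (nat_lit 337) (.node (.node .nil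
  (nat_lit 3494) (nat_lit 25314) (nat_lit 3370) .nil) (nat_lit 3495) (nat_lit 2642) (nat_lit 3360) (.node .nil
  (nat_lit 3496) (nat_lit 27508) (nat_lit 2081) .nil)))) (nat_lit 3497) (nat_lit 6691) (nat_lit 2897) (.node
  (.node (.node (.node .nil (nat_lit 3502) (nat_lit 21940) (nat_lit 609) .nil) (nat_lit 3503) (nat_lit 12884)
  (nat_lit 1889) (.node .nil (nat_lit 3506) (nat_lit 29379) (nat_lit 977) .nil)) (nat_lit 3507) (nat_lit 2289)
  (nat_lit 3907) (.node (.node .nil (nat_lit 3508) (nat_lit 8913) (nat_lit 3232) .nil) (nat_lit 3509) (nat_lit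
  17537) (nat_lit 1421) (.node .nil (nat_lit 3514) (nat_lit 6178) (nat_lit 3381) .nil))) (nat_lit 3515)
  (nat_lit 6786) (nat_lit 3391) (.node (.node (.node .nil (nat_lit 3516) (nat_lit 22946) (nat_lit 3388) .nil)
  (nat_lit 3517) (nat_lit 1604) (nat_lit 2337) (.node .nil (nat_lit 3521) (nat_lit 18500) (nat_lit 1317)
  .nil)) (nat_lit 3522) (nat_lit 19539) (nat_lit 2770) (.node (.node .nil (nat_lit 3524) (nat_lit 31668)
  (nat_lit 101) .nil) (nat_lit 3527) (nat_lit 26866) (nat_lit 1859) (.node .nil (nat_lit 3529) (nat_lit 20753)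
  (nat_lit 1680) .nil))))) (nat_lit 3530) (nat_lit 14964) (nat_lit 2725) (.node (.node (.node (.node (.node
  .nil (nat_lit 3532) (nat_lit 15028) (nat_lit 229) .nil) (nat_lit 3535) (nat_lit 5009) (nat_lit 3166) (.node
  .nil (nat_lit 3536) (nat_lit 10689) (nat_lit 238) .nil)) (nat_lit 3539) (nat_lit 22049) (nat_lit 3829)
  (.node (.node .nil (nat_lit 3541) (nat_lit 17716) (nat_lit 293) .nil) (nat_lit 3542) (nat_lit 31219)
  (nat_lit 722) (.node .nil (nat_lit 3544) (nat_lit 22306) (nat_lit 1881) .nil))) (nat_lit 3547) (nat_lit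
  28273) (nat_lit 1385) (.node (.node (.node .nil (nat_lit 3549) (nat_lit 28162) (nat_lit 1877) .nil) (nat_lit
  3550) (nat_lit 25841) (nat_lit 444) (.node .nil (nat_lit 3552) (nat_lit 5360) (nat_lit 1616) .nil)) (nat_lit
  3555) (nat_lit 6947) (nat_lit 2962) (.node (.node .nil (nat_lit 3557) (nat_lit 16851) (nat_lit 3666) .nil)
  (nat_lit 3558) (nat_lit 6385) (nat_lit 618) (.node .nil (nat_lit 3560) (nat_lit 7076) (nat_lit 2085)
  .nil)))) (nat_lit 3563) (nat_lit 11924) (nat_lit 1829) (.node (.node (.node (.node .nil (nat_lit 3565)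
  (nat_lit 5585) (nat_lit 2029) .nil) (nat_lit 3566) (nat_lit 12531) (nat_lit 466) (.node .nil (nat_lit 3569)
  (nat_lit 4321) (nat_lit 1350) .nil)) (nat_lit 3570) (nat_lit 6626) (nat_lit 1918) (.node (.node .nil
  (nat_lit 3572) (nat_lit 7538) (nat_lit 1911) .nil) (nat_lit 3575) (nat_lit 12401) (nat_lit 3976) (.node .nil
  (nat_lit 3577) (nat_lit 228) (nat_lit 2405) .nil))) (nat_lit 3578) (nat_lit 2962) (nat_lit 1909) (.node
  (.node (.node .nil (nat_lit 3580) (nat_lit 17985) (nat_lit 2575) .nil) (nat_lit 3583) (nat_lit 2180)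
  (nat_lit 805) (.node .nil (nat_lit 3592) (nat_lit 18592) (nat_lit 1796) .nil)) (nat_lit 3593) (nat_lit
  10113) (nat_lit 2208) (.node (.node .nil (nat_lit 3594) (nat_lit 23297) (nat_lit 1723) .nil) (nat_lit 3595)
  (nat_lit 18515) (nat_lit 4006) .nil))))))
def tv3_14 : T := (.node (.node (.node (.node (.node (.node (.node .nil (nat_lit 3597) (nat_lit 29442)
  (nat_lit 3015) .nil) (nat_lit 3598) (nat_lit 21764) (nat_lit 2774) (.node .nil (nat_lit 3599) (nat_lit
  22226) (nat_lit 3016) .nil)) (nat_lit 3600) (nat_lit 16274) (nat_lit 3026) (.node (.node .nil (nat_lit 3601)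
  (nat_lit 4100) (nat_lit 342) .nil) (nat_lit 3602) (nat_lit 8753) (nat_lit 2536) (.node .nil (nat_lit 3603)
  (nat_lit 289) (nat_lit 197) .nil))) (nat_lit 3604) (nat_lit 29588) (nat_lit 1046) (.node (.node (.node .nil
  (nat_lit 3605) (nat_lit 5793) (nat_lit 2571) .nil) (nat_lit 3606) (nat_lit 4643) (nat_lit 742) (.node .nil
  (nat_lit 3607) (nat_lit 29410) (nat_lit 3025) .nil)) (nat_lit 3616) (nat_lit 24689) (nat_lit 1684) (.node
  (.node .nil (nat_lit 3617) (nat_lit 20676) (nat_lit 3478) .nil) (nat_lit 3618) (nat_lit 19764) (nat_lit 662)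
  (.node .nil (nat_lit 3619) (nat_lit 27186) (nat_lit 3046) .nil)))) (nat_lit 3620) (nat_lit 22595) (nat_lit
  294) (.node (.node (.node (.node .nil (nat_lit 3621) (nat_lit 28689) (nat_lit 577) .nil) (nat_lit 3622)
  (nat_lit 15762) (nat_lit 3050) (.node .nil (nat_lit 3623) (nat_lit 21793) (nat_lit 1399) .nil)) (nat_lit
  3640) (nat_lit 10658) (nat_lit 3066) (.node (.node .nil (nat_lit 3641) (nat_lit 13280) (nat_lit 1831) .nil)
  (nat_lit 3642) (nat_lit 3665) (nat_lit 3825) (.node .nil (nat_lit 3643) (nat_lit 7988) (nat_lit 854) .nil)))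
  (nat_lit 3644) (nat_lit 8739) (nat_lit 3110) (.node (.node (.node .nil (nat_lit 3645) (nat_lit 12612)
  (nat_lit 2326) .nil) (nat_lit 3646) (nat_lit 16770) (nat_lit 3059) (.node .nil (nat_lit 3647) (nat_lit
  11602) (nat_lit 3065) .nil)) (nat_lit 3649) (nat_lit 22130) (nat_lit 394) (.node (.node .nil (nat_lit 3651)
  (nat_lit 16898) (nat_lit 389) .nil) (nat_lit 3653) (nat_lit 25234) (nat_lit 396) (.node .nil (nat_lit 3655)
  (nat_lit 4578) (nat_lit 387) .nil))))) (nat_lit 3656) (nat_lit 23763) (nat_lit 2597) (.node (.node (.node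
  (.node (.node .nil (nat_lit 3658) (nat_lit 15011) (nat_lit 229) .nil) (nat_lit 3660) (nat_lit 18483)
  (nat_lit 1317) (.node .nil (nat_lit 3662) (nat_lit 19556) (nat_lit 2770) .nil)) (nat_lit 3664) (nat_lit
  11907) (nat_lit 1829) (.node (.node .nil (nat_lit 3666) (nat_lit 9010) (nat_lit 413) .nil) (nat_lit 3668)
  (nat_lit 2338) (nat_lit 404) (.node .nil (nat_lit 3670) (nat_lit 7186) (nat_lit 411) .nil))) (nat_lit 3673)
  (nat_lit 12548) (nat_lit 466) (.node (.node (.node .nil (nat_lit 3675) (nat_lit 7331) (nat_lit 2213) .nil)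
  (nat_lit 3677) (nat_lit 17972) (nat_lit 402) (.node .nil (nat_lit 3679) (nat_lit 6929) (nat_lit 2962) .nil))
  (nat_lit 3680) (nat_lit 30290) (nat_lit 419) (.node (.node .nil (nat_lit 3682) (nat_lit 15826) (nat_lit 428)
  .nil) (nat_lit 3684) (nat_lit 17699) (nat_lit 293) (.node .nil (nat_lit 3686) (nat_lit 25873) (nat_lit 361)
  .nil)))) (nat_lit 3689) (nat_lit 12593) (nat_lit 2326) (.node (.node (.node (.node .nil (nat_lit 3691)
  (nat_lit 31092) (nat_lit 1810) .nil) (nat_lit 3693) (nat_lit 26962) (nat_lit 420) (.node .nil (nat_lit 3695)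
  (nat_lit 14849) (nat_lit 984) .nil)) (nat_lit 3697) (nat_lit 3251) (nat_lit 1637) (.node (.node .nil
  (nat_lit 3699) (nat_lit 13523) (nat_lit 3237) .nil) (nat_lit 3701) (nat_lit 211) (nat_lit 2405) (.node .nil
  (nat_lit 3703) (nat_lit 29042) (nat_lit 434) .nil))) (nat_lit 3704) (nat_lit 2163) (nat_lit 805) (.node
  (.node (.node .nil (nat_lit 3706) (nat_lit 16514) (nat_lit 437) .nil) (nat_lit 3708) (nat_lit 24385)
  (nat_lit 2316) (.node .nil (nat_lit 3710) (nat_lit 8545) (nat_lit 3642) .nil)) (nat_lit 3714) (nat_lit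
  23699) (nat_lit 2788) (.node (.node .nil (nat_lit 3715) (nat_lit 12337) (nat_lit 552) .nil) (nat_lit 3718)
  (nat_lit 27235) (nat_lit 1508) .nil))))) (nat_lit 3719) (nat_lit 31682) (nat_lit 1091) (.node (.node (.node
  (.node (.node (.node .nil (nat_lit 3720) (nat_lit 3025) (nat_lit 1967) .nil) (nat_lit 3721) (nat_lit 22195)
  (nat_lit 1380) (.node .nil (nat_lit 3724) (nat_lit 18434) (nat_lit 1101) .nil)) (nat_lit 3725) (nat_lit
  25283) (nat_lit 2660) (.node (.node .nil (nat_lit 3728) (nat_lit 21041) (nat_lit 2300) .nil) (nat_lit 3729)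
  (nat_lit 6148) (nat_lit 350) (.node .nil (nat_lit 3732) (nat_lit 353) (nat_lit 1284) .nil))) (nat_lit 3733)
  (nat_lit 13972) (nat_lit 286) (.node (.node (.node .nil (nat_lit 3738) (nat_lit 7251) (nat_lit 2020) .nil)
  (nat_lit 3739) (nat_lit 2226) (nat_lit 1116) (.node .nil (nat_lit 3742) (nat_lit 4113) (nat_lit 2478) .nil))
  (nat_lit 3743) (nat_lit 369) (nat_lit 131) (.node (.node .nil (nat_lit 3744) (nat_lit 30323) (nat_lit 3620)
  .nil) (nat_lit 3745) (nat_lit 29219) (nat_lit 356) (.node .nil (nat_lit 3748) (nat_lit 10612) (nat_lit 2270)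
  .nil)))) (nat_lit 3749) (nat_lit 26995) (nat_lit 3684) (.node (.node (.node (.node .nil (nat_lit 3754)
  (nat_lit 9825) (nat_lit 3100) .nil) (nat_lit 3755) (nat_lit 26979) (nat_lit 420) (.node .nil (nat_lit 3758)
  (nat_lit 15873) (nat_lit 484) .nil)) (nat_lit 3759) (nat_lit 19124) (nat_lit 1886) (.node (.node .nil
  (nat_lit 3762) (nat_lit 6067) (nat_lit 996) .nil) (nat_lit 3763) (nat_lit 31892) (nat_lit 990) (.node .nil
  (nat_lit 3766) (nat_lit 3699) (nat_lit 3300) .nil))) (nat_lit 3767) (nat_lit 14770) (nat_lit 1138) (.node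
  (.node (.node .nil (nat_lit 3768) (nat_lit 675) (nat_lit 804) .nil) (nat_lit 3769) (nat_lit 7667) (nat_lit
  3172) (.node .nil (nat_lit 3772) (nat_lit 24577) (nat_lit 541) .nil)) (nat_lit 3773) (nat_lit 4177) (nat_lit
  2864) (.node (.node .nil (nat_lit 3777) (nat_lit 10481) (nat_lit 2093) .nil) (nat_lit 3778) (nat_lit 22100)
  (nat_lit 2586) (.node .nil (nat_lit 3781) (nat_lit 8340) (nat_lit 1370) .nil))))) (nat_lit 3782) (nat_lit
  18194) (nat_lit 3593) (.node (.node (.node (.node (.node .nil (nat_lit 3784) (nat_lit 18273) (nat_lit 2716)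
  .nil) (nat_lit 3787) (nat_lit 25169) (nat_lit 1159) (.node .nil (nat_lit 3788) (nat_lit 20817) (nat_lit
  1892) .nil)) (nat_lit 3791) (nat_lit 10417) (nat_lit 2431) (.node (.node .nil (nat_lit 3792) (nat_lit 8897)
  (nat_lit 1487) .nil) (nat_lit 3795) (nat_lit 30372) (nat_lit 2906) (.node .nil (nat_lit 3796) (nat_lit
  31169) (nat_lit 2103) .nil))) (nat_lit 3799) (nat_lit 4241) (nat_lit 1580) (.node (.node (.node .nil
  (nat_lit 3801) (nat_lit 930) (nat_lit 3603) .nil) (nat_lit 3802) (nat_lit 177) (nat_lit 2405) (.node .nil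
  (nat_lit 3805) (nat_lit 5905) (nat_lit 2694) .nil)) (nat_lit 3806) (nat_lit 10912) (nat_lit 1913) (.node
  (.node .nil (nat_lit 3808) (nat_lit 29859) (nat_lit 3623) .nil) (nat_lit 3811) (nat_lit 17428) (nat_lit
  1946) (.node .nil (nat_lit 3812) (nat_lit 19905) (nat_lit 125) .nil)))) (nat_lit 3815) (nat_lit 15427)
  (nat_lit 1191) (.node (.node (.node (.node .nil (nat_lit 3817) (nat_lit 28355) (nat_lit 2919) .nil) (nat_lit
  3818) (nat_lit 24739) (nat_lit 3815) (.node .nil (nat_lit 3821) (nat_lit 27027) (nat_lit 1127) .nil))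
  (nat_lit 3822) (nat_lit 9553) (nat_lit 3287) (.node (.node .nil (nat_lit 3825) (nat_lit 1364) (nat_lit 2522)
  .nil) (nat_lit 3826) (nat_lit 9283) (nat_lit 999) (.node .nil (nat_lit 3829) (nat_lit 13044) (nat_lit 2458)
  .nil))) (nat_lit 3830) (nat_lit 19154) (nat_lit 3640) (.node (.node (.node .nil (nat_lit 3832) (nat_lit
  8562) (nat_lit 3642) .nil) (nat_lit 3835) (nat_lit 11619) (nat_lit 1703) (.node .nil (nat_lit 3836) (nat_lit
  4468) (nat_lit 3098) .nil)) (nat_lit 3839) (nat_lit 10881) (nat_lit 309) (.node (.node .nil (nat_lit 3844)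
  (nat_lit 4338) (nat_lit 1350) .nil) (nat_lit 3845) (nat_lit 1012) (nat_lit 1347) .nil))))))
def tv3_15 : T := (.node (.node (.node (.node (.node (.node (.node .nil (nat_lit 3847) (nat_lit 275) (nat_lit
  2697) .nil) (nat_lit 3848) (nat_lit 336) (nat_lit 1284) (.node .nil (nat_lit 3849) (nat_lit 8979) (nat_lit
  1353) .nil)) (nat_lit 3850) (nat_lit 17474) (nat_lit 1348) (.node (.node .nil (nat_lit 3851) (nat_lit 498)
  (nat_lit 1358) .nil) (nat_lit 3856) (nat_lit 30993) (nat_lit 1229) (.node .nil (nat_lit 3857) (nat_lit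
  11681) (nat_lit 3552) .nil))) (nat_lit 3858) (nat_lit 26180) (nat_lit 3651) (.node (.node (.node .nil
  (nat_lit 3859) (nat_lit 21713) (nat_lit 2774) .nil) (nat_lit 3868) (nat_lit 16163) (nat_lit 521) (.node .nil
  (nat_lit 3869) (nat_lit 4612) (nat_lit 387) .nil)) (nat_lit 3870) (nat_lit 21252) (nat_lit 3715) (.node
  (.node .nil (nat_lit 3871) (nat_lit 8306) (nat_lit 1370) .nil) (nat_lit 3872) (nat_lit 18211) (nat_lit 3593)
  (.node .nil (nat_lit 3873) (nat_lit 25473) (nat_lit 1450) .nil)))) (nat_lit 3874) (nat_lit 14099) (nat_lit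
  1225) (.node (.node (.node (.node .nil (nat_lit 3875) (nat_lit 17298) (nat_lit 1382) .nil) (nat_lit 3884)
  (nat_lit 17139) (nat_lit 2825) (.node .nil (nat_lit 3885) (nat_lit 22178) (nat_lit 1380) .nil)) (nat_lit
  3886) (nat_lit 9924) (nat_lit 579) (.node (.node .nil (nat_lit 3887) (nat_lit 22641) (nat_lit 1272) .nil)
  (nat_lit 3892) (nat_lit 21810) (nat_lit 1399) (.node .nil (nat_lit 3893) (nat_lit 20644) (nat_lit 2435)
  .nil))) (nat_lit 3894) (nat_lit 32082) (nat_lit 1400) (.node (.node (.node .nil (nat_lit 3895) (nat_lit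
  29907) (nat_lit 905) .nil) (nat_lit 3896) (nat_lit 23506) (nat_lit 1402) (.node .nil (nat_lit 3897) (nat_lit
  20052) (nat_lit 2371) .nil)) (nat_lit 3898) (nat_lit 15075) (nat_lit 2505) (.node (.node .nil (nat_lit 3899)
  (nat_lit 10945) (nat_lit 3535) .nil) (nat_lit 3905) (nat_lit 14355) (nat_lit 3914) (.node .nil (nat_lit
  3907) (nat_lit 819) (nat_lit 1418) .nil))))) (nat_lit 3908) (nat_lit 14658) (nat_lit 3846) (.node (.node
  (.node (.node (.node .nil (nat_lit 3910) (nat_lit 13812) (nat_lit 2631) .nil) (nat_lit 3912) (nat_lit 1442)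
  (nat_lit 3851) (.node .nil (nat_lit 3914) (nat_lit 7169) (nat_lit 411) .nil)) (nat_lit 3917) (nat_lit 898)
  (nat_lit 3847) (.node (.node .nil (nat_lit 3919) (nat_lit 481) (nat_lit 1358) .nil) (nat_lit 3920) (nat_lit
  26065) (nat_lit 2558) (.node .nil (nat_lit 3922) (nat_lit 10244) (nat_lit 3655) .nil))) (nat_lit 3925)
  (nat_lit 26803) (nat_lit 1866) (.node (.node (.node .nil (nat_lit 3927) (nat_lit 19971) (nat_lit 3466) .nil)
  (nat_lit 3929) (nat_lit 25073) (nat_lit 2895) (.node .nil (nat_lit 3931) (nat_lit 23345) (nat_lit 3193)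
  .nil)) (nat_lit 3932) (nat_lit 8259) (nat_lit 522) (.node (.node .nil (nat_lit 3934) (nat_lit 32210)
  (nat_lit 3856) .nil) (nat_lit 3936) (nat_lit 21889) (nat_lit 436) (.node .nil (nat_lit 3938) (nat_lit 22483)
  (nat_lit 1226) .nil)))) (nat_lit 3941) (nat_lit 24147) (nat_lit 3658) (.node (.node (.node (.node .nil
  (nat_lit 3943) (nat_lit 27490) (nat_lit 3872) .nil) (nat_lit 3945) (nat_lit 5105) (nat_lit 773) (.node .nil
  (nat_lit 3947) (nat_lit 22147) (nat_lit 394) .nil)) (nat_lit 3948) (nat_lit 17764) (nat_lit 2119) (.node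
  (.node .nil (nat_lit 3950) (nat_lit 19219) (nat_lit 458) .nil) (nat_lit 3953) (nat_lit 15683) (nat_lit 1610)
  (.node .nil (nat_lit 3955) (nat_lit 29874) (nat_lit 3892) .nil))) (nat_lit 3956) (nat_lit 20435) (nat_lit
  1546) (.node (.node (.node .nil (nat_lit 3958) (nat_lit 24355) (nat_lit 3274) .nil) (nat_lit 3960) (nat_lit
  24258) (nat_lit 3898) (.node .nil (nat_lit 3962) (nat_lit 26321) (nat_lit 2513) .nil)) (nat_lit 3965)
  (nat_lit 21875) (nat_lit 842) (.node (.node .nil (nat_lit 3967) (nat_lit 11524) (nat_lit 775) .nil) (nat_lit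
  3970) (nat_lit 4722) (nat_lit 2767) .nil))))) (nat_lit 3971) (nat_lit 1476) (nat_lit 3851) (.node (.node
  (.node (.node (.node (.node .nil (nat_lit 3972) (nat_lit 1459) (nat_lit 3851) .nil) (nat_lit 3973) (nat_lit
  7442) (nat_lit 2764) (.node .nil (nat_lit 3976) (nat_lit 5827) (nat_lit 2571) .nil)) (nat_lit 3977) (nat_lit
  3746) (nat_lit 2753) (.node (.node .nil (nat_lit 3982) (nat_lit 2883) (nat_lit 4043) .nil) (nat_lit 3983)
  (nat_lit 2900) (nat_lit 4043) (.node .nil (nat_lit 3984) (nat_lit 12065) (nat_lit 751) .nil))) (nat_lit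
  3985) (nat_lit 27603) (nat_lit 2123) (.node (.node (.node .nil (nat_lit 3990) (nat_lit 23459) (nat_lit 715)
  .nil) (nat_lit 3991) (nat_lit 22387) (nat_lit 3467) (.node .nil (nat_lit 3994) (nat_lit 21730) (nat_lit
  2774) .nil)) (nat_lit 3995) (nat_lit 7089) (nat_lit 1896) (.node (.node .nil (nat_lit 3996) (nat_lit 11395)
  (nat_lit 523) .nil) (nat_lit 3997) (nat_lit 29104) (nat_lit 1531) (.node .nil (nat_lit 4000) (nat_lit 14929)
  (nat_lit 2725) .nil)))) (nat_lit 4001) (nat_lit 22404) (nat_lit 3467) (.node (.node (.node (.node .nil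
  (nat_lit 4006) (nat_lit 10257) (nat_lit 107) .nil) (nat_lit 4007) (nat_lit 22339) (nat_lit 1163) (.node .nil
  (nat_lit 4010) (nat_lit 11412) (nat_lit 523) .nil)) (nat_lit 4011) (nat_lit 19074) (nat_lit 2797) (.node
  (.node .nil (nat_lit 4012) (nat_lit 27620) (nat_lit 2123) .nil) (nat_lit 4013) (nat_lit 19281) (nat_lit
  1516) (.node .nil (nat_lit 4018) (nat_lit 3409) (nat_lit 2396) .nil))) (nat_lit 4019) (nat_lit 24705)
  (nat_lit 113) (.node (.node (.node .nil (nat_lit 4020) (nat_lit 15603) (nat_lit 1547) .nil) (nat_lit 4021)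
  (nat_lit 29331) (nat_lit 2379) (.node .nil (nat_lit 4024) (nat_lit 22865) (nat_lit 1526) .nil)) (nat_lit
  4025) (nat_lit 16337) (nat_lit 3291) (.node (.node .nil (nat_lit 4030) (nat_lit 15620) (nat_lit 1547) .nil)
  (nat_lit 4031) (nat_lit 20257) (nat_lit 1557) (.node .nil (nat_lit 4033) (nat_lit 562) (nat_lit 138)
  .nil))))) (nat_lit 4034) (nat_lit 10402) (nat_lit 143) (.node (.node (.node (.node (.node .nil (nat_lit
  4036) (nat_lit 1024) (nat_lit 1356) .nil) (nat_lit 4039) (nat_lit 386) (nat_lit 131) (.node .nil (nat_lit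
  4040) (nat_lit 4483) (nat_lit 2568) .nil)) (nat_lit 4043) (nat_lit 1057) (nat_lit 3732) (.node (.node .nil
  (nat_lit 4045) (nat_lit 7475) (nat_lit 2632) .nil) (nat_lit 4046) (nat_lit 2257) (nat_lit 2625) (.node .nil
  (nat_lit 4048) (nat_lit 31378) (nat_lit 146) .nil))) (nat_lit 4051) (nat_lit 25108) (nat_lit 2895) (.node
  (.node (.node .nil (nat_lit 4053) (nat_lit 11328) (nat_lit 1407) .nil) (nat_lit 4054) (nat_lit 20179)
  (nat_lit 712) (.node .nil (nat_lit 4057) (nat_lit 16945) (nat_lit 3437) .nil)) (nat_lit 4058) (nat_lit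
  18836) (nat_lit 3791) (.node (.node .nil (nat_lit 4060) (nat_lit 28113) (nat_lit 2488) .nil) (nat_lit 4063)
  (nat_lit 4529) (nat_lit 1955) (.node .nil (nat_lit 4064) (nat_lit 26898) (nat_lit 163) .nil)))) (nat_lit
  4067) (nat_lit 28849) (nat_lit 2445) (.node (.node (.node (.node .nil (nat_lit 4069) (nat_lit 10996)
  (nat_lit 3535) .nil) (nat_lit 4070) (nat_lit 12692) (nat_lit 719) (.node .nil (nat_lit 4073) (nat_lit 25603)
  (nat_lit 2888) .nil)) (nat_lit 4074) (nat_lit 27539) (nat_lit 3784) (.node (.node .nil (nat_lit 4076)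
  (nat_lit 25649) (nat_lit 498) .nil) (nat_lit 4079) (nat_lit 7299) (nat_lit 3720) (.node .nil (nat_lit 4081)
  (nat_lit 27632) (nat_lit 1379) .nil))) (nat_lit 4082) (nat_lit 31058) (nat_lit 190) (.node (.node (.node
  .nil (nat_lit 4084) (nat_lit 15522) (nat_lit 183) .nil) (nat_lit 4087) (nat_lit 23521) (nat_lit 186) (.node
  .nil (nat_lit 4088) (nat_lit 17251) (nat_lit 776) .nil)) (nat_lit 4091) (nat_lit 14833) (nat_lit 1758)
  (.node (.node .nil (nat_lit 4093) (nat_lit 31314) (nat_lit 182) .nil) (nat_lit 4094) (nat_lit 11361)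
  (nat_lit 523) .nil))))))
def tv3 : T := (.node (.node (.node (.node tv3_0 (nat_lit 318) (nat_lit 20292) (nat_lit 1557) tv3_1) (nat_lit
  572) (nat_lit 1682) (nat_lit 2044) (.node tv3_2 (nat_lit 822) (nat_lit 19648) (nat_lit 301) tv3_3)) (nat_lit
  1080) (nat_lit 3315) (nat_lit 808) (.node (.node tv3_4 (nat_lit 1326) (nat_lit 28724) (nat_lit 577) tv3_5)
  (nat_lit 1580) (nat_lit 1617) (nat_lit 4033) (.node tv3_6 (nat_lit 1830) (nat_lit 10640) (nat_lit 2333)
  tv3_7))) (nat_lit 2096) (nat_lit 16580) (nat_lit 3304) (.node (.node (.node tv3_8 (nat_lit 2334) (nat_lit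
  9508) (nat_lit 3773) tv3_9) (nat_lit 2588) (nat_lit 10066) (nat_lit 4063) (.node tv3_10 (nat_lit 2838)
  (nat_lit 31985) (nat_lit 1041) tv3_11)) (nat_lit 3096) (nat_lit 22963) (nat_lit 3388) (.node (.node tv3_12
  (nat_lit 3342) (nat_lit 24897) (nat_lit 3682) tv3_13) (nat_lit 3596) (nat_lit 18913) (nat_lit 3189) (.node
  tv3_14 (nat_lit 3846) (nat_lit 7425) (nat_lit 2764) tv3_15))))

theorem valid_gL : Valid rc gL := valid_rc (by decide +kernel)
theorem tv1_chk : band (orbChk lin gL 1 4096 tv1) (Nat.beq tv1.size 693) = true := by decide +kernel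
theorem tv2_chk : band (orbChk lin gL 20 4096 tv2) (Nat.beq tv2.size 1386) = true := by decide +kernel
theorem tv3_chk : band (orbChk lin gL 65 4096 tv3) (Nat.beq tv3.size 2016) = true := by decide +kernel
theorem tv_cover : ball (fun a => bor (Nat.beq a 0) (bif' (Nat.beq (Qf a) 1) (tv3.has a)
    (band (Nat.beq (Qf a) 0) (bor (tv1.has a) (tv2.has a))))) 12 0 = true := by decide +kernel
theorem Q_gens : lall gL (fun s => ball (fun a => Nat.beq (force (lin s a) Qf) (Qf a)) 12 0) = true := by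
  decide +kernel
theorem par6_chk : ball (fun i => force (Nat.shiftRight i 6) fun x => force (Nat.land i 63) fun y =>
    Nat.beq (par6 (Nat.xor x y)) (Nat.xor (par6 x) (par6 y))) 12 0 = true := by decide +kernel

theorem par6_xor {x y : ℕ} (hx : x < 64) (hy : y < 64) : par6 (x ^^^ y) = par6 x ^^^ par6 y := by
  have := ball_zero par6_chk (64 * x + y) (by norm_num; omega)
  simp only [force_eq, Nat.beq_eq] at this
  change par6 ((64 * x + y) >>> 6 ^^^ (64 * x + y) &&& 63) =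
    par6 ((64 * x + y) >>> 6) ^^^ par6 ((64 * x + y) &&& 63) at this
  rwa [show (64 : ℕ) = 2 ^ 6 from rfl, show (63 : ℕ) = 2 ^ 6 - 1 from rfl, shr_add hy, and_add hy] at this

theorem and63_lt (x : ℕ) : x &&& 63 < 64 := Nat.and_lt_two_pow (n := 6) _ (by norm_num)

theorem par6_and (x y : ℕ) : par6 ((x ^^^ y) &&& 63) = par6 (x &&& 63) ^^^ par6 (y &&& 63) := by
  rw [Nat.and_xor_distrib_right, par6_xor (and63_lt _) (and63_lt _)]

theorem par6_le (x : ℕ) : par6 x ≤ 1 := Nat.and_le_right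
theorem Qf_le (a : ℕ) : Qf a ≤ 1 := par6_le _
theorem Bf_le (a b : ℕ) : Bf a b ≤ 1 := par6_le _
theorem be_le (a b : ℕ) : be a b ≤ 1 := par6_le _
theorem ou_le (c : ℕ) : ou c ≤ 1 := by rw [ou, bif'_eq]; split_ifs <;> decide

theorem Qf_def (a : ℕ) : Qf a = par6 ((a &&& (a >>> 6)) &&& 63) := rfl
theorem Bf_def (a b : ℕ) : Bf a b = par6 (((a &&& (b >>> 6)) ^^^ (b &&& (a >>> 6))) &&& 63) := rfl

theorem Bf_comm (a b : ℕ) : Bf a b = Bf b a := by rw [Bf_def, Bf_def, Nat.xor_comm]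
theorem Bf_self (a : ℕ) : Bf a a = 0 := by rw [Bf_def, Nat.xor_self]; rfl
theorem Bf_xor_left (a b c : ℕ) : Bf (a ^^^ b) c = Bf a c ^^^ Bf b c := by
  rw [Bf_def, Bf_def, Bf_def, ← par6_and, Nat.shiftRight_xor_distrib,
    Nat.and_xor_distrib_right (a := a), Nat.and_xor_distrib_left]
  congr 2
  simp only [Nat.xor_assoc, Nat.xor_left_comm]
theorem Bf_xor_right (a b c : ℕ) : Bf a (b ^^^ c) = Bf a b ^^^ Bf a c := by
  rw [Bf_comm, Bf_xor_left, Bf_comm b, Bf_comm c]
theorem Bf_zero_left (a : ℕ) : Bf 0 a = 0 := by simpa using Bf_xor_left 0 0 a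
theorem Bf_zero_right (a : ℕ) : Bf a 0 = 0 := by rw [Bf_comm, Bf_zero_left]
theorem Qf_zero : Qf 0 = 0 := rfl
theorem Qf_xor (a b : ℕ) : Qf (a ^^^ b) = Qf a ^^^ Qf b ^^^ Bf a b := by
  rw [Qf_def, Qf_def, Qf_def, Bf_def, ← par6_and, ← par6_and, Nat.shiftRight_xor_distrib,
    Nat.and_xor_distrib_right (a := a), Nat.and_xor_distrib_left, Nat.and_xor_distrib_left]
  congr 2
  simp only [Nat.xor_assoc, Nat.xor_left_comm, Nat.xor_comm]
theorem Bf_eq (a b : ℕ) : Bf a b = Qf (a ^^^ b) ^^^ Qf a ^^^ Qf b := by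
  rw [Qf_xor]
  have := Qf_le a; have := Qf_le b; have := Bf_le a b
  generalize Qf a = x at *; generalize Qf b = y at *; generalize Bf a b = t at *
  interval_cases x <;> interval_cases y <;> interval_cases t <;> rfl
theorem be_xor_left (a b c : ℕ) : be (a ^^^ b) c = be a c ^^^ be b c := by
  rw [be, lin_xor, Bf_xor_left]; rfl
theorem be_xor_right (a b c : ℕ) : be a (b ^^^ c) = be a b ^^^ be a c := Bf_xor_right _ _ _

instance instActRV : MulAction R (Fin 4096) := MulAction.compHom _ (MonoidHom.fst Mtˣ M24)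

theorem smulV_val (r : R) (a : Fin 4096) : (r • a).val = lin (rc r) a := (lin_rc r a).symm

theorem acV : AC (X := Fin 4096) rc Set.univ Fin.val lin where
  smul_mem _ _ _ := trivial
  inj _ _ _ _ h := Fin.ext h
  ap_code r a _ := (smulV_val r a).symm

/-- A function on vectors invariant under the generators is invariant under the group. -/
theorem inv_of_gens {α : Type*} {l : List ℕ} {f : ℕ → α} (h : ∀ s ∈ l, ∀ a < 4096, f (lin s a) = f a)
    {r : R} (hr : r ∈ gen rc l) : ∀ a < 4096, f (lin (rc r) a) = f a := by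
  induction hr using Subgroup.closure_induction with
  | mem x hx => exact h _ hx
  | one => intro a ha; rw [lin_rc_one ha]
  | mul x y _ _ h1 h2 => intro a ha; rw [lin_rc_mul, h1 _ (lin_lt _ _), h2 a ha]
  | inv x _ h1 => intro a ha; rw [← h1 _ (lin_lt _ _), lin_rc_inv' x ha]

theorem Qf_lin {r : R} (hr : r ∈ Lm) {a : ℕ} (ha : a < 4096) : Qf (lin (rc r) a) = Qf a :=
  inv_of_gens (fun s hs a ha => by
    have := ball_zero ((lall_iff _ _).1 Q_gens s hs) a ha
    rwa [force_eq, Nat.beq_eq] at this) hr a ha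

theorem Bf_lin {r : R} (hr : r ∈ Lm) {a b : ℕ} (ha : a < 4096) (hb : b < 4096) :
    Bf (lin (rc r) a) (lin (rc r) b) = Bf a b := by
  rw [Bf_eq, ← lin_xor, Qf_lin hr ha, Qf_lin hr hb, Qf_lin hr (xor_lt12 ha hb), ← Bf_eq]

theorem conn_vec {t : T} {r n : ℕ} (hr : r < 4096)
    (h : band (orbChk lin gL r 4096 t) (Nat.beq t.size n) = true) {a : ℕ} (ha : t.has a = true) :
    ∃ g ∈ Lm, lin (rc g) r = a := by
  simp only [orbChk, band_eq, Bool.and_eq_true] at h
  obtain ⟨g, hg, e⟩ := acV.conn_sound valid_gL (x₀ := ⟨r, hr⟩) trivial h.1.2.2 a (T.has_sound ha)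
  exact ⟨g, hg, by rw [← e, smulV_val]⟩

/-- The three orbits on non-zero vectors. -/
theorem orbits_vec {a : ℕ} (ha : a < 4096) (h0 : a ≠ 0) :
    (Qf a = 0 ∧ ((∃ g ∈ Lm, lin (rc g) 1 = a) ∨ ∃ g ∈ Lm, lin (rc g) 20 = a)) ∨
      (Qf a = 1 ∧ ∃ g ∈ Lm, lin (rc g) 65 = a) := by
  have := ball_zero tv_cover a ha
  simp only [bor_eq, band_eq, bif'_eq, Bool.or_eq_true, Nat.beq_eq, h0, false_or] at this
  split_ifs at this with h1
  · exact Or.inr ⟨h1, conn_vec (by norm_num) tv3_chk this⟩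
  · simp only [Bool.and_eq_true, Bool.or_eq_true, Nat.beq_eq] at this
    exact Or.inl ⟨this.1, this.2.imp (conn_vec (by norm_num) tv1_chk) (conn_vec (by norm_num) tv2_chk)⟩

theorem zpow_xor {G : Type*} [Group G] {z : G} (hz : z * z = 1) (x y : ℕ) :
    z ^ (x ^^^ y) = z ^ x * z ^ y := by
  have h2 : z ^ 2 = 1 := by rw [pow_two, hz]
  rw [← pow_add, ← Nat.mod_add_div (x ^^^ y) 2, ← Nat.mod_add_div (x + y) 2, pow_add, pow_add, pow_mul,
    pow_mul, h2, one_pow, one_pow, Nat.xor_mod_two_eq]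

end Cfsg.Agent.J4
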