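import Cfsg.Agent.J4.OFN0

/-!
# The Thompson number of the first class: computations
-/

set_option autoImplicit false
set_option exponentiation.threshold 600

namespace Cfsg.Agent.J4

open Cfsg.Agent.M24

def cV : List ℕ := [nat_lit
  0xbdab49ca307b9ac5a928398a418820800400200100080040020010008004002001800400200100080040020010008004002001,
  nat_lit
  0xce62c54f49110b09ac9aeb40ba5714528ff2b516ed677d02b03d01f02503f015d896c7e997f7a9eff900a00f01b02d012023,
  nat_lit
  0xba8f129aa945990091af94e8312dc08564eb94f7c58b245301d03b00c0080310234d2ca3f18a2c47bcdd02a01500400c01603d]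
def cA : List ℕ := [nat_lit
  0xbdab49ca307b9ac5a928398a418820800400200100080040020010008004002001800400200100080040020010008004002001,
  nat_lit
  0xce62c54f49110b09ac9aeb40ba5714528ff2b516ed677d02b03d01f02503f015d896c7e997f7a9eff900a00f01b02d012023,
  nat_lit
  0x156e50c8d7ca0c9d528b0446a1e3740a80594fe8a46889401d02600400800500a40280196ee9946c89801d02600400800500a,
  nat_lit
  0xbd2c1112af4990d29e0c54d6e8c8602af17533e2175c6f8b01203102501f0300206f8d9c12933e92f73500100302d01b023012,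
  nat_lit
  0xba8f129aa945990091af94e8312dc08564eb94f7c58b245301d03b00c0080310234d2ca3f18a2c47bcdd02a01500400c01603d,
  nat_lit
  0xb966baaacd4ba0f9510c0889119cc01db3ad2e71b9fc0a8002701e03602d010030b5c6e4534f18e2893c00300201b03603f02a]
def wT : ℕ := nat_lit 0x9aa9a66a6aa6a99aa99a6aa6a66a9aa9aaaaaa55aaaaaa55aaaaaa55aaaaaa55a9a9a9a9a9a9a9a9a9a9a9a9a9a9a9a96a6a6a6a9a9a9a9aa6a6a6a6a9a9a9a9a96aa69a6aa99aa6a69aa96a9aa66aa955aaaaaaaa55aaaaaaaa55aaaaaaaa55a99a6aa69aa9a66a6aa6a99aa66a9aa9a69aa96aa96aa69a6aa99aa69aa66aa99a6aa9a6a9a69a6aa6a96a9a6a9aa6a96aa6a99aa99a6aa69aa9a66aa66a9aa9a9a69a6aa6a96a9a9a6aa9a66a9aa6a9aaaa55aa55aaaaaaaa55aaaaaaaaaa559aa66aa99aa66aa99aa66aa99aa66aa9a6a96a9a9a6aa9a6a9a69a6a6a9aa6a99a9a9a9aa6a6a6a66a6a6a6aa9a9a9a988aa280a88a0aa82aaa02822aaaaaaa9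
/-- Leaf value. -/
noncomputable def lf (m f f2 : ℕ) : ℕ := bif' (Nat.beq f 0) (bif' (Nat.beq m 2) (Qf f2) m) (Qf f)
/-- Mode. -/
noncomputable def md (n o : ℕ) : ℕ := bif' (Nat.beq (n % 2) 1) 1 (bif' (Nat.beq (n / 2 * o % 2) 1) 0 2)
/-- Context of a matrix. -/
noncomputable def cx (k o : ℕ) (K : ℕ → ℕ → ℕ → ℕ) : ℕ :=
  force (ordL idm k 30 k 1) fun n => bif' (Nat.beq n 0) BIG (force (md n o) fun m =>
    force (nrm k n idm 0) fun N => force (nrm k (n / 2) idm 0) fun N2 => K m N N2)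
/-- Type of a vector. -/
noncomputable def tyE (e : ℕ) : ℕ := bif' (Nat.beq e 0) 1 (bif' (tv1.has e) 2 (bif' (tv2.has e) 3 0))
/-- Type of a vector over an inner involution. -/
noncomputable def tyW (e : ℕ) : ℕ := bif' (band (Nat.beq (lin kw0 e) e) (Nat.beq (Qf e) 0))
  (bif' (Nat.beq (red [19, 33, 4, 12] e) 0) 1 (bif' (Nat.blt e 64) 2 3)) 0
/-- Packing of two images. -/
def pk (N N2 a : ℕ) : ℕ :=
  Nat.xor (Nat.shiftLeft (lin N a) (nat_lit 12)) (Nat.shiftLeft (lin N2 a) (nat_lit 24))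
/-- Weight. -/
def wt (a : ℕ) : ℕ := Nat.land (Nat.shiftRight wT (Nat.mul (nat_lit 2) a)) (nat_lit 3)
/-- Leaf value of a packed vector. -/
noncomputable def lfp (m X : ℕ) : ℕ := force (fld X 1) fun f => force (fld X 2) (lf m f)
/-- Contribution of the extraspecial group. -/
noncomputable def c1 (e k o : ℕ) : ℕ := cx k o fun m N N2 =>
  bsum (fun x => force (tyE x) fun t => bif' (Nat.beq (t % 3) 0) 0
    (force (Nat.xor x e) fun y => force (pk N N2 y) fun X => Nat.mul t (lfp m X))) 12 0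
/-- Contribution of an inner involution. -/
noncomputable def cW (j e k o : ℕ) : ℕ := force (lget lW 0 j) fun w => force (mm w k) fun r =>
  cx r o fun m N N2 => force (lin w e) fun b => force (Nat.xor (Nat.mul 64 j) (pk N N2 b)) fun X =>
    lmk [1, 2, 4, 8, 16, 32] (fun a => Nat.xor a (pk N N2 a)) fun L =>
      ssum (fun X => Nat.mul (force (fld X 0) wt) (lfp m X)) L X
/-- Contribution of all inner involutions. -/
noncomputable def c2 (e k o : ℕ) : ℕ := lsum lD fun d => force (rinv d) fun i => force (mm k d) fun a =>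
  force (mm i a) fun k' => force (lin i e) fun e' =>
    lsum [1, 2, 3, 4, 5, 6, 7, 8, 9, 10, 11, 12, 13, 14, 15] fun j => cW j e' k' o
/-- Contribution of an outer involution. -/
noncomputable def cB (k1 e k o : ℕ) : ℕ := gbk (imf k1) 12 fun B => bif' (indep B)
  (force (mm k1 k) fun r => cx r (Nat.xor 1 o) fun m N N2 => force (lin k1 e) fun b =>
    force (pk N N2 b) fun X => lmk B (pk N N2) fun L => ssum (lfp m) L X) BIG
/-- Contribution of all outer involutions. -/
noncomputable def c3 (e k o : ℕ) : ℕ := lsum lB fun d => force (mm d kW) fun a => force (mm a kW) fun b =>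
  Nat.add (cB d e k o) (Nat.add (cB a e k o) (cB b e k o))
/-- Total count. -/
noncomputable def cF (e k o : ℕ) : ℕ := Nat.add (c1 e k o) (Nat.add (c2 e k o) (c3 e k o))

theorem cF1 : cF 20 idm 0 = 4544 := by decide +kernel
theorem cF2 : force (lo kw0) (fun k => cF 0 k 0) = 9217 := by decide +kernel
theorem cF3 : force (lo kw0) (fun k => cF 1152 k 0) = 48032 := by decide +kernel
theorem cF4 : force (lo kG) (fun k => cF 0 k 1) = 5505 := by decide +kernel
theorem cF5 : force (lo kC) (fun k => cF 0 k 1) = 33920 := by decide +kernel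

end Cfsg.Agent.J4
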