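import Cfsg.Agent.J4.Model

/-!
# Uniqueness of the twelve-dimensional module, I: coordinates
-/

set_option autoImplicit false

namespace Cfsg.Agent.J4

open Cfsg.Agent.M24

/-- Coordinates on an elementary abelian group of order `2 ^ 12`. -/
structure Crd (M : Type*) [AddCommGroup M] where
  σ : ℕ → M
  xor : ∀ a < 4096, ∀ b < 4096, σ (a ^^^ b) = σ a + σ b
  inj : ∀ a < 4096, ∀ b < 4096, σ a = σ b → a = b
  surj : ∀ m, ∃ a < 4096, σ a = m

theorem pow_lt12 {i : ℕ} (hi : i < 12) : 2 ^ i < 4096 :=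
  (Nat.pow_lt_pow_right (by norm_num) hi : 2 ^ i < 2 ^ 12)

theorem cpow_succ (mul : ℕ → ℕ → ℕ) (one p n : ℕ) : cpow mul one p (n + 1) = mul (cpow mul one p n) p :=
  force_eq (cpow mul one p n) fun a => mul a p

namespace Crd
variable {M : Type*} [AddCommGroup M] (C : Crd M)

theorem zero : C.σ 0 = 0 := by
  have := C.xor 0 (by norm_num) 0 (by norm_num)
  simpa using this

/-- The inverse of the coordinate map. -/
noncomputable def τ (m : M) : ℕ := (C.surj m).choose
theorem τ_lt (m : M) : C.τ m < 4096 := (C.surj m).choose_spec.1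
theorem σ_τ (m : M) : C.σ (C.τ m) = m := (C.surj m).choose_spec.2
theorem τ_σ {a : ℕ} (ha : a < 4096) : C.τ (C.σ a) = a := C.inj _ (C.τ_lt _) _ ha (C.σ_τ _)

/-- The matrix of an endomorphism. -/
noncomputable def mat (f : Module.End ℤ M) : ℕ := mk12 fun i => C.τ (f (C.σ (2 ^ i)))

theorem mat_lt (f : Module.End ℤ M) : C.mat f < 2 ^ 144 := mk12_lt fun _ _ => C.τ_lt _

theorem spec (f : Module.End ℤ M) {a : ℕ} (ha : a < 4096) : f (C.σ a) = C.σ (lin (C.mat f) a) := by
  have := lin_mk12 (f := fun a => C.τ (f (C.σ a))) (fun _ _ => C.τ_lt _) (fun a ha b hb =>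
    C.inj _ (C.τ_lt _) _ (xor_lt12 (C.τ_lt _) (C.τ_lt _)) (by
      rw [C.xor _ (C.τ_lt _) _ (C.τ_lt _), C.σ_τ, C.σ_τ, C.σ_τ, C.xor a ha b hb, map_add])) ha
  rw [mat, this, C.σ_τ]

theorem mat_eq {f : Module.End ℤ M} {c : ℕ} (hc : c < 2 ^ 144)
    (h : ∀ a < 4096, f (C.σ a) = C.σ (lin c a)) : C.mat f = c :=
  mat_ext' (C.mat_lt f) hc fun a ha => C.inj _ (lin_lt _ _) _ (lin_lt _ _) (by rw [← C.spec f ha, h a ha])

theorem mat_eq' {f : Module.End ℤ M} {c : ℕ} (hc : c < 2 ^ 144)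
    (h : ∀ i < 12, f (C.σ (2 ^ i)) = C.σ (fld c i)) : C.mat f = c :=
  mat_ext (C.mat_lt f) hc fun i hi => C.inj _ (fld_lt _ _) _ (fld_lt _ _) (by
    rw [← h i hi, C.spec f (pow_lt12 hi), lin_pow _ hi])

theorem mat_mul (f g : Module.End ℤ M) : C.mat (f * g) = mm (C.mat f) (C.mat g) :=
  C.mat_eq (mm_lt _ _) fun a ha => by
    rw [lin_mm, ← C.spec f (lin_lt _ _), ← C.spec g ha]; rfl

theorem mat_one : C.mat 1 = idm := C.mat_eq idm_lt fun a ha => by rw [lin_idm ha]; rfl

theorem mat_pow (f : Module.End ℤ M) (n : ℕ) : C.mat (f ^ n) = cpow mm idm (C.mat f) n := by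
  induction n with
  | zero => rw [pow_zero, C.mat_one]; rfl
  | succ n ih => rw [pow_succ, C.mat_mul, ih, cpow_succ]

theorem mat_add (f g : Module.End ℤ M) : C.mat (f + g) = C.mat f ^^^ C.mat g :=
  C.mat_eq (Nat.xor_lt_two_pow (C.mat_lt _) (C.mat_lt _)) fun a ha => by
    rw [xor_lin, C.xor _ (lin_lt _ _) _ (lin_lt _ _), ← C.spec f ha, ← C.spec g ha]; rfl

theorem mat_inj {f g : Module.End ℤ M} (h : C.mat f = C.mat g) : f = g := by
  ext m
  obtain ⟨a, ha, rfl⟩ := C.surj m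
  change f _ = g _
  rw [C.spec f ha, C.spec g ha, h]

/-- Change of coordinates. -/
def chg {T Ti : ℕ} (h1 : mm T Ti = idm) (h2 : mm Ti T = idm) : Crd M where
  σ a := C.σ (lin T a)
  xor a _ b _ := by rw [lin_xor, C.xor _ (lin_lt _ _) _ (lin_lt _ _)]
  inj a ha b hb h := by
    have := congrArg (lin Ti) (C.inj _ (lin_lt _ _) _ (lin_lt _ _) h)
    rwa [← lin_mm, ← lin_mm, h2, lin_idm ha, lin_idm hb] at this
  surj m := ⟨lin Ti (C.τ m), lin_lt _ _, by rw [← lin_mm, h1, lin_idm (C.τ_lt _), C.σ_τ]⟩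

theorem mat_chg {T Ti : ℕ} (h1 : mm T Ti = idm) (h2 : mm Ti T = idm) {f : Module.End ℤ M} {c d : ℕ}
    (hc : C.mat f = c) (hd : d < 2 ^ 144) (h : mm c T = mm T d) : (C.chg h1 h2).mat f = d :=
  mat_eq _ hd fun a _ => by
    change f (C.σ _) = C.σ _
    rw [C.spec f (lin_lt _ _), hc, ← lin_mm, h, lin_mm]

end Crd

/-- Linear combination with coefficients given by bits. -/
def sp {M : Type*} [AddCommGroup M] (b : ℕ → M) (a : ℕ) : ℕ → M
  | 0 => 0
  | n + 1 => sp b a n + if a.testBit n then b n else 0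

section
variable {M : Type*} [AddCommGroup M]

theorem sp_xor (h2 : ∀ m : M, m + m = 0) (b : ℕ → M) (x y n : ℕ) :
    sp b (x ^^^ y) n = sp b x n + sp b y n := by
  induction n with
  | zero => simp [sp]
  | succ n ih =>
    simp only [sp, ih, Nat.testBit_xor]
    cases x.testBit n <;> cases y.testBit n <;> simp only [Bool.xor_false, Bool.xor_true, if_true,
      Bool.not_true, Bool.not_false, Bool.false_eq_true, if_false]
    · abel
    · abel
    · abel
    · linear_combination (norm := abel) - h2 (b n)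

theorem sp_pow (b : ℕ → M) (i n : ℕ) : sp b (2 ^ i) n = if i < n then b i else 0 := by
  induction n with
  | zero => simp [sp]
  | succ n ih =>
    rw [sp, ih, Nat.testBit_two_pow]
    rcases lt_trichotomy i n with h | h | h
    · simp [h, h.ne, Nat.lt_succ_of_lt h]
    · simp [h]
    · simp [h.ne', Nat.not_lt.2 h.le, Nat.not_lt.2 (Nat.succ_le_of_lt h)]

end

/-- Matrix of `ωx`. -/
def mSp : ℕ := nat_lit 0xc008000a9200100080040020010008004002
/-- Matrix of `ω`. -/
def mWp : ℕ := nat_lit 0xc0080012a09521e10f2d333d3ca1e52a6153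
/-- Matrix of `x`. -/
def mXp : ℕ := nat_lit 0x8004002fd32a19529e14f2f332d3c21e12a4
/-- Matrix of `y`. -/
def mYp : ℕ := nat_lit 0x8004002d30040a929e33d00220014f3ca001
/-- Table of polynomials. -/
def tabQ : ℕ := nat_lit 0xdfb37cdfb35f351635c1474f11f3564679c3ae54806742bc7df51307ed9531ed287c39e7547aaa20f7d1b0f2a0168894dfbdfbd4d70e8f600eba999e433097dad97e21adfbb643924d36616a5b37d875a94a40e73ad5bb94686fd438c778529f8664054349970bd5c5dfb80d75add35d9dfb9a6d4a45194823e8cea95ce80d10776a2777a8e41e9412d0dfb0fc63cdfb8eddfb46e0f2dfb8dc2554aabd90468f83442377790792f4dfbbb2c138a2dfb86817a239a43ddd023c7847ca751a2d4418f39b6943fec4ea3db5cab6c40746d268a503f797965dfba2851d1509230b4dfb44a1b7d0cdfb555539dfbd9bc47276dfb6c7cb5ba060a96bc086f184caa41bedfb7ca4c8dfbdfbadd2e12402ae33ab0115eaebdfbda41abac6d9ca4ab4e24996c372d7b024252a19dfbc2cdc6142c9fdfbcfdb08a3445f90ed0bbcc3c1c6dc1adfb208dfbd2fd72dfb4a3603b98c4947b3eb007564a7bb5b4cfa10857dfb8869bd909b2c38748e10dccb8042305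b21111c9cbbdb6c39dfb4b89799cd4bf5ef99917360d0e07700cd104a444875b592adfb5e67f5dfbc8adfbcd0caecb25cc33498b08b893c849380656b9c837e738e1299d6aa3bef7ee4f761688f4b662e1b99a8912dfb0123a49d15f3584dfb51a321d80a9c6e324e0a16119e08618278452d91dcdfb3f0dfb84b9f2b96dfb0419ca8354022911182bbb13a1eb49a80df078bd58d5f6db9fb9b32fd7f203825c3e2a92dfba02753dc8985508dc1d92444dfb6d5dfbc8d2b2d51b2b6f65968d2dfb915247103b84de582e8c944344db71c7f05adfb709dfb2258b0dfbdfb514360d21c3e0a82a7b3e031754a0c96227198c6ab13bdfb686161765dfbd0542fd338d5627278ab1bf35aea6055b358dfb5dedfbdf934aa691ffdfbdfb66fc6491bb1ddfb7e921d6208503a39af6939fcbfd34d19ddfba2faad0af6eaada829ac1dfbdfb4211205f415730c6ce8325250ba5a7ddadfb03679057f6d21e3dfb52c5639df305debb1adfb6043d3cd72cc8acdfbcccdb19f50e95d0dfb3e5dfb264dfb700dfb7b332842681655258a0df26a89d8b76f86bec6adfb6accd9900578a2647550fc91a0bdfb540dfb3f9dfb01cc6312eda31f1724cc2931b521ceb76dfbdfb53e80ac71b8adfb4f914b5cbdcfdfb68f0eedfb83c5a01f80532011e4dfb9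5408c688dfb5e883bdfbdfb4724e57afbb55d77367fcb25a33dfbdfbdfb0fba3ad1937b36e2cba724694ecd8e81fd89de2a173959901935c255c95da89417ad3bcb4926e4048b6d70728417d94f8be54978276b4105010c3c067cd7d6ac89e9b7f159c2590791c6c946022262972d970cc5bde2e61c019abd7b6a389dfb64b6ff63b6681166570ca65971ccf38819eedfbc5cc0f1c7748be6099642a6749cc22dfbdfb3b87e0dfb873082dfb522576b63a5fdfb5e1ca95fa0707c42f3dfbc554dd888daa6455fddecdfbd75206495dfb89a7a128d181dfb0156c072354e062b474e2d563bf2c20b385edfb4f08b9b9f6b0bbc4adb8d085cded6912743adfbc01ca769a3f7a05dd4dfb30b842be8618dfb1744eb06cafe3c6a58ce148922b7a659800943d1d216f25b333317650dfbb144d4dfbd7c2636edaf08ea67d01b3b1367799419dfbd3d39c05da7c7bd1d52964c1d1e283b400a63c8df7d10bd03698e4dfbbaedfbb393751f656d6dcbbb9d8dfb49b72a326ab8a4daf9924090dfb2fadfbdfb820186dfbacf9a1715d678c0c52dbf8e33808f1712c96c7622c194dfbdfb3dd741dfb132b9171b0f5dfbdfb135aecbe1bc2bf4dfb2139ba40bbfa2a940c2c5dfb30202adfb0c49c477e1662b5dfbd6095a10a58d87475dd34b55145d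fbc302e80d878c69d456b3087a2de666ca097733d4c6abfcfa762dfb3cf738ba73aa98250614c4b18ffdfb80392d3ecdb8cef93664cbc5d17343319dfb06bc1d5917fbdfbdfb67345832f7ba27f87d1ea02da878db04fc2b8ab8181db054188dfb56a59f214dfb53728a73f1b0d3a93f5bc61f67aa21dfb79e811c5b298dfbdfb7d8681c985716320d6b2226dce665e4fe3d4a5109edfb3b6310ad4428a6edfb52bb78cf42d7dfb5301edd02ae21ac4dacbc7a813c76caf7b83a566b71a53daa9b9b4dfbdfb859d6e7b4c372ef583731b069530024a937c4a935f3514a94a94a911f3564674a94a94804a92bc4a94a907e4a931e4a94a94a94a94a920f4a94a92a01684a94a94a94a94a94a900e4a94a94330974a94a921a4a94a93924a94a94a94a94a94a94a40e73ad4a94a94a94a94a94a929f4a94054344a90bd4a94a94a94a94a94a94a94a94a94514a923e4a94a94a90d10774a94a94a941e4a92d04a90fc4a94a94a94a946e0f24a94a92554a94a90464a93442374a90792f44a94a94a94a94a94a917a2394a94a90234a947c4a91a24a918f39b4a93fe4a94a94a94a94a94a94a94a903f4a94a94a94a94a91504a90b44a944a1b74a94a94a94a94a94a94a92764a94a94a94a94a94a94a94a94a94a91be4a94a94a94a94a94a92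e12402ae33a4a915e4a94a94a91ab4a94a94a94a92494a93724a90242524a94a94a94a91424a94a94a94a94a945f4a94a94a93c14a94a94a92084a94a94a94a94a34a94a94a947b3eb0074a94a94a94a94a94a94a94a94a94a94a938748e10d4a94a92304a91111c94a94a94a94a94a94a94a94a94a94a91734a90e04a90cd1044a94874a94a94a94a94a94a94a94a94a94a94a94a93344a908b4a94a94a90654a94a94a938e1294a94a94a94a94a94a94a94a94a91b94a94a94a90123a44a94a94a94a94a93214a94a94a924e0a14a94a94a94a94a92d91dc4a93f04a94a94a94a94a90414a94a94022911182bb4a94a94a94a94a94a94a94a94a94a94a92fd4a903825c3e24a94a94a94a94a94a94a94a94a94444a94a94a94a92b24a94a94a94a94a94a94a92471034a94a94a94a944344d4a94a905a4a94a94a92254a94a94a94a93604a94a90a82a74a90314a94a94a92714a94a913b4a94a91614a94a94a942f4a94a94a92784a94a94a94a94a93584a94a94a94a934a4a91ff4a94a94a94a94a94a94a94a921d4a94a93a34a94a94a94a934d19d4a94a94a90af4a94a94a94a94a94a94211204a915730c4a94a94a90ba4a94a94a90364a94a94a91e34a94a94a94a93054a94a94a94a93d34a92cc4a94a94a94a94a90e94a94a93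e54a92644a94a94a94a93284264a94a94a90df26a4a94a94a94a94a94a94a94a94a94a94a94754a94a94a94a94a94a93f94a901c4a912e4a91f14a94a94a94a91ce4a94a94a94a94a94a94a94a94a914b4a94a94a94a90ee4a94a94a91f80532011e44a94a908c4a94a94a94a94a94a94724a94a94a94a94a94a94a94a94a94a94a90fb4a94a937b36e2cb4a94694a94a94a94a94a94a93954a91934a94a94a94a94174a94a94924a90484a94a928417d4a94a94a94a94a94104a90c34a94a94a94a94a94a91594a94a94a94a94602224a94a94a94a94a92e61c019a4a94a93894a94a94a94a94a91164a90ca4a94a94a94a94a94a94a94a91c74a94a90994a94a949c4a94a94a93b84a94a94a90824a94a94a94a94a94a94a94a94a90704a92f34a94a94a94a94a94a94a94a94a94a92064954a94a94a928d1814a90154a94a94a90624a94a94a93bf2c20b34a94a94a94a94a94a94a94a94a90854a94a912743a4a94a94a94a93f74a94a94a930b4a94a94a94a91744a906c4a93c64a94a948922b4a94a900943d1d216f25b3333174a94a94a94a94a94a92634a94a94a94a901b3b13674a94194a94a939c05d4a94a91d52964a94a92834a90a63c84a94a94a93694a94a94a94a94a93751f64a94a94a94a94a949b4a93264a94a94a94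a90904a92fa4a94a94a91864a94a94a94a94a94a94a94a94a93804a94a94a94a922c1944a94a93dd4a94a91324a94a90f54a94a91354a94a94a94a94a92134a940b4a92a940c2c54a930202a4a90c44a94a91662b54a94a94a910a4a94a94a94a94a91454a94a92e80d84a94a94564a94a92de4a94a94a933d4a94a94a94a94a93cf4a94a93aa4a94a914c4a94a94a94a94a93ec4a94a94a94a94a94a93433194a906b4a94a94a94a94a94a945832f4a927f4a91ea02d4a94a904f4a94a94a91db0541884a94a94a92144a94a928a4a91b04a94a94a94a94a94a94a94a94a94a92984a94a94a94a94a94a94a90d64a926d4a94a94a93d44a909e4a93b63104a94284a94a94a94a94a92d74a94a91ed4a94a91ac4a94a94a913c4a94a94a94a94a91a53da4a94a94a94a94a94a94a94a92ef4a94a94a94a900395237c95235f35163595274f11f3564679529524806742bc7df51307e95231e9527c395254795220f7d19522a016889495295295270e8f600e95295243309795295221a9529523924d36616a59529525a94a40e73ad5bb94686f9528c778529f8664054349520bd5c595280d75a9525d995295295245194823e8ce9529520d10776a277795241e9412d09520fc63c9528ed95246e0f29528dc2554aa9520468f83442377790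792f49529529528a295286817a23995295202395247c9521a295218f39b6943fe9529529529529527469528a503f79795295295251d1509230b495244a1b79529525555399529529522769526c795295260a9529526f184c9521be9527ca4c89529529522e12402ae33a95215e9529529521ab95295295295224995237295202425295295295295214295295295295295245f90e9529523c19529529522089529529529524a360395295247b3eb0075649529524cf95285795288695290995238748e10d9528042305b21111c99529529529524b89529524bf5ef95217360d0e07700cd1049524875b592a9525e67f59529529529529529525cc33495208b8939529380656b99527e738e1299529529527ee4f761688f4b662e1b99529129520123a49525f358495251a3219529526e324e0a16119528618278452d91dc9523f095284b9529529520419528354022911182bb95295295295295278b9529526db9529522fd7f203825c3e29529529527539529525089529524449526d59529522b29529526f65968d295291524710395295282e8c944344d95295205a9527099522258b09529525143609529520a82a79520317549529522719526ab13b95268616176595295242f9528d56272789529525ae95255b3589525de95295234a9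521ff95295266f95291b9529527e921d6208503a395269395295234d19d9529529520af6ea9528299529529524211205f415730c6ce8325250ba5a795295203679057f6d21e395252c5639523059529529526043d39522cc8ac9529529529520e95d09523e59522649527009527b332842681655258a0df26a89d8b76f86be9529526ac95290057895247550f9529529525409523f995201c95212e9521f17249529319521ce95295295253e80a9529529524f914b5cb95295268f0ee95283c5a01f80532011e495295208c6889525e883b9529524724e57af9525d77367fc9529529529529520fb95295237b36e2cb9524694ec95281f9529529523959521935c255c9529524179529524926e404895270728417d94f8be54978276b4105010c39527cd7d695295295215995290791c6c946022262972d9529529522e61c019a95295238995264b6ff63b6681166570ca65971c9528819529529529521c774895209964295249c9529529523b87e09528730829525225769529529525e19525fa0707c42f39529524dd8889526455fd95295295220649595289a7a128d1819520156c072354e0629524e29523bf2c20b385e9524f08b99526b09524ad95208595295212743a95295295269a3f795295295230b8429526189521744eb06c9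523c695295248922b7a659800943d1d216f25b3333176509529524d49529522636ed9528ea67d01b3b136779941995295239c05d9527bd1d52964c19522839520a63c89529529523698e49529529529523751f656d6dc95295295249b72a3269529529529240909522fa9529528201869529529527159528c09529528e33808f171295295222c1949529523dd74195213295271b0f595295213595295295295295221395240b9522a940c2c595230202a9520c495277e1662b595295295210a58d87475d9529521459529522e80d878c69d45695287a2de66695295233d4c69529527629523cf7389523aa95250614c4b18ff95280392d3ec95295293664c95295234331995206b9525917fb95295267345832f7ba27f87d1ea02d9528db04f9528ab8181db05418895256a59f21495253728a73f1b095293f5bc61f67a95295279e8119522989529527d86819525716320d695226d95265e4fe3d495209e9523b631095242895295252b9529522d79525301ed9529521ac4da9527a813c76c9529529526b71a53da9529529529528599527b49522ef58373195295200123c37c26f35f35129c1ef3e611f3560ce0913b70292dd2bc3761ba07e06e31e0d336a0b51ee3f820f37825d2a01681c620a3a80b63a71a400e2fb0cc09a0970560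2c21a2ac23639207a2c820c26507c10000d0e73ad11201413d0b819532c29f1340ac09d0c50bd16c34815f3f30281702f10f40b10f801a23e19c3c71130d107720b3de3dc0b70132d02450fc29527d1bf3540c70f237e18e25500328b0461aa3442373d00792f434f2e01e81f026813a17a2393110260231830d53271a20bf18f39b23d3fe1b536f20e3e41bb3ef0dd1f703f33e03722937a1b41500710b43e90e31b70f73311fc1903530601bc2763fc26e14e2f22a30391f325811e3f61be39e3630613fb29d38f2e12402ae33a25315e3b92db05f1ab39406731821c24903e37208002425234b2271d703d1421642ea10625a3660f605c0f029e3c11961e131b2083820d408923500a2aa2ca1b20d23eb0071cd3292090663421052f81d40ef05b27e38702710d13015623011b1111c914004d1c221f01102b09f0161460cb1732a40e03d90cd10431602e11c07839014f35c3b417100512b1551491653340d908b1c117f06a06521017834e38e1290843f12bd34705e2bf1dd01f2871b90fa0402b70123a408315a12d2181b332107b3ce24a24e0a12b80b21331751172d91dc2dc3f02b01190a02c42d20410981670ab2911182bb24134c21b3d200b3220a30a42720a90e12fd35b03825c3e23c032d3503fa0330d71a103a0690ed3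a127c2571762b20aa27925f13f1803970472471032d601e17c19b0ea0e422318405a3123a02942251e228f25e1bd3600da1c50a82a726c0313fd35e0302710de20213b38b22f1613cc20d0fe0860c818728e2783e32a11073321f235829317739900234a33b1ff21624b2c619f04924f2c734021d2891023a30fd23a0ae2af34d19d3af37d3ff0af24338817b3933d132408812015d15730c26716018c0ba10e0213700363391d627b1e32811851ca08d3050102483412ad3d312c2cc1fe25013704a0a70e91792e33e53792643cd3a93df31a32808f1441fb1230df26a1cf1e52512171913652051220521d13740dc1a616a3592591e938c3f93e701c19812e0581f138d1390632001ce22427a32a19715818a2d82be05014b1620343382260ee31516e1091f80532011e431c00608c2213091411693e02740db04c3062e717e39f3552773613773ee2d50fb3680e237b36e2cb3200c004507514d0720193453950c219316b1f500f3db0be38129903b24d04823f3ae28417d01d1ec1e032b3c20b91a80c31fd36437f39a0bb22d1591de05504e2600c922228038402213e28c2e61c019a2852383892112e22562922c11162fe0ca2f03b51081d30bc3ba1a71f41c73e12b40992eb3350351d926622e3b83492321210822ce18b1df2313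0d2ed14815215307036d2f335d1ae0741da0512ec15401730008e20603c3361c830828d1813c401526938a1e706221504b0ad3bf2c20b310c30e0591eb2cd2192ee0042df0851250921270932041fa15c2333f735702f2f630b1102ba2b12c017404206c3ac3c630a11a02022b30f1310090941d216f25b3333172f928824607d3ca0872632443a21b82d401b3b13673300b03b30c639c05d32e3141d52960680e52832120a63c800c0eb2823691b62a52fc20326b3751f61c42752e908a29a0323833263ea31f3ab0760903f52fa3d82ff17218626139d0f33bc09c1921a90441b13801a33bb16d18d22c1943c33a63dd3e836b1322c33b20f523b2421353be2b32902a62732130e80a22a82a90a52c52b930202a3bd0c40963d71662b53d609b00810a1241263f40cf2071452201cb2e80d83252340ff2621282de2cf15b02533d06f3ed1013cb2c93cf3912f53aa0d01af14c0181ad36c15107f3ec0431140642e52970ec3433192e406b1e61383523623462da0f132f31327f12f1ea02d3d518904f1d01f914a1db0541883071c313621424c19e28a3961b00c106d1152b62d337333f3371431a029835a2a23712281631d829b0d627026d11d2f70573d430309e3f23b631038608133c38518222a10f2d72861991ed0f93b01ac07314730113c3c53a52d130421e1a53da3c90e62ab32310b09531d1cc2ef12a398254001000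
/-- Horner evaluation. -/
noncomputable def hn (a : ℕ) (n : ℕ) : ℕ → ℕ :=
  Nat.rec (motive := fun _ => ℕ → ℕ) (fun _ => nat_lit 0)
    (fun _ ih q => Nat.xor (force (ih (Nat.shiftRight q (nat_lit 1))) (lin mSp))
      (Nat.mul (Nat.land q (nat_lit 1)) a)) n

theorem hn_chk : ball (fun a => bor (Nat.beq a 0) (force (force (fld tabQ a) (hn a 12)) fun r =>
    bor (Nat.beq r 1) (Nat.beq r 1024))) 12 0 = true := by decide +kernel

theorem hn_mem {K : ℕ → Prop} (h0 : K 0) (hx : ∀ a < 4096, ∀ b < 4096, K a → K b → K (a ^^^ b))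
    (hs : ∀ a < 4096, K a → K (lin mSp a)) {a : ℕ} (ha : a < 4096) (hK : K a) (n : ℕ) :
    ∀ q, hn a n q < 4096 ∧ K (hn a n q) := by
  induction n with
  | zero => intro q; exact ⟨by change 0 < _; norm_num, h0⟩
  | succ n ih =>
    intro q
    have e : hn a (n + 1) q = force (hn a n (q >>> 1)) (lin mSp) ^^^ ((q &&& 1) * a) := rfl
    have h1 := and_one_le q
    have h2 : (q &&& 1) * a < 4096 ∧ K ((q &&& 1) * a) := by
      generalize q &&& 1 = t at *
      interval_cases t <;> simp [h0, ha, hK]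
    rw [e, force_eq]
    exact ⟨xor_lt12 (lin_lt _ _) h2.1, hx _ (lin_lt _ _) _ h2.1 (hs _ (ih _).1 (ih _).2) h2.2⟩

theorem fld_mSp : (∀ i < 9, fld mSp i = 2 ^ (i + 1)) ∧ fld mSp 9 = 2 ^ 0 ^^^ 2 ^ 3 ^^^ 2 ^ 5 ^^^ 2 ^ 7 ∧
    fld mSp 10 = 2 ^ 11 ∧ fld mSp 11 = 2 ^ 10 ^^^ 2 ^ 11 := by decide

theorem crd_of {M : Type*} [AddCommGroup M] (h2 : ∀ m : M, m + m = 0) (hM : Nat.card M = 4096)
    {w x : Module.End ℤ M} (hw : ∀ m, m + w m + w (w m) = 0) (hwx : w * x = x * w) {u c : M}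
    (hu : u ≠ 0) (hf : (1 + (w * x) ^ 3 + (w * x) ^ 5 + (w * x) ^ 7 + (w * x) ^ 10 : Module.End ℤ M) u = 0)
    (hc : c ≠ 0) (hxc : x c = c) :
    ∃ C : Crd M, C.mat (w * x) = mSp ∧ (∀ i < 10, C.σ (2 ^ i) = ((w * x) ^ i) u) ∧
      C.σ (2 ^ 10) = c ∧ C.σ (2 ^ 11) = w c := by
  set s := w * x with hs
  let b : ℕ → M := fun i => if i < 10 then (s ^ i) u else if i = 10 then c else w c
  let σ : ℕ → M := fun a => sp b a 12
  have hx : ∀ a b, σ (a ^^^ b) = σ a + σ b := fun a b => sp_xor h2 _ _ _ _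
  have h0 : σ 0 = 0 := by simpa using hx 0 0
  have hp : ∀ i < 12, σ (2 ^ i) = b i := fun i hi => by simp only [σ, sp_pow, if_pos hi]
  have hb : ∀ i < 10, σ (2 ^ i) = (s ^ i) u := fun i hi => by rw [hp i (by omega)]; simp only [b, if_pos hi]
  have h10 : σ (2 ^ 10) = c := by rw [hp 10 (by norm_num)]; simp [b]
  have h11 : σ (2 ^ 11) = w c := by rw [hp 11 (by norm_num)]; simp [b]
  have hS : ∀ i < 12, s (σ (2 ^ i)) = σ (fld mSp i) := by
    intro i hi
    have e : ∀ i, s ((s ^ i) u) = (s ^ (i + 1)) u := fun i => by rw [pow_succ']; rfl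
    by_cases h9 : i < 9
    · rw [fld_mSp.1 i h9, hb i (by omega), hb _ (by omega), e]
    · obtain rfl | rfl | rfl : i = 9 ∨ i = 10 ∨ i = 11 := by omega
      · rw [fld_mSp.2.1, hx, hx, hx, hb 9 (by omega), hb 0 (by omega), hb 3 (by omega), hb 5 (by omega),
          hb 7 (by omega), e]
        change (1 : Module.End ℤ M) u + (s ^ 3) u + (s ^ 5) u + (s ^ 7) u + (s ^ 10) u = 0 at hf
        rw [pow_zero]
        linear_combination (norm := abel) hf - h2 ((1 : Module.End ℤ M) u) - h2 ((s ^ 3) u) - h2 ((s ^ 5) u) -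
          h2 ((s ^ 7) u)
      · rw [fld_mSp.2.2.1, h10, h11]
        change w (x c) = _; rw [hxc]
      · rw [fld_mSp.2.2.2, hx, h10, h11]
        have : s (w c) = w (w c) := by
          change w ((x * w) c) = _; rw [← hwx]; change w (w (x c)) = _; rw [hxc]
        rw [this]
        linear_combination (norm := abel) hw c - h2 c - h2 (w c)
  have hS' : ∀ a < 4096, s (σ a) = σ (lin mSp a) := by
    refine ind12 ?_ ?_ ?_
    · rw [lin_zero, h0, map_zero]
    · intro i hi; rw [lin_pow _ hi, hS i hi]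
    · intro a _ b _ h1 h2; rw [lin_xor, hx, hx, map_add, h1, h2]
  have hk : ∀ a < 4096, σ a = 0 → a = 0 := by
    intro a ha h
    have h1 := ball_zero hn_chk a ha
    have h3 := (hn_mem (K := fun a => σ a = 0) h0 (fun a _ b _ h1 h2 => by rw [hx, h1, h2, add_zero])
      (fun a ha h => by rw [← hS' a ha, h, map_zero]) ha h 12 (fld tabQ a)).2
    simp only [bor_eq, force_eq, Bool.or_eq_true, Nat.beq_eq] at h1
    rcases h1 with h1 | h1 | h1
    · exact h1
    · rw [h1] at h3; exact absurd ((hb 0 (by norm_num)).symm.trans h3) hu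
    · rw [h1] at h3; exact absurd (h10.symm.trans h3) hc
  have hi : ∀ a < 4096, ∀ b < 4096, σ a = σ b → a = b := fun a ha b hb h =>
    Nat.xor_eq_zero_iff.1 (hk _ (xor_lt12 ha hb) (by rw [hx, h, h2]))
  have : Finite M := Nat.finite_of_card_ne_zero (by rw [hM]; norm_num)
  have hbij : Function.Bijective fun a : Fin 4096 => σ a :=
    (Nat.bijective_iff_injective_and_card _).2 ⟨fun a b h => Fin.ext (hi _ a.2 _ b.2 h), by simp [hM]⟩
  let C : Crd M := ⟨σ, fun a _ b _ => hx a b, hi, fun m => by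
    obtain ⟨a, ha⟩ := hbij.2 m; exact ⟨a, a.2, ha⟩⟩
  exact ⟨C, C.mat_eq' (by decide) hS, hb, h10, h11⟩

theorem exists_fix {M : Type*} [AddCommGroup M] [Finite M] {p : ℕ} [Fact p.Prime] {f : Module.End ℤ M}
    (hf : f ^ p = 1) {N : AddSubgroup M} (hN : ∀ m ∈ N, f m ∈ N) :
    Nat.card N ≡ Nat.card {m : N // f m = m} [MOD p] := by
  classical
  have := Fintype.ofFinite N
  let g : Function.End N := fun m => ⟨f m, hN _ m.2⟩
  have hg : ∀ n, ∀ m : N, ((g ^ n) m : M) = (f ^ n) m := by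
    intro n
    induction n with
    | zero => intro m; rfl
    | succ n ih => intro m; rw [pow_succ, pow_succ]; exact ih (g m)
  have h1 : g ^ p ^ 1 = 1 := by
    funext m; apply Subtype.ext; rw [pow_one, hg, hf]; rfl
  have h3 := Equiv.Perm.card_fixedPoints_modEq h1
  rw [Nat.card_eq_fintype_card, Nat.card_eq_fintype_card]
  convert h3 using 1
  exact Fintype.card_congr (Equiv.subtypeEquivRight fun m => ⟨fun h => Subtype.ext h, fun h =>
    congrArg Subtype.val h⟩)

theorem exists_fix' {M : Type*} [AddCommGroup M] [Finite M] {p : ℕ} [Fact p.Prime] {f : Module.End ℤ M}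
    (hf : f ^ p = 1) {N : AddSubgroup M} (hN : ∀ m ∈ N, f m ∈ N) (h : ¬ Nat.card N ≡ 1 [MOD p]) :
    ∃ m ∈ N, m ≠ 0 ∧ f m = m := by
  by_contra hc
  push Not at hc
  apply h
  have := exists_fix hf hN
  have e : Nat.card {m : N // f m = m} = 1 := by
    rw [Nat.card_eq_one_iff_unique]
    refine ⟨⟨fun a b => Subtype.ext (Subtype.ext ?_)⟩, ⟨⟨0, by simp⟩⟩⟩
    by_contra hne
    by_cases ha : (a.1 : M) = 0
    · exact hc _ b.1.2 (fun hb => hne (ha.trans hb.symm)) b.2
    · exact hc _ a.1.2 ha a.2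
  rwa [e] at this

theorem pow_mod_of_eq_one' {A : Type*} [Monoid A] {a : A} {k : ℕ} (h : a ^ k = 1) (n : ℕ) :
    a ^ (n % k) = a ^ n := by
  conv_rhs => rw [← Nat.mod_add_div n k, pow_add, pow_mul, h, one_pow, mul_one]

open Polynomial in
theorem poly1 {A : Type*} [Ring A] (h2 : (2 : A) = 0) (s : A) :
    (1 + s ^ 3 + s ^ 5 + s ^ 7 + s ^ 10) * (1 + s + s ^ 5 + s ^ 9 + s ^ 10) * (1 + s ^ 12) =
      (1 + s + s ^ 3 + s ^ 4 + s ^ 6 + s ^ 7 + s ^ 9 + s ^ 10) * (1 + s ^ 11 + s ^ 22) := by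
  have := congrArg (aeval s) (show ((1 + X ^ 3 + X ^ 5 + X ^ 7 + X ^ 10) * (1 + X + X ^ 5 + X ^ 9 + X ^ 10) *
    (1 + X ^ 12) : ℤ[X]) = (1 + X + X ^ 3 + X ^ 4 + X ^ 6 + X ^ 7 + X ^ 9 + X ^ 10) * (1 + X ^ 11 + X ^ 22) +
    2 * (X ^ 5 + X ^ 8 + X ^ 10 + X ^ 12 + X ^ 13 + X ^ 15 + X ^ 16 + X ^ 17 + X ^ 19 + X ^ 20 + X ^ 22 +
      X ^ 24 + X ^ 27) by ring)
  simp only [map_add, map_mul, map_pow, aeval_X, map_one, map_ofNat] at this
  rw [this, h2, zero_mul, add_zero]

open Polynomial in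
theorem poly2 {A : Type*} [Ring A] (h2 : (2 : A) = 0) (s : A) :
    1 + s ^ 3 + s ^ 16 + s ^ 29 + s ^ 32 = (1 + s + s ^ 2 + s ^ 5 + s ^ 7 + s ^ 8 + s ^ 10 + s ^ 11 +
      s ^ 12 + s ^ 14 + s ^ 15 + s ^ 17 + s ^ 20 + s ^ 21 + s ^ 22) * (1 + s + s ^ 5 + s ^ 9 + s ^ 10) := by
  have := congrArg (aeval s) (show (1 + X ^ 3 + X ^ 16 + X ^ 29 + X ^ 32 + 2 * (X + X ^ 2 + X ^ 5 +
    X ^ 6 + X ^ 7 + X ^ 8 + X ^ 9 + 2 * X ^ 10 + 2 * X ^ 11 + 2 * X ^ 12 + X ^ 13 + X ^ 14 + 2 * X ^ 15 +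
    X ^ 16 + 2 * X ^ 17 + X ^ 18 + X ^ 19 + 2 * X ^ 20 + 2 * X ^ 21 + 2 * X ^ 22 + X ^ 23 + X ^ 24 +
    X ^ 25 + X ^ 26 + X ^ 27 + X ^ 30 + X ^ 31) : ℤ[X]) = (1 + X + X ^ 2 + X ^ 5 + X ^ 7 + X ^ 8 + X ^ 10 +
    X ^ 11 + X ^ 12 + X ^ 14 + X ^ 15 + X ^ 17 + X ^ 20 + X ^ 21 + X ^ 22) * (1 + X + X ^ 5 + X ^ 9 + X ^ 10)
    by ring)
  simp only [map_add, map_mul, map_pow, aeval_X, map_one, map_ofNat] at this
  rw [← this, h2, zero_mul, add_zero]

theorem matA : cpow mm idm mSp 22 = mWp ∧ cpow mm idm mSp 12 = mXp ∧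
    mm (idm ^^^ cpow mm idm mSp 3 ^^^ cpow mm idm mSp 5 ^^^ cpow mm idm mSp 7 ^^^ cpow mm idm mSp 10)
      (idm ^^^ mXp) = 0 ∧ (∀ i < 10, fld mYp i = lin (cpow mm idm mSp (25 * i)) 1) ∧
    fld mYp 10 = 2 ^ 10 ∧ fld mYp 11 = 2 ^ 11 := by decide +kernel

/-- The relations of the first stage. -/
structure RelA {M : Type*} [AddCommGroup M] (w x y : Module.End ℤ M) : Prop where
  w3 : w ^ 3 = 1
  wf : ∀ m, m + w m + w (w m) = 0
  x11 : x ^ 11 = 1
  x1 : x ≠ 1
  y5 : y ^ 5 = 1
  wx : w * x = x * w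
  wy : w * y = y * w
  yx : y * x = x ^ 3 * y

section
variable {M : Type*} [AddCommGroup M] {w x y : Module.End ℤ M}

theorem RelA.spow (h : RelA w x y) (n : ℕ) : (w * x) ^ n = w ^ (n % 3) * x ^ (n % 11) := by
  rw [Commute.mul_pow h.wx, ← pow_mod_of_eq_one' h.w3, ← pow_mod_of_eq_one' h.x11]

theorem RelA.sq (h : RelA w x y) : RelA (w ^ 2) x y where
  w3 := by rw [← pow_mul, mul_comm, pow_mul, h.w3, one_pow]
  wf m := by
    have : (w ^ 2) ((w ^ 2) m) = w m := by
      change (w ^ 2 * w ^ 2) m = _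
      rw [← pow_add, show 2 + 2 = 3 + 1 from rfl, pow_add, h.w3, one_mul, pow_one]
    rw [this, pow_two, add_right_comm]; exact h.wf m
  x11 := h.x11
  x1 := h.x1
  y5 := h.y5
  wx := (Commute.pow_left h.wx 2).eq
  wy := (Commute.pow_left h.wy 2).eq
  yx := h.yx

theorem RelA.card_fix (h : RelA w x y) (h2 : ∀ m : M, m + m = 0) (hM : Nat.card M = 4096) :
    Nat.card (1 + x : Module.End ℤ M).toAddMonoidHom.ker = 4 ∧ Nat.card (1 + x : Module.End ℤ M).toAddMonoidHom.range = 1024 := by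
  have : Finite M := Nat.finite_of_card_ne_zero (by rw [hM]; norm_num)
  have hmem : ∀ m, m ∈ (1 + x : Module.End ℤ M).toAddMonoidHom.ker ↔ x m = m := fun m => by
    change m + x m = 0 ↔ _
    constructor
    · intro e; linear_combination (norm := abel) e - h2 m
    · intro e; rw [e, h2]
  have : Fact (Nat.Prime 11) := ⟨by norm_num⟩
  have h1 := exists_fix h.x11 (N := ⊤) fun _ _ => trivial
  have e : Nat.card {m : (⊤ : AddSubgroup M) // x m = m} = Nat.card (1 + x : Module.End ℤ M).toAddMonoidHom.ker :=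
    Nat.card_congr ⟨fun m => ⟨m.1, (hmem _).2 m.2⟩, fun m => ⟨⟨m, trivial⟩, (hmem _).1 m.2⟩,
      fun _ => rfl, fun _ => rfl⟩
  rw [e, AddSubgroup.card_top, hM] at h1
  have h3 := AddSubgroup.card_mul_index (1 + x : Module.End ℤ M).toAddMonoidHom.ker
  rw [AddSubgroup.index_ker, hM] at h3
  obtain ⟨k, hk, ek⟩ := (Nat.dvd_prime_pow Nat.prime_two).1
    (show Nat.card (1 + x : Module.End ℤ M).toAddMonoidHom.ker ∣ 2 ^ 12 from ⟨_, h3.symm⟩)
  have h4 : k ≠ 12 := by
    rintro rfl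
    have := AddSubgroup.eq_top_of_card_eq _ (ek.trans hM.symm)
    exact h.x1 (by ext m; exact (hmem m).1 (this ▸ AddSubgroup.mem_top m))
  rw [ek] at h1 h3 ⊢
  unfold Nat.ModEq at h1
  interval_cases k <;> first | omega | (constructor <;> omega)

theorem RelA.core (h : RelA w x y) (h2 : ∀ m : M, m + m = 0) (hM : Nat.card M = 4096) {u : M}
    (hu : u ≠ 0) (hf : (1 + (w * x) ^ 3 + (w * x) ^ 5 + (w * x) ^ 7 + (w * x) ^ 10 : Module.End ℤ M) u = 0) :
    ∃ C : Crd M, C.mat w = mWp ∧ C.mat x = mXp ∧ C.mat y = mYp := by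
  have : Finite M := Nat.finite_of_card_ne_zero (by rw [hM]; norm_num)
  have : Fact (Nat.Prime 5) := ⟨by norm_num⟩
  obtain ⟨c1, c2⟩ := h.card_fix h2 hM
  have hyx : ∀ m, y (x m) = x (x (x (y m))) := fun m => DFunLike.congr_fun h.yx m
  obtain ⟨c, hc, hc0, hyc⟩ := exists_fix' h.y5 (N := (1 + x : Module.End ℤ M).toAddMonoidHom.ker) (fun m hm => by
    have hm' : x m = m := by
      change m + x m = 0 at hm; linear_combination (norm := abel) hm - h2 m
    have h3 : (x ^ 3) (y m) = y m := by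
      have := hyx m
      rw [hm'] at this
      exact this.symm
    have h4 : ∀ n, ((x ^ 3) ^ n) (y m) = y m := by
      intro n; induction n with
      | zero => rfl
      | succ n ih => rw [pow_succ', Module.End.mul_apply, ih, h3]
    have h5 := h4 4
    rw [← pow_mul, show 3 * 4 = 11 + 1 from rfl, pow_succ, h.x11, one_mul] at h5
    change y m + x (y m) = 0
    rw [h5, h2]) (by rw [c1]; decide)
  have hxc : x c = c := by change c + x c = 0 at hc; linear_combination (norm := abel) hc - h2 c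
  have hw : ∀ C : Crd M, C.mat (w * x) = mSp → C.mat w = mWp ∧ C.mat x = mXp := fun C hC => by
    rw [← matA.1, ← matA.2.1, ← hC, ← C.mat_pow, ← C.mat_pow, h.spow, h.spow]; simp
  obtain ⟨v, ⟨m, rfl⟩, hv0, hyv⟩ := exists_fix' h.y5 (N := (1 + x : Module.End ℤ M).toAddMonoidHom.range) (by
    rintro _ ⟨m, rfl⟩
    refine ⟨y m + x (y m) + x (x (y m)), ?_⟩
    change (y m + x (y m) + x (x (y m))) + x (y m + x (y m) + x (x (y m))) = y (m + x m)
    simp only [map_add, hyx]
    linear_combination (norm := abel) h2 (x (y m)) + h2 (x (x (y m)))) (by rw [c2]; decide)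
  obtain ⟨C0, hC0, -⟩ := crd_of h2 hM h.wf h.wx hu hf hc0 hxc
  have hk : (1 + (w * x) ^ 3 + (w * x) ^ 5 + (w * x) ^ 7 + (w * x) ^ 10) * (1 + x) = 0 := by
    apply C0.mat_inj
    rw [C0.mat_eq (f := 0) (c := 0) (by norm_num) fun a _ => by
      rw [show lin 0 a = 0 from by simpa using xor_lin 0 0 a, C0.zero]; rfl]
    simp only [C0.mat_mul (_ + _), C0.mat_add, C0.mat_pow, C0.mat_one, hC0, (hw C0 hC0).2]
    exact matA.2.2.1
  obtain ⟨C, hC, hb, h10, h11⟩ := crd_of h2 hM h.wf h.wx hv0 (DFunLike.congr_fun hk m) hc0 hxc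
  refine ⟨C, (hw C hC).1, (hw C hC).2, C.mat_eq' (by decide) fun i hi => ?_⟩
  have hys : ∀ n, y * (w * x) ^ n = (w * x) ^ (25 * n) * y := by
    have : y * (w * x) = (w * x) ^ 25 * y := by
      rw [h.spow, ← mul_assoc, ← h.wy, mul_assoc, h.yx]; simp [mul_assoc]
    intro n; induction n with
    | zero => simp
    | succ n ih => rw [pow_succ, ← mul_assoc, ih, mul_assoc, this, ← mul_assoc, ← pow_add]; rfl
  by_cases h9 : i < 10
  · rw [hb i h9, matA.2.2.2.1 i h9, ← hC, ← C.mat_pow, ← C.spec _ (by norm_num)]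
    have := hb 0 (by norm_num)
    rw [pow_zero, pow_zero] at this
    rw [this]
    change (y * (w * x) ^ i) _ = _
    rw [hys]
    change ((w * x) ^ (25 * i)) (y _) = _
    rw [hyv]; rfl
  · obtain rfl | rfl : i = 10 ∨ i = 11 := by omega
    · rw [matA.2.2.2.2.1, h10, hyc]
    · rw [matA.2.2.2.2.2, h11]
      change (y * w) c = _
      rw [← h.wy]; change w (y c) = _; rw [hyc]

theorem RelA.stageA (h : RelA w x y) (h2 : ∀ m : M, m + m = 0) (hM : Nat.card M = 4096) :
    ∃ C : Crd M, (C.mat w = mWp ∨ C.mat (w ^ 2) = mWp) ∧ C.mat x = mXp ∧ C.mat y = mYp := by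
  have : Finite M := Nat.finite_of_card_ne_zero (by rw [hM]; norm_num)
  have h0 : (2 : Module.End ℤ M) = 0 := by
    ext m; rw [← one_add_one_eq_two]; exact h2 m
  obtain ⟨-, c2⟩ := h.card_fix h2 hM
  obtain ⟨⟨_, m, rfl⟩, hm⟩ : ∃ v : (1 + x : Module.End ℤ M).toAddMonoidHom.range, v ≠ 0 := by
    have : Nontrivial (1 + x : Module.End ℤ M).toAddMonoidHom.range := Finite.one_lt_card_iff_nontrivial.1 (by omega)
    exact exists_ne 0
  have hm' : (1 + x : Module.End ℤ M) m ≠ 0 := fun e => hm (Subtype.ext e)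
  have e1 := poly1 h0 (w * x)
  have e2 : (1 + (w * x) ^ 11 + (w * x) ^ 22) = 0 := by
    rw [h.spow, h.spow]; ext m
    simp only [Nat.reduceMod, pow_zero, mul_one, pow_one, add_right_comm, pow_two]
    exact h.wf m
  have e3 : (w * x) ^ 12 = x := by rw [h.spow]; simp
  rw [e2, e3, mul_zero, mul_assoc] at e1
  by_cases hc : ((1 + (w * x) + (w * x) ^ 5 + (w * x) ^ 9 + (w * x) ^ 10) * (1 + x) : Module.End ℤ M) m = 0
  · have e4 := poly2 h0 (w * x)
    have e5 : ∀ n, (w ^ 2 * x) ^ n = (w * x) ^ (23 * n % 33) := fun n => by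
      have h33 : (w * x) ^ 33 = 1 := by rw [h.spow]; simp
      rw [pow_mod_of_eq_one' h33, pow_mul, h.spow]; simp
    obtain ⟨C, h1, h3⟩ := h.sq.core h2 hM hm' (by
      rw [e5, e5, e5, e5]
      have : 1 + (w * x) ^ (23 * 3 % 33) + (w * x) ^ (23 * 5 % 33) + (w * x) ^ (23 * 7 % 33) +
        (w * x) ^ (23 * 10 % 33) = 1 + (w * x) ^ 3 + (w * x) ^ 16 + (w * x) ^ 29 + (w * x) ^ 32 := rfl
      rw [this, e4, Module.End.mul_apply, ← Module.End.mul_apply _ (1 + x), hc, map_zero])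
    exact ⟨C, Or.inr h1, h3⟩
  · obtain ⟨C, h1, h3⟩ := h.core h2 hM hc (DFunLike.congr_fun e1 m)
    exact ⟨C, Or.inl h1, h3⟩

end

end Cfsg.Agent.J4
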