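import Cfsg.Agent.J4.L2

/-!
# A Sylow three-subgroup of the model group and its normaliser
-/

set_option autoImplicit false

namespace Cfsg.Agent.J4

open Cfsg.Agent.M24 Cfsg.Agent.GT Subgroup MulAction
open scoped Pointwise

def chR3_t0 : T := (.node (.node (.node (.node .nil (nat_lit 4097) (nat_lit 0) (nat_lit
  0xbdab49ca307b9ac5a928398a418820800400200100080040020010008004002001800400200100080040020010008004002001)
  .nil) (nat_lit 4098) (nat_lit 34) (nat_lit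
  0xbcea722e29689103518f548b6185c04c0c80480c40540fc001b03602701e00c008600d009c0780f00a0001503f001003039027)
  .nil) (nat_lit 4100) (nat_lit 2) (nat_lit
  0xbb8a715a30449ec9d12d51061aacc0600d0018034030020003002000200102701ec808400400c02c018001003002701e008004)
  (.node .nil (nat_lit 4102) (nat_lit 17) (nat_lit
  0xbc86a5ba306d90c11d2fa06a62cc80c808400400c02c018001003002701e008004600d0018034030020003002000200102701e)
  .nil)) (nat_lit 4107) (nat_lit 1) (nat_lit
  0xbac7430a2944df00a98d3bab2292c0b00600a8054090070001b0360020010390274c0c80880440e409c002a015039027008004)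
  (.node (.node (.node .nil (nat_lit 4110) (nat_lit 529) (nat_lit
  0xb92aab1a2c405e991e0da2cb31b840b00600e409c0500f0003f02a00300202701ec80840c408c0fc0a8002d01b03902700400c)
  .nil) (nat_lit 4114) (nat_lit 80) (nat_lit
  0xb98679062c791a97520850aab2da60400c00a00500cc088003f02a008004001003c00800e00900c408c001b036008004003002)
  .nil) (nat_lit 4115) (nat_lit 49) (nat_lit
  0xb88aa0ce297adb021d88a586ea9a40c00800e00900c408c001b036008004003002400c00a00500cc088003f02a008004001003)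
  (.node .nil (nat_lit 4118) (nat_lit 16) (nat_lit
  0xb84b47122c69909b2a0f3cc62ac9604c0c80880440e409c002a015039027008004b00600a8054090070001b036002001039027)
  .nil)))
def chR3_l0 : Lvl := ⟨nat_lit 4097, [nat_lit
  0xb84b47122c69909b2a0f3cc62ac9604c0c80880440e409c002a015039027008004b00600a8054090070001b036002001039027,
  nat_lit
  0xbc86a5ba306d90c11d2fa06a62cc80c808400400c02c018001003002701e008004600d0018034030020003002000200102701e],
  [nat_lit 0, nat_lit 0], chR3_t0⟩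
def chR3_t1 : T := (.node (.node .nil (nat_lit 1) (nat_lit 0) (nat_lit
  0xbdab49ca307b9ac5a928398a418820800400200100080040020010008004002001800400200100080040020010008004002001)
  .nil) (nat_lit 2) (nat_lit 16) (nat_lit
  0xbdab49ca307b9ac5a928398a418820400c001003000400c003002000c008003002c008003002000c008001003000400c001003)
  (.node .nil (nat_lit 3) (nat_lit 1) (nat_lit
  0xbdab49ca307b9ac5a928398a418820c008003002000c008001003000400c001003400c001003000400c003002000c008003002)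
  .nil))
def chR3_l1 : Lvl := ⟨nat_lit 1, [nat_lit
  0xbdab49ca307b9ac5a928398a418820400c001003000400c003002000c008003002c008003002000c008001003000400c001003],
  [nat_lit 558160], chR3_t1⟩
def chR3 : List Lvl := [chR3_l0, chR3_l1]

def chN3_t0 : T := (.node (.node (.node (.node .nil (nat_lit 4099) (nat_lit 0) (nat_lit
  0xbdab49ca307b9ac5a928398a418820800400200100080040020010008004002001800400200100080040020010008004002001)
  .nil) (nat_lit 4101) (nat_lit 528) (nat_lit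
  0xbb8a715a30449ec9d12d51061aacc0d00b003402c02001000100300030020390274c0c800800403402c003002001e03900400c)
  (.node .nil (nat_lit 4103) (nat_lit 1057) (nat_lit
  0x194598629791ac5d6081da8e38a57400800e007008c0c4001b02d00c004002003400800e007008c0c4001b02d00c004002003)
  .nil)) (nat_lit 4104) (nat_lit 560) (nat_lit
  0xb890cb12272cab45c1434b9e66866002103200e00703d016980ec0d40680f4058003201300a00f01d026e807c0580ac0d40680)
  (.node (.node .nil (nat_lit 4105) (nat_lit 65) (nat_lit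
  0xb918f0da253cd5573474449268096001802c01f025023031a40f807c094074098001702903801c00a00fd40680e807c0640b80)
  .nil) (nat_lit 4106) (nat_lit 16) (nat_lit
  0x4f5592296990c10e0f2c956a4dd7c804c08c0c40540a8003601b027039004008b00d00540a80e0070002d03600100203901e)
  .nil)) (nat_lit 4108) (nat_lit 49) (nat_lit
  0xbb98fb0625508e3222b469a124cd6002c03400a00f02b03dbc0d40980ec07c094003301102f03500e007f40580980ec0b80dc0)
  (.node (.node (.node .nil (nat_lit 4109) (nat_lit 34) (nat_lit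
  0xbcdac0ba2a298745a4f5811f24584003201300a00f01d026e807c0580ac0d4068002103200e00703d016980ec0d40680f40580)
  .nil) (nat_lit 4111) (nat_lit 17) (nat_lit
  0x198d0ba2a1ccb4b3cf54492482c5703302203a02500600df80a40b80640ec098003c02800900703a025ec0980f80a40ac0580)
  .nil) (nat_lit 4112) (nat_lit 2) (nat_lit
  0x2d0c71a2354a95140a74d9a47867703c02800900703a025ec0980f80a40ac058003302203a02500600df80a40b80640ec0980)
  (.node (.node .nil (nat_lit 4116) (nat_lit 1) (nat_lit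
  0x128311a29405ec9960dab8f252ed7b00d00540a80e0070002d03600100203901ec804c08c0c40540a8003601b027039004008)
  .nil) (nat_lit 4117) (nat_lit 33) (nat_lit
  0xbc86a5ba306d90c11d2fa06a62cc804c0c800800403402c003002001e03900400cd00b003402c0200100010030003002039027)
  .nil)))
def chN3_l0 : Lvl := ⟨nat_lit 4099, [nat_lit
  0x4f5592296990c10e0f2c956a4dd7c804c08c0c40540a8003601b027039004008b00d00540a80e0070002d03600100203901e,
  nat_lit
  0x198d0ba2a1ccb4b3cf54492482c5703302203a02500600df80a40b80640ec098003c02800900703a025ec0980f80a40ac0580],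
  [nat_lit 0, nat_lit 0], chN3_t0⟩
def chN3_t1 : T := (.node (.node (.node .nil (nat_lit 4097) (nat_lit 0) (nat_lit
  0xbdab49ca307b9ac5a928398a418820800400200100080040020010008004002001800400200100080040020010008004002001)
  .nil) (nat_lit 4098) (nat_lit 528) (nat_lit
  0xbcea722e29689103518f548b6185c08404c08c0480a8054003602d01e039008004d00b00780e40a0050002a01500200101e039)
  (.node .nil (nat_lit 4102) (nat_lit 16) (nat_lit
  0x10aab3a2862e0d11de9a06b319a57b40d80e00700500a0000100201502a02d0361c02401802c0540a8003901e02d036010020)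
  .nil)) (nat_lit 4107) (nat_lit 1057) (nat_lit
  0x58b498a2f819280a9ac3baa41c97714028044088004008000400801002001502a14028044088004008000400801002001502a)
  (.node (.node .nil (nat_lit 4110) (nat_lit 33) (nat_lit
  0xb92aab1a2c405e991e0da2cb31b840d00b00780e40a0050002a01500200101e0398404c08c0480a8054003602d01e039008004)
  .nil) (nat_lit 4114) (nat_lit 1) (nat_lit
  0x4ca72062d4c98f7511050ab61acd71c02401802c0540a8003901e02d036010020b40d80e00700500a0000100201502a02d036)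
  .nil))
def chN3_l1 : Lvl := ⟨nat_lit 4097, [nat_lit
  0x10aab3a2862e0d11de9a06b319a57b40d80e00700500a0000100201502a02d0361c02401802c0540a8003901e02d036010020,
  nat_lit
  0x5ab421a286092f59db0548b31b8372403808c0c400800c000c00403001001b02d2403808c0c400800c000c00403001001b02d],
  [nat_lit 16450, nat_lit 0x108850], chN3_t1⟩
def chN3_t2 : T := (.node (.node (.node .nil (nat_lit 1) (nat_lit 0) (nat_lit
  0xbdab49ca307b9ac5a928398a418820800400200100080040020010008004002001800400200100080040020010008004002001)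
  .nil) (nat_lit 2) (nat_lit 34) (nat_lit
  0xbdab49ca307b9ac5a928398a418820400c001003000400c003002000c008003002c008003002000c008001003000400c001003)
  (.node .nil (nat_lit 3) (nat_lit 65) (nat_lit
  0xbdab49ca307b9ac5a928398a418820c008003002000c008001003000400c001003400c001003000400c003002000c008003002)
  .nil)) (nat_lit 27) (nat_lit 1) (nat_lit
  0x5ab421a286092f59db0548b31b8373801c0c404800c004000800c02003003601b3801c0c404800c004000800c02003003601b)
  (.node (.node .nil (nat_lit 45) (nat_lit 2) (nat_lit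
  0x5ab421a286092f59db0548b31b8372403808c0c400800c000c00403001001b02d2403808c0c400800c000c00403001001b02d)
  .nil) (nat_lit 54) (nat_lit 1089) (nat_lit
  0x5ab421a286092f59db0548b31b8371c02404808c004008000400801002002d0361c02404808c004008000400801002002d036)
  .nil))
def chN3_l2 : Lvl := ⟨nat_lit 1, [nat_lit
  0x5ab421a286092f59db0548b31b8373801c0c404800c004000800c02003003601b3801c0c404800c004000800c02003003601b,
  nat_lit
  0x5ab421a286092f59db0548b31b8372403808c0c400800c000c00403001001b02d2403808c0c400800c000c00403001001b02d],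
  [nat_lit 1089, nat_lit 0x1080a10], chN3_t2⟩
def chN3 : List Lvl := [chN3_l0, chN3_l1, chN3_l2]

def t24 : T := (.node (.node (.node (.node (.node .nil (nat_lit
  0xb84b47122c69909b2a0f3cc62ac9604c0c80880440e409c002a015039027008004b00600a8054090070001b036002001039027)
  (nat_lit 0) (nat_lit
  0xb84b47122c69909b2a0f3cc62ac9604c0c80880440e409c002a015039027008004b00600a8054090070001b036002001039027)
  .nil) (nat_lit
  0xb84b47122c69909b2a0f3cc62ac9608404c0cc0880780e4001503f02701e00400c600d00540fc0700e0002d01b00300201e039)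
  (nat_lit 48) (nat_lit
  0xbcea722e29689103518f548b6185c08404c08c0480a8054003602d01e039008004d00b00780e40a0050002a01500200101e039)
  (.node .nil (nat_lit
  0xb84b47122c69909b2a0f3cc62ac960c80840440cc09c078003f02a01e03900c008d00b00fc0a80e0090003602d00100302701e)
  (nat_lit 192) (nat_lit
  0xbcea722e29689103518f548b6185c04c0c80480c40540fc001b03602701e00c008600d009c0780f00a0001503f001003039027)
  .nil)) (nat_lit
  0xb88aa0ce297adb021d88a586ea9a40400c00700e00480c4003602d00400c002001c00800500f0088044001503f00c008002001)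
  (nat_lit 224) (nat_lit
  0xb98679062c791a97520850aab2da60400c00a00500cc088003f02a008004001003c00800e00900c408c001b036008004003002)
  (.node (.node .nil (nat_lit
  0xb88aa0ce297adb021d88a586ea9a408004009007008c048002d01b00c008001003800400f00a00440cc002a01500400c003002)
  (nat_lit 289) (nat_lit
  0xbac7430a2944df00a98d3bab2292c0b00600a8054090070001b0360020010390274c0c80880440e409c002a015039027008004)
  .nil) (nat_lit
  0xb88aa0ce297adb021d88a586ea9a40c00800e00900c408c001b036008004003002400c00a00500cc088003f02a008004001003)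
  (nat_lit 80) (nat_lit
  0xb98679062c791a97520850aab2da60800400f00a00440cc002a01500400c0030028004009007008c048002d01b00c008001003)
  .nil)) (nat_lit
  0xb92aab1a2c405e991e0da2cb31b840600d009c0780f00a0001503f0010030390274c0c80480c40540fc001b03602701e00c008)
  (nat_lit 337) (nat_lit
  0xb88aa0ce297adb021d88a586ea9a40400c00700e00480c4003602d00400c002001c00800500f0088044001503f00c008002001)
  (.node (.node (.node .nil (nat_lit
  0xb92aab1a2c405e991e0da2cb31b840b00600e409c0500f0003f02a00300202701ec80840c408c0fc0a8002d01b03902700400c)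
  (nat_lit 177) (nat_lit
  0xb88aa0ce297adb021d88a586ea9a40c00800e00900c408c001b036008004003002400c00a00500cc088003f02a008004001003)
  .nil) (nat_lit
  0xb92aab1a2c405e991e0da2cb31b840d00b00780e40a0050002a01500200101e0398404c08c0480a8054003602d01e039008004)
  (nat_lit 272) (nat_lit
  0xbac7430a2944df00a98d3bab2292c0b00600a8054090070001b0360020010390274c0c80880440e409c002a015039027008004)
  .nil) (nat_lit
  0xb98679062c791a97520850aab2da60400c00a00500cc088003f02a008004001003c00800e00900c408c001b036008004003002)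
  (nat_lit 113) (nat_lit
  0xb84b47122c69909b2a0f3cc62ac9608404c0cc0880780e4001503f02701e00400c600d00540fc0700e0002d01b00300201e039)
  (.node (.node .nil (nat_lit
  0xb98679062c791a97520850aab2da60800400f00a00440cc002a01500400c0030028004009007008c048002d01b00c008001003)
  (nat_lit 33) (nat_lit
  0xb84b47122c69909b2a0f3cc62ac9604c0c80880440e409c002a015039027008004b00600a8054090070001b036002001039027)
  .nil) (nat_lit
  0xb98679062c791a97520850aab2da60c00800500f0088044001503f00c008002001400c00700e00480c4003602d00400c002001)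
  (nat_lit 160) (nat_lit
  0xb88aa0ce297adb021d88a586ea9a40c00800e00900c408c001b036008004003002400c00a00500cc088003f02a008004001003)
  .nil))) (nat_lit
  0xbac7430a2944df00a98d3bab2292c0600d00540fc0700e0002d01b00300201e0398404c0cc0880780e4001503f02701e00400c)
  (nat_lit 321) (nat_lit
  0xbc86a5ba306d90c11d2fa06a62cc804c0c800800403402c003002001e03900400cd00b003402c0200100010030003002039027)
  (.node (.node (.node (.node .nil (nat_lit
  0xbac7430a2944df00a98d3bab2292c0b00600a8054090070001b0360020010390274c0c80880440e409c002a015039027008004)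
  (nat_lit 145) (nat_lit
  0xbc86a5ba306d90c11d2fa06a62cc80c808400400c02c018001003002701e008004600d0018034030020003002000200102701e)
  .nil) (nat_lit
  0xbac7430a2944df00a98d3bab2292c0d00b00fc0a80e0090003602d00100302701ec80840440cc09c078003f02a01e03900c008)
  (nat_lit 257) (nat_lit
  0xbc86a5ba306d90c11d2fa06a62cc808404c00c008018034002001003902700c008b006002c018010030002001000100301e039)
  .nil) (nat_lit
  0xbb8a715a30449ec9d12d51061aacc0600d0018034030020003002000200102701ec808400400c02c018001003002701e008004)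
  (nat_lit 353) (nat_lit
  0xb92aab1a2c405e991e0da2cb31b840d00b00780e40a0050002a01500200101e0398404c08c0480a8054003602d01e039008004)
  (.node (.node .nil (nat_lit
  0xbb8a715a30449ec9d12d51061aacc0b006002c018010030002001000100301e0398404c00c008018034002001003902700c008)
  (nat_lit 305) (nat_lit
  0xb92aab1a2c405e991e0da2cb31b840b00600e409c0500f0003f02a00300202701ec80840c408c0fc0a8002d01b03902700400c)
  .nil) (nat_lit
  0xbb8a715a30449ec9d12d51061aacc0d00b003402c02001000100300030020390274c0c800800403402c003002001e03900400c)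
  (nat_lit 369) (nat_lit
  0xb92aab1a2c405e991e0da2cb31b840600d009c0780f00a0001503f0010030390274c0c80480c40540fc001b03602701e00c008)
  .nil)) (nat_lit
  0xbc86a5ba306d90c11d2fa06a62cc804c0c800800403402c003002001e03900400cd00b003402c0200100010030003002039027)
  (nat_lit 209) (nat_lit
  0xbcea722e29689103518f548b6185c04c0c80480c40540fc001b03602701e00c008600d009c0780f00a0001503f001003039027)
  (.node (.node (.node .nil (nat_lit
  0xbc86a5ba306d90c11d2fa06a62cc808404c00c008018034002001003902700c008b006002c018010030002001000100301e039)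
  (nat_lit 128) (nat_lit
  0xbc86a5ba306d90c11d2fa06a62cc80c808400400c02c018001003002701e008004600d0018034030020003002000200102701e)
  .nil) (nat_lit
  0xbc86a5ba306d90c11d2fa06a62cc80c808400400c02c018001003002701e008004600d0018034030020003002000200102701e)
  (nat_lit 65) (nat_lit
  0xbcea722e29689103518f548b6185c08404c08c0480a8054003602d01e039008004d00b00780e40a0050002a01500200101e039)
  .nil) (nat_lit
  0xbcea722e29689103518f548b6185c04c0c80480c40540fc001b03602701e00c008600d009c0780f00a0001503f001003039027)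
  (nat_lit 96) (nat_lit
  0xb84b47122c69909b2a0f3cc62ac9608404c0cc0880780e4001503f02701e00400c600d00540fc0700e0002d01b00300201e039)
  (.node (.node .nil (nat_lit
  0xbcea722e29689103518f548b6185c08404c08c0480a8054003602d01e039008004d00b00780e40a0050002a01500200101e039)
  (nat_lit 16) (nat_lit
  0xb84b47122c69909b2a0f3cc62ac9604c0c80880440e409c002a015039027008004b00600a8054090070001b036002001039027)
  .nil) (nat_lit
  0xbcea722e29689103518f548b6185c0c80840c408c0fc0a8002d01b03902700400cb00600e409c0500f0003f02a00300202701e)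
  (nat_lit 241) (nat_lit
  0xb98679062c791a97520850aab2da60400c00a00500cc088003f02a008004001003c00800e00900c408c001b036008004003002)
  .nil))))

def t6160_0 : T := (.node (.node (.node (.node (.node (.node (.node (.node .nil (nat_lit 4014) (nat_lit 9203)
  (nat_lit 624578) .nil) (nat_lit 6136) (nat_lit 91460) (nat_lit 0x3ba220) (.node .nil (nat_lit 8958) (nat_lit
  88195) (nat_lit 362098) .nil)) (nat_lit 14134) (nat_lit 98274) (nat_lit 0x1532d0) (.node (.node .nil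
  (nat_lit 15212) (nat_lit 56273) (nat_lit 483418) .nil) (nat_lit 15258) (nat_lit 43249) (nat_lit 503892)
  .nil)) (nat_lit 16070) (nat_lit 52866) (nat_lit 0x132654) (.node (.node (.node .nil (nat_lit 19322) (nat_lit
  95604) (nat_lit 0x5e8224) .nil) (nat_lit 21454) (nat_lit 97250) (nat_lit 0x40365c) .nil) (nat_lit 22326)
  (nat_lit 72306) (nat_lit 0x5432d0) (.node (.node .nil (nat_lit 22972) (nat_lit 75684) (nat_lit 0x36aa04)
  .nil) (nat_lit 24018) (nat_lit 15891) (nat_lit 0x2c0b92) .nil))) (nat_lit 26422) (nat_lit 90434) (nat_lit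
  0x5530d0) (.node (.node (.node (.node .nil (nat_lit 27110) (nat_lit 54049) (nat_lit 446618) .nil) (nat_lit
  27834) (nat_lit 17233) (nat_lit 454820) .nil) (nat_lit 29494) (nat_lit 89523) (nat_lit 0x250ce2) (.node
  (.node .nil (nat_lit 29932) (nat_lit 81507) (nat_lit 0x218b70) .nil) (nat_lit 30006) (nat_lit 87810)
  (nat_lit 0x5512d0) .nil)) (nat_lit 30262) (nat_lit 91091) (nat_lit 0x250d62) (.node (.node (.node .nil
  (nat_lit 30486) (nat_lit 79090) (nat_lit 0x553250) .nil) (nat_lit 30502) (nat_lit 31442) (nat_lit 0x5132d0)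
  .nil) (nat_lit 30514) (nat_lit 82018) (nat_lit 0x5532c0) (.node (.node .nil (nat_lit 30516) (nat_lit 73698)
  (nat_lit 0x553290) .nil) (nat_lit 30814) (nat_lit 85170) (nat_lit 0x47025c) .nil)))) (nat_lit 31472)
  (nat_lit 78819) (nat_lit 0x2d0e30) (.node (.node (.node (.node (.node .nil (nat_lit 36570) (nat_lit 85201)
  (nat_lit 765996) .nil) (nat_lit 37838) (nat_lit 72481) (nat_lit 634970) .nil) (nat_lit 39486) (nat_lit
  77956) (nat_lit 0x628a2c) (.node (.node .nil (nat_lit 40802) (nat_lit 291) (nat_lit 0x29059a) .nil) (nat_lit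
  40852) (nat_lit 64865) (nat_lit 753782) .nil)) (nat_lit 42980) (nat_lit 42452) (nat_lit 0x192aa8) (.node
  (.node (.node .nil (nat_lit 43862) (nat_lit 41108) (nat_lit 0x5a08ac) .nil) (nat_lit 44856) (nat_lit 30865)
  (nat_lit 0xf6034) .nil) (nat_lit 46684) (nat_lit 76483) (nat_lit 0x248578) (.node (.node .nil (nat_lit
  46762) (nat_lit 49346) (nat_lit 0x11a6c8) .nil) (nat_lit 47856) (nat_lit 77491) (nat_lit 0x2d0638) .nil)))
  (nat_lit 50126) (nat_lit 96722) (nat_lit 0x40b45c) (.node (.node (.node (.node .nil (nat_lit 50876) (nat_lit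
  12081) (nat_lit 647334) .nil) (nat_lit 52510) (nat_lit 20883) (nat_lit 821706) .nil) (nat_lit 52712)
  (nat_lit 73668) (nat_lit 0x1da20c) (.node (.node .nil (nat_lit 53710) (nat_lit 71874) (nat_lit 0x40965c)
  .nil) (nat_lit 53966) (nat_lit 97234) (nat_lit 0x40a65c) .nil)) (nat_lit 54094) (nat_lit 72018) (nat_lit
  0x40b25c) (.node (.node (.node .nil (nat_lit 54158) (nat_lit 91779) (nat_lit 0x208eca) .nil) (nat_lit 54214)
  (nat_lit 87906) (nat_lit 0x40b654) .nil) (nat_lit 54218) (nat_lit 88404) (nat_lit 0x7ca028) (.node (.node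
  .nil (nat_lit 54220) (nat_lit 59762) (nat_lit 0x40b61c) .nil) (nat_lit 54394) (nat_lit 82977) (nat_lit
  553196) .nil))))) (nat_lit 56048) (nat_lit 55331) (nat_lit 0x2d0e18) (.node (.node (.node (.node (.node
  (.node .nil (nat_lit 56486) (nat_lit 96881) (nat_lit 708834) .nil) (nat_lit 57724) (nat_lit 93202) (nat_lit
  0x45909c) .nil) (nat_lit 58582) (nat_lit 77345) (nat_lit 823470) (.node (.node .nil (nat_lit 60144) (nat_lit
  74035) (nat_lit 855608) .nil) (nat_lit 61314) (nat_lit 852) (nat_lit 0x5520ac) .nil)) (nat_lit 62192)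
  (nat_lit 81267) (nat_lit 0x250e38) (.node (.node (.node .nil (nat_lit 62872) (nat_lit 44289) (nat_lit
  827636) .nil) (nat_lit 63728) (nat_lit 19731) (nat_lit 0x2d0a38) .nil) (nat_lit 63786) (nat_lit 65585)
  (nat_lit 946384) (.node (.node .nil (nat_lit 64112) (nat_lit 32051) (nat_lit 0x2d0c38) .nil) (nat_lit 64176)
  (nat_lit 46195) (nat_lit 0x2d0e28) .nil))) (nat_lit 64208) (nat_lit 51043) (nat_lit 0x2c0e38) (.node (.node
  (.node (.node .nil (nat_lit 64224) (nat_lit 64483) (nat_lit 0x290e38) .nil) (nat_lit 64836) (nat_lit 8707)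
  (nat_lit 0x2809f8) .nil) (nat_lit 67576) (nat_lit 64659) (nat_lit 0x158790) (.node (.node .nil (nat_lit
  68062) (nat_lit 89473) (nat_lit 176414) .nil) (nat_lit 70648) (nat_lit 84291) (nat_lit 0x358690) .nil))
  (nat_lit 71160) (nat_lit 83907) (nat_lit 0x358390) (.node (.node (.node .nil (nat_lit 71416) (nat_lit 73492)
  (nat_lit 0x2ba620) .nil) (nat_lit 71544) (nat_lit 96500) (nat_lit 0x3b8620) .nil) (nat_lit 71608) (nat_lit
  31156) (nat_lit 0x33a620) (.node (.node .nil (nat_lit 71640) (nat_lit 63283) (nat_lit 0x348790) .nil)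
  (nat_lit 71656) (nat_lit 81828) (nat_lit 0x39a620) .nil)))) (nat_lit 71664) (nat_lit 79012) (nat_lit
  0x3b2620) (.node (.node (.node (.node (.node .nil (nat_lit 72254) (nat_lit 16180) (nat_lit 0x628e24) .nil)
  (nat_lit 73414) (nat_lit 13730) (nat_lit 0x122754) .nil) (nat_lit 76724) (nat_lit 37858) (nat_lit 472464)
  (.node (.node .nil (nat_lit 76986) (nat_lit 56914) (nat_lit 0x1705c8) .nil) (nat_lit 77510) (nat_lit 57267)
  (nat_lit 0x180772) .nil)) (nat_lit 78254) (nat_lit 14963) (nat_lit 0x3182e2) (.node (.node (.node .nil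
  (nat_lit 79558) (nat_lit 80770) (nat_lit 0x112754) .nil) (nat_lit 80242) (nat_lit 80081) (nat_lit 414044)
  .nil) (nat_lit 80582) (nat_lit 48674) (nat_lit 206676) (.node (.node .nil (nat_lit 81094) (nat_lit 79779)
  (nat_lit 0x380372) .nil) (nat_lit 81180) (nat_lit 65764) (nat_lit 0x338c84) .nil))) (nat_lit 81478) (nat_lit
  74931) (nat_lit 0x380572) (.node (.node (.node (.node .nil (nat_lit 81542) (nat_lit 36803) (nat_lit
  0x380762) .nil) (nat_lit 81602) (nat_lit 42834) (nat_lit 0x132744) .nil) (nat_lit 81604) (nat_lit 68227)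
  (nat_lit 0x380770) (.node (.node .nil (nat_lit 83550) (nat_lit 33761) (nat_lit 78254) .nil) (nat_lit 84716)
  (nat_lit 41396) (nat_lit 831012) .nil)) (nat_lit 85178) (nat_lit 49841) (nat_lit 192932) (.node (.node
  (.node .nil (nat_lit 86262) (nat_lit 87618) (nat_lit 0x4407d4) .nil) (nat_lit 88916) (nat_lit 60563)
  (nat_lit 0x3c0cd0) .nil) (nat_lit 88994) (nat_lit 70883) (nat_lit 0x390e82) (.node (.node .nil (nat_lit
  90492) (nat_lit 92961) (nat_lit 287134) .nil) (nat_lit 91090) (nat_lit 67666) (nat_lit 0x453544) .nil))))))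
  (nat_lit 91322) (nat_lit 76868) (nat_lit 0x47a680) (.node (.node (.node (.node (.node (.node (.node .nil
  (nat_lit 92346) (nat_lit 83876) (nat_lit 0x46a684) .nil) (nat_lit 92942) (nat_lit 93859) (nat_lit 0x188ce2)
  .nil) (nat_lit 93242) (nat_lit 39410) (nat_lit 0x5701c8) (.node (.node .nil (nat_lit 93338) (nat_lit 81553)
  (nat_lit 438692) .nil) (nat_lit 93354) (nat_lit 67907) (nat_lit 0x198b22) .nil)) (nat_lit 93362) (nat_lit
  36354) (nat_lit 0x5705c0) (.node (.node (.node .nil (nat_lit 93368) (nat_lit 54145) (nat_lit 450980) .nil)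
  (nat_lit 94048) (nat_lit 58993) (nat_lit 475576) .nil) (nat_lit 94826) (nat_lit 72066) (nat_lit 0x4123cc)
  (.node (.node .nil (nat_lit 94876) (nat_lit 88244) (nat_lit 0x26aca0) .nil) (nat_lit 96712) (nat_lit 31841)
  (nat_lit 434648) .nil))) (nat_lit 99566) (nat_lit 63540) (nat_lit 0x49ae08) (.node (.node (.node (.node .nil
  (nat_lit 100926) (nat_lit 31858) (nat_lit 434648) .nil) (nat_lit 102220) (nat_lit 76771) (nat_lit 0x1885d8)
  .nil) (nat_lit 102974) (nat_lit 15108) (nat_lit 0x628e28) (.node (.node .nil (nat_lit 103766) (nat_lit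
  79489) (nat_lit 528766) .nil) (nat_lit 104510) (nat_lit 28980) (nat_lit 0x628e0c) .nil)) (nat_lit 104932)
  (nat_lit 36161) (nat_lit 704858) (.node (.node (.node .nil (nat_lit 104990) (nat_lit 73906) (nat_lit 435032)
  .nil) (nat_lit 105006) (nat_lit 53396) (nat_lit 0x608e2c) .nil) (nat_lit 105014) (nat_lit 43508) (nat_lit
  0x620e2c) (.node (.node .nil (nat_lit 105018) (nat_lit 53636) (nat_lit 0x62862c) .nil) (nat_lit 105020)
  (nat_lit 28180) (nat_lit 0x228e2c) .nil)))) (nat_lit 105866) (nat_lit 56243) (nat_lit 0x38838a) (.node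
  (.node (.node (.node (.node .nil (nat_lit 106876) (nat_lit 98131) (nat_lit 0x1580f8) .nil) (nat_lit 108146)
  (nat_lit 95236) (nat_lit 0x4b06a8) .nil) (nat_lit 109862) (nat_lit 81172) (nat_lit 0x510e8c) (.node (.node
  .nil (nat_lit 110032) (nat_lit 13235) (nat_lit 0x1c03b8) .nil) (nat_lit 110810) (nat_lit 89556) (nat_lit
  0x6aa488) .nil)) (nat_lit 111796) (nat_lit 7860) (nat_lit 0x232e88) (.node (.node (.node .nil (nat_lit
  113768) (nat_lit 58129) (nat_lit 942440) .nil) (nat_lit 115068) (nat_lit 61762) (nat_lit 0x44919c) .nil)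
  (nat_lit 116522) (nat_lit 70260) (nat_lit 0x558628) (.node (.node .nil (nat_lit 117656) (nat_lit 29329)
  (nat_lit 762260) .nil) (nat_lit 120420) (nat_lit 43779) (nat_lit 0x310d58) .nil))) (nat_lit 120466) (nat_lit
  25875) (nat_lit 0x340f0a) (.node (.node (.node (.node .nil (nat_lit 122160) (nat_lit 8132) (nat_lit
  0x37060c) .nil) (nat_lit 123004) (nat_lit 91361) (nat_lit 811406) .nil) (nat_lit 123196) (nat_lit 93076)
  (nat_lit 0x168e88) (.node (.node .nil (nat_lit 123228) (nat_lit 93571) (nat_lit 0x1488f8) .nil) (nat_lit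
  123244) (nat_lit 59843) (nat_lit 0x1188f8) .nil)) (nat_lit 123252) (nat_lit 59364) (nat_lit 0x1e0e88) (.node
  (.node (.node .nil (nat_lit 123256) (nat_lit 91762) (nat_lit 0x45918c) .nil) (nat_lit 123558) (nat_lit
  11057) (nat_lit 905602) .nil) (nat_lit 124616) (nat_lit 16403) (nat_lit 0x108f38) (.node (.node .nil
  (nat_lit 126484) (nat_lit 2196) (nat_lit 461996) .nil) (nat_lit 128014) (nat_lit 31169) (nat_lit 799202)
  .nil))))) (nat_lit 133598) (nat_lit 91073) (nat_lit 0x12b01e) (.node (.node (.node (.node (.node (.node .nil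
  (nat_lit 136678) (nat_lit 68065) (nat_lit 0x10d07a) .nil) (nat_lit 138092) (nat_lit 79601) (nat_lit
  0x13605a) .nil) (nat_lit 138554) (nat_lit 6435) (nat_lit 0x2dc182) (.node (.node .nil (nat_lit 139156)
  (nat_lit 39940) (nat_lit 0x332834) .nil) (nat_lit 140732) (nat_lit 61859) (nat_lit 377824) .nil)) (nat_lit
  142188) (nat_lit 62641) (nat_lit 0x17601a) (.node (.node (.node .nil (nat_lit 142878) (nat_lit 80979)
  (nat_lit 836962) .nil) (nat_lit 144236) (nat_lit 82577) (nat_lit 0x15605a) .nil) (nat_lit 145066) (nat_lit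
  29090) (nat_lit 0x1166c8) (.node (.node .nil (nat_lit 145590) (nat_lit 50452) (nat_lit 0x622a94) .nil)
  (nat_lit 145772) (nat_lit 66644) (nat_lit 0x388a94) .nil))) (nat_lit 146028) (nat_lit 59555) (nat_lit
  0x29c470) (.node (.node (.node (.node .nil (nat_lit 146220) (nat_lit 74705) (nat_lit 0x176052) .nil)
  (nat_lit 146252) (nat_lit 91553) (nat_lit 0x17205a) .nil) (nat_lit 146276) (nat_lit 35489) (nat_lit
  0x17405a) (.node (.node .nil (nat_lit 146280) (nat_lit 93345) (nat_lit 0x176058) .nil) (nat_lit 146648)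
  (nat_lit 11587) (nat_lit 0x2cc330) .nil)) (nat_lit 148468) (nat_lit 34404) (nat_lit 0x1e2a30) (.node (.node
  (.node .nil (nat_lit 149402) (nat_lit 4690) (nat_lit 0x547448) .nil) (nat_lit 151016) (nat_lit 76785)
  (nat_lit 0x12e0b8) .nil) (nat_lit 151366) (nat_lit 8049) (nat_lit 0x1310ba) (.node (.node .nil (nat_lit
  152924) (nat_lit 44595) (nat_lit 0x24c9d0) .nil) (nat_lit 154530) (nat_lit 71123) (nat_lit 0x294e82)
  .nil)))) (nat_lit 156886) (nat_lit 45298) (nat_lit 0x554454) (.node (.node (.node (.node (.node .nil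
  (nat_lit 157304) (nat_lit 4178) (nat_lit 0x55608c) .nil) (nat_lit 158410) (nat_lit 77442) (nat_lit 0x43644c)
  .nil) (nat_lit 159396) (nat_lit 89953) (nat_lit 0x17c0a2) (.node (.node .nil (nat_lit 160412) (nat_lit
  70852) (nat_lit 0x26a8b0) .nil) (nat_lit 161728) (nat_lit 75716) (nat_lit 0x3d20b0) .nil)) (nat_lit 162914)
  (nat_lit 12434) (nat_lit 0x5342c4) (.node (.node (.node .nil (nat_lit 166630) (nat_lit 41442) (nat_lit
  189652) .nil) (nat_lit 167400) (nat_lit 32851) (nat_lit 639896) .nil) (nat_lit 167828) (nat_lit 56851)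
  (nat_lit 804808) (.node (.node .nil (nat_lit 168188) (nat_lit 46770) (nat_lit 312988) .nil) (nat_lit 169642)
  (nat_lit 77970) (nat_lit 0x10e6c8) .nil))) (nat_lit 169876) (nat_lit 36259) (nat_lit 0x2447c8) (.node (.node
  (.node (.node .nil (nat_lit 170900) (nat_lit 80452) (nat_lit 0x32283c) .nil) (nat_lit 171086) (nat_lit 3697)
  (nat_lit 0x1a306a) .nil) (nat_lit 171412) (nat_lit 64114) (nat_lit 0x16d610) (.node (.node .nil (nat_lit
  171668) (nat_lit 61827) (nat_lit 0x2c4748) .nil) (nat_lit 171796) (nat_lit 59618) (nat_lit 0x16f210) .nil))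
  (nat_lit 171908) (nat_lit 62865) (nat_lit 0x1b8072) (.node (.node (.node .nil (nat_lit 171920) (nat_lit
  38129) (nat_lit 0x1b8074) .nil) (nat_lit 173016) (nat_lit 34643) (nat_lit 313016) .nil) (nat_lit 173270)
  (nat_lit 18402) (nat_lit 0x15c454) (.node (.node .nil (nat_lit 173738) (nat_lit 16356) (nat_lit 0x41a2b8)
  .nil) (nat_lit 174202) (nat_lit 21140) (nat_lit 0x4a829c) .nil)))))))
def t6160_1 : T := (.node (.node (.node (.node (.node (.node (.node (.node .nil (nat_lit 176414) (nat_lit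
  63795) (nat_lit 0x24c0ea) .nil) (nat_lit 176810) (nat_lit 36450) (nat_lit 124616) (.node .nil (nat_lit
  177322) (nat_lit 39474) (nat_lit 0x11c6c8) .nil)) (nat_lit 177520) (nat_lit 5937) (nat_lit 0x1c407c) (.node
  (.node .nil (nat_lit 177706) (nat_lit 16258) (nat_lit 0x11e2c8) .nil) (nat_lit 177802) (nat_lit 43858)
  (nat_lit 0x11e648) .nil)) (nat_lit 177826) (nat_lit 43892) (nat_lit 0x6122b8) (.node (.node (.node .nil
  (nat_lit 177832) (nat_lit 29172) (nat_lit 0x21a2b8) .nil) (nat_lit 178626) (nat_lit 31972) (nat_lit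
  0x78209c) .nil) (nat_lit 181462) (nat_lit 57090) (nat_lit 0x54c454) (.node (.node .nil (nat_lit 181736)
  (nat_lit 31412) (nat_lit 0x1da218) .nil) (nat_lit 182760) (nat_lit 36659) (nat_lit 641688) .nil))) (nat_lit
  182876) (nat_lit 35313) (nat_lit 0x1b208e) (.node (.node (.node (.node .nil (nat_lit 183528) (nat_lit 63425)
  (nat_lit 0x1ae0a8) .nil) (nat_lit 183656) (nat_lit 74179) (nat_lit 641432) .nil) (nat_lit 183720) (nat_lit
  41969) (nat_lit 0x1ae0b0) (.node (.node .nil (nat_lit 183752) (nat_lit 79363) (nat_lit 576408) .nil)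
  (nat_lit 183776) (nat_lit 85443) (nat_lit 609176) .nil)) (nat_lit 183858) (nat_lit 62114) (nat_lit 0x56e0c0)
  (.node (.node (.node .nil (nat_lit 185144) (nat_lit 82514) (nat_lit 0x44f288) .nil) (nat_lit 185956)
  (nat_lit 15731) (nat_lit 0x214d58) .nil) (nat_lit 186522) (nat_lit 19793) (nat_lit 0x1ab0c4) (.node (.node
  .nil (nat_lit 188630) (nat_lit 54786) (nat_lit 0x45c454) .nil) (nat_lit 189282) (nat_lit 20772) (nat_lit
  0x5c02b8) .nil)))) (nat_lit 189526) (nat_lit 32225) (nat_lit 0x1c10ae) (.node (.node (.node (.node (.node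
  .nil (nat_lit 189590) (nat_lit 55089) (nat_lit 0x1c90a6) .nil) (nat_lit 189638) (nat_lit 45857) (nat_lit
  0x1c90aa) .nil) (nat_lit 189650) (nat_lit 58930) (nat_lit 0x55c444) (.node (.node .nil (nat_lit 189652)
  (nat_lit 19249) (nat_lit 0x1c80ae) .nil) (nat_lit 190220) (nat_lit 94212) (nat_lit 0x1588b8) .nil)) (nat_lit
  192932) (nat_lit 24354) (nat_lit 0x41d690) (.node (.node (.node .nil (nat_lit 195078) (nat_lit 13569)
  (nat_lit 0x1f10c2) .nil) (nat_lit 197086) (nat_lit 69955) (nat_lit 0x14c2d2) .nil) (nat_lit 198326) (nat_lit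
  24401) (nat_lit 0x11d126) (.node (.node .nil (nat_lit 198878) (nat_lit 64930) (nat_lit 410972) .nil)
  (nat_lit 199006) (nat_lit 80098) (nat_lit 414044) .nil))) (nat_lit 199070) (nat_lit 38210) (nat_lit 415064)
  (.node (.node (.node (.node .nil (nat_lit 199118) (nat_lit 66403) (nat_lit 0x18c2d2) .nil) (nat_lit 199126)
  (nat_lit 60532) (nat_lit 0x5a2c14) .nil) (nat_lit 199130) (nat_lit 58771) (nat_lit 0x1cc292) (.node (.node
  .nil (nat_lit 199132) (nat_lit 62930) (nat_lit 415004) .nil) (nat_lit 200298) (nat_lit 63570) (nat_lit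
  0x1261cc) .nil)) (nat_lit 202510) (nat_lit 94483) (nat_lit 0x30c5c2) (.node (.node (.node .nil (nat_lit
  203682) (nat_lit 58531) (nat_lit 0x394682) .nil) (nat_lit 203948) (nat_lit 4099) (nat_lit 0x39c340) .nil)
  (nat_lit 205626) (nat_lit 48753) (nat_lit 0x157114) (.node (.node .nil (nat_lit 206676) (nat_lit 23523)
  (nat_lit 0x1445f0) .nil) (nat_lit 208166) (nat_lit 67699) (nat_lit 0x1941e2) .nil))))) (nat_lit 208776)
  (nat_lit 23121) (nat_lit 0x17a130) (.node (.node (.node (.node (.node (.node .nil (nat_lit 209564) (nat_lit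
  97473) (nat_lit 0x15a146) .nil) (nat_lit 210322) (nat_lit 49811) (nat_lit 0x3443a2) .nil) (nat_lit 212528)
  (nat_lit 3121) (nat_lit 0x174164) (.node (.node .nil (nat_lit 214386) (nat_lit 39267) (nat_lit 0x154992)
  .nil) (nat_lit 215970) (nat_lit 72689) (nat_lit 0x13d190) .nil)) (nat_lit 216784) (nat_lit 7684) (nat_lit
  992308) (.node (.node (.node .nil (nat_lit 217756) (nat_lit 87748) (nat_lit 0x26ac30) .nil) (nat_lit 218018)
  (nat_lit 80177) (nat_lit 0x11d1d0) .nil) (nat_lit 218314) (nat_lit 15796) (nat_lit 0x6da410) (.node (.node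
  .nil (nat_lit 218724) (nat_lit 50113) (nat_lit 0x1141ea) .nil) (nat_lit 219256) (nat_lit 15156) (nat_lit
  0x2e8614) .nil))) (nat_lit 219554) (nat_lit 38769) (nat_lit 0x12d1d0) (.node (.node (.node (.node .nil
  (nat_lit 219810) (nat_lit 41700) (nat_lit 0x642634) .nil) (nat_lit 219938) (nat_lit 69284) (nat_lit
  0x740634) .nil) (nat_lit 220034) (nat_lit 72404) (nat_lit 0x742434) (.node (.node .nil (nat_lit 220064)
  (nat_lit 83217) (nat_lit 0x13c1d0) .nil) (nat_lit 220182) (nat_lit 62260) (nat_lit 0x670c14) .nil)) (nat_lit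
  221852) (nat_lit 58420) (nat_lit 437424) (.node (.node (.node .nil (nat_lit 224332) (nat_lit 51873) (nat_lit
  0x1621aa) .nil) (nat_lit 225436) (nat_lit 88913) (nat_lit 0x14a1c6) .nil) (nat_lit 225606) (nat_lit 35988)
  (nat_lit 0x7c0c90) (.node (.node .nil (nat_lit 225820) (nat_lit 96420) (nat_lit 0x268cb0) .nil) (nat_lit
  225932) (nat_lit 94068) (nat_lit 0x24acb0) .nil)))) (nat_lit 225940) (nat_lit 72916) (nat_lit 0x262cb0)
  (.node (.node (.node (.node (.node .nil (nat_lit 225944) (nat_lit 93282) (nat_lit 0x456708) .nil) (nat_lit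
  226600) (nat_lit 47041) (nat_lit 0x1461f0) .nil) (nat_lit 230316) (nat_lit 39491) (nat_lit 0x11c6c8) (.node
  (.node .nil (nat_lit 231362) (nat_lit 1203) (nat_lit 0x10479a) .nil) (nat_lit 232304) (nat_lit 58323)
  (nat_lit 0x1d4498) .nil)) (nat_lit 232742) (nat_lit 17620) (nat_lit 0x510e1c) (.node (.node (.node .nil
  (nat_lit 233834) (nat_lit 70100) (nat_lit 0x788618) .nil) (nat_lit 235108) (nat_lit 34947) (nat_lit
  0x314558) .nil) (nat_lit 236232) (nat_lit 93649) (nat_lit 0x1ba148) (.node (.node .nil (nat_lit 238158)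
  (nat_lit 72115) (nat_lit 0x10c47a) .nil) (nat_lit 238886) (nat_lit 50100) (nat_lit 0x510e98) .nil)))
  (nat_lit 239910) (nat_lit 73012) (nat_lit 0x500e9c) (.node (.node (.node (.node .nil (nat_lit 240274)
  (nat_lit 30418) (nat_lit 517440) .nil) (nat_lit 240678) (nat_lit 54292) (nat_lit 0x410e9c) .nil) (nat_lit
  240902) (nat_lit 86067) (nat_lit 0x1841ea) (.node (.node .nil (nat_lit 240930) (nat_lit 74225) (nat_lit
  0x1e5130) .nil) (nat_lit 240932) (nat_lit 33025) (nat_lit 0x1e4132) .nil)) (nat_lit 243796) (nat_lit 35187)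
  (nat_lit 0x3c4078) (.node (.node (.node .nil (nat_lit 246550) (nat_lit 34994) (nat_lit 0x44f150) .nil)
  (nat_lit 247396) (nat_lit 63971) (nat_lit 0x114d58) .nil) (nat_lit 247988) (nat_lit 13059) (nat_lit
  0x1d4a48) (.node (.node .nil (nat_lit 250320) (nat_lit 78260) (nat_lit 0x3e2418) .nil) (nat_lit 250468)
  (nat_lit 17633) (nat_lit 0x1941ca) .nil)))))) (nat_lit 250980) (nat_lit 53443) (nat_lit 0x314958) (.node
  (.node (.node (.node (.node (.node (.node .nil (nat_lit 251428) (nat_lit 55795) (nat_lit 0x314d48) .nil)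
  (nat_lit 251460) (nat_lit 32068) (nat_lit 0x2d0c38) .nil) (nat_lit 251488) (nat_lit 28531) (nat_lit
  0x314d18) (.node (.node .nil (nat_lit 252172) (nat_lit 68305) (nat_lit 0x1a21d2) .nil) (nat_lit 254346)
  (nat_lit 26834) (nat_lit 0x41d548) .nil)) (nat_lit 256552) (nat_lit 15010) (nat_lit 0x43e188) (.node (.node
  (.node .nil (nat_lit 258098) (nat_lit 47747) (nat_lit 0x35482a) .nil) (nat_lit 261248) (nat_lit 92915)
  (nat_lit 0x384b28) .nil) (nat_lit 264150) (nat_lit 34097) (nat_lit 102974) (.node (.node .nil (nat_lit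
  265082) (nat_lit 89202) (nat_lit 405710) .nil) (nat_lit 267886) (nat_lit 89635) (nat_lit 0x218556) .nil)))
  (nat_lit 269020) (nat_lit 23747) (nat_lit 0x2c8654) (.node (.node (.node (.node .nil (nat_lit 270002)
  (nat_lit 38545) (nat_lit 250468) .nil) (nat_lit 273332) (nat_lit 58356) (nat_lit 0x126aa4) .nil) (nat_lit
  273950) (nat_lit 67219) (nat_lit 820582) (.node (.node .nil (nat_lit 274152) (nat_lit 15460) (nat_lit
  647844) .nil) (nat_lit 275426) (nat_lit 69732) (nat_lit 0x7862a0) .nil)) (nat_lit 276364) (nat_lit 84658)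
  (nat_lit 0x11361a) (.node (.node (.node .nil (nat_lit 278352) (nat_lit 40065) (nat_lit 459388) .nil)
  (nat_lit 279418) (nat_lit 92979) (nat_lit 363670) .nil) (nat_lit 280252) (nat_lit 25665) (nat_lit 123558)
  (.node (.node .nil (nat_lit 280954) (nat_lit 69331) (nat_lit 886934) .nil) (nat_lit 281210) (nat_lit 76836)
  (nat_lit 0x4ec224) .nil)))) (nat_lit 281402) (nat_lit 42212) (nat_lit 0x56c224) (.node (.node (.node (.node
  (.node .nil (nat_lit 281434) (nat_lit 94388) (nat_lit 0x5ec024) .nil) (nat_lit 281450) (nat_lit 83860)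
  (nat_lit 0x5cc224) .nil) (nat_lit 281458) (nat_lit 60932) (nat_lit 0x5e4224) (.node (.node .nil (nat_lit
  281464) (nat_lit 67762) (nat_lit 0x46308e) .nil) (nat_lit 281806) (nat_lit 48052) (nat_lit 0x4de804) .nil))
  (nat_lit 282870) (nat_lit 91154) (nat_lit 0x4406d6) (.node (.node (.node .nil (nat_lit 283996) (nat_lit
  67347) (nat_lit 0x2489d4) .nil) (nat_lit 284074) (nat_lit 32467) (nat_lit 0x218b86) .nil) (nat_lit 287134)
  (nat_lit 70451) (nat_lit 297702) (.node (.node .nil (nat_lit 288240) (nat_lit 2370) (nat_lit 0x551486) .nil)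
  (nat_lit 290092) (nat_lit 21730) (nat_lit 0x53109a) .nil))) (nat_lit 290690) (nat_lit 2065) (nat_lit 496304)
  (.node (.node (.node (.node .nil (nat_lit 293320) (nat_lit 78753) (nat_lit 434904) .nil) (nat_lit 293986)
  (nat_lit 20241) (nat_lit 414440) .nil) (nat_lit 294036) (nat_lit 43348) (nat_lit 0x276884) (.node (.node
  .nil (nat_lit 296636) (nat_lit 10801) (nat_lit 647718) .nil) (nat_lit 297702) (nat_lit 40018) (nat_lit
  173270) .nil)) (nat_lit 298828) (nat_lit 90465) (nat_lit 729658) (.node (.node (.node .nil (nat_lit 299892)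
  (nat_lit 94418) (nat_lit 307862) .nil) (nat_lit 300826) (nat_lit 91521) (nat_lit 602740) .nil) (nat_lit
  301992) (nat_lit 29953) (nat_lit 778832) (.node (.node .nil (nat_lit 303918) (nat_lit 60593) (nat_lit
  881170) .nil) (nat_lit 304088) (nat_lit 25091) (nat_lit 296636) .nil))))) (nat_lit 304754) (nat_lit 70772)
  (nat_lit 0x4b42a8) (.node (.node (.node (.node (.node (.node .nil (nat_lit 307074) (nat_lit 994) (nat_lit
  0x13b442) .nil) (nat_lit 307862) (nat_lit 74113) (nat_lit 889414) .nil) (nat_lit 309834) (nat_lit 93586)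
  (nat_lit 238158) (.node (.node .nil (nat_lit 310820) (nat_lit 74276) (nat_lit 0x214aac) .nil) (nat_lit
  311996) (nat_lit 5809) (nat_lit 647814) .nil)) (nat_lit 312508) (nat_lit 20113) (nat_lit 582310) (.node
  (.node (.node .nil (nat_lit 312678) (nat_lit 27010) (nat_lit 0x5090d6) .nil) (nat_lit 312892) (nat_lit
  23265) (nat_lit 615078) .nil) (nat_lit 312988) (nat_lit 22481) (nat_lit 631462) (.node (.node .nil (nat_lit
  313004) (nat_lit 9425) (nat_lit 647842) .nil) (nat_lit 313012) (nat_lit 3425) (nat_lit 639654) .nil)))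
  (nat_lit 313016) (nat_lit 15409) (nat_lit 647844) (.node (.node (.node (.node .nil (nat_lit 313812) (nat_lit
  15603) (nat_lit 789212) .nil) (nat_lit 315266) (nat_lit 9508) (nat_lit 0x55602c) .nil) (nat_lit 317548)
  (nat_lit 42097) (nat_lit 680650) (.node (.node .nil (nat_lit 317594) (nat_lit 12577) (nat_lit 701124) .nil)
  (nat_lit 318768) (nat_lit 12883) (nat_lit 0x2d098c) .nil)) (nat_lit 319722) (nat_lit 55601) (nat_lit 848520)
  (.node (.node (.node .nil (nat_lit 321410) (nat_lit 3602) (nat_lit 0x51b442) .nil) (nat_lit 321590) (nat_lit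
  51985) (nat_lit 938630) .nil) (nat_lit 322434) (nat_lit 2114) (nat_lit 0x43b442) (.node (.node .nil (nat_lit
  322648) (nat_lit 52723) (nat_lit 821564) .nil) (nat_lit 322946) (nat_lit 4212) (nat_lit 0x55608c) .nil))))
  (nat_lit 323202) (nat_lit 2898) (nat_lit 0x53a442) (.node (.node (.node (.node (.node .nil (nat_lit 323330)
  (nat_lit 929) (nat_lit 987824) .nil) (nat_lit 323456) (nat_lit 9778) (nat_lit 0x53b402) .nil) (nat_lit
  323922) (nat_lit 37121) (nat_lit 791260) (.node (.node .nil (nat_lit 324004) (nat_lit 77538) (nat_lit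
  0x419692) .nil) (nat_lit 324622) (nat_lit 84484) (nat_lit 0x65c888) .nil)) (nat_lit 329022) (nat_lit 90163)
  (nat_lit 0x1581c6) (.node (.node (.node .nil (nat_lit 330676) (nat_lit 31315) (nat_lit 0x1d06c4) .nil)
  (nat_lit 331234) (nat_lit 71188) (nat_lit 0x596604) .nil) (nat_lit 331596) (nat_lit 41939) (nat_lit
  0x1885d4) (.node (.node .nil (nat_lit 332022) (nat_lit 63922) (nat_lit 264150) .nil) (nat_lit 334938)
  (nat_lit 57060) (nat_lit 0x6bc404) .nil))) (nat_lit 335020) (nat_lit 1379) (nat_lit 0x398344) (.node (.node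
  (.node (.node .nil (nat_lit 336820) (nat_lit 70308) (nat_lit 0x126ea0) .nil) (nat_lit 337116) (nat_lit
  87457) (nat_lit 303918) .nil) (nat_lit 337522) (nat_lit 96388) (nat_lit 0x4b46a0) (.node (.node .nil
  (nat_lit 338030) (nat_lit 90563) (nat_lit 0x198076) .nil) (nat_lit 338356) (nat_lit 81939) (nat_lit
  0x1d02e4) .nil)) (nat_lit 338612) (nat_lit 80625) (nat_lit 508678) (.node (.node (.node .nil (nat_lit
  338740) (nat_lit 95156) (nat_lit 0x124ea4) .nil) (nat_lit 338836) (nat_lit 75266) (nat_lit 472338) .nil)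
  (nat_lit 338852) (nat_lit 70804) (nat_lit 0x106ea4) (.node (.node .nil (nat_lit 338864) (nat_lit 40529)
  (nat_lit 508692) .nil) (nat_lit 341348) (nat_lit 97748) (nat_lit 0x394e80) .nil)))))))
def t6160_2 : T := (.node (.node (.node (.node (.node (.node (.node (.node .nil (nat_lit 342472) (nat_lit
  73889) (nat_lit 435032) .nil) (nat_lit 344310) (nat_lit 98401) (nat_lit 54158) (.node .nil (nat_lit 347686)
  (nat_lit 48179) (nat_lit 0x190d46) .nil)) (nat_lit 347856) (nat_lit 46644) (nat_lit 0xf6424) (.node (.node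
  .nil (nat_lit 348278) (nat_lit 98370) (nat_lit 0x4403d6) .nil) (nat_lit 348342) (nat_lit 84274) (nat_lit
  0x4407d2) .nil)) (nat_lit 348374) (nat_lit 66178) (nat_lit 0x440756) (.node (.node (.node .nil (nat_lit
  348390) (nat_lit 84978) (nat_lit 0x4007d6) .nil) (nat_lit 348402) (nat_lit 86881) (nat_lit 54220) .nil)
  (nat_lit 348404) (nat_lit 94626) (nat_lit 0x440796) (.node (.node .nil (nat_lit 348972) (nat_lit 84723)
  (nat_lit 0x318cc4) .nil) (nat_lit 350018) (nat_lit 88867) (nat_lit 0x300d96) .nil))) (nat_lit 350664)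
  (nat_lit 64401) (nat_lit 173016) (.node (.node (.node (.node .nil (nat_lit 351536) (nat_lit 15284) (nat_lit
  0x374604) .nil) (nat_lit 354072) (nat_lit 91283) (nat_lit 0x148da4) .nil) (nat_lit 354760) (nat_lit 46049)
  (nat_lit 435096) (.node (.node .nil (nat_lit 356808) (nat_lit 50993) (nat_lit 304088) .nil) (nat_lit 357390)
  (nat_lit 39236) (nat_lit 0x65cc80) .nil)) (nat_lit 358048) (nat_lit 33074) (nat_lit 0x512782) (.node (.node
  (.node .nil (nat_lit 358600) (nat_lit 55185) (nat_lit 435144) .nil) (nat_lit 358728) (nat_lit 19521)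
  (nat_lit 402392) .nil) (nat_lit 358792) (nat_lit 81249) (nat_lit 435152) (.node (.node .nil (nat_lit 358848)
  (nat_lit 77409) (nat_lit 426968) .nil) (nat_lit 358930) (nat_lit 89329) (nat_lit 463812) .nil)))) (nat_lit
  362098) (nat_lit 61617) (nat_lit 611116) (.node (.node (.node (.node (.node .nil (nat_lit 362316) (nat_lit
  68979) (nat_lit 0x1085dc) .nil) (nat_lit 362744) (nat_lit 81987) (nat_lit 0x1d821c) .nil) (nat_lit 363340)
  (nat_lit 69124) (nat_lit 0x18cc2c) (.node (.node .nil (nat_lit 363670) (nat_lit 70483) (nat_lit 0x1c034e)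
  .nil) (nat_lit 363852) (nat_lit 31537) (nat_lit 664378) .nil)) (nat_lit 364108) (nat_lit 60819) (nat_lit
  0x18855c) (.node (.node (.node .nil (nat_lit 364300) (nat_lit 89907) (nat_lit 0x1885cc) .nil) (nat_lit
  364356) (nat_lit 58433) (nat_lit 721722) .nil) (nat_lit 364360) (nat_lit 82097) (nat_lit 729912) (.node
  (.node .nil (nat_lit 364906) (nat_lit 93794) (nat_lit 37838) .nil) (nat_lit 364956) (nat_lit 89809) (nat_lit
  566102) .nil))) (nat_lit 367920) (nat_lit 6066) (nat_lit 0x169382) (.node (.node (.node (.node .nil (nat_lit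
  369094) (nat_lit 86451) (nat_lit 0x1002fe) .nil) (nat_lit 369266) (nat_lit 86836) (nat_lit 0x4a46a8) .nil)
  (nat_lit 369778) (nat_lit 90146) (nat_lit 0x1581c6) (.node (.node .nil (nat_lit 370088) (nat_lit 5281)
  (nat_lit 844592) .nil) (nat_lit 370226) (nat_lit 94004) (nat_lit 0x4346a8) .nil)) (nat_lit 370258) (nat_lit
  94433) (nat_lit 856876) (.node (.node (.node .nil (nat_lit 370274) (nat_lit 87057) (nat_lit 873256) .nil)
  (nat_lit 370288) (nat_lit 58276) (nat_lit 738984) .nil) (nat_lit 370970) (nat_lit 19283) (nat_lit 0x1c80ae)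
  (.node (.node .nil (nat_lit 373774) (nat_lit 63508) (nat_lit 0x61cc88) .nil) (nat_lit 374868) (nat_lit
  46355) (nat_lit 0x3c007c) .nil))))) (nat_lit 374946) (nat_lit 2707) (nat_lit 0x39022e) (.node (.node (.node
  (.node (.node (.node .nil (nat_lit 377622) (nat_lit 55938) (nat_lit 0x44b152) .nil) (nat_lit 377824)
  (nat_lit 32817) (nat_lit 639896) .nil) (nat_lit 380208) (nat_lit 23714) (nat_lit 0x569182) (.node (.node
  .nil (nat_lit 381528) (nat_lit 92676) (nat_lit 0x2ec428) .nil) (nat_lit 381966) (nat_lit 58003) (nat_lit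
  0x30894e) .nil)) (nat_lit 382256) (nat_lit 48116) (nat_lit 0x374608) (.node (.node (.node .nil (nat_lit
  383280) (nat_lit 26594) (nat_lit 0x469382) .nil) (nat_lit 383620) (nat_lit 14913) (nat_lit 754626) .nil)
  (nat_lit 384048) (nat_lit 20290) (nat_lit 0x568382) (.node (.node .nil (nat_lit 384272) (nat_lit 29012)
  (nat_lit 0x37440c) .nil) (nat_lit 384288) (nat_lit 21796) (nat_lit 0x35460c) .nil))) (nat_lit 386062)
  (nat_lit 73505) (nat_lit 799650) (.node (.node (.node (.node .nil (nat_lit 387624) (nat_lit 21956) (nat_lit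
  313004) .nil) (nat_lit 389134) (nat_lit 75329) (nat_lit 799682) .nil) (nat_lit 390150) (nat_lit 81841)
  (nat_lit 791522) (.node (.node .nil (nat_lit 390154) (nat_lit 38049) (nat_lit 799712) .nil) (nat_lit 390156)
  (nat_lit 80001) (nat_lit 795618) .nil)) (nat_lit 394490) (nat_lit 34484) (nat_lit 0x4be210) (.node (.node
  (.node .nil (nat_lit 396006) (nat_lit 76066) (nat_lit 156886) .nil) (nat_lit 396830) (nat_lit 81427)
  (nat_lit 836934) .nil) (nat_lit 398684) (nat_lit 79539) (nat_lit 0x24c1d4) (.node (.node .nil (nat_lit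
  399856) (nat_lit 20562) (nat_lit 415366) .nil) (nat_lit 400556) (nat_lit 4547) (nat_lit 0x29c344) .nil))))
  (nat_lit 401782) (nat_lit 90820) (nat_lit 0x5a4a90) (.node (.node (.node (.node (.node .nil (nat_lit 402392)
  (nat_lit 8339) (nat_lit 313012) .nil) (nat_lit 402974) (nat_lit 53875) (nat_lit 312678) .nil) (nat_lit
  403882) (nat_lit 3459) (nat_lit 639654) (.node (.node .nil (nat_lit 403998) (nat_lit 55859) (nat_lit 836710)
  .nil) (nat_lit 404510) (nat_lit 16835) (nat_lit 835942) .nil)) (nat_lit 404932) (nat_lit 91235) (nat_lit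
  541684) (.node (.node (.node .nil (nat_lit 405006) (nat_lit 49587) (nat_lit 574822) .nil) (nat_lit 405014)
  (nat_lit 44131) (nat_lit 804198) .nil) (nat_lit 405018) (nat_lit 78083) (nat_lit 836902) (.node (.node .nil
  (nat_lit 405020) (nat_lit 30180) (nat_lit 247988) .nil) (nat_lit 405710) (nat_lit 63346) (nat_lit 83550)
  .nil))) (nat_lit 406930) (nat_lit 31683) (nat_lit 0x2443a6) (.node (.node (.node (.node .nil (nat_lit
  408674) (nat_lit 6674) (nat_lit 0x1342c6) .nil) (nat_lit 410972) (nat_lit 35107) (nat_lit 313812) .nil)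
  (nat_lit 412556) (nat_lit 71364) (nat_lit 0x14e834) (.node (.node .nil (nat_lit 413392) (nat_lit 30916)
  (nat_lit 0xf6034) .nil) (nat_lit 414044) (nat_lit 49987) (nat_lit 0x24c8d4) .nil)) (nat_lit 414440) (nat_lit
  8658) (nat_lit 0x40668e) (.node (.node (.node .nil (nat_lit 414812) (nat_lit 91426) (nat_lit 0x54421e) .nil)
  (nat_lit 415004) (nat_lit 33459) (nat_lit 0x24c9c4) .nil) (nat_lit 415052) (nat_lit 54243) (nat_lit
  0x20c9d4) (.node (.node .nil (nat_lit 415060) (nat_lit 59586) (nat_lit 0x545216) .nil) (nat_lit 415064)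
  (nat_lit 17395) (nat_lit 0x24c994) .nil)))))) (nat_lit 415366) (nat_lit 8818) (nat_lit 0x506652) (.node
  (.node (.node (.node (.node (.node (.node .nil (nat_lit 415898) (nat_lit 5409) (nat_lit 0x12b2c4) .nil)
  (nat_lit 416308) (nat_lit 6657) (nat_lit 0x1342c6) .nil) (nat_lit 416866) (nat_lit 6881) (nat_lit 0x1252e8)
  (.node (.node .nil (nat_lit 418482) (nat_lit 21409) (nat_lit 0x15d284) .nil) (nat_lit 420962) (nat_lit
  20705) (nat_lit 0x1652a8) .nil)) (nat_lit 422308) (nat_lit 46498) (nat_lit 0x415692) (.node (.node (.node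
  .nil (nat_lit 422666) (nat_lit 91011) (nat_lit 0x20cca6) .nil) (nat_lit 423010) (nat_lit 29825) (nat_lit
  0x1452e8) .nil) (nat_lit 424034) (nat_lit 34609) (nat_lit 0x1652c8) (.node (.node .nil (nat_lit 424994)
  (nat_lit 23890) (nat_lit 0x5342c2) .nil) (nat_lit 425026) (nat_lit 6001) (nat_lit 0x1612e8) .nil))) (nat_lit
  425056) (nat_lit 12705) (nat_lit 0x1642e8) (.node (.node (.node (.node .nil (nat_lit 426726) (nat_lit 63363)
  (nat_lit 83550) .nil) (nat_lit 426968) (nat_lit 46787) (nat_lit 312988) .nil) (nat_lit 427406) (nat_lit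
  79985) (nat_lit 0x18b232) (.node (.node .nil (nat_lit 428262) (nat_lit 69924) (nat_lit 0x486a1c) .nil)
  (nat_lit 428348) (nat_lit 51089) (nat_lit 0x1a6216) .nil)) (nat_lit 428646) (nat_lit 79428) (nat_lit
  0x484a3c) (.node (.node (.node .nil (nat_lit 428710) (nat_lit 32948) (nat_lit 0x406a3c) .nil) (nat_lit
  428742) (nat_lit 61106) (nat_lit 189526) .nil) (nat_lit 428770) (nat_lit 76562) (nat_lit 189638) (.node
  (.node .nil (nat_lit 428772) (nat_lit 83650) (nat_lit 189590) .nil) (nat_lit 429394) (nat_lit 36769)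
  (nat_lit 0x1a123c) .nil)))) (nat_lit 430442) (nat_lit 97219) (nat_lit 0x21c09e) (.node (.node (.node (.node
  (.node .nil (nat_lit 431158) (nat_lit 18001) (nat_lit 0x185266) .nil) (nat_lit 432282) (nat_lit 20417)
  (nat_lit 0x1ab244) .nil) (nat_lit 434648) (nat_lit 14003) (nat_lit 311996) (.node (.node .nil (nat_lit
  434904) (nat_lit 48211) (nat_lit 312892) .nil) (nat_lit 435032) (nat_lit 43059) (nat_lit 312508) .nil))
  (nat_lit 435096) (nat_lit 21939) (nat_lit 313004) (.node (.node (.node .nil (nat_lit 435144) (nat_lit 27891)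
  (nat_lit 50876) .nil) (nat_lit 435152) (nat_lit 51843) (nat_lit 280252) .nil) (nat_lit 435308) (nat_lit
  36676) (nat_lit 641688) (.node (.node .nil (nat_lit 437424) (nat_lit 30306) (nat_lit 0x17c482) .nil)
  (nat_lit 438692) (nat_lit 52162) (nat_lit 120466) .nil))) (nat_lit 440404) (nat_lit 23651) (nat_lit
  0x2c407c) (.node (.node (.node (.node .nil (nat_lit 441608) (nat_lit 45681) (nat_lit 0x1e2270) .nil)
  (nat_lit 443158) (nat_lit 78628) (nat_lit 0x564838) .nil) (nat_lit 443978) (nat_lit 44259) (nat_lit 52510)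
  (.node (.node .nil (nat_lit 444570) (nat_lit 6769) (nat_lit 0x1ab284) .nil) (nat_lit 446618) (nat_lit 27155)
  (nat_lit 0x24ca0e) .nil)) (nat_lit 446884) (nat_lit 21026) (nat_lit 0x40d692) (.node (.node (.node .nil
  (nat_lit 448538) (nat_lit 6369) (nat_lit 0x1a32c4) .nil) (nat_lit 448650) (nat_lit 12209) (nat_lit 0x1ab2c0)
  .nil) (nat_lit 448658) (nat_lit 5345) (nat_lit 0x1a92c4) (.node (.node .nil (nat_lit 448664) (nat_lit 23329)
  (nat_lit 0x1aa2c4) .nil) (nat_lit 449344) (nat_lit 57458) (nat_lit 0x42f206) .nil))))) (nat_lit 450980)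
  (nat_lit 27266) (nat_lit 0x41d492) (.node (.node (.node (.node (.node (.node .nil (nat_lit 453160) (nat_lit
  13777) (nat_lit 0x1f6280) .nil) (nat_lit 454820) (nat_lit 7282) (nat_lit 0x41c692) .nil) (nat_lit 454948)
  (nat_lit 47634) (nat_lit 0x41d292) (.node (.node .nil (nat_lit 455044) (nat_lit 61298) (nat_lit 0x41d612)
  .nil) (nat_lit 455072) (nat_lit 51570) (nat_lit 0x41d682) .nil)) (nat_lit 456208) (nat_lit 50644) (nat_lit
  0x2740b8) (.node (.node (.node .nil (nat_lit 459388) (nat_lit 18419) (nat_lit 0x15c454) .nil) (nat_lit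
  461996) (nat_lit 771) (nat_lit 0x19c344) .nil) (nat_lit 462544) (nat_lit 36481) (nat_lit 0x13832c) (.node
  (.node .nil (nat_lit 463210) (nat_lit 94899) (nat_lit 0x31c096) .nil) (nat_lit 463812) (nat_lit 63553)
  (nat_lit 0x11835a) .nil))) (nat_lit 464044) (nat_lit 355) (nat_lit 0x31c344) (.node (.node (.node (.node
  .nil (nat_lit 464274) (nat_lit 82163) (nat_lit 0x344386) .nil) (nat_lit 465068) (nat_lit 4659) (nat_lit
  0x39c244) .nil) (nat_lit 465688) (nat_lit 72676) (nat_lit 0x32c434) (.node (.node .nil (nat_lit 465964)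
  (nat_lit 4739) (nat_lit 0x39c144) .nil) (nat_lit 466060) (nat_lit 1971) (nat_lit 0x38c344) .nil)) (nat_lit
  466084) (nat_lit 1683) (nat_lit 0x394344) (.node (.node (.node .nil (nat_lit 466088) (nat_lit 5540) (nat_lit
  0x21e614) .nil) (nat_lit 468370) (nat_lit 81523) (nat_lit 0x1443a6) .nil) (nat_lit 469826) (nat_lit 65940)
  (nat_lit 0x5844b4) (.node (.node .nil (nat_lit 471442) (nat_lit 81091) (nat_lit 0x3442a6) .nil) (nat_lit
  471590) (nat_lit 67635) (nat_lit 0x314466) .nil)))) (nat_lit 472210) (nat_lit 67955) (nat_lit 0x344326)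
  (.node (.node (.node (.node (.node .nil (nat_lit 472338) (nat_lit 44419) (nat_lit 0x3441a6) .nil) (nat_lit
  472450) (nat_lit 54131) (nat_lit 0x3043a6) .nil) (nat_lit 472464) (nat_lit 17203) (nat_lit 0x3443a4) (.node
  (.node .nil (nat_lit 472648) (nat_lit 92578) (nat_lit 0x11630e) .nil) (nat_lit 473172) (nat_lit 26531)
  (nat_lit 0x3c4074) .nil)) (nat_lit 475576) (nat_lit 30771) (nat_lit 0x15ca84) (.node (.node (.node .nil
  (nat_lit 475926) (nat_lit 79458) (nat_lit 0x447152) .nil) (nat_lit 476880) (nat_lit 24724) (nat_lit 0xf6430)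
  .nil) (nat_lit 477540) (nat_lit 16673) (nat_lit 0x12439a) (.node (.node .nil (nat_lit 477904) (nat_lit
  67124) (nat_lit 943156) .nil) (nat_lit 478416) (nat_lit 33636) (nat_lit 0xf6414) .nil))) (nat_lit 478474)
  (nat_lit 16450) (nat_lit 0x52514a) (.node (.node (.node (.node .nil (nat_lit 478800) (nat_lit 21396)
  (nat_lit 0xf4434) .nil) (nat_lit 478864) (nat_lit 52404) (nat_lit 484404) .nil) (nat_lit 478912) (nat_lit
  27604) (nat_lit 877620) (.node (.node .nil (nat_lit 483418) (nat_lit 28643) (nat_lit 0x14c836) .nil)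
  (nat_lit 484404) (nat_lit 25987) (nat_lit 0x154964) .nil)) (nat_lit 485510) (nat_lit 6049) (nat_lit
  0x169382) (.node (.node (.node .nil (nat_lit 485928) (nat_lit 8356) (nat_lit 313012) .nil) (nat_lit 491882)
  (nat_lit 71843) (nat_lit 0x11c09e) .nil) (nat_lit 492310) (nat_lit 67282) (nat_lit 323922) (.node (.node
  .nil (nat_lit 495722) (nat_lit 96356) (nat_lit 0x68c618) .nil) (nat_lit 495914) (nat_lit 88580) (nat_lit
  0x70c618) .nil)))))))
def t6160_3 : T := (.node (.node (.node (.node (.node (.node (.node (.node .nil (nat_lit 495970) (nat_lit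
  87891) (nat_lit 0x31409e) .nil) (nat_lit 495976) (nat_lit 68339) (nat_lit 0x31c09c) .nil) (nat_lit 496304)
  (nat_lit 737) (nat_lit 0x19c344) (.node (.node .nil (nat_lit 497748) (nat_lit 51235) (nat_lit 0x3c405c)
  .nil) (nat_lit 499202) (nat_lit 57364) (nat_lit 0x61443c) .nil)) (nat_lit 501380) (nat_lit 58691) (nat_lit
  0x10476c) (.node (.node (.node .nil (nat_lit 501844) (nat_lit 5971) (nat_lit 0x1c407c) .nil) (nat_lit
  502312) (nat_lit 27908) (nat_lit 50876) .nil) (nat_lit 503892) (nat_lit 20211) (nat_lit 0x34407c) (.node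
  (.node .nil (nat_lit 505876) (nat_lit 33187) (nat_lit 0x3c406c) .nil) (nat_lit 505924) (nat_lit 47171)
  (nat_lit 0x38407c) .nil))) (nat_lit 505936) (nat_lit 64051) (nat_lit 0x3c403c) (.node (.node (.node (.node
  .nil (nat_lit 508108) (nat_lit 66289) (nat_lit 0x18a38a) .nil) (nat_lit 508182) (nat_lit 32579) (nat_lit
  0x1448ce) .nil) (nat_lit 508438) (nat_lit 54916) (nat_lit 0x464c38) (.node (.node .nil (nat_lit 508678)
  (nat_lit 50836) (nat_lit 0x544c38) .nil) (nat_lit 508690) (nat_lit 45540) (nat_lit 0x564438) .nil)) (nat_lit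
  508692) (nat_lit 18708) (nat_lit 0x164c38) (.node (.node (.node .nil (nat_lit 509090) (nat_lit 18561)
  (nat_lit 0x18d3a0) .nil) (nat_lit 510504) (nat_lit 48228) (nat_lit 312892) .nil) (nat_lit 516648) (nat_lit
  34660) (nat_lit 313016) (.node (.node .nil (nat_lit 517440) (nat_lit 13201) (nat_lit 0x1c03b8) .nil)
  (nat_lit 518184) (nat_lit 28882) (nat_lit 0x43c18a) .nil)))) (nat_lit 518664) (nat_lit 42881) (nat_lit
  0x1f2380) (.node (.node (.node (.node (.node .nil (nat_lit 518688) (nat_lit 43410) (nat_lit 0x43e182) .nil)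
  (nat_lit 526254) (nat_lit 3203) (nat_lit 231362) .nil) (nat_lit 527278) (nat_lit 11891) (nat_lit 755394)
  (.node (.node .nil (nat_lit 527790) (nat_lit 14931) (nat_lit 754626) .nil) (nat_lit 528046) (nat_lit 12674)
  (nat_lit 0x122cd8) .nil)) (nat_lit 528174) (nat_lit 36995) (nat_lit 755138) (.node (.node (.node .nil
  (nat_lit 528270) (nat_lit 26035) (nat_lit 690114) .nil) (nat_lit 528294) (nat_lit 10659) (nat_lit 722882)
  .nil) (nat_lit 528298) (nat_lit 13364) (nat_lit 0x51a264) (.node (.node .nil (nat_lit 528300) (nat_lit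
  23091) (nat_lit 755648) .nil) (nat_lit 528766) (nat_lit 49074) (nat_lit 269020) .nil))) (nat_lit 531164)
  (nat_lit 6147) (nat_lit 0x2e8650) (.node (.node (.node (.node .nil (nat_lit 531922) (nat_lit 3283) (nat_lit
  0x2e0392) .nil) (nat_lit 535032) (nat_lit 4866) (nat_lit 466060) .nil) (nat_lit 535382) (nat_lit 53170)
  (nat_lit 473172) (.node (.node .nil (nat_lit 537570) (nat_lit 76307) (nat_lit 0x2306b2) .nil) (nat_lit
  537836) (nat_lit 66033) (nat_lit 0x24e06a) .nil)) (nat_lit 538806) (nat_lit 66482) (nat_lit 462544) (.node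
  (.node (.node .nil (nat_lit 539932) (nat_lit 73538) (nat_lit 0x171a18) .nil) (nat_lit 541684) (nat_lit
  66499) (nat_lit 462544) .nil) (nat_lit 542302) (nat_lit 35841) (nat_lit 0x2130ae) (.node (.node .nil
  (nat_lit 544210) (nat_lit 9283) (nat_lit 920466) .nil) (nat_lit 545466) (nat_lit 27956) (nat_lit 0x66a260)
  .nil))))) (nat_lit 546028) (nat_lit 72978) (nat_lit 0x500e9c) (.node (.node (.node (.node (.node (.node .nil
  (nat_lit 546258) (nat_lit 24292) (nat_lit 0x7f2040) .nil) (nat_lit 547282) (nat_lit 32307) (nat_lit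
  0x2e0a92) .nil) (nat_lit 547430) (nat_lit 33571) (nat_lit 0x2b0c52) (.node (.node .nil (nat_lit 548050)
  (nat_lit 10739) (nat_lit 0x2e0b12) .nil) (nat_lit 548178) (nat_lit 36739) (nat_lit 0x2e0992) .nil)) (nat_lit
  548242) (nat_lit 7220) (nat_lit 0x772044) (.node (.node (.node .nil (nat_lit 548290) (nat_lit 11939)
  (nat_lit 0x2a0b92) .nil) (nat_lit 548304) (nat_lit 26067) (nat_lit 0x2e0b90) .nil) (nat_lit 549278) (nat_lit
  61505) (nat_lit 0x24b096) (.node (.node .nil (nat_lit 550124) (nat_lit 85843) (nat_lit 232304) .nil)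
  (nat_lit 551484) (nat_lit 80897) (nat_lit 0x276086) .nil))) (nat_lit 551626) (nat_lit 55282) (nat_lit
  0x432c4c) (.node (.node (.node (.node .nil (nat_lit 552800) (nat_lit 50609) (nat_lit 0x2740b8) .nil)
  (nat_lit 553196) (nat_lit 54115) (nat_lit 0x238a70) .nil) (nat_lit 553816) (nat_lit 93826) (nat_lit
  0x453a0c) (.node (.node .nil (nat_lit 554092) (nat_lit 44387) (nat_lit 0x238970) .nil) (nat_lit 554156)
  (nat_lit 49779) (nat_lit 0x238b60) .nil)) (nat_lit 554188) (nat_lit 17171) (nat_lit 0x228b70) (.node (.node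
  (.node .nil (nat_lit 554212) (nat_lit 63761) (nat_lit 0x24c0ea) .nil) (nat_lit 554216) (nat_lit 81075)
  (nat_lit 0x238b30) .nil) (nat_lit 555306) (nat_lit 90033) (nat_lit 0x2670d0) (.node (.node .nil (nat_lit
  555908) (nat_lit 27474) (nat_lit 0x433e10) .nil) (nat_lit 558556) (nat_lit 77427) (nat_lit 426968) .nil))))
  (nat_lit 559958) (nat_lit 48914) (nat_lit 440404) (.node (.node (.node (.node (.node .nil (nat_lit 562970)
  (nat_lit 37265) (nat_lit 0x293074) .nil) (nat_lit 563684) (nat_lit 34545) (nat_lit 0x2ac05a) .nil) (nat_lit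
  564302) (nat_lit 4913) (nat_lit 0x2a306a) (.node (.node .nil (nat_lit 564408) (nat_lit 64033) (nat_lit
  0x2ae064) .nil) (nat_lit 566102) (nat_lit 64308) (nat_lit 0x5a08e8) .nil)) (nat_lit 566334) (nat_lit 66545)
  (nat_lit 0x2c7026) (.node (.node (.node .nil (nat_lit 567638) (nat_lit 80882) (nat_lit 497748) .nil)
  (nat_lit 567894) (nat_lit 14418) (nat_lit 501844) .nil) (nat_lit 568086) (nat_lit 57540) (nat_lit 0x5208ec)
  (.node (.node .nil (nat_lit 568134) (nat_lit 40436) (nat_lit 0x5808ec) .nil) (nat_lit 568146) (nat_lit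
  60433) (nat_lit 0x2f101c) .nil))) (nat_lit 568148) (nat_lit 57908) (nat_lit 0x1a08ec) (.node (.node (.node
  (.node .nil (nat_lit 568546) (nat_lit 58467) (nat_lit 721722) .nil) (nat_lit 569562) (nat_lit 60657)
  (nat_lit 0x2cb04c) .nil) (nat_lit 570736) (nat_lit 23617) (nat_lit 0x2c407c) (.node (.node .nil (nat_lit
  570758) (nat_lit 41282) (nat_lit 0x119e50) .nil) (nat_lit 571690) (nat_lit 41713) (nat_lit 0x2e7050) .nil))
  (nat_lit 572964) (nat_lit 33139) (nat_lit 0x2b0568) (.node (.node (.node .nil (nat_lit 574822) (nat_lit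
  24098) (nat_lit 0x5098d4) .nil) (nat_lit 576408) (nat_lit 48945) (nat_lit 0x2ba094) .nil) (nat_lit 577074)
  (nat_lit 74803) (nat_lit 986378) (.node (.node .nil (nat_lit 577220) (nat_lit 68564) (nat_lit 862316) .nil)
  (nat_lit 579488) (nat_lit 21539) (nat_lit 0x230f88) .nil)))))) (nat_lit 579882) (nat_lit 56385) (nat_lit
  0x2a70d0) (.node (.node (.node (.node (.node (.node (.node .nil (nat_lit 582310) (nat_lit 8609) (nat_lit
  0x2dd082) .nil) (nat_lit 583436) (nat_lit 61987) (nat_lit 167400) .nil) (nat_lit 583978) (nat_lit 79633)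
  (nat_lit 0x2e7090) (.node (.node .nil (nat_lit 584792) (nat_lit 55699) (nat_lit 952632) .nil) (nat_lit
  586026) (nat_lit 61073) (nat_lit 0x2c70d0) .nil)) (nat_lit 587330) (nat_lit 9361) (nat_lit 0x2d10e8) (.node
  (.node (.node .nil (nat_lit 587818) (nat_lit 76657) (nat_lit 0x2e70c0) .nil) (nat_lit 588042) (nat_lit
  84609) (nat_lit 0x2e30d0) .nil) (nat_lit 588066) (nat_lit 70193) (nat_lit 0x2e50d0) (.node (.node .nil
  (nat_lit 588072) (nat_lit 35681) (nat_lit 0x2e60d0) .nil) (nat_lit 591454) (nat_lit 56497) (nat_lit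
  0x21312e) .nil))) (nat_lit 592626) (nat_lit 78228) (nat_lit 0x4a2664) (.node (.node (.node (.node .nil
  (nat_lit 594838) (nat_lit 70530) (nat_lit 278352) .nil) (nat_lit 596452) (nat_lit 39844) (nat_lit 0x382e44)
  .nil) (nat_lit 596810) (nat_lit 96161) (nat_lit 0x233158) (.node (.node .nil (nat_lit 597276) (nat_lit
  81890) (nat_lit 0x161b18) .nil) (nat_lit 598842) (nat_lit 73235) (nat_lit 0x1784a2) .nil)) (nat_lit 598988)
  (nat_lit 76497) (nat_lit 0x25a11a) (.node (.node (.node .nil (nat_lit 600174) (nat_lit 62883) (nat_lit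
  0x1b8072) .nil) (nat_lit 601372) (nat_lit 31218) (nat_lit 0x171918) .nil) (nat_lit 601952) (nat_lit 39186)
  (nat_lit 0x133984) (.node (.node .nil (nat_lit 602330) (nat_lit 63745) (nat_lit 0x24b14c) .nil) (nat_lit
  602740) (nat_lit 67233) (nat_lit 0x25414e) .nil)))) (nat_lit 603420) (nat_lit 63492) (nat_lit 0x338cc0)
  (.node (.node (.node (.node (.node .nil (nat_lit 604444) (nat_lit 93908) (nat_lit 0x328cc4) .nil) (nat_lit
  604840) (nat_lit 47986) (nat_lit 208776) .nil) (nat_lit 605212) (nat_lit 88804) (nat_lit 0x238cc4) (.node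
  (.node .nil (nat_lit 605452) (nat_lit 84740) (nat_lit 0x318cc4) .nil) (nat_lit 605460) (nat_lit 96466)
  (nat_lit 0x171b10) .nil)) (nat_lit 605464) (nat_lit 72434) (nat_lit 0x171b08) (.node (.node (.node .nil
  (nat_lit 606698) (nat_lit 21188) (nat_lit 0x5ca640) .nil) (nat_lit 606814) (nat_lit 84337) (nat_lit
  0x21318e) .nil) (nat_lit 607326) (nat_lit 94739) (nat_lit 0x168952) (.node (.node .nil (nat_lit 607774)
  (nat_lit 62689) (nat_lit 0x2131a6) .nil) (nat_lit 607822) (nat_lit 64721) (nat_lit 0x2131aa) .nil)))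
  (nat_lit 607830) (nat_lit 82401) (nat_lit 0x2111ae) (.node (.node (.node (.node .nil (nat_lit 607834)
  (nat_lit 37570) (nat_lit 0x54294c) .nil) (nat_lit 607836) (nat_lit 55425) (nat_lit 0x2121ae) .nil) (nat_lit
  608566) (nat_lit 48580) (nat_lit 0x560e44) (.node (.node .nil (nat_lit 609176) (nat_lit 57713) (nat_lit
  0x23a194) .nil) (nat_lit 610144) (nat_lit 78449) (nat_lit 0x2341b8) .nil)) (nat_lit 611116) (nat_lit 32658)
  (nat_lit 0x403b98) (.node (.node (.node .nil (nat_lit 612472) (nat_lit 47220) (nat_lit 0x2e8644) .nil)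
  (nat_lit 612494) (nat_lit 76801) (nat_lit 0x22b1c2) .nil) (nat_lit 615078) (nat_lit 10033) (nat_lit
  0x25d182) (.node (.node .nil (nat_lit 616288) (nat_lit 77297) (nat_lit 0x2541b8) .nil) (nat_lit 616660)
  (nat_lit 62355) (nat_lit 0x1e0a70) .nil))))) (nat_lit 617312) (nat_lit 54721) (nat_lit 0x274198) (.node
  (.node (.node (.node (.node (.node .nil (nat_lit 617824) (nat_lit 31332) (nat_lit 0x1d06c4) .nil) (nat_lit
  618080) (nat_lit 71393) (nat_lit 0x2741a8) .nil) (nat_lit 618272) (nat_lit 18337) (nat_lit 0x2741b0) (.node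
  (.node .nil (nat_lit 618304) (nat_lit 45233) (nat_lit 0x2701b8) .nil) (nat_lit 618822) (nat_lit 33972)
  (nat_lit 0x7c0cc0) .nil)) (nat_lit 618928) (nat_lit 79521) (nat_lit 0x24c1d4) (.node (.node (.node .nil
  (nat_lit 621074) (nat_lit 90978) (nat_lit 0x472b40) .nil) (nat_lit 624436) (nat_lit 15522) (nat_lit
  0x14b990) .nil) (nat_lit 624578) (nat_lit 3779) (nat_lit 0x12079a) (.node (.node .nil (nat_lit 625124)
  (nat_lit 55729) (nat_lit 0x2ac11a) .nil) (nat_lit 625560) (nat_lit 53201) (nat_lit 0x2ba114) .nil)))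
  (nat_lit 625814) (nat_lit 55316) (nat_lit 0x432c4c) (.node (.node (.node (.node .nil (nat_lit 626906)
  (nat_lit 76673) (nat_lit 0x28b14c) .nil) (nat_lit 627172) (nat_lit 71379) (nat_lit 0x3302d8) .nil) (nat_lit
  628364) (nat_lit 18066) (nat_lit 0x10af18) (.node (.node .nil (nat_lit 628964) (nat_lit 73073) (nat_lit
  0x2ac14a) .nil) (nat_lit 629092) (nat_lit 29585) (nat_lit 0x2a415a) .nil)) (nat_lit 629156) (nat_lit 29905)
  (nat_lit 0x2ac152) (.node (.node (.node .nil (nat_lit 629188) (nat_lit 41985) (nat_lit 0x2a815a) .nil)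
  (nat_lit 629216) (nat_lit 32516) (nat_lit 0x38264c) .nil) (nat_lit 630352) (nat_lit 55041) (nat_lit
  0x2b016c) (.node (.node .nil (nat_lit 631002) (nat_lit 60130) (nat_lit 363852) .nil) (nat_lit 631462)
  (nat_lit 9713) (nat_lit 0x2dd102) .nil)))) (nat_lit 632232) (nat_lit 25777) (nat_lit 0x2ce130) (.node (.node
  (.node (.node (.node .nil (nat_lit 634378) (nat_lit 82611) (nat_lit 0x1a852a) .nil) (nat_lit 634970)
  (nat_lit 41809) (nat_lit 0x2c314c) .nil) (nat_lit 635034) (nat_lit 86483) (nat_lit 0x36822a) (.node (.node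
  .nil (nat_lit 635082) (nat_lit 89857) (nat_lit 0x2cb148) .nil) (nat_lit 635090) (nat_lit 85906) (nat_lit
  364356) .nil)) (nat_lit 635096) (nat_lit 84929) (nat_lit 0x2ca14c) (.node (.node (.node .nil (nat_lit
  639654) (nat_lit 1297) (nat_lit 0x29d182) .nil) (nat_lit 639896) (nat_lit 14497) (nat_lit 0x29a194) .nil)
  (nat_lit 640240) (nat_lit 90337) (nat_lit 0x28c1ac) (.node (.node .nil (nat_lit 641432) (nat_lit 43297)
  (nat_lit 0x2aa194) .nil) (nat_lit 641688) (nat_lit 16497) (nat_lit 0x2ba184) .nil))) (nat_lit 641816)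
  (nat_lit 40834) (nat_lit 0x46b908) (.node (.node (.node (.node .nil (nat_lit 641928) (nat_lit 44001)
  (nat_lit 0x2ba190) .nil) (nat_lit 641936) (nat_lit 57601) (nat_lit 0x2b8194) .nil) (nat_lit 642092) (nat_lit
  86867) (nat_lit 0x1b8948) (.node (.node .nil (nat_lit 644424) (nat_lit 5105) (nat_lit 0x2821f8) .nil)
  (nat_lit 647334) (nat_lit 5073) (nat_lit 0x2cd182) .nil)) (nat_lit 647718) (nat_lit 4497) (nat_lit 0x2d5182)
  (.node (.node (.node .nil (nat_lit 647814) (nat_lit 2417) (nat_lit 0x2d9182) .nil) (nat_lit 647842) (nat_lit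
  3873) (nat_lit 0x2dd180) .nil) (nat_lit 647844) (nat_lit 6401) (nat_lit 0x2dc182) (.node (.node .nil
  (nat_lit 648466) (nat_lit 14115) (nat_lit 0x1609aa) .nil) (nat_lit 654464) (nat_lit 98147) (nat_lit
  0x3a0b28) .nil)))))))
def t6160_4 : T := (.node (.node (.node (.node (.node (.node (.node (.node .nil (nat_lit 656634) (nat_lit
  18660) (nat_lit 0x4ba250) .nil) (nat_lit 659288) (nat_lit 38180) (nat_lit 0x1b8074) (.node .nil (nat_lit
  661052) (nat_lit 53795) (nat_lit 0x27c540) .nil)) (nat_lit 661686) (nat_lit 57747) (nat_lit 0x2f4242) (.node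
  (.node .nil (nat_lit 662606) (nat_lit 11121) (nat_lit 0x32306a) .nil) (nat_lit 663264) (nat_lit 92291)
  (nat_lit 0x2b4710) .nil)) (nat_lit 664378) (nat_lit 13857) (nat_lit 0x357014) (.node (.node (.node .nil
  (nat_lit 665190) (nat_lit 39650) (nat_lit 0x1168d4) .nil) (nat_lit 665782) (nat_lit 63172) (nat_lit
  0x422ad4) .nil) (nat_lit 666314) (nat_lit 17076) (nat_lit 0x48a0f4) (.node (.node .nil (nat_lit 667076)
  (nat_lit 76452) (nat_lit 0x1928d4) .nil) (nat_lit 667830) (nat_lit 77284) (nat_lit 0x622ad0) .nil)))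
  (nat_lit 669040) (nat_lit 7714) (nat_lit 0x155a84) (.node (.node (.node (.node .nil (nat_lit 669750)
  (nat_lit 88065) (nat_lit 0x365046) .nil) (nat_lit 669846) (nat_lit 45188) (nat_lit 0x6228d4) .nil) (nat_lit
  669862) (nat_lit 18132) (nat_lit 0x602ad4) (.node (.node .nil (nat_lit 669874) (nat_lit 54612) (nat_lit
  0x6222d4) .nil) (nat_lit 669876) (nat_lit 57395) (nat_lit 0x2f4260) .nil)) (nat_lit 671490) (nat_lit 31601)
  (nat_lit 0x371070) (.node (.node (.node .nil (nat_lit 672244) (nat_lit 19012) (nat_lit 0x1e2a50) .nil)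
  (nat_lit 672500) (nat_lit 33012) (nat_lit 928368) .nil) (nat_lit 672628) (nat_lit 62372) (nat_lit 0x1e0a70)
  (.node (.node .nil (nat_lit 672692) (nat_lit 54676) (nat_lit 0x162a70) .nil) (nat_lit 672724) (nat_lit
  59188) (nat_lit 0x1e2870) .nil)))) (nat_lit 672740) (nat_lit 18196) (nat_lit 0x1c2a70) (.node (.node (.node
  (.node (.node .nil (nat_lit 672752) (nat_lit 45732) (nat_lit 0x1e2270) .nil) (nat_lit 674506) (nat_lit
  17521) (nat_lit 0x33b088) .nil) (nat_lit 674972) (nat_lit 14436) (nat_lit 501844) (.node (.node .nil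
  (nat_lit 675378) (nat_lit 76116) (nat_lit 0x470274) .nil) (nat_lit 677510) (nat_lit 5186) (nat_lit 0x506e50)
  .nil)) (nat_lit 678008) (nat_lit 46436) (nat_lit 0x2e8254) (.node (.node (.node .nil (nat_lit 679204)
  (nat_lit 97794) (nat_lit 0x525a90) .nil) (nat_lit 680650) (nat_lit 19666) (nat_lit 0x416c4c) .nil) (nat_lit
  681378) (nat_lit 88418) (nat_lit 0x515cc0) (.node (.node .nil (nat_lit 681740) (nat_lit 95777) (nat_lit
  0x3520b2) .nil) (nat_lit 682186) (nat_lit 44705) (nat_lit 0x36b088) .nil))) (nat_lit 682570) (nat_lit 73986)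
  (nat_lit 0x43684c) (.node (.node (.node (.node .nil (nat_lit 682634) (nat_lit 49732) (nat_lit 0x44a0f4)
  .nil) (nat_lit 682690) (nat_lit 32002) (nat_lit 0x436c44) .nil) (nat_lit 682696) (nat_lit 44340) (nat_lit
  827636) (.node (.node .nil (nat_lit 684358) (nat_lit 56644) (nat_lit 0x7c08d0) .nil) (nat_lit 685082)
  (nat_lit 78514) (nat_lit 0x554a48) .nil)) (nat_lit 688798) (nat_lit 25889) (nat_lit 0x39b006) (.node (.node
  (.node .nil (nat_lit 690114) (nat_lit 11203) (nat_lit 149402) .nil) (nat_lit 690492) (nat_lit 23441)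
  (nat_lit 0x3a6016) .nil) (nat_lit 691278) (nat_lit 4337) (nat_lit 0x3a302a) (.node (.node .nil (nat_lit
  691762) (nat_lit 82723) (nat_lit 0xf450a) .nil) (nat_lit 693030) (nat_lit 50257) (nat_lit 0x395052)
  .nil))))) (nat_lit 693326) (nat_lit 22545) (nat_lit 0x38306a) (.node (.node (.node (.node (.node (.node .nil
  (nat_lit 693616) (nat_lit 27618) (nat_lit 0x14da84) .nil) (nat_lit 694350) (nat_lit 1121) (nat_lit 0x3a304a)
  .nil) (nat_lit 695310) (nat_lit 9569) (nat_lit 0x3a3062) (.node (.node .nil (nat_lit 695366) (nat_lit 14225)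
  (nat_lit 0x3a106a) .nil) (nat_lit 695370) (nat_lit 10945) (nat_lit 0x3a3068) .nil)) (nat_lit 695372)
  (nat_lit 9857) (nat_lit 0x3a206a) (.node (.node (.node .nil (nat_lit 697712) (nat_lit 52418) (nat_lit
  0x15d884) .nil) (nat_lit 698124) (nat_lit 59860) (nat_lit 0x1188f8) .nil) (nat_lit 699296) (nat_lit 58259)
  (nat_lit 738984) (.node (.node .nil (nat_lit 700784) (nat_lit 33650) (nat_lit 383620) .nil) (nat_lit 701124)
  (nat_lit 5268) (nat_lit 0x2828f8) .nil))) (nat_lit 701552) (nat_lit 30754) (nat_lit 0x15ca84) (.node (.node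
  (.node (.node .nil (nat_lit 701744) (nat_lit 26497) (nat_lit 0x3c4074) .nil) (nat_lit 701776) (nat_lit
  24754) (nat_lit 0x15da04) .nil) (nat_lit 701792) (nat_lit 35153) (nat_lit 0x3c4078) (.node (.node .nil
  (nat_lit 703000) (nat_lit 73618) (nat_lit 518664) .nil) (nat_lit 704858) (nat_lit 16227) (nat_lit 444570)
  .nil)) (nat_lit 706098) (nat_lit 36547) (nat_lit 478474) (.node (.node (.node .nil (nat_lit 706316) (nat_lit
  83233) (nat_lit 0x3920b2) .nil) (nat_lit 706950) (nat_lit 38403) (nat_lit 674506) .nil) (nat_lit 707122)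
  (nat_lit 83460) (nat_lit 0x46027c) (.node (.node .nil (nat_lit 707634) (nat_lit 85188) (nat_lit 0x47025c)
  .nil) (nat_lit 708114) (nat_lit 86386) (nat_lit 0x56e840) .nil)))) (nat_lit 708130) (nat_lit 56979) (nat_lit
  740618) (.node (.node (.node (.node (.node .nil (nat_lit 708144) (nat_lit 40100) (nat_lit 459388) .nil)
  (nat_lit 708834) (nat_lit 82497) (nat_lit 0x38d0c8) .nil) (nat_lit 711488) (nat_lit 46372) (nat_lit
  0x3c007c) (.node (.node .nil (nat_lit 712888) (nat_lit 78788) (nat_lit 434904) .nil) (nat_lit 713484)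
  (nat_lit 80209) (nat_lit 0x3d2092) .nil)) (nat_lit 713996) (nat_lit 38833) (nat_lit 0x3c20b2) (.node (.node
  (.node .nil (nat_lit 714252) (nat_lit 92882) (nat_lit 0x51e818) .nil) (nat_lit 714500) (nat_lit 95411)
  (nat_lit 151016) .nil) (nat_lit 714504) (nat_lit 72771) (nat_lit 183720) (.node (.node .nil (nat_lit 714852)
  (nat_lit 15620) (nat_lit 789212) .nil) (nat_lit 720000) (nat_lit 90914) (nat_lit 0x53ce00) .nil))) (nat_lit
  721722) (nat_lit 30323) (nat_lit 0x17c482) (.node (.node (.node (.node .nil (nat_lit 722284) (nat_lit 8193)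
  (nat_lit 0x30613a) .nil) (nat_lit 722882) (nat_lit 4419) (nat_lit 0x124792) .nil) (nat_lit 724400) (nat_lit
  52900) (nat_lit 0x132654) (.node (.node .nil (nat_lit 726228) (nat_lit 24676) (nat_lit 0x2b2c50) .nil)
  (nat_lit 727160) (nat_lit 26644) (nat_lit 0x2a8654) .nil)) (nat_lit 729402) (nat_lit 89745) (nat_lit
  0x347114) (.node (.node (.node .nil (nat_lit 729658) (nat_lit 65137) (nat_lit 0x357104) .nil) (nat_lit
  729882) (nat_lit 41858) (nat_lit 358728) .nil) (nat_lit 729898) (nat_lit 60722) (nat_lit 96712) (.node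
  (.node .nil (nat_lit 729906) (nat_lit 77697) (nat_lit 0x355114) .nil) (nat_lit 729912) (nat_lit 52977)
  (nat_lit 0x356114) .nil)))))) (nat_lit 730254) (nat_lit 49540) (nat_lit 0x41acd0) (.node (.node (.node
  (.node (.node (.node (.node .nil (nat_lit 732242) (nat_lit 9138) (nat_lit 0x174944) .nil) (nat_lit 733510)
  (nat_lit 87426) (nat_lit 88916) .nil) (nat_lit 734792) (nat_lit 89985) (nat_lit 0x352168) (.node (.node .nil
  (nat_lit 738984) (nat_lit 30241) (nat_lit 0x31e1a0) .nil) (nat_lit 739448) (nat_lit 6500) (nat_lit 951892)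
  .nil)) (nat_lit 740618) (nat_lit 29250) (nat_lit 0x525948) (.node (.node (.node .nil (nat_lit 741496)
  (nat_lit 6164) (nat_lit 0x2e8650) .nil) (nat_lit 741702) (nat_lit 74404) (nat_lit 0x7c0c50) .nil) (nat_lit
  743184) (nat_lit 75236) (nat_lit 0x370470) (.node (.node .nil (nat_lit 743480) (nat_lit 16756) (nat_lit
  0x268654) .nil) (nat_lit 743512) (nat_lit 12276) (nat_lit 0x2e8454) .nil))) (nat_lit 743528) (nat_lit 23764)
  (nat_lit 0x2c8654) (.node (.node (.node (.node .nil (nat_lit 743536) (nat_lit 20468) (nat_lit 0x2e0654)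
  .nil) (nat_lit 745798) (nat_lit 55556) (nat_lit 0x5c0cd0) .nil) (nat_lit 746548) (nat_lit 23043) (nat_lit
  0x174960) (.node (.node .nil (nat_lit 749638) (nat_lit 84082) (nat_lit 0x414b54) .nil) (nat_lit 749830)
  (nat_lit 65954) (nat_lit 0x415b50) .nil)) (nat_lit 749890) (nat_lit 82484) (nat_lit 0x7c04d0) (.node (.node
  (.node .nil (nat_lit 749892) (nat_lit 60580) (nat_lit 0x3c0cd0) .nil) (nat_lit 752768) (nat_lit 98212)
  (nat_lit 0x2524d4) .nil) (nat_lit 753782) (nat_lit 35090) (nat_lit 313812) (.node (.node .nil (nat_lit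
  754626) (nat_lit 6195) (nat_lit 0x12469a) .nil) (nat_lit 755138) (nat_lit 16691) (nat_lit 0x12439a) .nil))))
  (nat_lit 755394) (nat_lit 4995) (nat_lit 0x12471a) (.node (.node (.node (.node (.node .nil (nat_lit 755522)
  (nat_lit 9651) (nat_lit 0x12459a) .nil) (nat_lit 755586) (nat_lit 5588) (nat_lit 0x512478) .nil) (nat_lit
  755648) (nat_lit 9939) (nat_lit 0x124798) (.node (.node .nil (nat_lit 755882) (nat_lit 96034) (nat_lit
  183752) .nil) (nat_lit 758448) (nat_lit 4721) (nat_lit 0x39c144) .nil)) (nat_lit 760082) (nat_lit 59299)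
  (nat_lit 0x3e408a) (.node (.node (.node .nil (nat_lit 762260) (nat_lit 12692) (nat_lit 0x122cd8) .nil)
  (nat_lit 764232) (nat_lit 17713) (nat_lit 0x3e2118) .nil) (nat_lit 765996) (nat_lit 57154) (nat_lit 117656)
  (.node (.node .nil (nat_lit 769152) (nat_lit 92530) (nat_lit 0x13cf00) .nil) (nat_lit 770252) (nat_lit
  75490) (nat_lit 0x40cd1c) .nil))) (nat_lit 774666) (nat_lit 41508) (nat_lit 0x648478) (.node (.node (.node
  (.node .nil (nat_lit 777344) (nat_lit 89410) (nat_lit 0x52cf00) .nil) (nat_lit 778832) (nat_lit 12993)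
  (nat_lit 0x3d018c) .nil) (nat_lit 781440) (nat_lit 92019) (nat_lit 0x1a4b28) (.node (.node .nil (nat_lit
  783488) (nat_lit 96690) (nat_lit 0x51cf00) .nil) (nat_lit 784512) (nat_lit 59682) (nat_lit 0x43cf00) .nil))
  (nat_lit 785408) (nat_lit 97618) (nat_lit 0x53cb00) (.node (.node (.node .nil (nat_lit 787706) (nat_lit
  19092) (nat_lit 0x4be240) .nil) (nat_lit 789212) (nat_lit 6483) (nat_lit 951892) .nil) (nat_lit 791260)
  (nat_lit 16739) (nat_lit 0x268654) (.node (.node .nil (nat_lit 791522) (nat_lit 52835) (nat_lit 0x230696)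
  .nil) (nat_lit 791988) (nat_lit 79873) (nat_lit 0x20c276) .nil))))) (nat_lit 792346) (nat_lit 84321)
  (nat_lit 0x213274) (.node (.node (.node (.node (.node (.node .nil (nat_lit 792796) (nat_lit 46419) (nat_lit
  0x2e8254) .nil) (nat_lit 793180) (nat_lit 12259) (nat_lit 0x2e8454) .nil) (nat_lit 793244) (nat_lit 47203)
  (nat_lit 0x2e8644) (.node (.node .nil (nat_lit 793292) (nat_lit 26627) (nat_lit 0x2a8654) .nil) (nat_lit
  793300) (nat_lit 20451) (nat_lit 0x2e0654) .nil)) (nat_lit 793304) (nat_lit 15139) (nat_lit 0x2e8614) (.node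
  (.node (.node .nil (nat_lit 793960) (nat_lit 2626) (nat_lit 0x121a8e) .nil) (nat_lit 795038) (nat_lit 85108)
  (nat_lit 0x52e8c0) .nil) (nat_lit 795618) (nat_lit 49939) (nat_lit 198326) (.node (.node .nil (nat_lit
  796782) (nat_lit 64883) (nat_lit 753782) .nil) (nat_lit 798002) (nat_lit 12452) (nat_lit 0x5342c4) .nil)))
  (nat_lit 798148) (nat_lit 80388) (nat_lit 0x1968c4) (.node (.node (.node (.node .nil (nat_lit 799202)
  (nat_lit 13699) (nat_lit 0x2302b6) .nil) (nat_lit 799458) (nat_lit 77171) (nat_lit 0x230636) .nil) (nat_lit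
  799586) (nat_lit 48643) (nat_lit 0x2304b6) (.node (.node .nil (nat_lit 799650) (nat_lit 42803) (nat_lit
  0x2306a6) .nil) (nat_lit 799682) (nat_lit 44547) (nat_lit 0x2206b6) .nil)) (nat_lit 799712) (nat_lit 17347)
  (nat_lit 0x2306b4) (.node (.node (.node .nil (nat_lit 799830) (nat_lit 88945) (nat_lit 0x24126e) .nil)
  (nat_lit 801930) (nat_lit 42306) (nat_lit 0x130e4a) .nil) (nat_lit 802340) (nat_lit 56035) (nat_lit
  0x2b0564) (.node (.node .nil (nat_lit 803230) (nat_lit 86404) (nat_lit 0x56e840) .nil) (nat_lit 804198)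
  (nat_lit 20802) (nat_lit 0x5018d6) .nil)))) (nat_lit 804808) (nat_lit 29121) (nat_lit 0x21a2b8) (.node
  (.node (.node (.node (.node .nil (nat_lit 806676) (nat_lit 13444) (nat_lit 0x174864) .nil) (nat_lit 807724)
  (nat_lit 88787) (nat_lit 0x238cc4) .nil) (nat_lit 808560) (nat_lit 38674) (nat_lit 0x542a86) (.node (.node
  .nil (nat_lit 808582) (nat_lit 26162) (nat_lit 0x502e52) .nil) (nat_lit 811166) (nat_lit 96052) (nat_lit
  0x46e8c0) .nil)) (nat_lit 811294) (nat_lit 92804) (nat_lit 0x56c8c0) (.node (.node (.node .nil (nat_lit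
  811406) (nat_lit 66676) (nat_lit 0x54e8c0) .nil) (nat_lit 811414) (nat_lit 95171) (nat_lit 396006) .nil)
  (nat_lit 811418) (nat_lit 62132) (nat_lit 0x56e0c0) (.node (.node .nil (nat_lit 811420) (nat_lit 90594)
  (nat_lit 0x451c1a) .nil) (nat_lit 812586) (nat_lit 38516) (nat_lit 0x45c2e0) .nil))) (nat_lit 814168)
  (nat_lit 29555) (nat_lit 952628) (.node (.node (.node (.node .nil (nat_lit 817682) (nat_lit 93746) (nat_lit
  0x472a42) .nil) (nat_lit 820582) (nat_lit 37074) (nat_lit 0x1098d6) .nil) (nat_lit 821018) (nat_lit 74961)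
  (nat_lit 0x293234) (.node (.node .nil (nat_lit 821564) (nat_lit 26305) (nat_lit 0x2a6216) .nil) (nat_lit
  821706) (nat_lit 8946) (nat_lit 171086) .nil)) (nat_lit 822422) (nat_lit 74020) (nat_lit 0x43684c) (.node
  (.node (.node .nil (nat_lit 823470) (nat_lit 46737) (nat_lit 0x28f242) .nil) (nat_lit 824090) (nat_lit
  82801) (nat_lit 0x293254) .nil) (nat_lit 824602) (nat_lit 96593) (nat_lit 0x283274) (.node (.node .nil
  (nat_lit 824858) (nat_lit 62593) (nat_lit 0x293264) .nil) (nat_lit 825098) (nat_lit 79809) (nat_lit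
  0x293270) .nil)))))))
def t6160_5 : T := (.node (.node (.node (.node (.node (.node (.node (.node .nil (nat_lit 825112) (nat_lit
  68371) (nat_lit 0x26858c) .nil) (nat_lit 825458) (nat_lit 62065) (nat_lit 0x2a524c) .nil) (nat_lit 826916)
  (nat_lit 35876) (nat_lit 0x214a6c) (.node (.node .nil (nat_lit 827636) (nat_lit 20913) (nat_lit 0x2cc20e)
  .nil) (nat_lit 828840) (nat_lit 16292) (nat_lit 0x11e2c8) .nil)) (nat_lit 830552) (nat_lit 56771) (nat_lit
  950588) (.node (.node (.node .nil (nat_lit 831012) (nat_lit 19203) (nat_lit 722284) .nil) (nat_lit 831820)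
  (nat_lit 69825) (nat_lit 0x2c225a) .nil) (nat_lit 833060) (nat_lit 33828) (nat_lit 0x214ae8) (.node (.node
  .nil (nat_lit 833936) (nat_lit 46401) (nat_lit 0x2e8254) .nil) (nat_lit 834084) (nat_lit 57729) (nat_lit
  0x2f4242) .nil))) (nat_lit 834596) (nat_lit 55075) (nat_lit 0x2b016c) (.node (.node (.node (.node .nil
  (nat_lit 835076) (nat_lit 81219) (nat_lit 0x2a056c) .nil) (nat_lit 835104) (nat_lit 50883) (nat_lit
  0x2b052c) .nil) (nat_lit 835942) (nat_lit 7026) (nat_lit 0x4098d6) (.node (.node .nil (nat_lit 836306)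
  (nat_lit 76177) (nat_lit 0x29928c) .nil) (nat_lit 836710) (nat_lit 28322) (nat_lit 0x5088d6) .nil)) (nat_lit
  836902) (nat_lit 47474) (nat_lit 0x5098d2) (.node (.node (.node .nil (nat_lit 836934) (nat_lit 52034)
  (nat_lit 0x509856) .nil) (nat_lit 836962) (nat_lit 51410) (nat_lit 0x5098c6) .nil) (nat_lit 836964) (nat_lit
  13076) (nat_lit 0x1d4a48) (.node (.node .nil (nat_lit 838158) (nat_lit 10419) (nat_lit 691278) .nil)
  (nat_lit 838744) (nat_lit 34515) (nat_lit 952604) .nil)))) (nat_lit 842560) (nat_lit 33204) (nat_lit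
  0x3c406c) (.node (.node (.node (.node (.node .nil (nat_lit 844592) (nat_lit 2179) (nat_lit 461996) .nil)
  (nat_lit 844888) (nat_lit 65268) (nat_lit 0xfc0c8) .nil) (nat_lit 845912) (nat_lit 36147) (nat_lit 952380)
  (.node (.node .nil (nat_lit 846872) (nat_lit 42611) (nat_lit 952620) .nil) (nat_lit 846920) (nat_lit 48531)
  (nat_lit 690492) .nil)) (nat_lit 846928) (nat_lit 13491) (nat_lit 919868) (.node (.node (.node .nil (nat_lit
  848520) (nat_lit 28163) (nat_lit 0x228e2c) .nil) (nat_lit 853732) (nat_lit 69810) (nat_lit 0x102d96) .nil)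
  (nat_lit 854126) (nat_lit 96771) (nat_lit 0x1b8056) (.node (.node .nil (nat_lit 855190) (nat_lit 32036)
  (nat_lit 0x436c44) .nil) (nat_lit 855608) (nat_lit 43154) (nat_lit 0x16298a) .nil))) (nat_lit 856876)
  (nat_lit 74130) (nat_lit 15258) (.node (.node (.node (.node .nil (nat_lit 860032) (nat_lit 92308) (nat_lit
  0x316464) .nil) (nat_lit 860270) (nat_lit 92948) (nat_lit 0x48cec0) .nil) (nat_lit 861608) (nat_lit 8865)
  (nat_lit 0x24e330) (.node (.node .nil (nat_lit 861958) (nat_lit 51169) (nat_lit 0x251332) .nil) (nat_lit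
  862254) (nat_lit 83043) (nat_lit 0x1b8066) .nil)) (nat_lit 862286) (nat_lit 80051) (nat_lit 0x1a8076) (.node
  (.node (.node .nil (nat_lit 862310) (nat_lit 59873) (nat_lit 0x26530a) .nil) (nat_lit 862314) (nat_lit
  75411) (nat_lit 0x1b8036) .nil) (nat_lit 862316) (nat_lit 38163) (nat_lit 0x1b8074) (.node (.node .nil
  (nat_lit 865864) (nat_lit 63393) (nat_lit 0x252368) .nil) (nat_lit 866834) (nat_lit 90865) (nat_lit
  0x271344) .nil))))) (nat_lit 869164) (nat_lit 79282) (nat_lit 0x40399a) (.node (.node (.node (.node (.node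
  (.node .nil (nat_lit 871690) (nat_lit 58964) (nat_lit 0x55c444) .nil) (nat_lit 872748) (nat_lit 90386)
  (nat_lit 0x401b9a) .nil) (nat_lit 873004) (nat_lit 88722) (nat_lit 0x402b9a) (.node (.node .nil (nat_lit
  873228) (nat_lit 82290) (nat_lit 0x403b1a) .nil) (nat_lit 873252) (nat_lit 96530) (nat_lit 0x403b92) .nil))
  (nat_lit 873256) (nat_lit 60065) (nat_lit 0x2163d0) (.node (.node (.node .nil (nat_lit 873624) (nat_lit
  3010) (nat_lit 0x540f0a) .nil) (nat_lit 875026) (nat_lit 69635) (nat_lit 0x3e0c06) .nil) (nat_lit 875588)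
  (nat_lit 41602) (nat_lit 0x520b16) (.node (.node .nil (nat_lit 877620) (nat_lit 11843) (nat_lit 0x170964)
  .nil) (nat_lit 877762) (nat_lit 34850) (nat_lit 0x510d46) .nil))) (nat_lit 879122) (nat_lit 73875) (nat_lit
  0x1e0c26) (.node (.node (.node (.node .nil (nat_lit 881170) (nat_lit 31795) (nat_lit 0x360c26) .nil)
  (nat_lit 882706) (nat_lit 82227) (nat_lit 0x3e0826) .nil) (nat_lit 883202) (nat_lit 59442) (nat_lit
  0x432b42) (.node (.node .nil (nat_lit 883216) (nat_lit 95091) (nat_lit 0x3e0c24) .nil) (nat_lit 885910)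
  (nat_lit 64468) (nat_lit 0x436c48) .nil)) (nat_lit 886184) (nat_lit 14529) (nat_lit 0x28e330) (.node (.node
  (.node .nil (nat_lit 886934) (nat_lit 38897) (nat_lit 0x2a9306) .nil) (nat_lit 887586) (nat_lit 59236)
  (nat_lit 0x50466c) .nil) (nat_lit 887830) (nat_lit 46180) (nat_lit 0x434c4c) (.node (.node .nil (nat_lit
  887942) (nat_lit 19700) (nat_lit 0x416c4c) .nil) (nat_lit 887954) (nat_lit 77476) (nat_lit 0x43644c)
  .nil)))) (nat_lit 887956) (nat_lit 65345) (nat_lit 0x2a8326) (.node (.node (.node (.node (.node .nil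
  (nat_lit 889414) (nat_lit 43219) (nat_lit 0x32045e) .nil) (nat_lit 889520) (nat_lit 2658) (nat_lit 307074)
  .nil) (nat_lit 893352) (nat_lit 25361) (nat_lit 0x2ce310) (.node (.node .nil (nat_lit 893468) (nat_lit
  41538) (nat_lit 370970) .nil) (nat_lit 894120) (nat_lit 22801) (nat_lit 0x2ce320) .nil)) (nat_lit 894248)
  (nat_lit 10321) (nat_lit 0x2c6330) (.node (.node (.node .nil (nat_lit 894344) (nat_lit 2833) (nat_lit
  0x2ca330) .nil) (nat_lit 894368) (nat_lit 11569) (nat_lit 0x2cc330) .nil) (nat_lit 895680) (nat_lit 58643)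
  (nat_lit 0x1a063c) (.node (.node .nil (nat_lit 901178) (nat_lit 73156) (nat_lit 0x46c648) .nil) (nat_lit
  901324) (nat_lit 53954) (nat_lit 0x408d1e) .nil))) (nat_lit 905602) (nat_lit 4612) (nat_lit 0x746448) (.node
  (.node (.node (.node .nil (nat_lit 911620) (nat_lit 3249) (nat_lit 0x2e0392) .nil) (nat_lit 913504) (nat_lit
  73027) (nat_lit 0x33083c) .nil) (nat_lit 917754) (nat_lit 74532) (nat_lit 0x4ae250) (.node (.node .nil
  (nat_lit 918350) (nat_lit 63297) (nat_lit 0x31321a) .nil) (nat_lit 918650) (nat_lit 32562) (nat_lit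
  0x1448ce) .nil)) (nat_lit 918714) (nat_lit 54980) (nat_lit 0x43e250) (.node (.node (.node .nil (nat_lit
  918746) (nat_lit 54884) (nat_lit 0x4be050) .nil) (nat_lit 918762) (nat_lit 29684) (nat_lit 0x49e250) .nil)
  (nat_lit 918770) (nat_lit 78676) (nat_lit 0x4b6250) (.node (.node .nil (nat_lit 918776) (nat_lit 30004)
  (nat_lit 778832) .nil) (nat_lit 919868) (nat_lit 5617) (nat_lit 0x326216) .nil)))))) (nat_lit 920466)
  (nat_lit 3809) (nat_lit 0x339214) (.node (.node (.node (.node (.node (.node (.node .nil (nat_lit 921028)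
  (nat_lit 86340) (nat_lit 0x196854) .nil) (nat_lit 923270) (nat_lit 2754) (nat_lit 0x106e52) .nil) (nat_lit
  924202) (nat_lit 74851) (nat_lit 0x2bc406) (.node (.node .nil (nat_lit 926380) (nat_lit 71457) (nat_lit
  0x35e202) .nil) (nat_lit 927172) (nat_lit 64244) (nat_lit 0x1968d0) .nil)) (nat_lit 928196) (nat_lit 62196)
  (nat_lit 0x1868d4) (.node (.node (.node .nil (nat_lit 928368) (nat_lit 14562) (nat_lit 485510) .nil)
  (nat_lit 928964) (nat_lit 86178) (nat_lit 0x134c16) .nil) (nat_lit 929092) (nat_lit 40980) (nat_lit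
  0x1948d4) (.node (.node .nil (nat_lit 929156) (nat_lit 39668) (nat_lit 0x1168d4) .nil) (nat_lit 929216)
  (nat_lit 83380) (nat_lit 0x1960d4) .nil))) (nat_lit 930580) (nat_lit 93604) (nat_lit 0x3248f0) (.node (.node
  (.node (.node .nil (nat_lit 931400) (nat_lit 76241) (nat_lit 0x352268) .nil) (nat_lit 935558) (nat_lit
  18851) (nat_lit 151366) .nil) (nat_lit 936022) (nat_lit 210) (nat_lit 0x464856) (.node (.node .nil (nat_lit
  937226) (nat_lit 62018) (nat_lit 0x52584a) .nil) (nat_lit 938290) (nat_lit 62531) (nat_lit 0x274886) .nil))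
  (nat_lit 938630) (nat_lit 25746) (nat_lit 0x406e52) (.node (.node (.node .nil (nat_lit 939142) (nat_lit
  22738) (nat_lit 0x504e52) .nil) (nat_lit 939526) (nat_lit 11506) (nat_lit 0x506a52) .nil) (nat_lit 939650)
  (nat_lit 18772) (nat_lit 0x656070) (.node (.node .nil (nat_lit 939652) (nat_lit 10274) (nat_lit 0x506e12)
  .nil) (nat_lit 940864) (nat_lit 26548) (nat_lit 0x3c4074) .nil)))) (nat_lit 942440) (nat_lit 30163) (nat_lit
  247988) (.node (.node (.node (.node (.node .nil (nat_lit 943156) (nat_lit 36963) (nat_lit 477540) .nil)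
  (nat_lit 946384) (nat_lit 35732) (nat_lit 0x2e60d0) .nil) (nat_lit 948236) (nat_lit 50004) (nat_lit
  0x24c8d4) (.node (.node .nil (nat_lit 950588) (nat_lit 29042) (nat_lit 317594) .nil) (nat_lit 951892)
  (nat_lit 2689) (nat_lit 0x39022e) .nil)) (nat_lit 952380) (nat_lit 16210) (nat_lit 444570) (.node (.node
  (.node .nil (nat_lit 952604) (nat_lit 15330) (nat_lit 448538) .nil) (nat_lit 952620) (nat_lit 19921)
  (nat_lit 0x3a6212) .nil) (nat_lit 952628) (nat_lit 12802) (nat_lit 448658) (.node (.node .nil (nat_lit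
  952632) (nat_lit 28210) (nat_lit 448650) .nil) (nat_lit 953992) (nat_lit 91441) (nat_lit 0x3ba220) .nil)))
  (nat_lit 955056) (nat_lit 4641) (nat_lit 0x39c244) (.node (.node (.node (.node .nil (nat_lit 957248)
  (nat_lit 31042) (nat_lit 195078) .nil) (nat_lit 966860) (nat_lit 16978) (nat_lit 0x40cc1e) .nil) (nat_lit
  968080) (nat_lit 93364) (nat_lit 0x176058) (.node (.node .nil (nat_lit 969536) (nat_lit 5988) (nat_lit
  0x1c407c) .nil) (nat_lit 971584) (nat_lit 35204) (nat_lit 0x3c4078) .nil)) (nat_lit 971816) (nat_lit 17889)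
  (nat_lit 0x3862e0) (.node (.node (.node .nil (nat_lit 973120) (nat_lit 51252) (nat_lit 0x3c405c) .nil)
  (nat_lit 973376) (nat_lit 23668) (nat_lit 0x2c407c) .nil) (nat_lit 973568) (nat_lit 20228) (nat_lit
  0x34407c) (.node (.node .nil (nat_lit 983462) (nat_lit 5220) (nat_lit 0x506e50) .nil) (nat_lit 986378)
  (nat_lit 43954) (nat_lit 0x12594a) .nil))))) (nat_lit 987166) (nat_lit 71780) (nat_lit 0x62cc50) (.node
  (.node (.node (.node (.node (.node .nil (nat_lit 987824) (nat_lit 321) (nat_lit 0x31c344) .nil) (nat_lit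
  988744) (nat_lit 30401) (nat_lit 0x312368) .nil) (nat_lit 989378) (nat_lit 18834) (nat_lit 151366) (.node
  (.node .nil (nat_lit 992308) (nat_lit 3155) (nat_lit 0x174164) .nil) (nat_lit 992840) (nat_lit 81777)
  (nat_lit 0x352328) .nil)) (nat_lit 993432) (nat_lit 36530) (nat_lit 478474) (.node (.node (.node .nil
  (nat_lit 995912) (nat_lit 72659) (nat_lit 0x32c434) .nil) (nat_lit 996424) (nat_lit 40337) (nat_lit
  0x342368) .nil) (nat_lit 996872) (nat_lit 68162) (nat_lit 0x116b0a) (.node (.node .nil (nat_lit 996928)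
  (nat_lit 73281) (nat_lit 0x350368) .nil) (nat_lit 997664) (nat_lit 92481) (nat_lit 0x364350) .nil)))
  (nat_lit 999628) (nat_lit 30996) (nat_lit 846928) (.node (.node (.node (.node .nil (nat_lit 0xf4262)
  (nat_lit 57281) (nat_lit 0x315388) .nil) (nat_lit 0xf4434) (nat_lit 9155) (nat_lit 0x174944) .nil) (nat_lit
  0xf450a) (nat_lit 53730) (nat_lit 0x50594a) (.node (.node .nil (nat_lit 0xf490a) (nat_lit 57124) (nat_lit
  0x54c454) .nil) (nat_lit 0xf4c0a) (nat_lit 54820) (nat_lit 0x45c454) .nil)) (nat_lit 0xf4d02) (nat_lit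
  45332) (nat_lit 0x554454) (.node (.node (.node .nil (nat_lit 0xf4d08) (nat_lit 18436) (nat_lit 0x15c454)
  .nil) (nat_lit 0xf6034) (nat_lit 13427) (nat_lit 0x174864) .nil) (nat_lit 0xf6380) (nat_lit 46020) (nat_lit
  0x1464f0) (.node (.node .nil (nat_lit 0xf6414) (nat_lit 14883) (nat_lit 0x164964) .nil) (nat_lit 0xf6424)
  (nat_lit 22371) (nat_lit 0x134964) .nil)))) (nat_lit 0xf6430) (nat_lit 10611) (nat_lit 0x174924) (.node
  (.node (.node (.node (.node .nil (nat_lit 0xf80cc) (nat_lit 44242) (nat_lit 52510) .nil) (nat_lit 0xf82b0)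
  (nat_lit 10068) (nat_lit 157304) .nil) (nat_lit 0xf8c60) (nat_lit 83956) (nat_lit 607836) (.node (.node .nil
  (nat_lit 0xf90b0) (nat_lit 1953) (nat_lit 0x38c344) .nil) (nat_lit 0xf9230) (nat_lit 1649) (nat_lit
  0x394344) .nil)) (nat_lit 0xf9290) (nat_lit 1345) (nat_lit 0x398344) (.node (.node (.node .nil (nat_lit
  0xf92a0) (nat_lit 2276) (nat_lit 0x206678) .nil) (nat_lit 0xf9504) (nat_lit 49140) (nat_lit 0x314c58) .nil)
  (nat_lit 0xfc04c) (nat_lit 49666) (nat_lit 0x40c91e) (.node (.node .nil (nat_lit 0xfc08c) (nat_lit 80130)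
  (nat_lit 0x40cd1a) .nil) (nat_lit 0xfc0c4) (nat_lit 38370) (nat_lit 0x40cd16) .nil))) (nat_lit 0xfc0c8)
  (nat_lit 35393) (nat_lit 0x38a388) (.node (.node (.node (.node .nil (nat_lit 0x1002fe) (nat_lit 59393)
  (nat_lit 128014) .nil) (nat_lit 0x1015e6) (nat_lit 97025) (nat_lit 54394) .nil) (nat_lit 0x1019bc) (nat_lit
  30690) (nat_lit 0x261698) (.node (.node .nil (nat_lit 0x101eb2) (nat_lit 42931) (nat_lit 0x2d2702) .nil)
  (nat_lit 0x1020fe) (nat_lit 97553) (nat_lit 324622) .nil)) (nat_lit 0x10227e) (nat_lit 69745) (nat_lit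
  357390) (.node (.node (.node .nil (nat_lit 0x1022be) (nat_lit 96657) (nat_lit 390150) .nil) (nat_lit
  0x1022de) (nat_lit 89313) (nat_lit 373774) .nil) (nat_lit 0x1022ee) (nat_lit 68401) (nat_lit 390154) (.node
  (.node .nil (nat_lit 0x1022f6) (nat_lit 85601) (nat_lit 381966) .nil) (nat_lit 0x1022fa) (nat_lit 96209)
  (nat_lit 390156) .nil)))))))
def t6160_6 : T := (.node (.node (.node (.node (.node (.node (.node (.node .nil (nat_lit 0x102d96) (nat_lit
  39281) (nat_lit 431158) .nil) (nat_lit 0x102f38) (nat_lit 26899) (nat_lit 894368) (.node .nil (nat_lit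
  0x10378c) (nat_lit 81748) (nat_lit 0x31a9a0) .nil)) (nat_lit 0x103972) (nat_lit 97346) (nat_lit 0x2712c4)
  (.node (.node .nil (nat_lit 0x103c2e) (nat_lit 18931) (nat_lit 0x29a162) .nil) (nat_lit 0x103cd8) (nat_lit
  2851) (nat_lit 0x2ca330) .nil)) (nat_lit 0x10476c) (nat_lit 30499) (nat_lit 110032) (.node (.node (.node
  .nil (nat_lit 0x10479a) (nat_lit 402) (nat_lit 0x743448) .nil) (nat_lit 0x1049bc) (nat_lit 78962) (nat_lit
  0x661498) .nil) (nat_lit 0x104cce) (nat_lit 24932) (nat_lit 0x4da904) (.node (.node .nil (nat_lit 0x1051bc)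
  (nat_lit 80196) (nat_lit 0x36ab00) .nil) (nat_lit 0x10547a) (nat_lit 61235) (nat_lit 0x25a912) .nil)))
  (nat_lit 0x1056d4) (nat_lit 61042) (nat_lit 0x742614) (.node (.node (.node (.node .nil (nat_lit 0x1058bc)
  (nat_lit 76146) (nat_lit 0x660698) .nil) (nat_lit 0x10593c) (nat_lit 38804) (nat_lit 0x368b04) .nil)
  (nat_lit 0x10599c) (nat_lit 40001) (nat_lit 173270) (.node (.node .nil (nat_lit 0x1059ac) (nat_lit 85330)
  (nat_lit 0x621698) .nil) (nat_lit 0x1059b4) (nat_lit 73394) (nat_lit 0x661690) .nil)) (nat_lit 0x1059b8)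
  (nat_lit 40130) (nat_lit 0x661688) (.node (.node (.node .nil (nat_lit 0x105a66) (nat_lit 27539) (nat_lit
  0x292c52) .nil) (nat_lit 0x1065f0) (nat_lit 8562) (nat_lit 0x751484) .nil) (nat_lit 0x106b0e) (nat_lit
  67794) (nat_lit 0x633058) (.node (.node .nil (nat_lit 0x106e52) (nat_lit 1041) (nat_lit 464044) .nil)
  (nat_lit 0x106ea4) (nat_lit 40257) (nat_lit 509090) .nil)))) (nat_lit 0x107358) (nat_lit 94051) (nat_lit
  0x24acb0) (.node (.node (.node (.node (.node .nil (nat_lit 0x107d44) (nat_lit 2595) (nat_lit 0x2829f0) .nil)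
  (nat_lit 0x1085dc) (nat_lit 38594) (nat_lit 0x34941c) .nil) (nat_lit 0x10896e) (nat_lit 78340) (nat_lit
  0x588b0c) (.node (.node .nil (nat_lit 0x108f38) (nat_lit 6819) (nat_lit 894344) .nil) (nat_lit 0x109374)
  (nat_lit 98164) (nat_lit 0x3a0b28) .nil)) (nat_lit 0x10947a) (nat_lit 75201) (nat_lit 554092) (.node (.node
  (.node .nil (nat_lit 0x1098d6) (nat_lit 16722) (nat_lit 0x268654) .nil) (nat_lit 0x109d8a) (nat_lit 45362)
  (nat_lit 0x329648) .nil) (nat_lit 0x10a738) (nat_lit 12627) (nat_lit 370088) (.node (.node .nil (nat_lit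
  0x10ab38) (nat_lit 33601) (nat_lit 0xf6414) .nil) (nat_lit 0x10ace2) (nat_lit 39073) (nat_lit 971816)
  .nil))) (nat_lit 0x10ad38) (nat_lit 51331) (nat_lit 893352) (.node (.node (.node (.node .nil (nat_lit
  0x10ae38) (nat_lit 23971) (nat_lit 894248) .nil) (nat_lit 0x10af18) (nat_lit 7633) (nat_lit 992308) .nil)
  (nat_lit 0x10af28) (nat_lit 17538) (nat_lit 0x33b088) (.node (.node .nil (nat_lit 0x10af30) (nat_lit 20643)
  (nat_lit 861608) .nil) (nat_lit 0x10b11e) (nat_lit 63908) (nat_lit 0x728988) .nil)) (nat_lit 0x10b1e8)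
  (nat_lit 29155) (nat_lit 0x21a2b8) (.node (.node (.node .nil (nat_lit 0x10b4b4) (nat_lit 46724) (nat_lit
  0x232b88) .nil) (nat_lit 0x10ba4a) (nat_lit 70929) (nat_lit 996424) .nil) (nat_lit 0x10bd44) (nat_lit 3826)
  (nat_lit 0x339214) (.node (.node .nil (nat_lit 0x10c47a) (nat_lit 41555) (nat_lit 370970) .nil) (nat_lit
  0x10ca5c) (nat_lit 42628) (nat_lit 952620) .nil))))) (nat_lit 0x10caaa) (nat_lit 96915) (nat_lit 634378)
  (.node (.node (.node (.node (.node (.node .nil (nat_lit 0x10d07a) (nat_lit 37777) (nat_lit 554188) .nil)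
  (nat_lit 0x10d43a) (nat_lit 86898) (nat_lit 0x7482c8) .nil) (nat_lit 0x10d45a) (nat_lit 90850) (nat_lit
  0x74824c) (.node (.node .nil (nat_lit 0x10d46a) (nat_lit 76611) (nat_lit 0x21a91a) .nil) (nat_lit 0x10d472)
  (nat_lit 83763) (nat_lit 0x25291a) .nil)) (nat_lit 0x10d478) (nat_lit 90067) (nat_lit 0x25a918) (.node
  (.node (.node .nil (nat_lit 0x10d7a0) (nat_lit 26243) (nat_lit 0x212f88) .nil) (nat_lit 0x10db12) (nat_lit
  23812) (nat_lit 0x76012c) .nil) (nat_lit 0x10dd44) (nat_lit 19314) (nat_lit 0x729214) (.node (.node .nil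
  (nat_lit 0x10e362) (nat_lit 6948) (nat_lit 0x5c03a8) .nil) (nat_lit 0x10e394) (nat_lit 34772) (nat_lit
  0x1629a8) .nil))) (nat_lit 0x10e6c8) (nat_lit 47409) (nat_lit 894120) (.node (.node (.node (.node .nil
  (nat_lit 0x10e836) (nat_lit 47265) (nat_lit 939142) .nil) (nat_lit 0x10ed44) (nat_lit 5026) (nat_lit
  0x739014) .nil) (nat_lit 0x10f22c) (nat_lit 49378) (nat_lit 0x61a298) (.node (.node .nil (nat_lit 0x10f544)
  (nat_lit 1250) (nat_lit 0x719214) .nil) (nat_lit 0x10f944) (nat_lit 5251) (nat_lit 0x2828f8) .nil)) (nat_lit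
  0x10fc44) (nat_lit 11234) (nat_lit 0x738214) (.node (.node (.node .nil (nat_lit 0x10fd04) (nat_lit 9986)
  (nat_lit 0x739210) .nil) (nat_lit 0x10fd40) (nat_lit 13012) (nat_lit 0x3d018c) .nil) (nat_lit 0x11053e)
  (nat_lit 98113) (nat_lit 30006) (.node (.node .nil (nat_lit 0x110e6a) (nat_lit 55764) (nat_lit 0x498724)
  .nil) (nat_lit 0x110e9c) (nat_lit 62228) (nat_lit 240932) .nil)))) (nat_lit 0x111396) (nat_lit 94948)
  (nat_lit 0x722d20) (.node (.node (.node (.node (.node .nil (nat_lit 0x111972) (nat_lit 75441) (nat_lit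
  152924) .nil) (nat_lit 0x111d8a) (nat_lit 13298) (nat_lit 0x321748) .nil) (nat_lit 0x111f24) (nat_lit 69793)
  (nat_lit 214386) (.node (.node .nil (nat_lit 0x112754) (nat_lit 51139) (nat_lit 0x1425f0) .nil) (nat_lit
  0x1127a2) (nat_lit 78641) (nat_lit 382256) .nil)) (nat_lit 0x112972) (nat_lit 62913) (nat_lit 415004) (.node
  (.node (.node .nil (nat_lit 0x112b0e) (nat_lit 75249) (nat_lit 472338) .nil) (nat_lit 0x113172) (nat_lit
  91665) (nat_lit 283996) .nil) (nat_lit 0x1134b4) (nat_lit 23396) (nat_lit 0x232f80) (.node (.node .nil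
  (nat_lit 0x11361a) (nat_lit 56483) (nat_lit 0x34a522) .nil) (nat_lit 0x113872) (nat_lit 83073) (nat_lit
  415052) .nil))) (nat_lit 0x113932) (nat_lit 86689) (nat_lit 415060) (.node (.node (.node (.node .nil
  (nat_lit 0x113952) (nat_lit 38867) (nat_lit 0x3c20b2) .nil) (nat_lit 0x113962) (nat_lit 38193) (nat_lit
  415064) .nil) (nat_lit 0x113970) (nat_lit 64913) (nat_lit 410972) (.node (.node .nil (nat_lit 0x113aa8)
  (nat_lit 5474) (nat_lit 0x232788) .nil) (nat_lit 0x1141ea) (nat_lit 24500) (nat_lit 0x5ca700) .nil))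
  (nat_lit 0x114b0e) (nat_lit 60243) (nat_lit 0x18acc2) (.node (.node (.node .nil (nat_lit 0x114d58) (nat_lit
  34131) (nat_lit 0x1ca990) .nil) (nat_lit 0x115742) (nat_lit 73842) (nat_lit 0x703344) .nil) (nat_lit
  0x115c16) (nat_lit 38466) (nat_lit 0x760350) (.node (.node .nil (nat_lit 0x115ce0) (nat_lit 13844) (nat_lit
  0x2d2704) .nil) (nat_lit 0x11630e) (nat_lit 69571) (nat_lit 0x10ace2) .nil)))))) (nat_lit 0x116466) (nat_lit
  61457) (nat_lit 284074) (.node (.node (.node (.node (.node (.node (.node .nil (nat_lit 0x1166c8) (nat_lit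
  12593) (nat_lit 370088) .nil) (nat_lit 0x1168d4) (nat_lit 18179) (nat_lit 0x1c2a70) .nil) (nat_lit 0x11690e)
  (nat_lit 60401) (nat_lit 406930) (.node (.node .nil (nat_lit 0x116a0e) (nat_lit 82993) (nat_lit 472450)
  .nil) (nat_lit 0x116b06) (nat_lit 96323) (nat_lit 0x182ce2) .nil)) (nat_lit 0x116b0a) (nat_lit 37841)
  (nat_lit 472464) (.node (.node (.node .nil (nat_lit 0x116b0c) (nat_lit 90835) (nat_lit 0x18ace0) .nil)
  (nat_lit 0x117528) (nat_lit 5681) (nat_lit 288240) .nil) (nat_lit 0x11835a) (nat_lit 33908) (nat_lit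
  0x5a8528) (.node (.node .nil (nat_lit 0x1183ac) (nat_lit 32081) (nat_lit 648466) .nil) (nat_lit 0x1188f8)
  (nat_lit 31395) (nat_lit 0x1da218) .nil))) (nat_lit 0x118d8a) (nat_lit 52690) (nat_lit 0x329548) (.node
  (.node (.node (.node .nil (nat_lit 0x1192e2) (nat_lit 12145) (nat_lit 644424) .nil) (nat_lit 0x1194b4)
  (nat_lit 24900) (nat_lit 0x232f08) .nil) (nat_lit 0x11958a) (nat_lit 35812) (nat_lit 0x71a508) (.node (.node
  .nil (nat_lit 0x11998a) (nat_lit 50545) (nat_lit 701776) .nil) (nat_lit 0x119c8a) (nat_lit 18482) (nat_lit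
  0x328748) .nil)) (nat_lit 0x119d0a) (nat_lit 18273) (nat_lit 669040) (.node (.node (.node .nil (nat_lit
  0x119d82) (nat_lit 54689) (nat_lit 693616) .nil) (nat_lit 0x119d88) (nat_lit 35427) (nat_lit 0x38a388) .nil)
  (nat_lit 0x119e50) (nat_lit 19169) (nat_lit 722284) (.node (.node .nil (nat_lit 0x11a1c6) (nat_lit 98052)
  (nat_lit 0x582d88) .nil) (nat_lit 0x11a4b4) (nat_lit 48020) (nat_lit 208776) .nil)))) (nat_lit 0x11a6c8)
  (nat_lit 23937) (nat_lit 894248) (.node (.node (.node (.node (.node .nil (nat_lit 0x11aa64) (nat_lit 47940)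
  (nat_lit 528300) .nil) (nat_lit 0x11aa92) (nat_lit 49442) (nat_lit 0x27a540) .nil) (nat_lit 0x11b0b4)
  (nat_lit 34836) (nat_lit 0x222f88) (.node (.node .nil (nat_lit 0x11b434) (nat_lit 21556) (nat_lit 0x230f88)
  .nil) (nat_lit 0x11b494) (nat_lit 19860) (nat_lit 0x232d88) .nil)) (nat_lit 0x11b4a4) (nat_lit 26260)
  (nat_lit 0x212f88) (.node (.node (.node .nil (nat_lit 0x11b4b0) (nat_lit 5508) (nat_lit 0x232788) .nil)
  (nat_lit 0x11c09e) (nat_lit 41138) (nat_lit 0x648558) .nil) (nat_lit 0x11c6c8) (nat_lit 18083) (nat_lit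
  0x10af18) (.node (.node .nil (nat_lit 0x11cc2c) (nat_lit 75651) (nat_lit 0x19a948) .nil) (nat_lit 0x11d126)
  (nat_lit 10500) (nat_lit 0x740f08) .nil))) (nat_lit 0x11d1d0) (nat_lit 50196) (nat_lit 0x3e2508) (.node
  (.node (.node (.node .nil (nat_lit 0x11da84) (nat_lit 18900) (nat_lit 0x242d2c) .nil) (nat_lit 0x11e2c8)
  (nat_lit 6785) (nat_lit 894344) .nil) (nat_lit 0x11e4c8) (nat_lit 6836) (nat_lit 894344) (.node (.node .nil
  (nat_lit 0x11e512) (nat_lit 46883) (nat_lit 0x1429aa) .nil) (nat_lit 0x11e648) (nat_lit 20609) (nat_lit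
  861608) .nil)) (nat_lit 0x11e688) (nat_lit 12644) (nat_lit 370088) (.node (.node (.node .nil (nat_lit
  0x11e6c0) (nat_lit 20660) (nat_lit 861608) .nil) (nat_lit 0x11e9a0) (nat_lit 42435) (nat_lit 0x192aa8) .nil)
  (nat_lit 0x11f818) (nat_lit 68388) (nat_lit 0x26858c) (.node (.node .nil (nat_lit 0x1205e6) (nat_lit 91875)
  (nat_lit 91090) .nil) (nat_lit 0x12079a) (nat_lit 1426) (nat_lit 0x347448) .nil))))) (nat_lit 0x120b36)
  (nat_lit 64579) (nat_lit 877762) (.node (.node (.node (.node (.node (.node .nil (nat_lit 0x120e6a) (nat_lit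
  32115) (nat_lit 648466) .nil) (nat_lit 0x1211e6) (nat_lit 88628) (nat_lit 0x782b10) .nil) (nat_lit 0x1214e6)
  (nat_lit 90547) (nat_lit 0x216352) (.node (.node .nil (nat_lit 0x121566) (nat_lit 72242) (nat_lit 0x3052d4)
  .nil) (nat_lit 0x1215a6) (nat_lit 94259) (nat_lit 0x2163c2) .nil)) (nat_lit 0x1215c6) (nat_lit 92339)
  (nat_lit 0x2063d2) (.node (.node (.node .nil (nat_lit 0x1215e2) (nat_lit 96739) (nat_lit 0x216392) .nil)
  (nat_lit 0x1215e4) (nat_lit 60099) (nat_lit 0x2163d0) .nil) (nat_lit 0x12163c) (nat_lit 80963) (nat_lit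
  0x25e540) (.node (.node .nil (nat_lit 0x121a8e) (nat_lit 977) (nat_lit 0x13b442) .nil) (nat_lit 0x121cd8)
  (nat_lit 25379) (nat_lit 0x2ce310) .nil))) (nat_lit 0x122754) (nat_lit 5715) (nat_lit 288240) (.node (.node
  (.node (.node .nil (nat_lit 0x1229aa) (nat_lit 9459) (nat_lit 647842) .nil) (nat_lit 0x122cd8) (nat_lit
  5299) (nat_lit 844592) .nil) (nat_lit 0x122ea4) (nat_lit 68212) (nat_lit 76724) (.node (.node .nil (nat_lit
  0x12311e) (nat_lit 66164) (nat_lit 0x728990) .nil) (nat_lit 0x1233b0) (nat_lit 18385) (nat_lit 0x15c454)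
  .nil)) (nat_lit 0x1234d8) (nat_lit 8883) (nat_lit 0x24e330) (.node (.node (.node .nil (nat_lit 0x1238d8)
  (nat_lit 26195) (nat_lit 0x2ce230) .nil) (nat_lit 0x123c58) (nat_lit 25795) (nat_lit 0x2ce130) .nil)
  (nat_lit 0x123c98) (nat_lit 22819) (nat_lit 0x2ce320) (.node (.node .nil (nat_lit 0x123cc8) (nat_lit 14516)
  (nat_lit 0x29a194) .nil) (nat_lit 0x123cd0) (nat_lit 10339) (nat_lit 0x2c6330) .nil)))) (nat_lit 0x123f02)
  (nat_lit 68740) (nat_lit 0x7101b4) (.node (.node (.node (.node (.node .nil (nat_lit 0x12439a) (nat_lit 6963)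
  (nat_lit 323202) .nil) (nat_lit 0x12459a) (nat_lit 3954) (nat_lit 0x745448) .nil) (nat_lit 0x12469a)
  (nat_lit 2547) (nat_lit 323330) (.node (.node .nil (nat_lit 0x12471a) (nat_lit 2018) (nat_lit 0x747048)
  .nil) (nat_lit 0x12478a) (nat_lit 2340) (nat_lit 0x55a130) .nil)) (nat_lit 0x124792) (nat_lit 1730) (nat_lit
  0x747440) (.node (.node (.node .nil (nat_lit 0x124798) (nat_lit 4130) (nat_lit 0x747408) .nil) (nat_lit
  0x1248f2) (nat_lit 94339) (nat_lit 879122) .nil) (nat_lit 0x124a5c) (nat_lit 29572) (nat_lit 952628) (.node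
  (.node .nil (nat_lit 0x124ea4) (nat_lit 76019) (nat_lit 618304) .nil) (nat_lit 0x1252e8) (nat_lit 2868)
  (nat_lit 0x2ca330) .nil))) (nat_lit 0x12594a) (nat_lit 20673) (nat_lit 0x1234d8) (.node (.node (.node (.node
  .nil (nat_lit 0x125c16) (nat_lit 69203) (nat_lit 0x2c6942) .nil) (nat_lit 0x1261cc) (nat_lit 33921) (nat_lit
  0x14a49a) .nil) (nat_lit 0x126362) (nat_lit 42564) (nat_lit 0x5c03b0) (.node (.node .nil (nat_lit 0x1266a4)
  (nat_lit 71252) (nat_lit 338864) .nil) (nat_lit 0x126aa4) (nat_lit 30289) (nat_lit 0x17c482) .nil)) (nat_lit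
  0x126ca4) (nat_lit 80529) (nat_lit 0x16c4a2) (.node (.node (.node .nil (nat_lit 0x126e24) (nat_lit 59652)
  (nat_lit 330676) .nil) (nat_lit 0x126e84) (nat_lit 73201) (nat_lit 0x1784a2) .nil) (nat_lit 0x126ea0)
  (nat_lit 39891) (nat_lit 618272) (.node (.node .nil (nat_lit 0x127074) (nat_lit 26084) (nat_lit 0x2e0b90)
  .nil) (nat_lit 0x127528) (nat_lit 45985) (nat_lit 0x1464f0) .nil)))))))
def t6160_7 : T := (.node (.node (.node (.node (.node (.node (.node (.node .nil (nat_lit 0x1286f0) (nat_lit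
  82132) (nat_lit 729912) .nil) (nat_lit 0x128a5c) (nat_lit 48548) (nat_lit 690492) .nil) (nat_lit 0x128d52)
  (nat_lit 85377) (nat_lit 0x1a143c) (.node (.node .nil (nat_lit 0x12911e) (nat_lit 87396) (nat_lit 0x728918)
  .nil) (nat_lit 0x129748) (nat_lit 47953) (nat_lit 0x192478) .nil)) (nat_lit 0x12a11e) (nat_lit 84179)
  (nat_lit 319722) (.node (.node (.node .nil (nat_lit 0x12a362) (nat_lit 26980) (nat_lit 0x5803b8) .nil)
  (nat_lit 0x12a46c) (nat_lit 68322) (nat_lit 0x31c09c) .nil) (nat_lit 0x12aa92) (nat_lit 16562) (nat_lit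
  0x27e440) (.node (.node .nil (nat_lit 0x12b01e) (nat_lit 66067) (nat_lit 0x24e06a) .nil) (nat_lit 0x12b10e)
  (nat_lit 96980) (nat_lit 0x708998) .nil))) (nat_lit 0x12b116) (nat_lit 94612) (nat_lit 0x720998) (.node
  (.node (.node (.node .nil (nat_lit 0x12b11a) (nat_lit 94579) (nat_lit 0x24e0aa) .nil) (nat_lit 0x12b11c)
  (nat_lit 84260) (nat_lit 0x328998) .nil) (nat_lit 0x12b2c4) (nat_lit 2259) (nat_lit 0x206678) (.node (.node
  .nil (nat_lit 0x12c25c) (nat_lit 55716) (nat_lit 952632) .nil) (nat_lit 0x12c362) (nat_lit 24068) (nat_lit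
  0x5c0338) .nil)) (nat_lit 0x12c534) (nat_lit 76723) (nat_lit 354760) (.node (.node (.node .nil (nat_lit
  0x12c85c) (nat_lit 34532) (nat_lit 952604) .nil) (nat_lit 0x12c986) (nat_lit 70978) (nat_lit 0x62d450) .nil)
  (nat_lit 0x12ca1c) (nat_lit 78995) (nat_lit 846920) (.node (.node .nil (nat_lit 0x12ca4c) (nat_lit 52740)
  (nat_lit 821564) .nil) (nat_lit 0x12ca54) (nat_lit 13508) (nat_lit 919868) .nil)))) (nat_lit 0x12ca58)
  (nat_lit 56161) (nat_lit 0x1b248c) (.node (.node (.node (.node (.node .nil (nat_lit 0x12d1d0) (nat_lit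
  17748) (nat_lit 0x3e2118) .nil) (nat_lit 0x12d48c) (nat_lit 88371) (nat_lit 0x20eb48) .nil) (nat_lit
  0x12e0b8) (nat_lit 46084) (nat_lit 435096) (.node (.node .nil (nat_lit 0x12e162) (nat_lit 29812) (nat_lit
  0x5c0398) .nil) (nat_lit 0x12e262) (nat_lit 51380) (nat_lit 0x4c03b8) .nil)) (nat_lit 0x12e322) (nat_lit
  12772) (nat_lit 0x5403b8) (.node (.node (.node .nil (nat_lit 0x12e342) (nat_lit 34596) (nat_lit 0x5c01b8)
  .nil) (nat_lit 0x12e360) (nat_lit 13252) (nat_lit 0x1c03b8) .nil) (nat_lit 0x12ec0a) (nat_lit 87137)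
  (nat_lit 0x1e34a0) (.node (.node .nil (nat_lit 0x12f610) (nat_lit 45268) (nat_lit 0x2701b8) .nil) (nat_lit
  0x1303ac) (nat_lit 43924) (nat_lit 0x10af30) .nil))) (nat_lit 0x13066a) (nat_lit 13633) (nat_lit 0x117528)
  (.node (.node (.node (.node .nil (nat_lit 0x130754) (nat_lit 50963) (nat_lit 0x1465d0) .nil) (nat_lit
  0x130a6a) (nat_lit 55363) (nat_lit 0x19e412) .nil) (nat_lit 0x130c6a) (nat_lit 51075) (nat_lit 0x19e112)
  (.node (.node .nil (nat_lit 0x130db0) (nat_lit 76916) (nat_lit 0x132714) .nil) (nat_lit 0x130e2a) (nat_lit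
  46227) (nat_lit 0x19e502) .nil)) (nat_lit 0x130e4a) (nat_lit 19763) (nat_lit 0x18e512) (.node (.node (.node
  .nil (nat_lit 0x130e62) (nat_lit 42737) (nat_lit 0x135528) .nil) (nat_lit 0x130e68) (nat_lit 34916) (nat_lit
  624436) .nil) (nat_lit 0x1310ba) (nat_lit 3313) (nat_lit 0x10f544) (.node (.node .nil (nat_lit 0x131b18)
  (nat_lit 77633) (nat_lit 0x132554) .nil) (nat_lit 0x131c16) (nat_lit 69395) (nat_lit 0x3c6142) .nil)))))
  (nat_lit 0x132354) (nat_lit 46003) (nat_lit 0x1464f0) (.node (.node (.node (.node (.node (.node .nil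
  (nat_lit 0x13248e) (nat_lit 16660) (nat_lit 0x41ad90) .nil) (nat_lit 0x132554) (nat_lit 47059) (nat_lit
  0x1461f0) .nil) (nat_lit 0x132654) (nat_lit 26403) (nat_lit 0x146570) (.node (.node .nil (nat_lit 0x132714)
  (nat_lit 46259) (nat_lit 0x1465e0) .nil) (nat_lit 0x132744) (nat_lit 20019) (nat_lit 0x1065f0) .nil))
  (nat_lit 0x132750) (nat_lit 19475) (nat_lit 0x1465b0) (.node (.node (.node .nil (nat_lit 0x13283c) (nat_lit
  54738) (nat_lit 0x274198) .nil) (nat_lit 0x132a92) (nat_lit 29394) (nat_lit 0x276540) .nil) (nat_lit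
  0x133226) (nat_lit 60082) (nat_lit 0x2163d0) (.node (.node .nil (nat_lit 0x133528) (nat_lit 26369) (nat_lit
  0x146570) .nil) (nat_lit 0x133984) (nat_lit 17923) (nat_lit 0x3862e0) .nil))) (nat_lit 0x1342c6) (nat_lit
  2771) (nat_lit 0x106e52) (.node (.node (.node (.node .nil (nat_lit 0x134964) (nat_lit 9633) (nat_lit
  0x12459a) .nil) (nat_lit 0x134c16) (nat_lit 58851) (nat_lit 0x1c6942) .nil) (nat_lit 0x1351d0) (nat_lit
  68961) (nat_lit 0x1085dc) (.node (.node .nil (nat_lit 0x135416) (nat_lit 83122) (nat_lit 0x744350) .nil)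
  (nat_lit 0x135528) (nat_lit 19985) (nat_lit 0x1065f0) .nil)) (nat_lit 0x135816) (nat_lit 70627) (nat_lit
  0x3c6842) (.node (.node (.node .nil (nat_lit 0x135c06) (nat_lit 95923) (nat_lit 0x386942) .nil) (nat_lit
  0x135c12) (nat_lit 70020) (nat_lit 0x670514) .nil) (nat_lit 0x135c14) (nat_lit 87764) (nat_lit 0x270d14)
  (.node (.node .nil (nat_lit 0x13605a) (nat_lit 49203) (nat_lit 0x14e832) .nil) (nat_lit 0x136528) (nat_lit
  19457) (nat_lit 0x1465b0) .nil)))) (nat_lit 0x137128) (nat_lit 50945) (nat_lit 0x1465d0) (.node (.node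
  (.node (.node (.node .nil (nat_lit 0x137428) (nat_lit 36818) (nat_lit 0x714388) .nil) (nat_lit 0x137508)
  (nat_lit 51121) (nat_lit 0x1425f0) .nil) (nat_lit 0x137520) (nat_lit 23489) (nat_lit 0x1445f0) (.node (.node
  .nil (nat_lit 0x137a40) (nat_lit 56897) (nat_lit 0x1705c8) .nil) (nat_lit 0x138076) (nat_lit 70356) (nat_lit
  0x4a0f18) .nil)) (nat_lit 0x1381ac) (nat_lit 16275) (nat_lit 0x11e2c8) (.node (.node (.node .nil (nat_lit
  0x1382ac) (nat_lit 43875) (nat_lit 0x11e648) .nil) (nat_lit 0x13832c) (nat_lit 16420) (nat_lit 0x108f38)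
  .nil) (nat_lit 0x13838c) (nat_lit 77987) (nat_lit 0x10e6c8) (.node (.node .nil (nat_lit 0x1383a4) (nat_lit
  29107) (nat_lit 0x1166c8) .nil) (nat_lit 0x1383a8) (nat_lit 29220) (nat_lit 0x10a738) .nil))) (nat_lit
  0x138a92) (nat_lit 44018) (nat_lit 0x26e540) (.node (.node (.node (.node .nil (nat_lit 0x138cc4) (nat_lit
  59524) (nat_lit 601372) .nil) (nat_lit 0x1391d0) (nat_lit 60785) (nat_lit 0x18855c) .nil) (nat_lit 0x13a292)
  (nat_lit 80946) (nat_lit 0x25e540) (.node (.node .nil (nat_lit 0x13a892) (nat_lit 53778) (nat_lit 0x27c540)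
  .nil) (nat_lit 0x13a948) (nat_lit 54353) (nat_lit 0x1e2518) .nil)) (nat_lit 0x13aa12) (nat_lit 57618)
  (nat_lit 0x27e140) (.node (.node (.node .nil (nat_lit 0x13aa82) (nat_lit 64322) (nat_lit 0x23e540) .nil)
  (nat_lit 0x13aa90) (nat_lit 73298) (nat_lit 0x27e500) .nil) (nat_lit 0x13b442) (nat_lit 338) (nat_lit
  0x31c344) (.node (.node .nil (nat_lit 0x13c1d0) (nat_lit 54372) (nat_lit 0x1e2518) .nil) (nat_lit 0x13c4a2)
  (nat_lit 61698) (nat_lit 0x70c5c0) .nil)))))) (nat_lit 0x13cf00) (nat_lit 69505) (nat_lit 0x1b05b0) (.node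
  (.node (.node (.node (.node (.node (.node .nil (nat_lit 0x13d0d0) (nat_lit 44868) (nat_lit 0x2e2518) .nil)
  (nat_lit 0x13d150) (nat_lit 71283) (nat_lit 0x346898) .nil) (nat_lit 0x13d190) (nat_lit 41905) (nat_lit
  0x1885d4) (.node (.node .nil (nat_lit 0x13d1c0) (nat_lit 72228) (nat_lit 0x3c2518) .nil) (nat_lit 0x13d20a)
  (nat_lit 76580) (nat_lit 0x648538) .nil)) (nat_lit 0x14053e) (nat_lit 97636) (nat_lit 0x53cb00) (.node
  (.node (.node .nil (nat_lit 0x140cce) (nat_lit 36177) (nat_lit 177706) .nil) (nat_lit 0x140eb2) (nat_lit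
  69780) (nat_lit 0x436324) .nil) (nat_lit 0x1411da) (nat_lit 65876) (nat_lit 0x7ae100) (.node (.node .nil
  (nat_lit 0x141374) (nat_lit 63329) (nat_lit 83550) .nil) (nat_lit 0x1416b2) (nat_lit 74673) (nat_lit 120420)
  .nil))) (nat_lit 0x14178c) (nat_lit 75027) (nat_lit 0x20a7c4) (.node (.node (.node (.node .nil (nat_lit
  0x141ab2) (nat_lit 60961) (nat_lit 251460) .nil) (nat_lit 0x141cb2) (nat_lit 35361) (nat_lit 185956) .nil)
  (nat_lit 0x141d68) (nat_lit 5394) (nat_lit 0x32128e) (.node (.node .nil (nat_lit 0x141e32) (nat_lit 77683)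
  (nat_lit 0x2d2506) .nil) (nat_lit 0x141e92) (nat_lit 64689) (nat_lit 235108) .nil)) (nat_lit 0x141ea2)
  (nat_lit 52947) (nat_lit 0x292706) (.node (.node (.node .nil (nat_lit 0x141eb0) (nat_lit 13827) (nat_lit
  0x2d2704) .nil) (nat_lit 0x1425f0) (nat_lit 25234) (nat_lit 0x351486) .nil) (nat_lit 0x14278c) (nat_lit
  73188) (nat_lit 0x11e9a0) (.node (.node .nil (nat_lit 0x14295c) (nat_lit 44323) (nat_lit 827636) .nil)
  (nat_lit 0x1429aa) (nat_lit 22515) (nat_lit 631462) .nil)))) (nat_lit 0x14338c) (nat_lit 95731) (nat_lit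
  0x20a6e4) (.node (.node (.node (.node (.node .nil (nat_lit 0x143456) (nat_lit 91108) (nat_lit 0x6b4980)
  .nil) (nat_lit 0x14358c) (nat_lit 37379) (nat_lit 0x20a3e4) .nil) (nat_lit 0x14368c) (nat_lit 68691)
  (nat_lit 0x20a764) (.node (.node .nil (nat_lit 0x14370c) (nat_lit 63314) (nat_lit 0x31321a) .nil) (nat_lit
  0x143784) (nat_lit 78884) (nat_lit 0x3169a0) .nil)) (nat_lit 0x143788) (nat_lit 30260) (nat_lit 0x31e1a0)
  (.node (.node (.node .nil (nat_lit 0x1438e4) (nat_lit 52818) (nat_lit 0x230696) .nil) (nat_lit 0x143a4a)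
  (nat_lit 97540) (nat_lit 0x68c1a4) .nil) (nat_lit 0x1443a6) (nat_lit 52145) (nat_lit 120466) (.node (.node
  .nil (nat_lit 0x1444ce) (nat_lit 52484) (nat_lit 0x4de900) .nil) (nat_lit 0x1445f0) (nat_lit 10130) (nat_lit
  0x741486) .nil))) (nat_lit 0x1448ce) (nat_lit 14354) (nat_lit 0x62045e) (.node (.node (.node (.node .nil
  (nat_lit 0x144c4e) (nat_lit 27716) (nat_lit 0x4dc904) .nil) (nat_lit 0x144c8e) (nat_lit 21588) (nat_lit
  0x45e904) .nil) (nat_lit 0x144cc6) (nat_lit 51764) (nat_lit 0x4d6904) (.node (.node .nil (nat_lit 0x144cca)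
  (nat_lit 35572) (nat_lit 0x4de104) .nil) (nat_lit 0x144ccc) (nat_lit 7908) (nat_lit 911620) .nil)) (nat_lit
  0x144f14) (nat_lit 10628) (nat_lit 0x174924) (.node (.node (.node .nil (nat_lit 0x14521e) (nat_lit 91060)
  (nat_lit 0x66c920) .nil) (nat_lit 0x1452e8) (nat_lit 12931) (nat_lit 0x21ae14) .nil) (nat_lit 0x145742)
  (nat_lit 82194) (nat_lit 0x703246) (.node (.node .nil (nat_lit 0x1461f0) (nat_lit 22610) (nat_lit 0x651486)
  .nil) (nat_lit 0x1464f0) (nat_lit 21905) (nat_lit 313004) .nil))))) (nat_lit 0x146570) (nat_lit 11346)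
  (nat_lit 0x751086) (.node (.node (.node (.node (.node (.node .nil (nat_lit 0x1465b0) (nat_lit 8305) (nat_lit
  313012) .nil) (nat_lit 0x1465d0) (nat_lit 25057) (nat_lit 296636) .nil) (nat_lit 0x1465e0) (nat_lit 22082)
  (nat_lit 0x711486) (.node (.node .nil (nat_lit 0x14662a) (nat_lit 62289) (nat_lit 358048) .nil) (nat_lit
  0x146836) (nat_lit 20545) (nat_lit 415366) .nil)) (nat_lit 0x146a98) (nat_lit 41379) (nat_lit 831012) (.node
  (.node (.node .nil (nat_lit 0x147b20) (nat_lit 17220) (nat_lit 0x3443a4) .nil) (nat_lit 0x148374) (nat_lit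
  61522) (nat_lit 0x24b096) .nil) (nat_lit 0x1488f8) (nat_lit 72083) (nat_lit 893468) (.node (.node .nil
  (nat_lit 0x148d52) (nat_lit 82769) (nat_lit 661052) .nil) (nat_lit 0x148da4) (nat_lit 66577) (nat_lit
  706098) .nil))) (nat_lit 0x1490ae) (nat_lit 21825) (nat_lit 587330) (.node (.node (.node (.node .nil
  (nat_lit 0x149174) (nat_lit 65665) (nat_lit 542302) .nil) (nat_lit 0x149274) (nat_lit 90097) (nat_lit
  607822) .nil) (nat_lit 0x149334) (nat_lit 96833) (nat_lit 607830) (.node (.node .nil (nat_lit 0x149354)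
  (nat_lit 84673) (nat_lit 591454) .nil) (nat_lit 0x149364) (nat_lit 67825) (nat_lit 607834) .nil)) (nat_lit
  0x149370) (nat_lit 83921) (nat_lit 607836) (.node (.node (.node .nil (nat_lit 0x149a4a) (nat_lit 98257)
  (nat_lit 734792) .nil) (nat_lit 0x149c1c) (nat_lit 70129) (nat_lit 665190) .nil) (nat_lit 0x14a1c6) (nat_lit
  62738) (nat_lit 0x219456) (.node (.node .nil (nat_lit 0x14a46c) (nat_lit 68897) (nat_lit 812586) .nil)
  (nat_lit 0x14a49a) (nat_lit 15044) (nat_lit 0x43e188) .nil)))) (nat_lit 0x14a836) (nat_lit 26769) (nat_lit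
  939526) (.node (.node (.node (.node (.node .nil (nat_lit 0x14aa4a) (nat_lit 89060) (nat_lit 0x48c1ac) .nil)
  (nat_lit 0x14b24a) (nat_lit 89233) (nat_lit 865864) .nil) (nat_lit 0x14b522) (nat_lit 36852) (nat_lit
  0x714388) (.node (.node .nil (nat_lit 0x14b84a) (nat_lit 95265) (nat_lit 931400) .nil) (nat_lit 0x14b990)
  (nat_lit 6465) (nat_lit 951892) .nil)) (nat_lit 0x14ba0a) (nat_lit 86947) (nat_lit 0x28a42e) (.node (.node
  (.node .nil (nat_lit 0x14ba42) (nat_lit 58593) (nat_lit 988744) .nil) (nat_lit 0x14ba48) (nat_lit 90356)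
  (nat_lit 0x28c1ac) .nil) (nat_lit 0x14c2d2) (nat_lit 39441) (nat_lit 628364) (.node (.node .nil (nat_lit
  0x14c836) (nat_lit 12369) (nat_lit 677510) .nil) (nat_lit 0x14ce60) (nat_lit 58225) (nat_lit 738984) .nil)))
  (nat_lit 0x14da84) (nat_lit 11873) (nat_lit 755394) (.node (.node (.node (.node .nil (nat_lit 0x14e036)
  (nat_lit 52545) (nat_lit 808582) .nil) (nat_lit 0x14e816) (nat_lit 6593) (nat_lit 923270) .nil) (nat_lit
  0x14e826) (nat_lit 40577) (nat_lit 939650) (.node (.node .nil (nat_lit 0x14e832) (nat_lit 23825) (nat_lit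
  939652) .nil) (nat_lit 0x14e834) (nat_lit 40689) (nat_lit 935558) .nil)) (nat_lit 0x14f610) (nat_lit 18883)
  (nat_lit 0x242d2c) (.node (.node (.node .nil (nat_lit 0x15013e) (nat_lit 89428) (nat_lit 0x52cf00) .nil)
  (nat_lit 0x15043e) (nat_lit 59716) (nat_lit 0x43cf00) .nil) (nat_lit 0x15051e) (nat_lit 88114) (nat_lit
  0x34115a) (.node (.node .nil (nat_lit 0x15052e) (nat_lit 96708) (nat_lit 0x51cf00) .nil) (nat_lit 0x150536)
  (nat_lit 93522) (nat_lit 0x3411d2) .nil)))))))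
def t6160_8 : T := (.node (.node (.node (.node (.node (.node (.node (.node .nil (nat_lit 0x15053c) (nat_lit
  92548) (nat_lit 0x13cf00) .nil) (nat_lit 0x1506e4) (nat_lit 39908) (nat_lit 618272) (.node .nil (nat_lit
  0x1508f8) (nat_lit 87923) (nat_lit 0x1da214) .nil)) (nat_lit 0x150a56) (nat_lit 98450) (nat_lit 0x262156)
  (.node (.node .nil (nat_lit 0x151742) (nat_lit 96514) (nat_lit 0x303346) .nil) (nat_lit 0x151b18) (nat_lit
  48657) (nat_lit 206676) .nil)) (nat_lit 0x1521c6) (nat_lit 91618) (nat_lit 0x211556) (.node (.node (.node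
  .nil (nat_lit 0x152368) (nat_lit 78580) (nat_lit 0x18c7a0) .nil) (nat_lit 0x153226) (nat_lit 94868) (nat_lit
  0x604fa0) .nil) (nat_lit 0x1532d0) (nat_lit 90019) (nat_lit 0x342634) (.node (.node .nil (nat_lit 0x154742)
  (nat_lit 59377) (nat_lit 71608) .nil) (nat_lit 0x154964) (nat_lit 11185) (nat_lit 149402) .nil))) (nat_lit
  0x154992) (nat_lit 17987) (nat_lit 0x1c2a86) (.node (.node (.node (.node .nil (nat_lit 0x155342) (nat_lit
  79186) (nat_lit 0x603346) .nil) (nat_lit 0x155498) (nat_lit 46930) (nat_lit 0x74070a) .nil) (nat_lit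
  0x155542) (nat_lit 67491) (nat_lit 0x302996) (.node (.node .nil (nat_lit 0x155642) (nat_lit 31730) (nat_lit
  0x702346) .nil) (nat_lit 0x155702) (nat_lit 68147) (nat_lit 0x302d86) .nil)) (nat_lit 0x155740) (nat_lit
  68451) (nat_lit 0x302d94) (.node (.node (.node .nil (nat_lit 0x15582a) (nat_lit 9091) (nat_lit 0x39a806)
  .nil) (nat_lit 0x155a84) (nat_lit 3185) (nat_lit 231362) .nil) (nat_lit 0x15605a) (nat_lit 53523) (nat_lit
  0x14a836) (.node (.node .nil (nat_lit 0x1560ac) (nat_lit 4514) (nat_lit 0x61059a) .nil) (nat_lit 0x157114)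
  (nat_lit 23570) (nat_lit 0x651312) .nil)))) (nat_lit 0x1580f8) (nat_lit 88465) (nat_lit 583436) (.node
  (.node (.node (.node (.node .nil (nat_lit 0x1581c6) (nat_lit 64770) (nat_lit 0x209556) .nil) (nat_lit
  0x158790) (nat_lit 34897) (nat_lit 624436) .nil) (nat_lit 0x158878) (nat_lit 97172) (nat_lit 706316) (.node
  (.node .nil (nat_lit 0x1588b8) (nat_lit 73651) (nat_lit 0x1da20c) .nil) (nat_lit 0x1588d8) (nat_lit 69252)
  (nat_lit 713996) .nil)) (nat_lit 0x1588e8) (nat_lit 88484) (nat_lit 583436) (.node (.node (.node .nil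
  (nat_lit 0x1588f0) (nat_lit 97058) (nat_lit 0x268586) .nil) (nat_lit 0x158b22) (nat_lit 74659) (nat_lit
  0x19248e) .nil) (nat_lit 0x159628) (nat_lit 68468) (nat_lit 0x21c728) (.node (.node .nil (nat_lit 0x159a84)
  (nat_lit 22401) (nat_lit 755522) .nil) (nat_lit 0x15a0c6) (nat_lit 89618) (nat_lit 0x218556) .nil)))
  (nat_lit 0x15a146) (nat_lit 84370) (nat_lit 0x219156) (.node (.node (.node (.node .nil (nat_lit 0x15a186)
  (nat_lit 85876) (nat_lit 0x506d88) .nil) (nat_lit 0x15a1c2) (nat_lit 92097) (nat_lit 825112) .nil) (nat_lit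
  0x15a1c4) (nat_lit 93236) (nat_lit 0x186d88) (.node (.node .nil (nat_lit 0x15a21c) (nat_lit 72788) (nat_lit
  183720) .nil) (nat_lit 0x15c454) (nat_lit 7761) (nat_lit 526254) .nil)) (nat_lit 0x15c4a2) (nat_lit 45457)
  (nat_lit 579488) (.node (.node (.node .nil (nat_lit 0x15ca84) (nat_lit 13377) (nat_lit 755586) .nil)
  (nat_lit 0x15d284) (nat_lit 9185) (nat_lit 624578) .nil) (nat_lit 0x15d884) (nat_lit 26017) (nat_lit 690114)
  (.node (.node .nil (nat_lit 0x15da04) (nat_lit 10641) (nat_lit 722882) .nil) (nat_lit 0x15da80) (nat_lit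
  23073) (nat_lit 755648) .nil))))) (nat_lit 0x15f060) (nat_lit 56833) (nat_lit 804808) (.node (.node (.node
  (.node (.node (.node .nil (nat_lit 0x16034e) (nat_lit 84641) (nat_lit 0x11361a) .nil) (nat_lit 0x1609aa)
  (nat_lit 5843) (nat_lit 647814) .nil) (nat_lit 0x160d52) (nat_lit 88082) (nat_lit 0x365046) (.node (.node
  .nil (nat_lit 0x1612e8) (nat_lit 2482) (nat_lit 0x20668e) .nil) (nat_lit 0x161b18) (nat_lit 52849) (nat_lit
  0x132654) .nil)) (nat_lit 0x161e44) (nat_lit 5634) (nat_lit 0x326216) (.node (.node (.node .nil (nat_lit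
  0x1621aa) (nat_lit 25699) (nat_lit 123558) .nil) (nat_lit 0x16246c) (nat_lit 85364) (nat_lit 641936) .nil)
  (nat_lit 0x1626c2) (nat_lit 38116) (nat_lit 0x4961b0) (.node (.node .nil (nat_lit 0x1628aa) (nat_lit 10835)
  (nat_lit 647718) .nil) (nat_lit 0x16292a) (nat_lit 12115) (nat_lit 647334) .nil))) (nat_lit 0x16298a)
  (nat_lit 20147) (nat_lit 582310) (.node (.node (.node (.node .nil (nat_lit 0x1629a2) (nat_lit 23299)
  (nat_lit 615078) .nil) (nat_lit 0x1629a8) (nat_lit 15443) (nat_lit 647844) .nil) (nat_lit 0x162a70) (nat_lit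
  27587) (nat_lit 877620) (.node (.node .nil (nat_lit 0x163226) (nat_lit 60465) (nat_lit 0x155642) .nil)
  (nat_lit 0x1642e8) (nat_lit 5316) (nat_lit 844592) .nil)) (nat_lit 0x164964) (nat_lit 6177) (nat_lit
  0x12469a) (.node (.node (.node .nil (nat_lit 0x164c38) (nat_lit 7891) (nat_lit 911620) .nil) (nat_lit
  0x1650e8) (nat_lit 11410) (nat_lit 0x60468e) .nil) (nat_lit 0x165132) (nat_lit 38626) (nat_lit 0x6452c2)
  (.node (.node .nil (nat_lit 0x165268) (nat_lit 10194) (nat_lit 0x60628e) .nil) (nat_lit 0x1652a8) (nat_lit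
  8900) (nat_lit 0x24e330) .nil)))) (nat_lit 0x1652c8) (nat_lit 15395) (nat_lit 0x20ee14) (.node (.node (.node
  (.node (.node .nil (nat_lit 0x1652e0) (nat_lit 10356) (nat_lit 0x2c6330) .nil) (nat_lit 0x165d80) (nat_lit
  53012) (nat_lit 0x356114) .nil) (nat_lit 0x16605a) (nat_lit 81331) (nat_lit 321590) (.node (.node .nil
  (nat_lit 0x166506) (nat_lit 44946) (nat_lit 0x715052) .nil) (nat_lit 0x167610) (nat_lit 18372) (nat_lit
  0x2741b0) .nil)) (nat_lit 0x16780c) (nat_lit 17412) (nat_lit 0x24c994) (.node (.node (.node .nil (nat_lit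
  0x16823a) (nat_lit 94115) (nat_lit 386062) .nil) (nat_lit 0x16846c) (nat_lit 71524) (nat_lit 641816) .nil)
  (nat_lit 0x168552) (nat_lit 79745) (nat_lit 0x18163c) (.node (.node .nil (nat_lit 0x168952) (nat_lit 74897)
  (nat_lit 0x1a161c) .nil) (nat_lit 0x168c52) (nat_lit 89825) (nat_lit 0x1a162c) .nil))) (nat_lit 0x168d12)
  (nat_lit 57233) (nat_lit 0x1a1634) (.node (.node (.node (.node .nil (nat_lit 0x168d42) (nat_lit 88099)
  (nat_lit 549278) .nil) (nat_lit 0x168d50) (nat_lit 58625) (nat_lit 0x1a063c) .nil) (nat_lit 0x168e88)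
  (nat_lit 70785) (nat_lit 0x1ba620) (.node (.node .nil (nat_lit 0x169382) (nat_lit 2499) (nat_lit 0x20668e)
  .nil) (nat_lit 0x16a06c) (nat_lit 79380) (nat_lit 576408) .nil)) (nat_lit 0x16a42c) (nat_lit 57172) (nat_lit
  117656) (.node (.node (.node .nil (nat_lit 0x16a44c) (nat_lit 74196) (nat_lit 641432) .nil) (nat_lit
  0x16a464) (nat_lit 85460) (nat_lit 609176) .nil) (nat_lit 0x16a468) (nat_lit 32868) (nat_lit 639896) (.node
  (.node .nil (nat_lit 0x16ab04) (nat_lit 88034) (nat_lit 0x23f012) .nil) (nat_lit 0x16b610) (nat_lit 71474)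
  (nat_lit 0x35e202) .nil)))))) (nat_lit 0x16c4a2) (nat_lit 50769) (nat_lit 0x18d6a0) (.node (.node (.node
  (.node (.node (.node (.node .nil (nat_lit 0x16d046) (nat_lit 67985) (nat_lit 0x1816ca) .nil) (nat_lit
  0x16d610) (nat_lit 34291) (nat_lit 0x246d0c) .nil) (nat_lit 0x16e610) (nat_lit 45635) (nat_lit 290092)
  (.node (.node .nil (nat_lit 0x16e8c0) (nat_lit 82738) (nat_lit 0x63c406) .nil) (nat_lit 0x16f210) (nat_lit
  31297) (nat_lit 0x1d06c4) .nil)) (nat_lit 0x16f410) (nat_lit 54756) (nat_lit 0x274198) (.node (.node (.node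
  .nil (nat_lit 0x16f600) (nat_lit 54947) (nat_lit 0x206d2c) .nil) (nat_lit 0x1705c8) (nat_lit 29185) (nat_lit
  0x10a738) .nil) (nat_lit 0x170964) (nat_lit 4977) (nat_lit 0x12471a) (.node (.node .nil (nat_lit 0x170b18)
  (nat_lit 76897) (nat_lit 0x132714) .nil) (nat_lit 0x171226) (nat_lit 68052) (nat_lit 0x604f30) .nil)))
  (nat_lit 0x171318) (nat_lit 80753) (nat_lit 0x112754) (.node (.node (.node (.node .nil (nat_lit 0x171470)
  (nat_lit 52995) (nat_lit 0x356114) .nil) (nat_lit 0x1718c2) (nat_lit 35779) (nat_lit 0x386216) .nil)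
  (nat_lit 0x171918) (nat_lit 13713) (nat_lit 0x122754) (.node (.node .nil (nat_lit 0x171a18) (nat_lit 42817)
  (nat_lit 0x132744) .nil) (nat_lit 0x171b08) (nat_lit 41777) (nat_lit 0x132750) .nil)) (nat_lit 0x171b10)
  (nat_lit 80673) (nat_lit 0x130754) (.node (.node (.node .nil (nat_lit 0x17205a) (nat_lit 67250) (nat_lit
  0x25414e) .nil) (nat_lit 0x172226) (nat_lit 58116) (nat_lit 0x404fb0) .nil) (nat_lit 0x173026) (nat_lit
  96147) (nat_lit 0x316066) (.node (.node .nil (nat_lit 0x173206) (nat_lit 90530) (nat_lit 0x216352) .nil)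
  (nat_lit 0x173222) (nat_lit 92161) (nat_lit 0x155740) .nil)))) (nat_lit 0x173224) (nat_lit 86433) (nat_lit
  0x154742) (.node (.node (.node (.node (.node .nil (nat_lit 0x17405a) (nat_lit 15811) (nat_lit 0x14e816)
  .nil) (nat_lit 0x174164) (nat_lit 1185) (nat_lit 0x10479a) .nil) (nat_lit 0x1744a2) (nat_lit 52641) (nat_lit
  0x10d7a0) (.node (.node .nil (nat_lit 0x17460c) (nat_lit 11987) (nat_lit 0x10ed44) .nil) (nat_lit 0x174864)
  (nat_lit 5601) (nat_lit 0x12478a) .nil)) (nat_lit 0x174924) (nat_lit 4401) (nat_lit 0x124792) (.node (.node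
  (.node .nil (nat_lit 0x174944) (nat_lit 3761) (nat_lit 0x12079a) .nil) (nat_lit 0x174960) (nat_lit 9921)
  (nat_lit 0x124798) .nil) (nat_lit 0x17601a) (nat_lit 33314) (nat_lit 0x65414a) (.node (.node .nil (nat_lit
  0x17604a) (nat_lit 58289) (nat_lit 0x143788) .nil) (nat_lit 0x176052) (nat_lit 43827) (nat_lit 0x146836)
  .nil))) (nat_lit 0x176058) (nat_lit 71347) (nat_lit 0x14e834) (.node (.node (.node (.node .nil (nat_lit
  0x176380) (nat_lit 19492) (nat_lit 0x1465b0) .nil) (nat_lit 0x1784a2) (nat_lit 42465) (nat_lit 0x18d720)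
  .nil) (nat_lit 0x17880e) (nat_lit 56786) (nat_lit 0x22c15a) (.node (.node .nil (nat_lit 0x179504) (nat_lit
  28548) (nat_lit 0x314d18) .nil) (nat_lit 0x17a130) (nat_lit 9956) (nat_lit 0x124798) .nil)) (nat_lit
  0x17b088) (nat_lit 76643) (nat_lit 0x30e22c) (.node (.node (.node .nil (nat_lit 0x17c0a2) (nat_lit 64545)
  (nat_lit 0x18d780) .nil) (nat_lit 0x17c422) (nat_lit 48465) (nat_lit 0x1857a0) .nil) (nat_lit 0x17c482)
  (nat_lit 13153) (nat_lit 0x1897a0) (.node (.node .nil (nat_lit 0x17c4a0) (nat_lit 78545) (nat_lit 0x18c7a0)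
  .nil) (nat_lit 0x1805dc) (nat_lit 75570) (nat_lit 0x341c1c) .nil))))) (nat_lit 0x180772) (nat_lit 29425)
  (nat_lit 0x21543c) (.node (.node (.node (.node (.node (.node .nil (nat_lit 0x181396) (nat_lit 62721)
  (nat_lit 0x219456) .nil) (nat_lit 0x18163c) (nat_lit 49459) (nat_lit 0x27a540) .nil) (nat_lit 0x1816ca)
  (nat_lit 37715) (nat_lit 0x22a712) (.node (.node .nil (nat_lit 0x181a66) (nat_lit 52355) (nat_lit 0x2b2452)
  .nil) (nat_lit 0x181d68) (nat_lit 1396) (nat_lit 0x398344) .nil)) (nat_lit 0x182ce2) (nat_lit 80273)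
  (nat_lit 0x26d428) (.node (.node (.node .nil (nat_lit 0x182e4c) (nat_lit 49921) (nat_lit 0x27242a) .nil)
  (nat_lit 0x183358) (nat_lit 93396) (nat_lit 0x3a81e0) .nil) (nat_lit 0x183456) (nat_lit 97505) (nat_lit
  0x24146e) (.node (.node .nil (nat_lit 0x183aa8) (nat_lit 7826) (nat_lit 0x232e88) .nil) (nat_lit 0x183f02)
  (nat_lit 60004) (nat_lit 0x7101e4) .nil))) (nat_lit 0x1841ea) (nat_lit 58611) (nat_lit 240274) (.node (.node
  (.node (.node .nil (nat_lit 0x1844b6) (nat_lit 85554) (nat_lit 0x740cd0) .nil) (nat_lit 0x184a66) (nat_lit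
  21347) (nat_lit 732242) .nil) (nat_lit 0x184f14) (nat_lit 11860) (nat_lit 0x170964) (.node (.node .nil
  (nat_lit 0x185266) (nat_lit 7603) (nat_lit 0x232c52) .nil) (nat_lit 0x185358) (nat_lit 95907) (nat_lit
  0x26ac90) .nil)) (nat_lit 0x18550e) (nat_lit 80817) (nat_lit 0x2034f2) (.node (.node (.node .nil (nat_lit
  0x1857a0) (nat_lit 23379) (nat_lit 0x232f80) .nil) (nat_lit 0x185866) (nat_lit 60833) (nat_lit 0x2254ca)
  .nil) (nat_lit 0x185a26) (nat_lit 28467) (nat_lit 0x2b2c42) (.node (.node .nil (nat_lit 0x185a46) (nat_lit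
  30835) (nat_lit 0x2a2c52) .nil) (nat_lit 0x185a62) (nat_lit 47843) (nat_lit 0x2b2c12) .nil)))) (nat_lit
  0x185a64) (nat_lit 24659) (nat_lit 0x2b2c50) (.node (.node (.node (.node (.node .nil (nat_lit 0x186358)
  (nat_lit 58403) (nat_lit 437424) .nil) (nat_lit 0x18662a) (nat_lit 71729) (nat_lit 0x2574a0) .nil) (nat_lit
  0x1868d4) (nat_lit 32995) (nat_lit 928368) (.node (.node .nil (nat_lit 0x186d88) (nat_lit 71074) (nat_lit
  0x731c08) .nil) (nat_lit 0x187158) (nat_lit 60162) (nat_lit 0x651a0c) .nil)) (nat_lit 0x187258) (nat_lit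
  87731) (nat_lit 0x26ac30) (.node (.node (.node .nil (nat_lit 0x187318) (nat_lit 88227) (nat_lit 0x26aca0)
  .nil) (nat_lit 0x187348) (nat_lit 96754) (nat_lit 0x613a0c) .nil) (nat_lit 0x187350) (nat_lit 72899)
  (nat_lit 0x262cb0) (.node (.node .nil (nat_lit 0x187c30) (nat_lit 92371) (nat_lit 0x2f2920) .nil) (nat_lit
  0x1881dc) (nat_lit 78771) (nat_lit 434904) .nil))) (nat_lit 0x1884dc) (nat_lit 38756) (nat_lit 764232)
  (.node (.node (.node (.node .nil (nat_lit 0x18855c) (nat_lit 31875) (nat_lit 434648) .nil) (nat_lit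
  0x18859c) (nat_lit 55203) (nat_lit 435144) .nil) (nat_lit 0x1885cc) (nat_lit 64419) (nat_lit 173016) (.node
  (.node .nil (nat_lit 0x1885d4) (nat_lit 19539) (nat_lit 402392) .nil) (nat_lit 0x1885d8) (nat_lit 46067)
  (nat_lit 435096) .nil)) (nat_lit 0x188ab4) (nat_lit 74817) (nat_lit 0x2bc406) (.node (.node (.node .nil
  (nat_lit 0x188ce2) (nat_lit 72611) (nat_lit 729882) .nil) (nat_lit 0x1890ae) (nat_lit 43201) (nat_lit
  0x28f442) .nil) (nat_lit 0x1897a0) (nat_lit 5491) (nat_lit 0x232788) (.node (.node .nil (nat_lit 0x189b0c)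
  (nat_lit 52337) (nat_lit 0x2b2452) .nil) (nat_lit 0x189e50) (nat_lit 44851) (nat_lit 0x2e2518) .nil)))))))
def t6160_9 : T := (.node (.node (.node (.node (.node (.node (.node (.node .nil (nat_lit 0x18a4e2) (nat_lit
  79139) (nat_lit 205626) .nil) (nat_lit 0x18a8e2) (nat_lit 71924) (nat_lit 0x4823cc) .nil) (nat_lit 0x18ac62)
  (nat_lit 95348) (nat_lit 0x4903cc) (.node (.node .nil (nat_lit 0x18aca2) (nat_lit 63474) (nat_lit 0x338cc0)
  .nil) (nat_lit 0x18acc2) (nat_lit 31571) (nat_lit 664378) .nil)) (nat_lit 0x18ace0) (nat_lit 65746) (nat_lit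
  0x338c84) (.node (.node (.node .nil (nat_lit 0x18b232) (nat_lit 49908) (nat_lit 0x6203e8) .nil) (nat_lit
  0x18b2c4) (nat_lit 12914) (nat_lit 0x21ae14) .nil) (nat_lit 0x18b990) (nat_lit 12225) (nat_lit 0x2e8454)
  (.node (.node .nil (nat_lit 0x18c2d2) (nat_lit 36401) (nat_lit 0x29948c) .nil) (nat_lit 0x18c7a0) (nat_lit
  48003) (nat_lit 208776) .nil))) (nat_lit 0x18c970) (nat_lit 66563) (nat_lit 993432) (.node (.node (.node
  (.node .nil (nat_lit 0x18c986) (nat_lit 37588) (nat_lit 0x54294c) .nil) (nat_lit 0x18cc2c) (nat_lit 38739)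
  (nat_lit 764232) .nil) (nat_lit 0x18d3a0) (nat_lit 7843) (nat_lit 0x232e88) (.node (.node .nil (nat_lit
  0x18d5a0) (nat_lit 46707) (nat_lit 0x232b88) .nil) (nat_lit 0x18d6a0) (nat_lit 24883) (nat_lit 0x232f08)
  .nil)) (nat_lit 0x18d720) (nat_lit 19843) (nat_lit 0x232d88) (.node (.node (.node .nil (nat_lit 0x18d780)
  (nat_lit 34819) (nat_lit 0x222f88) .nil) (nat_lit 0x18d8c8) (nat_lit 28946) (nat_lit 0x628e0c) .nil)
  (nat_lit 0x18e04e) (nat_lit 44692) (nat_lit 0x4c89c8) (.node (.node .nil (nat_lit 0x18e0b8) (nat_lit 55220)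
  (nat_lit 435144) .nil) (nat_lit 0x18e512) (nat_lit 8451) (nat_lit 403882) .nil)))) (nat_lit 0x1901ea)
  (nat_lit 51668) (nat_lit 0x58a740) (.node (.node (.node (.node (.node .nil (nat_lit 0x190396) (nat_lit
  40500) (nat_lit 0x522d60) .nil) (nat_lit 0x1906e4) (nat_lit 41795) (nat_lit 0x132750) .nil) (nat_lit
  0x190d46) (nat_lit 23249) (nat_lit 0x22153a) (.node (.node .nil (nat_lit 0x190db0) (nat_lit 42868) (nat_lit
  0x132744) .nil) (nat_lit 0x191196) (nat_lit 64753) (nat_lit 0x209556) .nil)) (nat_lit 0x191296) (nat_lit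
  95844) (nat_lit 0x622d60) (.node (.node (.node .nil (nat_lit 0x191316) (nat_lit 91601) (nat_lit 0x211556)
  .nil) (nat_lit 0x191386) (nat_lit 83508) (nat_lit 0x702d60) .nil) (nat_lit 0x191392) (nat_lit 80612)
  (nat_lit 0x722560) (.node (.node .nil (nat_lit 0x191394) (nat_lit 76276) (nat_lit 0x322d60) .nil) (nat_lit
  0x191aa8) (nat_lit 34802) (nat_lit 0x222f88) .nil))) (nat_lit 0x191e50) (nat_lit 56052) (nat_lit 0x2b0564)
  (.node (.node (.node (.node .nil (nat_lit 0x192478) (nat_lit 23108) (nat_lit 755648) .nil) (nat_lit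
  0x19248e) (nat_lit 43762) (nat_lit 0x310d58) .nil) (nat_lit 0x1928d4) (nat_lit 45715) (nat_lit 0x1e2270)
  (.node (.node .nil (nat_lit 0x192aa8) (nat_lit 19826) (nat_lit 0x232d88) .nil) (nat_lit 0x1932a8) (nat_lit
  26226) (nat_lit 0x212f88) .nil)) (nat_lit 0x1935c0) (nat_lit 70404) (nat_lit 0x3925c0) (.node (.node (.node
  .nil (nat_lit 0x1938a8) (nat_lit 21522) (nat_lit 0x230f88) .nil) (nat_lit 0x193a28) (nat_lit 29377) (nat_lit
  0x276540) .nil) (nat_lit 0x193a88) (nat_lit 24866) (nat_lit 0x232f08) (.node (.node .nil (nat_lit 0x193aa0)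
  (nat_lit 23362) (nat_lit 0x232f80) .nil) (nat_lit 0x1940ea) (nat_lit 42260) (nat_lit 0x4ca740) .nil)))))
  (nat_lit 0x19416a) (nat_lit 27380) (nat_lit 0x5c8740) (.node (.node (.node (.node (.node (.node .nil
  (nat_lit 0x1941aa) (nat_lit 52244) (nat_lit 0x54a740) .nil) (nat_lit 0x1941ca) (nat_lit 7444) (nat_lit
  0x5ca540) .nil) (nat_lit 0x1941e2) (nat_lit 37473) (nat_lit 0x20d598) (.node (.node .nil (nat_lit 0x1941e8)
  (nat_lit 77588) (nat_lit 0x1ca740) .nil) (nat_lit 0x1948d4) (nat_lit 18995) (nat_lit 0x1e2a50) .nil))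
  (nat_lit 0x194c2c) (nat_lit 85924) (nat_lit 364356) (.node (.node (.node .nil (nat_lit 0x194e82) (nat_lit
  81761) (nat_lit 0x2395a0) .nil) (nat_lit 0x195498) (nat_lit 10466) (nat_lit 0x740f08) .nil) (nat_lit
  0x1960d4) (nat_lit 54659) (nat_lit 0x162a70) (.node (.node .nil (nat_lit 0x196512) (nat_lit 36388) (nat_lit
  0x5705c0) .nil) (nat_lit 0x196854) (nat_lit 59171) (nat_lit 0x1e2870) .nil))) (nat_lit 0x196894) (nat_lit
  78435) (nat_lit 0x1e2a60) (.node (.node (.node (.node .nil (nat_lit 0x1968c4) (nat_lit 50483) (nat_lit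
  0x1a2a70) .nil) (nat_lit 0x1968d0) (nat_lit 34387) (nat_lit 0x1e2a30) .nil) (nat_lit 0x197604) (nat_lit
  76259) (nat_lit 0x322d60) (.node (.node .nil (nat_lit 0x198076) (nat_lit 65313) (nat_lit 0x28550e) .nil)
  (nat_lit 0x198b22) (nat_lit 37618) (nat_lit 0x22b9c0) .nil)) (nat_lit 0x198c2c) (nat_lit 84242) (nat_lit
  0x328998) (.node (.node (.node .nil (nat_lit 0x198e50) (nat_lit 19220) (nat_lit 722284) .nil) (nat_lit
  0x199138) (nat_lit 18500) (nat_lit 0x328748) .nil) (nat_lit 0x199650) (nat_lit 33156) (nat_lit 0x2b0568)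
  (.node (.node .nil (nat_lit 0x199a50) (nat_lit 45841) (nat_lit 0x2b054c) .nil) (nat_lit 0x199c50) (nat_lit
  17731) (nat_lit 0x3e2118) .nil)))) (nat_lit 0x199e10) (nat_lit 50179) (nat_lit 0x3e2508) (.node (.node
  (.node (.node (.node .nil (nat_lit 0x199e40) (nat_lit 33105) (nat_lit 0x2b0568) .nil) (nat_lit 0x19a21c)
  (nat_lit 62004) (nat_lit 167400) .nil) (nat_lit 0x19a512) (nat_lit 51907) (nat_lit 0x1621aa) (.node (.node
  .nil (nat_lit 0x19a948) (nat_lit 44833) (nat_lit 0x2e2518) .nil) (nat_lit 0x19b806) (nat_lit 9891) (nat_lit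
  0x3a206a) .nil)) (nat_lit 0x19c344) (nat_lit 257) (nat_lit 0x29059a) (.node (.node (.node .nil (nat_lit
  0x19c42c) (nat_lit 83203) (nat_lit 0x13a948) .nil) (nat_lit 0x19c512) (nat_lit 43171) (nat_lit 0x16298a)
  .nil) (nat_lit 0x19c82c) (nat_lit 69602) (nat_lit 0x628998) (.node (.node .nil (nat_lit 0x19cc0c) (nat_lit
  60017) (nat_lit 0x2a25a2) .nil) (nat_lit 0x19cc24) (nat_lit 66146) (nat_lit 0x728990) .nil))) (nat_lit
  0x19cc28) (nat_lit 63890) (nat_lit 0x728988) (.node (.node (.node (.node .nil (nat_lit 0x19d20a) (nat_lit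
  94404) (nat_lit 0x648568) .nil) (nat_lit 0x19e112) (nat_lit 25187) (nat_lit 0x1628aa) .nil) (nat_lit
  0x19e412) (nat_lit 28003) (nat_lit 0x16292a) (.node (.node .nil (nat_lit 0x19e502) (nat_lit 22051) (nat_lit
  0x1229aa) .nil) (nat_lit 0x19e510) (nat_lit 34755) (nat_lit 0x1629a8) .nil)) (nat_lit 0x19f060) (nat_lit
  71444) (nat_lit 0x2c07c8) (.node (.node (.node .nil (nat_lit 0x1a034e) (nat_lit 86243) (nat_lit 189650)
  .nil) (nat_lit 0x1a063c) (nat_lit 30435) (nat_lit 517440) .nil) (nat_lit 0x1a08ec) (nat_lit 29987) (nat_lit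
  778832) (.node (.node .nil (nat_lit 0x1a0db0) (nat_lit 72625) (nat_lit 0x32c434) .nil) (nat_lit 0x1a123c)
  (nat_lit 16579) (nat_lit 0x27e440) .nil)))))) (nat_lit 0x1a143c) (nat_lit 57635) (nat_lit 0x27e140) (.node
  (.node (.node (.node (.node (.node (.node .nil (nat_lit 0x1a161c) (nat_lit 44035) (nat_lit 0x26e540) .nil)
  (nat_lit 0x1a162c) (nat_lit 64339) (nat_lit 0x23e540) .nil) (nat_lit 0x1a1634) (nat_lit 29411) (nat_lit
  0x276540) (.node (.node .nil (nat_lit 0x1a1638) (nat_lit 73315) (nat_lit 0x27e500) .nil) (nat_lit 0x1a1954)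
  (nat_lit 35715) (nat_lit 0x2e60d0) .nil)) (nat_lit 0x1a1f02) (nat_lit 37793) (nat_lit 0x331470) (.node
  (.node (.node .nil (nat_lit 0x1a21d2) (nat_lit 37970) (nat_lit 0x255c44) .nil) (nat_lit 0x1a248e) (nat_lit
  33697) (nat_lit 0x34b422) .nil) (nat_lit 0x1a2a70) (nat_lit 24707) (nat_lit 0xf6430) (.node (.node .nil
  (nat_lit 0x1a2f02) (nat_lit 75060) (nat_lit 0x5101f4) .nil) (nat_lit 0x1a306a) (nat_lit 1409) (nat_lit
  0x347448) .nil))) (nat_lit 0x1a32c4) (nat_lit 2612) (nat_lit 0x2829f0) (.node (.node (.node (.node .nil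
  (nat_lit 0x1a3702) (nat_lit 94244) (nat_lit 0x7101f0) .nil) (nat_lit 0x1a3b02) (nat_lit 37444) (nat_lit
  0x7001f4) .nil) (nat_lit 0x1a3d02) (nat_lit 82900) (nat_lit 0x7101d4) (.node (.node .nil (nat_lit 0x1a3e02)
  (nat_lit 66961) (nat_lit 0x371460) .nil) (nat_lit 0x1a3f00) (nat_lit 66322) (nat_lit 0x337a00) .nil))
  (nat_lit 0x1a4986) (nat_lit 60899) (nat_lit 682690) (.node (.node (.node .nil (nat_lit 0x1a4b28) (nat_lit
  68241) (nat_lit 0x336490) .nil) (nat_lit 0x1a5132) (nat_lit 38484) (nat_lit 0x760350) .nil) (nat_lit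
  0x1a5a90) (nat_lit 83969) (nat_lit 0x3384c4) (.node (.node .nil (nat_lit 0x1a60b8) (nat_lit 74291) (nat_lit
  518688) .nil) (nat_lit 0x1a6216) (nat_lit 25217) (nat_lit 0x351486) .nil)))) (nat_lit 0x1a780c) (nat_lit
  67364) (nat_lit 0x2489d4) (.node (.node (.node (.node (.node .nil (nat_lit 0x1a8076) (nat_lit 49970)
  (nat_lit 0x24c8d4) .nil) (nat_lit 0x1a852a) (nat_lit 53587) (nat_lit 254346) .nil) (nat_lit 0x1a8986)
  (nat_lit 42131) (nat_lit 680650) (.node (.node .nil (nat_lit 0x1a8e88) (nat_lit 90658) (nat_lit 0x32ec08)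
  .nil) (nat_lit 0x1a92c4) (nat_lit 2211) (nat_lit 0x226658) .nil)) (nat_lit 0x1a9492) (nat_lit 93153)
  (nat_lit 0x389464) (.node (.node (.node .nil (nat_lit 0x1aa0b8) (nat_lit 64436) (nat_lit 173016) .nil)
  (nat_lit 0x1aa2c4) (nat_lit 10051) (nat_lit 157304) .nil) (nat_lit 0x1aa948) (nat_lit 78241) (nat_lit
  0x3e2418) (.node (.node .nil (nat_lit 0x1aac14) (nat_lit 58163) (nat_lit 942440) .nil) (nat_lit 0x1ab0c4)
  (nat_lit 8483) (nat_lit 0x226278) .nil))) (nat_lit 0x1ab244) (nat_lit 8724) (nat_lit 0x2809f8) (.node (.node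
  (.node (.node .nil (nat_lit 0x1ab284) (nat_lit 2820) (nat_lit 0x2029f8) .nil) (nat_lit 0x1ab2c0) (nat_lit
  5124) (nat_lit 0x2821f8) .nil) (nat_lit 0x1ac0b8) (nat_lit 73635) (nat_lit 518664) (.node (.node .nil
  (nat_lit 0x1ac186) (nat_lit 85748) (nat_lit 0x542958) .nil) (nat_lit 0x1ac886) (nat_lit 71762) (nat_lit
  0x62cc50) .nil)) (nat_lit 0x1ac906) (nat_lit 75507) (nat_lit 682186) (.node (.node (.node .nil (nat_lit
  0x1ac982) (nat_lit 79908) (nat_lit 0x54215c) .nil) (nat_lit 0x1ac984) (nat_lit 75140) (nat_lit 0x14295c)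
  .nil) (nat_lit 0x1ad20a) (nat_lit 92756) (nat_lit 0x648178) (.node (.node .nil (nat_lit 0x1ae038) (nat_lit
  56531) (nat_lit 518184) .nil) (nat_lit 0x1ae098) (nat_lit 31363) (nat_lit 453160) .nil))))) (nat_lit
  0x1ae0a8) (nat_lit 33843) (nat_lit 256552) (.node (.node (.node (.node (.node (.node .nil (nat_lit 0x1ae0b0)
  (nat_lit 19556) (nat_lit 402392) .nil) (nat_lit 0x1b0076) (nat_lit 31649) (nat_lit 0x30550e) .nil) (nat_lit
  0x1b02d8) (nat_lit 34274) (nat_lit 0x246d0c) (.node (.node .nil (nat_lit 0x1b048e) (nat_lit 30948) (nat_lit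
  0x41ad50) .nil) (nat_lit 0x1b05b0) (nat_lit 39042) (nat_lit 0x345d80) .nil)) (nat_lit 0x1b09b0) (nat_lit
  13764) (nat_lit 0x122754) (.node (.node (.node .nil (nat_lit 0x1b0cb0) (nat_lit 48708) (nat_lit 206676)
  .nil) (nat_lit 0x1b0d30) (nat_lit 80258) (nat_lit 0x365980) .nil) (nat_lit 0x1b0d90) (nat_lit 77652)
  (nat_lit 0x132554) (.node (.node .nil (nat_lit 0x1b0da0) (nat_lit 80788) (nat_lit 0x112754) .nil) (nat_lit
  0x1b1360) (nat_lit 34929) (nat_lit 0x314558) .nil))) (nat_lit 0x1b18c2) (nat_lit 19955) (nat_lit 0x3a6212)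
  (.node (.node (.node (.node .nil (nat_lit 0x1b208e) (nat_lit 15714) (nat_lit 0x214d58) .nil) (nat_lit
  0x1b240e) (nat_lit 53426) (nat_lit 0x314958) .nil) (nat_lit 0x1b2486) (nat_lit 67170) (nat_lit 0x314d50)
  (.node (.node .nil (nat_lit 0x1b248a) (nat_lit 29492) (nat_lit 0x41a5d0) .nil) (nat_lit 0x1b248c) (nat_lit
  28514) (nat_lit 0x314d18) .nil)) (nat_lit 0x1b2948) (nat_lit 41956) (nat_lit 0x1885d4) (.node (.node (.node
  .nil (nat_lit 0x1b411c) (nat_lit 86084) (nat_lit 0x168d50) .nil) (nat_lit 0x1b50a4) (nat_lit 94465) (nat_lit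
  0x30c5c2) .nil) (nat_lit 0x1b520a) (nat_lit 83716) (nat_lit 0x648570) (.node (.node .nil (nat_lit 0x1b6380)
  (nat_lit 51156) (nat_lit 0x1425f0) .nil) (nat_lit 0x1b6822) (nat_lit 87636) (nat_lit 0x4407d4) .nil))))
  (nat_lit 0x1b8036) (nat_lit 44578) (nat_lit 0x24c9d0) (.node (.node (.node (.node (.node .nil (nat_lit
  0x1b8056) (nat_lit 82145) (nat_lit 0x38150e) .nil) (nat_lit 0x1b8066) (nat_lit 54226) (nat_lit 0x20c9d4)
  .nil) (nat_lit 0x1b8072) (nat_lit 33442) (nat_lit 0x24c9c4) (.node (.node .nil (nat_lit 0x1b8074) (nat_lit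
  17378) (nat_lit 0x24c994) .nil) (nat_lit 0x1b8948) (nat_lit 59731) (nat_lit 0x1ae098) .nil)) (nat_lit
  0x1b920a) (nat_lit 87857) (nat_lit 0x393540) (.node (.node (.node .nil (nat_lit 0x1b9504) (nat_lit 43796)
  (nat_lit 0x310d58) .nil) (nat_lit 0x1ba148) (nat_lit 72209) (nat_lit 0x3c2518) .nil) (nat_lit 0x1ba620)
  (nat_lit 40242) (nat_lit 0x31e980) (.node (.node .nil (nat_lit 0x1ba848) (nat_lit 50161) (nat_lit 0x3e2508)
  .nil) (nat_lit 0x1ba908) (nat_lit 63443) (nat_lit 0x1ae0a8) .nil))) (nat_lit 0x1ba940) (nat_lit 88017)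
  (nat_lit 0x3e0518) (.node (.node (.node (.node .nil (nat_lit 0x1bc20a) (nat_lit 83572) (nat_lit 0x448578)
  .nil) (nat_lit 0x1bd00a) (nat_lit 41172) (nat_lit 0x648558) .nil) (nat_lit 0x1bd202) (nat_lit 61188)
  (nat_lit 0x640578) (.node (.node .nil (nat_lit 0x1bd208) (nat_lit 70385) (nat_lit 0x3925c0) .nil) (nat_lit
  0x1c034e) (nat_lit 40035) (nat_lit 173270) .nil)) (nat_lit 0x1c03b8) (nat_lit 5521) (nat_lit 0x21e614)
  (.node (.node (.node .nil (nat_lit 0x1c06e4) (nat_lit 48691) (nat_lit 206676) .nil) (nat_lit 0x1c0d68)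
  (nat_lit 788) (nat_lit 0x19c344) .nil) (nat_lit 0x1c0f14) (nat_lit 22388) (nat_lit 0x134964) (.node (.node
  .nil (nat_lit 0x1c10ae) (nat_lit 14177) (nat_lit 0x20f642) .nil) (nat_lit 0x1c1456) (nat_lit 98434) (nat_lit
  0x340a56) .nil)))))))
def t6160_10 : T := (.node (.node (.node (.node (.node (.node (.node (.node .nil (nat_lit 0x1c1968) (nat_lit
  1988) (nat_lit 0x38c344) .nil) (nat_lit 0x1c1c68) (nat_lit 4564) (nat_lit 0x29c344) (.node .nil (nat_lit
  0x1c1d28) (nat_lit 372) (nat_lit 0x31c344) .nil)) (nat_lit 0x1c1d48) (nat_lit 4756) (nat_lit 0x39c144)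
  (.node (.node .nil (nat_lit 0x1c1d60) (nat_lit 1700) (nat_lit 0x394344) .nil) (nat_lit 0x1c2456) (nat_lit
  97412) (nat_lit 0x4b49c0) .nil)) (nat_lit 0x1c262a) (nat_lit 70050) (nat_lit 0x3128ca) (.node (.node (.node
  .nil (nat_lit 0x1c2a70) (nat_lit 7667) (nat_lit 992308) .nil) (nat_lit 0x1c2a86) (nat_lit 7586) (nat_lit
  0x232c52) .nil) (nat_lit 0x1c3056) (nat_lit 90177) (nat_lit 0x24164e) (.node (.node .nil (nat_lit 0x1c3416)
  (nat_lit 97969) (nat_lit 0x241666) .nil) (nat_lit 0x1c3446) (nat_lit 92612) (nat_lit 0x6949c0) .nil)))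
  (nat_lit 0x1c3452) (nat_lit 86675) (nat_lit 0x262136) (.node (.node (.node (.node .nil (nat_lit 0x1c3454)
  (nat_lit 98387) (nat_lit 0x262174) .nil) (nat_lit 0x1c3990) (nat_lit 16705) (nat_lit 0x268654) .nil)
  (nat_lit 0x1c407c) (nat_lit 2465) (nat_lit 0x20668e) (.node (.node .nil (nat_lit 0x1c42d2) (nat_lit 56929)
  (nat_lit 0x21968c) .nil) (nat_lit 0x1c462a) (nat_lit 93314) (nat_lit 0x7028ca) .nil)) (nat_lit 0x1c4714)
  (nat_lit 23060) (nat_lit 0x174960) (.node (.node (.node .nil (nat_lit 0x1c4b14) (nat_lit 14900) (nat_lit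
  0x164964) .nil) (nat_lit 0x1c4d14) (nat_lit 9172) (nat_lit 0x174944) .nil) (nat_lit 0x1c4e14) (nat_lit
  36980) (nat_lit 477540) (.node (.node .nil (nat_lit 0x1c4f04) (nat_lit 26004) (nat_lit 0x154964) .nil)
  (nat_lit 0x1c4f10) (nat_lit 3172) (nat_lit 0x174164) .nil)))) (nat_lit 0x1c5132) (nat_lit 39347) (nat_lit
  0x272886) (.node (.node (.node (.node (.node .nil (nat_lit 0x1c51c4) (nat_lit 76402) (nat_lit 0x601e16)
  .nil) (nat_lit 0x1c5498) (nat_lit 22914) (nat_lit 0x740e0a) .nil) (nat_lit 0x1c622a) (nat_lit 41330)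
  (nat_lit 0x6128ca) (.node (.node .nil (nat_lit 0x1c642a) (nat_lit 68849) (nat_lit 0x2476a0) .nil) (nat_lit
  0x1c660a) (nat_lit 75556) (nat_lit 0x45c1e0) .nil)) (nat_lit 0x1c6622) (nat_lit 84466) (nat_lit 0x7128c2)
  (.node (.node (.node .nil (nat_lit 0x1c6628) (nat_lit 61876) (nat_lit 377824) .nil) (nat_lit 0x1c6942)
  (nat_lit 30673) (nat_lit 0x261698) .nil) (nat_lit 0x1c780c) (nat_lit 33476) (nat_lit 0x24c9c4) (.node (.node
  .nil (nat_lit 0x1c80ae) (nat_lit 8225) (nat_lit 0x28f602) .nil) (nat_lit 0x1c82d2) (nat_lit 81793) (nat_lit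
  0x29960c) .nil))) (nat_lit 0x1c8b22) (nat_lit 79796) (nat_lit 0x50436c) (.node (.node (.node (.node .nil
  (nat_lit 0x1c8e88) (nat_lit 73473) (nat_lit 0x2ba620) .nil) (nat_lit 0x1c902e) (nat_lit 8161) (nat_lit
  0x287642) .nil) (nat_lit 0x1c908e) (nat_lit 27793) (nat_lit 0x28b642) (.node (.node .nil (nat_lit 0x1c90a6)
  (nat_lit 27825) (nat_lit 0x28d642) .nil) (nat_lit 0x1c90aa) (nat_lit 21857) (nat_lit 0x28f640) .nil))
  (nat_lit 0x1c90ac) (nat_lit 34881) (nat_lit 0x28e642) (.node (.node (.node .nil (nat_lit 0x1c9990) (nat_lit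
  26609) (nat_lit 0x2a8654) .nil) (nat_lit 0x1ca21c) (nat_lit 41202) (nat_lit 0x25a81a) .nil) (nat_lit
  0x1ca740) (nat_lit 46994) (nat_lit 0x31b806) (.node (.node .nil (nat_lit 0x1ca990) (nat_lit 15121) (nat_lit
  0x2e8614) .nil) (nat_lit 0x1cb190) (nat_lit 23729) (nat_lit 0x2c8654) .nil))))) (nat_lit 0x1cb890) (nat_lit
  47185) (nat_lit 0x2e8644) (.node (.node (.node (.node (.node (.node .nil (nat_lit 0x1cb910) (nat_lit 20433)
  (nat_lit 0x2e0654) .nil) (nat_lit 0x1cb980) (nat_lit 6113) (nat_lit 0x2e8650) .nil) (nat_lit 0x1cc0d2)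
  (nat_lit 64129) (nat_lit 0x28968c) (.node (.node .nil (nat_lit 0x1cc252) (nat_lit 37251) (nat_lit 404510)
  .nil) (nat_lit 0x1cc292) (nat_lit 30609) (nat_lit 0x299684) .nil)) (nat_lit 0x1cc2c2) (nat_lit 68292)
  (nat_lit 0x4c6168) (.node (.node (.node .nil (nat_lit 0x1cc2d0) (nat_lit 58180) (nat_lit 942440) .nil)
  (nat_lit 0x1cdc02) (nat_lit 49620) (nat_lit 0x65414c) .nil) (nat_lit 0x1ce484) (nat_lit 76740) (nat_lit
  354760) (.node (.node .nil (nat_lit 0x1cf060) (nat_lit 79684) (nat_lit 0x2c43c8) .nil) (nat_lit 0x1d02e4)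
  (nat_lit 52883) (nat_lit 0x132654) .nil))) (nat_lit 0x1d04e4) (nat_lit 76036) (nat_lit 618304) (.node (.node
  (.node (.node .nil (nat_lit 0x1d0664) (nat_lit 67474) (nat_lit 0x302996) .nil) (nat_lit 0x1d06a4) (nat_lit
  42851) (nat_lit 0x132744) .nil) (nat_lit 0x1d06c4) (nat_lit 13747) (nat_lit 0x122754) (.node (.node .nil
  (nat_lit 0x1d06e0) (nat_lit 68130) (nat_lit 0x302d86) .nil) (nat_lit 0x1d098c) (nat_lit 12004) (nat_lit
  0x10ed44) .nil)) (nat_lit 0x1d0b22) (nat_lit 69521) (nat_lit 0x235710) (.node (.node (.node .nil (nat_lit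
  0x1d1498) (nat_lit 25858) (nat_lit 0x340f0a) .nil) (nat_lit 0x1d1834) (nat_lit 25602) (nat_lit 0x260b92)
  .nil) (nat_lit 0x1d18c2) (nat_lit 34258) (nat_lit 0x220f46) (.node (.node .nil (nat_lit 0x1d20b2) (nat_lit
  81185) (nat_lit 0x24d704) .nil) (nat_lit 0x1d221c) (nat_lit 83746) (nat_lit 0x25291a) .nil)))) (nat_lit
  0x1d310a) (nat_lit 61732) (nat_lit 0x70c5c0) (.node (.node (.node (.node (.node .nil (nat_lit 0x1d4498)
  (nat_lit 30273) (nat_lit 0x20a7a4) .nil) (nat_lit 0x1d4a48) (nat_lit 5457) (nat_lit 0x232788) .nil) (nat_lit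
  0x1d5098) (nat_lit 9010) (nat_lit 0x640f0a) (.node (.node .nil (nat_lit 0x1d5418) (nat_lit 11698) (nat_lit
  0x740b0a) .nil) (nat_lit 0x1d5488) (nat_lit 25474) (nat_lit 0x700f0a) .nil)) (nat_lit 0x1d5490) (nat_lit
  22242) (nat_lit 0x740f02) (.node (.node (.node .nil (nat_lit 0x1d6380) (nat_lit 46276) (nat_lit 0x1465e0)
  .nil) (nat_lit 0x1d7060) (nat_lit 36241) (nat_lit 0x2447c8) .nil) (nat_lit 0x1d821c) (nat_lit 52913)
  (nat_lit 0x292706) (.node (.node .nil (nat_lit 0x1d8322) (nat_lit 36916) (nat_lit 0x504768) .nil) (nat_lit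
  0x1d844a) (nat_lit 30068) (nat_lit 0x49c548) .nil))) (nat_lit 0x1d8922) (nat_lit 35331) (nat_lit 0x1b208e)
  (.node (.node (.node (.node .nil (nat_lit 0x1d8a22) (nat_lit 82547) (nat_lit 0x1b240e) .nil) (nat_lit
  0x1d8b02) (nat_lit 63267) (nat_lit 0x1a248e) .nil) (nat_lit 0x1d8b20) (nat_lit 56179) (nat_lit 0x1b248c)
  (.node (.node .nil (nat_lit 0x1d9504) (nat_lit 55812) (nat_lit 0x314d48) .nil) (nat_lit 0x1da01c) (nat_lit
  83602) (nat_lit 0x25891a) .nil)) (nat_lit 0x1da20c) (nat_lit 42897) (nat_lit 0x2d2702) (.node (.node (.node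
  .nil (nat_lit 0x1da214) (nat_lit 61218) (nat_lit 0x25a912) .nil) (nat_lit 0x1da218) (nat_lit 13793) (nat_lit
  0x2d2704) .nil) (nat_lit 0x1db060) (nat_lit 32450) (nat_lit 0x218b86) (.node (.node .nil (nat_lit 0x1dd060)
  (nat_lit 61586) (nat_lit 0x608b86) .nil) (nat_lit 0x1de060) (nat_lit 56868) (nat_lit 804808) .nil))))))
  (nat_lit 0x1df020) (nat_lit 36276) (nat_lit 0x2447c8) (.node (.node (.node (.node (.node (.node (.node .nil
  (nat_lit 0x1df040) (nat_lit 71425) (nat_lit 0x2c07c8) .nil) (nat_lit 0x1e014e) (nat_lit 71220) (nat_lit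
  0x58c950) .nil) (nat_lit 0x1e024e) (nat_lit 58577) (nat_lit 0x31360a) (.node (.node .nil (nat_lit 0x1e030e)
  (nat_lit 61812) (nat_lit 0x50c970) .nil) (nat_lit 0x1e0346) (nat_lit 65649) (nat_lit 0x31161a) .nil))
  (nat_lit 0x1e034a) (nat_lit 83667) (nat_lit 189590) (.node (.node (.node .nil (nat_lit 0x1e034c) (nat_lit
  41459) (nat_lit 189652) .nil) (nat_lit 0x1e0a70) (nat_lit 33089) (nat_lit 0x33460c) .nil) (nat_lit 0x1e0c26)
  (nat_lit 43025) (nat_lit 0x325622) (.node (.node .nil (nat_lit 0x1e0e88) (nat_lit 31137) (nat_lit 0x33a620)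
  .nil) (nat_lit 0x1e1132) (nat_lit 75602) (nat_lit 0x245ac2) .nil))) (nat_lit 0x1e18c2) (nat_lit 26339)
  (nat_lit 0x2a6216) (.node (.node (.node (.node .nil (nat_lit 0x1e2270) (nat_lit 21777) (nat_lit 0x35460c)
  .nil) (nat_lit 0x1e2518) (nat_lit 27410) (nat_lit 0x35580a) .nil) (nat_lit 0x1e2870) (nat_lit 30899)
  (nat_lit 0xf6034) (.node (.node .nil (nat_lit 0x1e2a30) (nat_lit 15265) (nat_lit 0x374604) .nil) (nat_lit
  0x1e2a50) (nat_lit 8113) (nat_lit 0x37060c) .nil)) (nat_lit 0x1e2a60) (nat_lit 47891) (nat_lit 746548)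
  (.node (.node (.node .nil (nat_lit 0x1e34a0) (nat_lit 60116) (nat_lit 0x2163d0) .nil) (nat_lit 0x1e380c)
  (nat_lit 54260) (nat_lit 0x20c9d4) .nil) (nat_lit 0x1e4132) (nat_lit 14579) (nat_lit 485510) (.node (.node
  .nil (nat_lit 0x1e5032) (nat_lit 41251) (nat_lit 0x276806) .nil) (nat_lit 0x1e5112) (nat_lit 77027) (nat_lit
  0x266886) .nil)))) (nat_lit 0x1e5122) (nat_lit 48979) (nat_lit 0x236886) (.node (.node (.node (.node (.node
  .nil (nat_lit 0x1e5130) (nat_lit 43331) (nat_lit 0x276884) .nil) (nat_lit 0x1e580c) (nat_lit 95508) (nat_lit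
  0x24c954) .nil) (nat_lit 0x1e6380) (nat_lit 47076) (nat_lit 0x1461f0) (.node (.node .nil (nat_lit 0x1e680c)
  (nat_lit 35124) (nat_lit 313812) .nil) (nat_lit 0x1e700c) (nat_lit 44612) (nat_lit 0x24c9d0) .nil)) (nat_lit
  0x1e7804) (nat_lit 74580) (nat_lit 0x2449d4) (.node (.node (.node .nil (nat_lit 0x1e7808) (nat_lit 79556)
  (nat_lit 0x24c1d4) .nil) (nat_lit 0x1e81e0) (nat_lit 85892) (nat_lit 0x186358) .nil) (nat_lit 0x1e8688)
  (nat_lit 81809) (nat_lit 0x39a620) (.node (.node .nil (nat_lit 0x1e8a88) (nat_lit 95249) (nat_lit 0x3ba600)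
  .nil) (nat_lit 0x1e8c88) (nat_lit 95617) (nat_lit 0x3aa620) .nil))) (nat_lit 0x1e8e08) (nat_lit 69235)
  (nat_lit 713996) (.node (.node (.node (.node .nil (nat_lit 0x1e8e80) (nat_lit 96481) (nat_lit 0x3b8620)
  .nil) (nat_lit 0x1e9058) (nat_lit 27138) (nat_lit 0x24ca0e) .nil) (nat_lit 0x1e9504) (nat_lit 53460)
  (nat_lit 0x314958) (.node (.node .nil (nat_lit 0x1ec224) (nat_lit 58497) (nat_lit 0x394682) .nil) (nat_lit
  0x1f0612) (nat_lit 75747) (nat_lit 0x166506) .nil)) (nat_lit 0x1f08c2) (nat_lit 50689) (nat_lit 0x329708)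
  (.node (.node (.node .nil (nat_lit 0x1f10c2) (nat_lit 5651) (nat_lit 0x326216) .nil) (nat_lit 0x1f1504)
  (nat_lit 67188) (nat_lit 0x314d50) .nil) (nat_lit 0x1f1842) (nat_lit 13281) (nat_lit 0x321748) (.node (.node
  .nil (nat_lit 0x1f1882) (nat_lit 35235) (nat_lit 0x3a6206) .nil) (nat_lit 0x1f18c0) (nat_lit 18465) (nat_lit
  0x328748) .nil))))) (nat_lit 0x1f2380) (nat_lit 20036) (nat_lit 0x1065f0) (.node (.node (.node (.node (.node
  (.node .nil (nat_lit 0x1f4380) (nat_lit 26420) (nat_lit 0x146570) .nil) (nat_lit 0x1f6180) (nat_lit 50980)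
  (nat_lit 0x1465d0) .nil) (nat_lit 0x1f6280) (nat_lit 5732) (nat_lit 288240) (.node (.node .nil (nat_lit
  0x1f6300) (nat_lit 23540) (nat_lit 0x1445f0) .nil) (nat_lit 0x1f8504) (nat_lit 63587) (nat_lit 0x1261cc)
  .nil)) (nat_lit 0x1f9104) (nat_lit 31906) (nat_lit 0x20db12) (.node (.node (.node .nil (nat_lit 0x1f9404)
  (nat_lit 15748) (nat_lit 0x214d58) .nil) (nat_lit 0x1f9500) (nat_lit 34964) (nat_lit 0x314558) .nil)
  (nat_lit 0x1fc810) (nat_lit 64948) (nat_lit 410972) (.node (.node .nil (nat_lit 0x200eda) (nat_lit 61889)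
  (nat_lit 0x43b02c) .nil) (nat_lit 0x20166e) (nat_lit 97732) (nat_lit 0x699a20) .nil))) (nat_lit 0x201d3a)
  (nat_lit 2435) (nat_lit 0x2d9182) (.node (.node (.node (.node .nil (nat_lit 0x201dcc) (nat_lit 25572)
  (nat_lit 0x39b804) .nil) (nat_lit 0x2027e4) (nat_lit 48452) (nat_lit 0x193aa0) .nil) (nat_lit 0x2029f8)
  (nat_lit 1058) (nat_lit 464044) (.node (.node .nil (nat_lit 0x202d96) (nat_lit 81859) (nat_lit 791522) .nil)
  (nat_lit 0x2031ae) (nat_lit 81283) (nat_lit 0x2192e2) .nil)) (nat_lit 0x2034f2) (nat_lit 51203) (nat_lit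
  0x251332) (.node (.node (.node .nil (nat_lit 0x20385e) (nat_lit 40082) (nat_lit 459388) .nil) (nat_lit
  0x203f50) (nat_lit 96625) (nat_lit 0x47007c) .nil) (nat_lit 0x204aec) (nat_lit 33233) (nat_lit 0x43e08a)
  (.node (.node .nil (nat_lit 0x204f46) (nat_lit 8019) (nat_lit 531922) .nil) (nat_lit 0x204fb0) (nat_lit
  85986) (nat_lit 0x5634a0) .nil)))) (nat_lit 0x2052ba) (nat_lit 22004) (nat_lit 0x66b220) (.node (.node
  (.node (.node (.node .nil (nat_lit 0x2056d4) (nat_lit 95858) (nat_lit 0x542634) .nil) (nat_lit 0x20585e)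
  (nat_lit 83442) (nat_lit 0x46027c) .nil) (nat_lit 0x205ca6) (nat_lit 84881) (nat_lit 0x42d0e2) (.node (.node
  .nil (nat_lit 0x2063d2) (nat_lit 68947) (nat_lit 270002) .nil) (nat_lit 0x206678) (nat_lit 818) (nat_lit
  0x5520ac) .nil)) (nat_lit 0x20668e) (nat_lit 899) (nat_lit 40802) (.node (.node (.node .nil (nat_lit
  0x20685e) (nat_lit 67745) (nat_lit 0x46308e) .nil) (nat_lit 0x206d2c) (nat_lit 27746) (nat_lit 0x5310b8)
  .nil) (nat_lit 0x20705e) (nat_lit 94785) (nat_lit 0x4430ce) (.node (.node .nil (nat_lit 0x207598) (nat_lit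
  49681) (nat_lit 0x44a0f4) .nil) (nat_lit 0x20781e) (nat_lit 80466) (nat_lit 0x470278) .nil))) (nat_lit
  0x20784e) (nat_lit 90228) (nat_lit 0x6c9884) (.node (.node (.node (.node .nil (nat_lit 0x207856) (nat_lit
  76098) (nat_lit 0x470274) .nil) (nat_lit 0x20785a) (nat_lit 85636) (nat_lit 0x6e9084) .nil) (nat_lit
  0x20785c) (nat_lit 86274) (nat_lit 0x47023c) (.node (.node .nil (nat_lit 0x207b84) (nat_lit 52306) (nat_lit
  0x433630) .nil) (nat_lit 0x2086da) (nat_lit 92322) (nat_lit 0x14a46c) .nil)) (nat_lit 0x2087e4) (nat_lit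
  57220) (nat_lit 0x193a28) (.node (.node (.node .nil (nat_lit 0x20896e) (nat_lit 56084) (nat_lit 0x589a0c)
  .nil) (nat_lit 0x208ada) (nat_lit 66772) (nat_lit 0x4ab02c) .nil) (nat_lit 0x208cda) (nat_lit 66737)
  (nat_lit 0x4ab02c) (.node (.node .nil (nat_lit 0x208e5a) (nat_lit 96020) (nat_lit 0x4b902c) .nil) (nat_lit
  0x208e9a) (nat_lit 61940) (nat_lit 0x43b02c) .nil)))))))
def t6160_11 : T := (.node (.node (.node (.node (.node (.node (.node (.node .nil (nat_lit 0x208ed2) (nat_lit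
  95985) (nat_lit 0x4b902c) .nil) (nat_lit 0x208ed8) (nat_lit 85236) (nat_lit 765996) .nil) (nat_lit 0x2090fc)
  (nat_lit 25074) (nat_lit 296636) (.node (.node .nil (nat_lit 0x209556) (nat_lit 35025) (nat_lit 0x48107e)
  .nil) (nat_lit 0x209ba8) (nat_lit 54833) (nat_lit 0x4be050) .nil)) (nat_lit 0x209ca6) (nat_lit 91825)
  (nat_lit 0x4ad062) (.node (.node (.node .nil (nat_lit 0x20a3e4) (nat_lit 16913) (nat_lit 0x4dc01a) .nil)
  (nat_lit 0x20a43e) (nat_lit 93441) (nat_lit 0x4c7026) .nil) (nat_lit 0x20a5e4) (nat_lit 49633) (nat_lit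
  0x4cc03a) (.node (.node .nil (nat_lit 0x20a6e4) (nat_lit 78129) (nat_lit 0x4dc02a) .nil) (nat_lit 0x20a764)
  (nat_lit 38305) (nat_lit 0x4d403a) .nil))) (nat_lit 0x20a7a4) (nat_lit 13140) (nat_lit 0x113aa8) (.node
  (.node (.node (.node .nil (nat_lit 0x20a7c4) (nat_lit 44193) (nat_lit 0x4d803a) .nil) (nat_lit 0x20a7e0)
  (nat_lit 52628) (nat_lit 0x1932a8) .nil) (nat_lit 0x20b296) (nat_lit 79249) (nat_lit 0x4d9046) (.node (.node
  .nil (nat_lit 0x20b598) (nat_lit 17572) (nat_lit 0x33b088) .nil) (nat_lit 0x20b934) (nat_lit 145) (nat_lit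
  0x4e4056) .nil)) (nat_lit 0x20b9c2) (nat_lit 49745) (nat_lit 0x4e9058) (.node (.node (.node .nil (nat_lit
  0x20bc68) (nat_lit 74738) (nat_lit 0x1382ac) .nil) (nat_lit 0x20c276) (nat_lit 49698) (nat_lit 0x44a0f4)
  .nil) (nat_lit 0x20c72a) (nat_lit 62801) (nat_lit 0x4970b0) (.node (.node .nil (nat_lit 0x20c9d4) (nat_lit
  27313) (nat_lit 0x4a809e) .nil) (nat_lit 0x20cca6) (nat_lit 65985) (nat_lit 0x4ad0a2) .nil)))) (nat_lit
  0x20d4a6) (nat_lit 93329) (nat_lit 0x48d0e2) (.node (.node (.node (.node (.node .nil (nat_lit 0x20d598)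
  (nat_lit 17025) (nat_lit 0x48a0f4) .nil) (nat_lit 0x20d8a6) (nat_lit 84113) (nat_lit 0x4ad0c2) .nil)
  (nat_lit 0x20db12) (nat_lit 14034) (nat_lit 0x46b260) (.node (.node .nil (nat_lit 0x20dc26) (nat_lit 60196)
  (nat_lit 0x651a0c) .nil) (nat_lit 0x20dc86) (nat_lit 85940) (nat_lit 0x65380c) .nil)) (nat_lit 0x20dca2)
  (nat_lit 92737) (nat_lit 0x4ad0e0) (.node (.node (.node .nil (nat_lit 0x20dca4) (nat_lit 63697) (nat_lit
  0x4ac0e2) .nil) (nat_lit 0x20e0ea) (nat_lit 82692) (nat_lit 0x4cb288) .nil) (nat_lit 0x20e598) (nat_lit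
  57827) (nat_lit 301992) (.node (.node .nil (nat_lit 0x20eb48) (nat_lit 61906) (nat_lit 0x43b02c) .nil)
  (nat_lit 0x20ee14) (nat_lit 6387) (nat_lit 793960) .nil))) (nat_lit 0x20f198) (nat_lit 41043) (nat_lit
  0x249aa8) (.node (.node (.node (.node .nil (nat_lit 0x20f22c) (nat_lit 16322) (nat_lit 0x41a2b8) .nil)
  (nat_lit 0x20f498) (nat_lit 66435) (nat_lit 0x249b28) .nil) (nat_lit 0x20f518) (nat_lit 54001) (nat_lit
  0x4c20f4) (.node (.node .nil (nat_lit 0x20f588) (nat_lit 65298) (nat_lit 0x519628) .nil) (nat_lit 0x20f590)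
  (nat_lit 58819) (nat_lit 0x241ba8) .nil)) (nat_lit 0x20f642) (nat_lit 5891) (nat_lit 0x201d3a) (.node (.node
  (.node .nil (nat_lit 0x2106b6) (nat_lit 47681) (nat_lit 0x41d126) .nil) (nat_lit 0x210aec) (nat_lit 62468)
  (nat_lit 572964) .nil) (nat_lit 0x210de2) (nat_lit 84945) (nat_lit 0x42d138) (.node (.node .nil (nat_lit
  0x2111ae) (nat_lit 53299) (nat_lit 0x3192c2) .nil) (nat_lit 0x211556) (nat_lit 67297) (nat_lit 0x40117e)
  .nil))))) (nat_lit 0x211b4a) (nat_lit 94817) (nat_lit 0x433158) (.node (.node (.node (.node (.node (.node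
  .nil (nat_lit 0x211f24) (nat_lit 39954) (nat_lit 0x1233b0) .nil) (nat_lit 0x2121ae) (nat_lit 28051) (nat_lit
  0x1192e2) .nil) (nat_lit 0x2123d2) (nat_lit 94707) (nat_lit 0x1416b2) (.node (.node .nil (nat_lit 0x2124dc)
  (nat_lit 97315) (nat_lit 0x149370) .nil) (nat_lit 0x212f88) (nat_lit 11297) (nat_lit 0x47a130) .nil))
  (nat_lit 0x2130ae) (nat_lit 16067) (nat_lit 0x319262) (.node (.node (.node .nil (nat_lit 0x21312e) (nat_lit
  28851) (nat_lit 0x3190e2) .nil) (nat_lit 0x21318e) (nat_lit 55921) (nat_lit 0x44b152) .nil) (nat_lit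
  0x2131a6) (nat_lit 33361) (nat_lit 0x44d152) (.node (.node .nil (nat_lit 0x2131aa) (nat_lit 34977) (nat_lit
  0x44f150) .nil) (nat_lit 0x2131ac) (nat_lit 57955) (nat_lit 0x3192e0) .nil))) (nat_lit 0x213274) (nat_lit
  55873) (nat_lit 0x45414e) (.node (.node (.node (.node .nil (nat_lit 0x21361a) (nat_lit 95683) (nat_lit
  0x349522) .nil) (nat_lit 0x213c68) (nat_lit 30660) (nat_lit 0x299684) .nil) (nat_lit 0x2142ec) (nat_lit
  41299) (nat_lit 0x119e50) (.node (.node .nil (nat_lit 0x2143d2) (nat_lit 90083) (nat_lit 0x141e92) .nil)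
  (nat_lit 0x21472a) (nat_lit 64849) (nat_lit 0x4171b0) .nil)) (nat_lit 0x2148ec) (nat_lit 76547) (nat_lit
  0x199a50) (.node (.node (.node .nil (nat_lit 0x214936) (nat_lit 42676) (nat_lit 0x561e04) .nil) (nat_lit
  0x214a6c) (nat_lit 16081) (nat_lit 0x43618a) .nil) (nat_lit 0x214aac) (nat_lit 43393) (nat_lit 0x43e182)
  (.node (.node .nil (nat_lit 0x214acc) (nat_lit 28081) (nat_lit 0x43a18a) .nil) (nat_lit 0x214ae4) (nat_lit
  28865) (nat_lit 0x43c18a) .nil)))) (nat_lit 0x214ae8) (nat_lit 14993) (nat_lit 0x43e188) (.node (.node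
  (.node (.node (.node .nil (nat_lit 0x214d58) (nat_lit 6546) (nat_lit 0x56112c) .nil) (nat_lit 0x21543c)
  (nat_lit 12738) (nat_lit 0x5403b8) .nil) (nat_lit 0x2154ca) (nat_lit 57314) (nat_lit 0x50076c) (.node (.node
  .nil (nat_lit 0x2161d2) (nat_lit 61745) (nat_lit 0x44919c) .nil) (nat_lit 0x2162d2) (nat_lit 91745) (nat_lit
  0x45918c) .nil)) (nat_lit 0x216352) (nat_lit 65235) (nat_lit 0x141cb2) (.node (.node (.node .nil (nat_lit
  0x216392) (nat_lit 82067) (nat_lit 0x141ea2) .nil) (nat_lit 0x2163c2) (nat_lit 73779) (nat_lit 0x101eb2)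
  .nil) (nat_lit 0x2163d0) (nat_lit 31507) (nat_lit 0x141eb0) (.node (.node .nil (nat_lit 0x216466) (nat_lit
  75042) (nat_lit 0x5101f4) .nil) (nat_lit 0x216e14) (nat_lit 4324) (nat_lit 466084) .nil))) (nat_lit
  0x2176a0) (nat_lit 75537) (nat_lit 0x45c1e0) (.node (.node (.node (.node .nil (nat_lit 0x217d02) (nat_lit
  8596) (nat_lit 0x751484) .nil) (nat_lit 0x218556) (nat_lit 63985) (nat_lit 0x48113e) .nil) (nat_lit
  0x21872a) (nat_lit 56882) (nat_lit 0x10b1e8) (.node (.node .nil (nat_lit 0x218b70) (nat_lit 52131) (nat_lit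
  0x1d1498) .nil) (nat_lit 0x218b86) (nat_lit 14290) (nat_lit 177520) .nil)) (nat_lit 0x219156) (nat_lit
  55953) (nat_lit 0x48115e) (.node (.node (.node .nil (nat_lit 0x2192e2) (nat_lit 51937) (nat_lit 0x49d148)
  .nil) (nat_lit 0x219456) (nat_lit 33393) (nat_lit 0x48116e) .nil) (nat_lit 0x219516) (nat_lit 71108)
  (nat_lit 0x731c08) (.node (.node .nil (nat_lit 0x219546) (nat_lit 82369) (nat_lit 0x48117a) .nil) (nat_lit
  0x219552) (nat_lit 91906) (nat_lit 0x149364) .nil)))))) (nat_lit 0x219554) (nat_lit 95473) (nat_lit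
  0x48017e) (.node (.node (.node (.node (.node (.node (.node .nil (nat_lit 0x21968c) (nat_lit 29202) (nat_lit
  0x10a738) .nil) (nat_lit 0x219c68) (nat_lit 66466) (nat_lit 0x1283ac) .nil) (nat_lit 0x21a24e) (nat_lit
  91716) (nat_lit 0x489ca8) (.node (.node .nil (nat_lit 0x21a2b8) (nat_lit 12610) (nat_lit 370088) .nil)
  (nat_lit 0x21a91a) (nat_lit 45891) (nat_lit 0x1c90aa) .nil)) (nat_lit 0x21ac68) (nat_lit 36226) (nat_lit
  0x1381ac) (.node (.node (.node .nil (nat_lit 0x21ae14) (nat_lit 5379) (nat_lit 0x1c1568) .nil) (nat_lit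
  0x21b468) (nat_lit 60978) (nat_lit 0x1183ac) .nil) (nat_lit 0x21b868) (nat_lit 64148) (nat_lit 0x28968c)
  (.node (.node .nil (nat_lit 0x21bc28) (nat_lit 38435) (nat_lit 0x399128) .nil) (nat_lit 0x21bc48) (nat_lit
  36436) (nat_lit 0x29948c) .nil))) (nat_lit 0x21bc60) (nat_lit 56818) (nat_lit 0x1383a4) (.node (.node (.node
  (.node .nil (nat_lit 0x21c09e) (nat_lit 83538) (nat_lit 0x448578) .nil) (nat_lit 0x21c32a) (nat_lit 40163)
  (nat_lit 0x119c8a) .nil) (nat_lit 0x21c4f0) (nat_lit 79027) (nat_lit 0x151b18) (.node (.node .nil (nat_lit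
  0x21c52a) (nat_lit 79698) (nat_lit 0x5091e8) .nil) (nat_lit 0x21c62a) (nat_lit 36306) (nat_lit 0x50a1e8)
  .nil)) (nat_lit 0x21c70a) (nat_lit 76163) (nat_lit 0x109d8a) (.node (.node (.node .nil (nat_lit 0x21c722)
  (nat_lit 30579) (nat_lit 0x111d8a) .nil) (nat_lit 0x21c728) (nat_lit 38081) (nat_lit 0x4961b0) .nil)
  (nat_lit 0x21ce14) (nat_lit 8514) (nat_lit 0x56a130) (.node (.node .nil (nat_lit 0x21d258) (nat_lit 87233)
  (nat_lit 0x4921cc) .nil) (nat_lit 0x21d90c) (nat_lit 55587) (nat_lit 0x3898c8) .nil)))) (nat_lit 0x21e614)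
  (nat_lit 2306) (nat_lit 0x55a130) (.node (.node (.node (.node (.node .nil (nat_lit 0x21e9a0) (nat_lit 64531)
  (nat_lit 0x191aa8) .nil) (nat_lit 0x21ea14) (nat_lit 10932) (nat_lit 400556) .nil) (nat_lit 0x21ec14)
  (nat_lit 4900) (nat_lit 466060) (.node (.node .nil (nat_lit 0x21ee04) (nat_lit 3684) (nat_lit 335020) .nil)
  (nat_lit 0x21ee10) (nat_lit 1092) (nat_lit 464044) .nil)) (nat_lit 0x21f032) (nat_lit 40148) (nat_lit
  0x661688) (.node (.node (.node .nil (nat_lit 0x21f0c4) (nat_lit 27057) (nat_lit 0x4c81ca) .nil) (nat_lit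
  0x2203ea) (nat_lit 52179) (nat_lit 120466) .nil) (nat_lit 0x2206b6) (nat_lit 21073) (nat_lit 0x51d026)
  (.node (.node .nil (nat_lit 0x220d3a) (nat_lit 11044) (nat_lit 0x539214) .nil) (nat_lit 0x220f46) (nat_lit
  15201) (nat_lit 0x53103a) .nil))) (nat_lit 0x2210fc) (nat_lit 51826) (nat_lit 280252) (.node (.node (.node
  (.node .nil (nat_lit 0x22153a) (nat_lit 10020) (nat_lit 0x739210) .nil) (nat_lit 0x22193a) (nat_lit 8627)
  (nat_lit 0x2dd082) .nil) (nat_lit 0x221a8e) (nat_lit 724) (nat_lit 0x60b834) (.node (.node .nil (nat_lit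
  0x221c3a) (nat_lit 9700) (nat_lit 0x639214) .nil) (nat_lit 0x221d1a) (nat_lit 5060) (nat_lit 0x739014)
  .nil)) (nat_lit 0x221d2a) (nat_lit 1284) (nat_lit 0x719214) (.node (.node (.node .nil (nat_lit 0x221d32)
  (nat_lit 4484) (nat_lit 0x731214) .nil) (nat_lit 0x221d38) (nat_lit 3860) (nat_lit 0x339214) .nil) (nat_lit
  0x221ee0) (nat_lit 74980) (nat_lit 0x293234) (.node (.node .nil (nat_lit 0x222176) (nat_lit 90193) (nat_lit
  0x54501e) .nil) (nat_lit 0x222678) (nat_lit 9489) (nat_lit 0x55602c) .nil))))) (nat_lit 0x222ad4) (nat_lit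
  52386) (nat_lit 484404) (.node (.node (.node (.node (.node (.node .nil (nat_lit 0x222f88) (nat_lit 15473)
  (nat_lit 0x57a030) .nil) (nat_lit 0x2233b0) (nat_lit 62306) (nat_lit 358048) .nil) (nat_lit 0x2239c2)
  (nat_lit 44353) (nat_lit 0x569058) (.node (.node .nil (nat_lit 0x224678) (nat_lit 4276) (nat_lit 0xf9230)
  .nil) (nat_lit 0x224746) (nat_lit 35587) (nat_lit 24018) .nil)) (nat_lit 0x2248f2) (nat_lit 87185) (nat_lit
  0x52d08c) (.node (.node (.node .nil (nat_lit 0x224b46) (nat_lit 21713) (nat_lit 0x53109a) .nil) (nat_lit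
  0x224c9c) (nat_lit 45522) (nat_lit 0x564438) .nil) (nat_lit 0x224d46) (nat_lit 24996) (nat_lit 0x5d1814)
  (.node (.node .nil (nat_lit 0x224e46) (nat_lit 21652) (nat_lit 0x4d1834) .nil) (nat_lit 0x224f06) (nat_lit
  7972) (nat_lit 0x551834) .nil))) (nat_lit 0x224f42) (nat_lit 17140) (nat_lit 0x5d1034) (.node (.node (.node
  (.node .nil (nat_lit 0x224f44) (nat_lit 48065) (nat_lit 0x5300ba) .nil) (nat_lit 0x225196) (nat_lit 26993)
  (nat_lit 0x5090d6) .nil) (nat_lit 0x2254ca) (nat_lit 31923) (nat_lit 0x20db12) (.node (.node .nil (nat_lit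
  0x225a34) (nat_lit 26785) (nat_lit 0x5340c6) .nil) (nat_lit 0x2261cc) (nat_lit 57666) (nat_lit 0x41543c)
  .nil)) (nat_lit 0x226278) (nat_lit 3490) (nat_lit 0x4560ac) (.node (.node (.node .nil (nat_lit 0x226478)
  (nat_lit 3588) (nat_lit 0xf9290) .nil) (nat_lit 0x2265a2) (nat_lit 73732) (nat_lit 0x553290) .nil) (nat_lit
  0x226638) (nat_lit 2100) (nat_lit 496304) (.node (.node .nil (nat_lit 0x226658) (nat_lit 801) (nat_lit
  0x5520ac) .nil) (nat_lit 0x226668) (nat_lit 6452) (nat_lit 889520) .nil)))) (nat_lit 0x226670) (nat_lit 964)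
  (nat_lit 987824) (.node (.node (.node (.node (.node .nil (nat_lit 0x22730a) (nat_lit 90417) (nat_lit
  0x5530d0) .nil) (nat_lit 0x2278a8) (nat_lit 62097) (nat_lit 0x56e0c0) .nil) (nat_lit 0x2280fc) (nat_lit
  43042) (nat_lit 312508) (.node (.node .nil (nat_lit 0x22858e) (nat_lit 75313) (nat_lit 0x58b032) .nil)
  (nat_lit 0x228b70) (nat_lit 7251) (nat_lit 873624) .nil)) (nat_lit 0x228e2c) (nat_lit 12179) (nat_lit
  644424) (.node (.node (.node .nil (nat_lit 0x22907c) (nat_lit 13986) (nat_lit 311996) .nil) (nat_lit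
  0x2290bc) (nat_lit 34626) (nat_lit 313016) .nil) (nat_lit 0x2290dc) (nat_lit 48194) (nat_lit 312892) (.node
  (.node .nil (nat_lit 0x2290ec) (nat_lit 27874) (nat_lit 50876) .nil) (nat_lit 0x2290f4) (nat_lit 8322)
  (nat_lit 313012) .nil))) (nat_lit 0x2290f8) (nat_lit 21922) (nat_lit 313004) (.node (.node (.node (.node
  .nil (nat_lit 0x229326) (nat_lit 60868) (nat_lit 0x701a38) .nil) (nat_lit 0x229748) (nat_lit 29697) (nat_lit
  0x592078) .nil) (nat_lit 0x2299c2) (nat_lit 19636) (nat_lit 0x78301c) (.node (.node .nil (nat_lit 0x22a24e)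
  (nat_lit 97043) (nat_lit 54394) .nil) (nat_lit 0x22a712) (nat_lit 17121) (nat_lit 0x5d1034) .nil)) (nat_lit
  0x22a9c2) (nat_lit 55268) (nat_lit 0x58309c) (.node (.node (.node .nil (nat_lit 0x22acb0) (nat_lit 87075)
  (nat_lit 873256) .nil) (nat_lit 0x22b1c2) (nat_lit 46132) (nat_lit 0x783098) .nil) (nat_lit 0x22b8c2)
  (nat_lit 73956) (nat_lit 0x68309c) (.node (.node .nil (nat_lit 0x22b942) (nat_lit 38562) (nat_lit 250468)
  .nil) (nat_lit 0x22b982) (nat_lit 56194) (nat_lit 251488) .nil)))))))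
def t6160_12 : T := (.node (.node (.node (.node (.node (.node (.node (.node .nil (nat_lit 0x22ba18) (nat_lit
  45601) (nat_lit 0x5f2044) .nil) (nat_lit 0x22c15a) (nat_lit 29059) (nat_lit 317594) (.node .nil (nat_lit
  0x22c534) (nat_lit 73572) (nat_lit 0x171a18) .nil)) (nat_lit 0x22d90c) (nat_lit 39761) (nat_lit 0x5a20d2)
  (.node (.node .nil (nat_lit 0x22dc50) (nat_lit 42178) (nat_lit 0x56c224) .nil) (nat_lit 0x22e864) (nat_lit
  77812) (nat_lit 793244) .nil)) (nat_lit 0x22ec0a) (nat_lit 84595) (nat_lit 579882) (.node (.node (.node .nil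
  (nat_lit 0x22f032) (nat_lit 7491) (nat_lit 0x25582a) .nil) (nat_lit 0x2302b6) (nat_lit 5698) (nat_lit
  288240) .nil) (nat_lit 0x2304b6) (nat_lit 23506) (nat_lit 0x1445f0) (.node (.node .nil (nat_lit 0x23056c)
  (nat_lit 37185) (nat_lit 0x50613a) .nil) (nat_lit 0x230636) (nat_lit 46529) (nat_lit 0x515126) .nil)))
  (nat_lit 0x230696) (nat_lit 26386) (nat_lit 0x146570) (.node (.node (.node (.node .nil (nat_lit 0x2306a6)
  (nat_lit 20002) (nat_lit 0x1065f0) .nil) (nat_lit 0x2306b2) (nat_lit 45569) (nat_lit 0x51d124) .nil)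
  (nat_lit 0x2306b4) (nat_lit 7329) (nat_lit 0x51c126) (.node (.node .nil (nat_lit 0x230b70) (nat_lit 46483)
  (nat_lit 0x1d5490) .nil) (nat_lit 0x230f88) (nat_lit 9233) (nat_lit 0x53a130) .nil)) (nat_lit 0x2313c4)
  (nat_lit 94226) (nat_lit 30516) (.node (.node (.node .nil (nat_lit 0x2314ca) (nat_lit 28612) (nat_lit
  0x69b410) .nil) (nat_lit 0x231866) (nat_lit 16433) (nat_lit 0x52514a) .nil) (nat_lit 0x23224e) (nat_lit
  84452) (nat_lit 0x489cb0) (.node (.node .nil (nat_lit 0x232788) (nat_lit 2289) (nat_lit 0x55a130) .nil)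
  (nat_lit 0x23283c) (nat_lit 59010) (nat_lit 475576) .nil)))) (nat_lit 0x232b88) (nat_lit 22433) (nat_lit
  0x57a110) (.node (.node (.node (.node (.node .nil (nat_lit 0x232c52) (nat_lit 3138) (nat_lit 0x174164) .nil)
  (nat_lit 0x232d88) (nat_lit 8497) (nat_lit 0x56a130) .nil) (nat_lit 0x232e88) (nat_lit 3233) (nat_lit
  0x57a120) (.node (.node .nil (nat_lit 0x232f08) (nat_lit 10689) (nat_lit 0x572130) .nil) (nat_lit 0x232f80)
  (nat_lit 10081) (nat_lit 0x578130) .nil)) (nat_lit 0x233158) (nat_lit 79889) (nat_lit 0x54215c) (.node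
  (.node (.node .nil (nat_lit 0x2341b8) (nat_lit 47907) (nat_lit 0x15da80) .nil) (nat_lit 0x2344ca) (nat_lit
  49188) (nat_lit 0x4db410) .nil) (nat_lit 0x234a1a) (nat_lit 75924) (nat_lit 0x469434) (.node (.node .nil
  (nat_lit 0x2350ca) (nat_lit 53508) (nat_lit 0x6cb410) .nil) (nat_lit 0x23544a) (nat_lit 73923) (nat_lit
  0x30d912) .nil))) (nat_lit 0x23548a) (nat_lit 36882) (nat_lit 0x504768) (.node (.node (.node (.node .nil
  (nat_lit 0x2354c2) (nat_lit 77828) (nat_lit 0x6d3410) .nil) (nat_lit 0x2354c8) (nat_lit 36289) (nat_lit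
  0x50a1e8) .nil) (nat_lit 0x235710) (nat_lit 39059) (nat_lit 0x345d80) (.node (.node .nil (nat_lit 0x23590c)
  (nat_lit 36019) (nat_lit 0x38d8c0) .nil) (nat_lit 0x236324) (nat_lit 31524) (nat_lit 0x141eb0) .nil))
  (nat_lit 0x236886) (nat_lit 23697) (nat_lit 0x569182) (.node (.node (.node .nil (nat_lit 0x237032) (nat_lit
  39537) (nat_lit 0x5451c4) .nil) (nat_lit 0x237a40) (nat_lit 39393) (nat_lit 0x5701c8) .nil) (nat_lit
  0x23824e) (nat_lit 94676) (nat_lit 0x489c38) (.node (.node .nil (nat_lit 0x238370) (nat_lit 77523) (nat_lit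
  0x155498) .nil) (nat_lit 0x2388aa) (nat_lit 59796) (nat_lit 0x40b61c) .nil))))) (nat_lit 0x238970) (nat_lit
  20995) (nat_lit 0x1d5098) (.node (.node (.node (.node (.node (.node .nil (nat_lit 0x238a70) (nat_lit 27235)
  (nat_lit 0x1d5418) .nil) (nat_lit 0x238b30) (nat_lit 51539) (nat_lit 0x1d5488) .nil) (nat_lit 0x238b50)
  (nat_lit 47619) (nat_lit 0x1c5498) (.node (.node .nil (nat_lit 0x238b60) (nat_lit 24323) (nat_lit 0x195498)
  .nil) (nat_lit 0x238cc4) (nat_lit 62561) (nat_lit 0x5a812a) .nil)) (nat_lit 0x2395a0) (nat_lit 52658)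
  (nat_lit 0x10d7a0) (.node (.node (.node .nil (nat_lit 0x23990c) (nat_lit 72385) (nat_lit 0x5a2152) .nil)
  (nat_lit 0x239e02) (nat_lit 30468) (nat_lit 0x61143c) .nil) (nat_lit 0x23a04e) (nat_lit 62996) (nat_lit
  0x489c98) (.node (.node .nil (nat_lit 0x23a194) (nat_lit 29843) (nat_lit 0x1452e8) .nil) (nat_lit 0x23a20e)
  (nat_lit 64996) (nat_lit 0x409cb8) .nil))) (nat_lit 0x23a246) (nat_lit 86420) (nat_lit 0x481cb8) (.node
  (.node (.node (.node .nil (nat_lit 0x23a24a) (nat_lit 86962) (nat_lit 123244) .nil) (nat_lit 0x23a24c)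
  (nat_lit 89700) (nat_lit 564408) .nil) (nat_lit 0x23b032) (nat_lit 61842) (nat_lit 377824) (.node (.node
  .nil (nat_lit 0x23c90c) (nat_lit 56675) (nat_lit 0x18d8c8) .nil) (nat_lit 0x23d032) (nat_lit 27427) (nat_lit
  0x35580a) .nil)) (nat_lit 0x23d10c) (nat_lit 80401) (nat_lit 0x5821d2) (.node (.node (.node .nil (nat_lit
  0x23d80c) (nat_lit 83156) (nat_lit 0x249c1c) .nil) (nat_lit 0x23d904) (nat_lit 71634) (nat_lit 0x42d330)
  .nil) (nat_lit 0x23d908) (nat_lit 34003) (nat_lit 0x38d888) (.node (.node .nil (nat_lit 0x23e032) (nat_lit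
  21235) (nat_lit 0x15582a) .nil) (nat_lit 0x23e540) (nat_lit 34577) (nat_lit 0x5c01b8) .nil)))) (nat_lit
  0x23f012) (nat_lit 61395) (nat_lit 0x34582a) (.node (.node (.node (.node (.node .nil (nat_lit 0x23f022)
  (nat_lit 24547) (nat_lit 0x31582a) .nil) (nat_lit 0x23f030) (nat_lit 30708) (nat_lit 0x261698) .nil)
  (nat_lit 0x24066e) (nat_lit 96083) (nat_lit 103766) (.node (.node .nil (nat_lit 0x2408be) (nat_lit 57441)
  (nat_lit 0x42f206) .nil) (nat_lit 0x240de2) (nat_lit 93011) (nat_lit 594838) .nil)) (nat_lit 0x2411da)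
  (nat_lit 63652) (nat_lit 0x7af000) (.node (.node (.node .nil (nat_lit 0x24126e) (nat_lit 62755) (nat_lit
  0x219456) .nil) (nat_lit 0x24146e) (nat_lit 84387) (nat_lit 0x219156) .nil) (nat_lit 0x2415b4) (nat_lit
  66340) (nat_lit 0x337a00) (.node (.node .nil (nat_lit 0x24162e) (nat_lit 96819) (nat_lit 0x219546) .nil)
  (nat_lit 0x24164e) (nat_lit 64787) (nat_lit 0x209556) .nil))) (nat_lit 0x241666) (nat_lit 87553) (nat_lit
  0x41526a) (.node (.node (.node (.node .nil (nat_lit 0x24166a) (nat_lit 92130) (nat_lit 0x1022ee) .nil)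
  (nat_lit 0x24166c) (nat_lit 97905) (nat_lit 0x41626a) .nil) (nat_lit 0x241ba8) (nat_lit 30643) (nat_lit
  0x299684) (.node (.node .nil (nat_lit 0x241f50) (nat_lit 87362) (nat_lit 0x163226) .nil) (nat_lit 0x242176)
  (nat_lit 89300) (nat_lit 0x5a5a80) .nil)) (nat_lit 0x2424dc) (nat_lit 86788) (nat_lit 784512) (.node (.node
  (.node .nil (nat_lit 0x242d2c) (nat_lit 8066) (nat_lit 0x1310ba) .nil) (nat_lit 0x242f50) (nat_lit 86257)
  (nat_lit 0x47023c) .nil) (nat_lit 0x243296) (nat_lit 95457) (nat_lit 0x459246) (.node (.node .nil (nat_lit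
  0x243750) (nat_lit 88292) (nat_lit 0x3b50a0) .nil) (nat_lit 0x2438e4) (nat_lit 37457) (nat_lit 0x46c24a)
  .nil)))))) (nat_lit 0x243b50) (nat_lit 67715) (nat_lit 0x2c14b4) (.node (.node (.node (.node (.node (.node
  (.node .nil (nat_lit 0x243c8a) (nat_lit 14017) (nat_lit 0x46b260) .nil) (nat_lit 0x243d50) (nat_lit 83425)
  (nat_lit 0x46027c) .nil) (nat_lit 0x243e50) (nat_lit 85668) (nat_lit 0x2b50a4) (.node (.node .nil (nat_lit
  0x243f10) (nat_lit 76081) (nat_lit 0x470274) .nil) (nat_lit 0x243f40) (nat_lit 60035) (nat_lit 0x2815b4)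
  .nil)) (nat_lit 0x2443a6) (nat_lit 13922) (nat_lit 0x4034f2) (.node (.node (.node .nil (nat_lit 0x2447c8)
  (nat_lit 16305) (nat_lit 0x41a2b8) .nil) (nat_lit 0x2449d4) (nat_lit 43683) (nat_lit 793300) .nil) (nat_lit
  0x244d2c) (nat_lit 24788) (nat_lit 0x15da04) (.node (.node .nil (nat_lit 0x245a34) (nat_lit 47313) (nat_lit
  0x4342c6) .nil) (nat_lit 0x245ac2) (nat_lit 44802) (nat_lit 0x422666) .nil))) (nat_lit 0x2460ea) (nat_lit
  74452) (nat_lit 0x4cf280) (.node (.node (.node (.node .nil (nat_lit 0x24652c) (nat_lit 43522) (nat_lit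
  0x5110ba) .nil) (nat_lit 0x24692c) (nat_lit 27652) (nat_lit 0x14da84) .nil) (nat_lit 0x246a98) (nat_lit
  17252) (nat_lit 454820) (.node (.node .nil (nat_lit 0x246c2c) (nat_lit 33668) (nat_lit 383620) .nil)
  (nat_lit 0x246d0c) (nat_lit 15218) (nat_lit 0x53103a) .nil)) (nat_lit 0x246d24) (nat_lit 7748) (nat_lit
  0x155a84) (.node (.node (.node .nil (nat_lit 0x246d28) (nat_lit 21444) (nat_lit 0x15d284) .nil) (nat_lit
  0x24730a) (nat_lit 72546) (nat_lit 0x41326a) .nil) (nat_lit 0x2476a0) (nat_lit 38497) (nat_lit 0x45c2e0)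
  (.node (.node .nil (nat_lit 0x248578) (nat_lit 45794) (nat_lit 0x1490ae) .nil) (nat_lit 0x24858e) (nat_lit
  71297) (nat_lit 0x48b232) .nil)))) (nat_lit 0x2489d4) (nat_lit 37155) (nat_lit 791260) (.node (.node (.node
  (.node (.node .nil (nat_lit 0x248ba8) (nat_lit 34433) (nat_lit 0x4be210) .nil) (nat_lit 0x249296) (nat_lit
  88705) (nat_lit 0x499246) .nil) (nat_lit 0x2493a8) (nat_lit 29633) (nat_lit 0x49e250) (.node (.node .nil
  (nat_lit 0x249872) (nat_lit 89218) (nat_lit 426726) .nil) (nat_lit 0x2499a8) (nat_lit 74497) (nat_lit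
  0x4ae250) .nil)) (nat_lit 0x249aa8) (nat_lit 19041) (nat_lit 0x4be240) (.node (.node (.node .nil (nat_lit
  0x249b28) (nat_lit 36419) (nat_lit 0x29948c) .nil) (nat_lit 0x249b88) (nat_lit 18609) (nat_lit 0x4ba250)
  .nil) (nat_lit 0x249ba0) (nat_lit 45761) (nat_lit 0x4bc250) (.node (.node .nil (nat_lit 0x249c1c) (nat_lit
  54305) (nat_lit 0x4a2266) .nil) (nat_lit 0x24a0ea) (nat_lit 34084) (nat_lit 0x48f288) .nil))) (nat_lit
  0x24a296) (nat_lit 95649) (nat_lit 0x4d9206) (.node (.node (.node (.node .nil (nat_lit 0x24a91a) (nat_lit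
  77363) (nat_lit 823470) .nil) (nat_lit 0x24ac46) (nat_lit 79507) (nat_lit 528766) .nil) (nat_lit 0x24acb0)
  (nat_lit 73218) (nat_lit 0x1784a2) (.node (.node .nil (nat_lit 0x24b096) (nat_lit 32593) (nat_lit 0x4c9246)
  .nil) (nat_lit 0x24b14c) (nat_lit 34020) (nat_lit 0x38d888) .nil)) (nat_lit 0x24b216) (nat_lit 82257)
  (nat_lit 0x4d1246) (.node (.node (.node .nil (nat_lit 0x24b286) (nat_lit 90369) (nat_lit 0x4d9242) .nil)
  (nat_lit 0x24b292) (nat_lit 90129) (nat_lit 0x4d9244) .nil) (nat_lit 0x24b294) (nat_lit 88532) (nat_lit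
  0x2278a8) (.node (.node .nil (nat_lit 0x24b522) (nat_lit 28034) (nat_lit 0x1192e2) .nil) (nat_lit 0x24c0ea)
  (nat_lit 34033) (nat_lit 0x48f288) .nil))))) (nat_lit 0x24c1d4) (nat_lit 49091) (nat_lit 269020) (.node
  (.node (.node (.node (.node (.node .nil (nat_lit 0x24c8d4) (nat_lit 24417) (nat_lit 0x4a828e) .nil) (nat_lit
  0x24c954) (nat_lit 77091) (nat_lit 792796) .nil) (nat_lit 0x24c994) (nat_lit 7345) (nat_lit 0x4a8296) (.node
  (.node .nil (nat_lit 0x24c9c4) (nat_lit 14819) (nat_lit 531164) .nil) (nat_lit 0x24c9d0) (nat_lit 21089)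
  (nat_lit 0x4a829c) .nil)) (nat_lit 0x24ca0e) (nat_lit 11651) (nat_lit 564302) (.node (.node (.node .nil
  (nat_lit 0x24ce60) (nat_lit 70721) (nat_lit 0x4b42a8) .nil) (nat_lit 0x24d258) (nat_lit 83139) (nat_lit
  0x249c1c) .nil) (nat_lit 0x24d704) (nat_lit 51716) (nat_lit 0x355828) (.node (.node .nil (nat_lit 0x24e06a)
  (nat_lit 36033) (nat_lit 0x4c7288) .nil) (nat_lit 0x24e0aa) (nat_lit 74417) (nat_lit 0x4cf280) .nil)))
  (nat_lit 0x24e0ca) (nat_lit 82641) (nat_lit 0x4cb288) (.node (.node (.node (.node .nil (nat_lit 0x24e0e2)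
  (nat_lit 36084) (nat_lit 0x4c7288) .nil) (nat_lit 0x24e0e8) (nat_lit 55652) (nat_lit 848520) .nil) (nat_lit
  0x24e330) (nat_lit 3667) (nat_lit 335020) (.node (.node .nil (nat_lit 0x2504dc) (nat_lit 97587) (nat_lit
  0x149354) .nil) (nat_lit 0x2505e2) (nat_lit 96929) (nat_lit 0x40d338) .nil)) (nat_lit 0x2509e2) (nat_lit
  91986) (nat_lit 136678) (.node (.node (.node .nil (nat_lit 0x250a56) (nat_lit 92433) (nat_lit 0x43130e)
  .nil) (nat_lit 0x250ce2) (nat_lit 63825) (nat_lit 0x42d328) .nil) (nat_lit 0x250d62) (nat_lit 66081)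
  (nat_lit 0x425338) (.node (.node .nil (nat_lit 0x250da2) (nat_lit 71617) (nat_lit 0x42d330) .nil) (nat_lit
  0x250dc2) (nat_lit 84193) (nat_lit 0x429338) .nil)))) (nat_lit 0x250de0) (nat_lit 95284) (nat_lit 0x197604)
  (.node (.node (.node (.node (.node .nil (nat_lit 0x250e38) (nat_lit 51890) (nat_lit 0x1621aa) .nil) (nat_lit
  0x251332) (nat_lit 25251) (nat_lit 0x351486) .nil) (nat_lit 0x2513c4) (nat_lit 97956) (nat_lit 0x387c20)
  (.node (.node .nil (nat_lit 0x2520dc) (nat_lit 93809) (nat_lit 0x44a30e) .nil) (nat_lit 0x252368) (nat_lit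
  33778) (nat_lit 78254) .nil)) (nat_lit 0x25245c) (nat_lit 90771) (nat_lit 0x149174) (.node (.node (.node
  .nil (nat_lit 0x25249c) (nat_lit 91923) (nat_lit 0x149364) .nil) (nat_lit 0x2524cc) (nat_lit 98545) (nat_lit
  0x44a32a) .nil) (nat_lit 0x2524d4) (nat_lit 89171) (nat_lit 0x141374) (.node (.node .nil (nat_lit 0x2524d8)
  (nat_lit 98497) (nat_lit 0x44a32c) .nil) (nat_lit 0x252706) (nat_lit 74609) (nat_lit 0x451332) .nil)))
  (nat_lit 0x25291a) (nat_lit 55123) (nat_lit 0x1c90a6) (.node (.node (.node (.node .nil (nat_lit 0x2536a0)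
  (nat_lit 95012) (nat_lit 0x2176a0) .nil) (nat_lit 0x253a0c) (nat_lit 79122) (nat_lit 205626) .nil) (nat_lit
  0x25414e) (nat_lit 37091) (nat_lit 0x1098d6) (.node (.node .nil (nat_lit 0x2541b8) (nat_lit 46659) (nat_lit
  0x159a84) .nil) (nat_lit 0x255258) (nat_lit 72049) (nat_lit 0x4123cc) .nil)) (nat_lit 0x2556a0) (nat_lit
  74242) (nat_lit 0x5027a2) (.node (.node (.node .nil (nat_lit 0x25582a) (nat_lit 3091) (nat_lit 0x399806)
  .nil) (nat_lit 0x255c44) (nat_lit 17265) (nat_lit 0x4203ea) .nil) (nat_lit 0x2566a0) (nat_lit 57586)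
  (nat_lit 0x5125a2) (.node (.node .nil (nat_lit 0x256870) (nat_lit 23860) (nat_lit 939652) .nil) (nat_lit
  0x256886) (nat_lit 26577) (nat_lit 0x469382) .nil)))))))
def t6160_13 : T := (.node (.node (.node (.node (.node (.node (.node (.node .nil (nat_lit 0x2572a0) (nat_lit
  68884) (nat_lit 0x2476a0) .nil) (nat_lit 0x2574a0) (nat_lit 40994) (nat_lit 0x5107a2) .nil) (nat_lit
  0x257620) (nat_lit 84994) (nat_lit 0x5123a2) (.node (.node .nil (nat_lit 0x257680) (nat_lit 64258) (nat_lit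
  0x512722) .nil) (nat_lit 0x258790) (nat_lit 66916) (nat_lit 0x137428) .nil)) (nat_lit 0x25891a) (nat_lit
  55011) (nat_lit 0x1c908e) (.node (.node (.node .nil (nat_lit 0x259258) (nat_lit 38611) (nat_lit 0x34941c)
  .nil) (nat_lit 0x259e02) (nat_lit 53828) (nat_lit 0x61542c) .nil) (nat_lit 0x25a11a) (nat_lit 45811)
  (nat_lit 0x1490ae) (.node (.node .nil (nat_lit 0x25a81a) (nat_lit 19123) (nat_lit 0x1c902e) .nil) (nat_lit
  0x25a90a) (nat_lit 74083) (nat_lit 0x1890ae) .nil))) (nat_lit 0x25a912) (nat_lit 32259) (nat_lit 0x1c10ae)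
  (.node (.node (.node (.node .nil (nat_lit 0x25a918) (nat_lit 64643) (nat_lit 0x1c90ac) .nil) (nat_lit
  0x25aac0) (nat_lit 79763) (nat_lit 0x18163c) .nil) (nat_lit 0x25c258) (nat_lit 39124) (nat_lit 971816)
  (.node (.node .nil (nat_lit 0x25cc88) (nat_lit 81619) (nat_lit 0x189b0c) .nil) (nat_lit 0x25d058) (nat_lit
  71889) (nat_lit 0x4823cc) .nil)) (nat_lit 0x25d182) (nat_lit 4164) (nat_lit 0x747408) (.node (.node (.node
  .nil (nat_lit 0x25d218) (nat_lit 80292) (nat_lit 0x26d428) .nil) (nat_lit 0x25d248) (nat_lit 93475) (nat_lit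
  0x309c1c) .nil) (nat_lit 0x25d250) (nat_lit 75587) (nat_lit 0x341c1c) (.node (.node .nil (nat_lit 0x25e540)
  (nat_lit 51361) (nat_lit 0x4c03b8) .nil) (nat_lit 0x260176) (nat_lit 91123) (nat_lit 348374) .nil))))
  (nat_lit 0x26058e) (nat_lit 87938) (nat_lit 0x10547a) (.node (.node (.node (.node (.node .nil (nat_lit
  0x260b92) (nat_lit 11009) (nat_lit 0x539214) .nil) (nat_lit 0x2613c4) (nat_lit 84785) (nat_lit 0x51825a)
  .nil) (nat_lit 0x261698) (nat_lit 13345) (nat_lit 0x51a264) (.node (.node .nil (nat_lit 0x261a34) (nat_lit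
  45218) (nat_lit 418482) .nil) (nat_lit 0x262076) (nat_lit 92177) (nat_lit 0x54520e) .nil)) (nat_lit
  0x262136) (nat_lit 59569) (nat_lit 0x545216) (.node (.node (.node .nil (nat_lit 0x262156) (nat_lit 92721)
  (nat_lit 0x54121e) .nil) (nat_lit 0x262166) (nat_lit 88977) (nat_lit 0x54521a) .nil) (nat_lit 0x262172)
  (nat_lit 97443) (nat_lit 348342) (.node (.node .nil (nat_lit 0x262174) (nat_lit 91409) (nat_lit 0x54421e)
  .nil) (nat_lit 0x2622ac) (nat_lit 74691) (nat_lit 120420) .nil))) (nat_lit 0x2626c2) (nat_lit 62852)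
  (nat_lit 0x4970b0) (.node (.node (.node (.node .nil (nat_lit 0x262cb0) (nat_lit 42161) (nat_lit 0x56c224)
  .nil) (nat_lit 0x26330a) (nat_lit 79073) (nat_lit 0x553250) .nil) (nat_lit 0x2641b8) (nat_lit 19777)
  (nat_lit 0x50e294) (.node (.node .nil (nat_lit 0x2644e4) (nat_lit 87443) (nat_lit 88916) .nil) (nat_lit
  0x264a34) (nat_lit 15972) (nat_lit 416308) .nil)) (nat_lit 0x265234) (nat_lit 28772) (nat_lit 0x265a30)
  (.node (.node (.node .nil (nat_lit 0x26530a) (nat_lit 31425) (nat_lit 0x5132d0) .nil) (nat_lit 0x265834)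
  (nat_lit 39748) (nat_lit 0x265a14) .nil) (nat_lit 0x265a14) (nat_lit 18226) (nat_lit 0x466232) (.node (.node
  .nil (nat_lit 0x265a24) (nat_lit 23873) (nat_lit 0x5342c2) .nil) (nat_lit 0x265a30) (nat_lit 12417) (nat_lit
  0x5342c4) .nil))))) (nat_lit 0x265d80) (nat_lit 13892) (nat_lit 0x357014) (.node (.node (.node (.node (.node
  (.node .nil (nat_lit 0x26630a) (nat_lit 73681) (nat_lit 0x553290) .nil) (nat_lit 0x266886) (nat_lit 46385)
  (nat_lit 0x569282) .nil) (nat_lit 0x2670d0) (nat_lit 64610) (nat_lit 0x454626) (.node (.node .nil (nat_lit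
  0x26710a) (nat_lit 72289) (nat_lit 0x5432d0) .nil) (nat_lit 0x26720a) (nat_lit 82001) (nat_lit 0x5532c0)
  .nil)) (nat_lit 0x267302) (nat_lit 87793) (nat_lit 0x5512d0) (.node (.node (.node .nil (nat_lit 0x267308)
  (nat_lit 89459) (nat_lit 0x20dca4) .nil) (nat_lit 0x26818e) (nat_lit 95745) (nat_lit 0x58b212) .nil)
  (nat_lit 0x26823a) (nat_lit 84162) (nat_lit 319722) (.node (.node .nil (nat_lit 0x26848e) (nat_lit 72098)
  (nat_lit 0x10c47a) .nil) (nat_lit 0x26850e) (nat_lit 68082) (nat_lit 0x10d07a) .nil))) (nat_lit 0x268586)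
  (nat_lit 83009) (nat_lit 0x589232) (.node (.node (.node (.node .nil (nat_lit 0x26858a) (nat_lit 95297)
  (nat_lit 0x58b230) .nil) (nat_lit 0x26858c) (nat_lit 38033) (nat_lit 0x58a232) .nil) (nat_lit 0x268654)
  (nat_lit 6977) (nat_lit 0x59022e) (.node (.node .nil (nat_lit 0x268cb0) (nat_lit 80546) (nat_lit 0x16c4a2)
  .nil) (nat_lit 0x269e02) (nat_lit 65331) (nat_lit 0x28550e) .nil)) (nat_lit 0x26a4b0) (nat_lit 76226)
  (nat_lit 0x15c4a2) (.node (.node (.node .nil (nat_lit 0x26a8b0) (nat_lit 40274) (nat_lit 509090) .nil)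
  (nat_lit 0x26ab04) (nat_lit 78274) (nat_lit 258098) .nil) (nat_lit 0x26ac30) (nat_lit 60913) (nat_lit
  0x5e4224) (.node (.node .nil (nat_lit 0x26ac90) (nat_lit 78898) (nat_lit 0x17c422) .nil) (nat_lit 0x26aca0)
  (nat_lit 61651) (nat_lit 611116) .nil)))) (nat_lit 0x26b260) (nat_lit 25682) (nat_lit 123558) (.node (.node
  (.node (.node (.node .nil (nat_lit 0x26c922) (nat_lit 84898) (nat_lit 0x42d0e2) .nil) (nat_lit 0x26d046)
  (nat_lit 83521) (nat_lit 0x5812ca) .nil) (nat_lit 0x26d428) (nat_lit 50321) (nat_lit 0x5862e0) (.node (.node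
  .nil (nat_lit 0x26e01c) (nat_lit 48356) (nat_lit 448664) .nil) (nat_lit 0x26e540) (nat_lit 20721) (nat_lit
  0x5c02b8) .nil)) (nat_lit 0x2701b8) (nat_lit 21427) (nat_lit 0x15d284) (.node (.node (.node .nil (nat_lit
  0x2703c4) (nat_lit 87779) (nat_lit 0x1056d4) .nil) (nat_lit 0x270d14) (nat_lit 61025) (nat_lit 0x520336)
  .nil) (nat_lit 0x27101e) (nat_lit 89763) (nat_lit 0x34d046) (.node (.node .nil (nat_lit 0x2711c4) (nat_lit
  72259) (nat_lit 0x3052d4) .nil) (nat_lit 0x2712c4) (nat_lit 84017) (nat_lit 0x51834a) .nil))) (nat_lit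
  0x271344) (nat_lit 65809) (nat_lit 0x51035a) (.node (.node (.node (.node .nil (nat_lit 0x271384) (nat_lit
  94529) (nat_lit 0x518352) .nil) (nat_lit 0x2713c0) (nat_lit 59922) (nat_lit 30502) .nil) (nat_lit 0x271470)
  (nat_lit 77715) (nat_lit 0x355114) (.node (.node .nil (nat_lit 0x271e02) (nat_lit 73348) (nat_lit 0x615434)
  .nil) (nat_lit 0x27242a) (nat_lit 24388) (nat_lit 0x41d690) .nil)) (nat_lit 0x272886) (nat_lit 18019)
  (nat_lit 0x185266) (.node (.node (.node .nil (nat_lit 0x273920) (nat_lit 62273) (nat_lit 0x564350) .nil)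
  (nat_lit 0x2740b8) (nat_lit 24771) (nat_lit 0x15da04) .nil) (nat_lit 0x274138) (nat_lit 52435) (nat_lit
  0x15d884) (.node (.node .nil (nat_lit 0x274198) (nat_lit 27635) (nat_lit 0x14da84) .nil) (nat_lit 0x2741a8)
  (nat_lit 40740) (nat_lit 0x14f610) .nil)))))) (nat_lit 0x2741b0) (nat_lit 7731) (nat_lit 0x155a84) (.node
  (.node (.node (.node (.node (.node (.node .nil (nat_lit 0x274262) (nat_lit 56754) (nat_lit 0x4061e6) .nil)
  (nat_lit 0x27460c) (nat_lit 37202) (nat_lit 0x50613a) .nil) (nat_lit 0x274886) (nat_lit 33217) (nat_lit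
  0x529382) (.node (.node .nil (nat_lit 0x276086) (nat_lit 51265) (nat_lit 0x549382) .nil) (nat_lit 0x276540)
  (nat_lit 12721) (nat_lit 0x5403b8) .nil)) (nat_lit 0x276806) (nat_lit 19153) (nat_lit 0x561382) (.node
  (.node (.node .nil (nat_lit 0x276882) (nat_lit 19233) (nat_lit 0x569380) .nil) (nat_lit 0x276884) (nat_lit
  20273) (nat_lit 0x568382) .nil) (nat_lit 0x2780d2) (nat_lit 53858) (nat_lit 312678) (.node (.node .nil
  (nat_lit 0x278e02) (nat_lit 57684) (nat_lit 0x41543c) .nil) (nat_lit 0x279602) (nat_lit 16612) (nat_lit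
  0x615438) .nil))) (nat_lit 0x279a02) (nat_lit 44068) (nat_lit 0x60543c) (.node (.node (.node (.node .nil
  (nat_lit 0x279c02) (nat_lit 49492) (nat_lit 0x61541c) .nil) (nat_lit 0x279e00) (nat_lit 29444) (nat_lit
  0x21543c) .nil) (nat_lit 0x27a540) (nat_lit 24017) (nat_lit 0x5c0338) (.node (.node .nil (nat_lit 0x27b088)
  (nat_lit 61345) (nat_lit 0x5ca340) .nil) (nat_lit 0x27c540) (nat_lit 26929) (nat_lit 0x5803b8) .nil))
  (nat_lit 0x27e140) (nat_lit 29761) (nat_lit 0x5c0398) (.node (.node (.node .nil (nat_lit 0x27e440) (nat_lit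
  6897) (nat_lit 0x5c03a8) .nil) (nat_lit 0x27e500) (nat_lit 42513) (nat_lit 0x5c03b0) .nil) (nat_lit
  0x280772) (nat_lit 72801) (nat_lit 0x61503c) (.node (.node .nil (nat_lit 0x2809f8) (nat_lit 3571) (nat_lit
  0xf9290) .nil) (nat_lit 0x2812ba) (nat_lit 34708) (nat_lit 0x62b260) .nil)))) (nat_lit 0x2815b4) (nat_lit
  31490) (nat_lit 0x141eb0) (.node (.node (.node (.node (.node .nil (nat_lit 0x281b4a) (nat_lit 67777)
  (nat_lit 0x633058) .nil) (nat_lit 0x281e16) (nat_lit 54642) (nat_lit 0x162a70) .nil) (nat_lit 0x281ee0)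
  (nat_lit 62628) (nat_lit 0x293264) (.node (.node .nil (nat_lit 0x2821f8) (nat_lit 2083) (nat_lit 496304)
  .nil) (nat_lit 0x28243e) (nat_lit 69409) (nat_lit 0x647026) .nil)) (nat_lit 0x2828f8) (nat_lit 2162)
  (nat_lit 461996) (.node (.node (.node .nil (nat_lit 0x282978) (nat_lit 4835) (nat_lit 0xf90b0) .nil)
  (nat_lit 0x2829b8) (nat_lit 5444) (nat_lit 0x12b2c4) .nil) (nat_lit 0x2829d8) (nat_lit 11075) (nat_lit
  955056) (.node (.node .nil (nat_lit 0x2829e8) (nat_lit 9826) (nat_lit 203948) .nil) (nat_lit 0x2829f0)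
  (nat_lit 947) (nat_lit 987824) .nil))) (nat_lit 0x282e4c) (nat_lit 44513) (nat_lit 0x67202a) (.node (.node
  (.node (.node .nil (nat_lit 0x283274) (nat_lit 81441) (nat_lit 0x65404e) .nil) (nat_lit 0x283728) (nat_lit
  13106) (nat_lit 0x113aa8) .nil) (nat_lit 0x283b84) (nat_lit 7538) (nat_lit 212528) (.node (.node .nil
  (nat_lit 0x283c8a) (nat_lit 8369) (nat_lit 0x66b060) .nil) (nat_lit 0x2842ba) (nat_lit 14068) (nat_lit
  0x46b260) .nil)) (nat_lit 0x2847c8) (nat_lit 61444) (nat_lit 0x1db060) (.node (.node (.node .nil (nat_lit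
  0x284936) (nat_lit 40675) (nat_lit 989378) .nil) (nat_lit 0x284c6a) (nat_lit 57522) (nat_lit 0x5208ec) .nil)
  (nat_lit 0x284c9c) (nat_lit 59283) (nat_lit 957248) (.node (.node .nil (nat_lit 0x2850ba) (nat_lit 25140)
  (nat_lit 0x66b240) .nil) (nat_lit 0x28523a) (nat_lit 43124) (nat_lit 0x669260) .nil))))) (nat_lit 0x28529a)
  (nat_lit 8404) (nat_lit 0x66b060) (.node (.node (.node (.node (.node (.node .nil (nat_lit 0x2852aa) (nat_lit
  46836) (nat_lit 0x64b260) .nil) (nat_lit 0x2852b2) (nat_lit 48276) (nat_lit 0x663260) .nil) (nat_lit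
  0x2852b8) (nat_lit 51860) (nat_lit 0x26b260) (.node (.node .nil (nat_lit 0x28550e) (nat_lit 35442) (nat_lit
  0x501a78) .nil) (nat_lit 0x285b84) (nat_lit 30786) (nat_lit 0x423e30) .nil)) (nat_lit 0x286554) (nat_lit
  7938) (nat_lit 0x551834) (.node (.node (.node .nil (nat_lit 0x2865a2) (nat_lit 82036) (nat_lit 0x5532c0)
  .nil) (nat_lit 0x286b84) (nat_lit 33506) (nat_lit 0x433c30) .nil) (nat_lit 0x287384) (nat_lit 67026)
  (nat_lit 0x413e30) (.node (.node .nil (nat_lit 0x287642) (nat_lit 3361) (nat_lit 0x6510e8) .nil) (nat_lit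
  0x287984) (nat_lit 46594) (nat_lit 0x431e30) .nil))) (nat_lit 0x287a84) (nat_lit 24594) (nat_lit 0x432e30)
  (.node (.node (.node (.node .nil (nat_lit 0x287b04) (nat_lit 21282) (nat_lit 0x433a30) .nil) (nat_lit
  0x287b80) (nat_lit 47794) (nat_lit 0x433e20) .nil) (nat_lit 0x287c30) (nat_lit 93250) (nat_lit 0x570aa0)
  (.node (.node .nil (nat_lit 0x28843e) (nat_lit 85009) (nat_lit 0x687026) .nil) (nat_lit 0x288ab4) (nat_lit
  58386) (nat_lit 437424) .nil)) (nat_lit 0x289326) (nat_lit 54417) (nat_lit 0x695052) (.node (.node (.node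
  .nil (nat_lit 0x2893d0) (nat_lit 10996) (nat_lit 0x3a3068) .nil) (nat_lit 0x28968c) (nat_lit 34305) (nat_lit
  0x69a062) .nil) (nat_lit 0x289872) (nat_lit 93140) (nat_lit 0x6a124c) (.node (.node .nil (nat_lit 0x28a03e)
  (nat_lit 92865) (nat_lit 0x6c7006) .nil) (nat_lit 0x28a38a) (nat_lit 85698) (nat_lit 113768) .nil))))
  (nat_lit 0x28a41e) (nat_lit 95057) (nat_lit 0x6c3026) (.node (.node (.node (.node (.node .nil (nat_lit
  0x28a42e) (nat_lit 59826) (nat_lit 0x1188f8) .nil) (nat_lit 0x28a436) (nat_lit 97137) (nat_lit 0x6c5026)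
  .nil) (nat_lit 0x28a43a) (nat_lit 93425) (nat_lit 0x6c7024) (.node (.node .nil (nat_lit 0x28a43c) (nat_lit
  92051) (nat_lit 495976) .nil) (nat_lit 0x28b14c) (nat_lit 46035) (nat_lit 0x2290f8) .nil)) (nat_lit
  0x28b642) (nat_lit 12017) (nat_lit 0x6d1068) (.node (.node (.node .nil (nat_lit 0x28ba18) (nat_lit 27185)
  (nat_lit 0x6f2044) .nil) (nat_lit 0x28c15a) (nat_lit 43603) (nat_lit 432282) .nil) (nat_lit 0x28c1ac)
  (nat_lit 64978) (nat_lit 0x409cb8) (.node (.node .nil (nat_lit 0x28c4f0) (nat_lit 93940) (nat_lit 995912)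
  .nil) (nat_lit 0x28ca0e) (nat_lit 25427) (nat_lit 695370) .nil))) (nat_lit 0x28d642) (nat_lit 12052)
  (nat_lit 0x6d1068) (.node (.node (.node (.node .nil (nat_lit 0x28d8c8) (nat_lit 40659) (nat_lit 0x2a9a18)
  .nil) (nat_lit 0x28e330) (nat_lit 6036) (nat_lit 0x1612e8) .nil) (nat_lit 0x28e642) (nat_lit 15507) (nat_lit
  138554) (.node (.node .nil (nat_lit 0x28e864) (nat_lit 53284) (nat_lit 793292) .nil) (nat_lit 0x28e892)
  (nat_lit 85617) (nat_lit 0x6e9084) .nil)) (nat_lit 0x28f242) (nat_lit 22452) (nat_lit 0x6c10e8) (.node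
  (.node (.node .nil (nat_lit 0x28f442) (nat_lit 20179) (nat_lit 0x22193a) .nil) (nat_lit 0x28f602) (nat_lit
  3396) (nat_lit 0x6510e8) .nil) (nat_lit 0x28f640) (nat_lit 9396) (nat_lit 0x2d10e8) (.node (.node .nil
  (nat_lit 0x29056c) (nat_lit 52513) (nat_lit 0x60613a) .nil) (nat_lit 0x29059a) (nat_lit 81) (nat_lit
  0x60b134) .nil)))))))
def t6160_14 : T := (.node (.node (.node (.node (.node (.node (.node (.node .nil (nat_lit 0x290b4a) (nat_lit
  91332) (nat_lit 0x589464) .nil) (nat_lit 0x290e38) (nat_lit 34738) (nat_lit 0x1629a8) (.node .nil (nat_lit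
  0x291274) (nat_lit 78097) (nat_lit 0x61414e) .nil)) (nat_lit 0x29134a) (nat_lit 84530) (nat_lit 15212)
  (.node (.node .nil (nat_lit 0x29168c) (nat_lit 53714) (nat_lit 0x102f38) .nil) (nat_lit 0x29194a) (nat_lit
  96098) (nat_lit 138092) .nil)) (nat_lit 0x291a4a) (nat_lit 88180) (nat_lit 0x689464) (.node (.node (.node
  .nil (nat_lit 0x291b0a) (nat_lit 98466) (nat_lit 146280) .nil) (nat_lit 0x291b42) (nat_lit 65378) (nat_lit
  146276) .nil) (nat_lit 0x291b48) (nat_lit 93188) (nat_lit 0x389464) (.node (.node .nil (nat_lit 0x292274)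
  (nat_lit 80993) (nat_lit 0x65410e) .nil) (nat_lit 0x292706) (nat_lit 26433) (nat_lit 0x651132) .nil)))
  (nat_lit 0x292c52) (nat_lit 11826) (nat_lit 0x170964) (.node (.node (.node (.node .nil (nat_lit 0x292ca4)
  (nat_lit 64675) (nat_lit 0x1b1360) .nil) (nat_lit 0x293074) (nat_lit 16849) (nat_lit 0x64414e) .nil)
  (nat_lit 0x293234) (nat_lit 44145) (nat_lit 0x654146) (.node (.node .nil (nat_lit 0x293254) (nat_lit 53889)
  (nat_lit 0x65014e) .nil) (nat_lit 0x293264) (nat_lit 33297) (nat_lit 0x65414a) .nil)) (nat_lit 0x293270)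
  (nat_lit 49601) (nat_lit 0x65414c) (.node (.node (.node .nil (nat_lit 0x2935c0) (nat_lit 89123) (nat_lit
  0x3213b0) .nil) (nat_lit 0x294136) (nat_lit 15842) (nat_lit 0x4419f0) .nil) (nat_lit 0x2944f0) (nat_lit
  92353) (nat_lit 0x60c1ac) (.node (.node .nil (nat_lit 0x294836) (nat_lit 30547) (nat_lit 0x1f1842) .nil)
  (nat_lit 0x294916) (nat_lit 52771) (nat_lit 0x1e18c2) .nil)))) (nat_lit 0x294926) (nat_lit 42707) (nat_lit
  0x1b18c2) (.node (.node (.node (.node (.node .nil (nat_lit 0x294932) (nat_lit 28674) (nat_lit 0x4619e0)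
  .nil) (nat_lit 0x294934) (nat_lit 13556) (nat_lit 0x161e44) .nil) (nat_lit 0x294e82) (nat_lit 40466)
  (nat_lit 0x522d60) (.node (.node .nil (nat_lit 0x295710) (nat_lit 66996) (nat_lit 0x371460) .nil) (nat_lit
  0x295c44) (nat_lit 78145) (nat_lit 0x6201ea) .nil)) (nat_lit 0x2984f0) (nat_lit 91266) (nat_lit 0x148da4)
  (.node (.node (.node .nil (nat_lit 0x29868c) (nat_lit 78499) (nat_lit 0x129748) .nil) (nat_lit 0x29885c)
  (nat_lit 22884) (nat_lit 695372) .nil) (nat_lit 0x2988aa) (nat_lit 61970) (nat_lit 167400) (.node (.node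
  .nil (nat_lit 0x299138) (nat_lit 45396) (nat_lit 0x329648) .nil) (nat_lit 0x29928c) (nat_lit 45379) (nat_lit
  0x329648) .nil))) (nat_lit 0x29948c) (nat_lit 16386) (nat_lit 0x108f38) (.node (.node (.node (.node .nil
  (nat_lit 0x29960c) (nat_lit 52707) (nat_lit 0x329548) .nil) (nat_lit 0x299684) (nat_lit 13315) (nat_lit
  0x321748) .nil) (nat_lit 0x299688) (nat_lit 38418) (nat_lit 0x10af28) (.node (.node .nil (nat_lit 0x29a162)
  (nat_lit 8083) (nat_lit 0x1310ba) .nil) (nat_lit 0x29a194) (nat_lit 6019) (nat_lit 0x1612e8) .nil)) (nat_lit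
  0x29aac0) (nat_lit 62210) (nat_lit 240932) (.node (.node (.node .nil (nat_lit 0x29b806) (nat_lit 14259)
  (nat_lit 0x3a106a) .nil) (nat_lit 0x29c0f0) (nat_lit 73555) (nat_lit 0x171a18) .nil) (nat_lit 0x29c344)
  (nat_lit 1794) (nat_lit 0x40b934) (.node (.node .nil (nat_lit 0x29c470) (nat_lit 31235) (nat_lit 0x171918)
  .nil) (nat_lit 0x29c4b0) (nat_lit 72451) (nat_lit 0x171b08) .nil))))) (nat_lit 0x29c4d0) (nat_lit 70948)
  (nat_lit 996424) (.node (.node (.node (.node (.node (.node .nil (nat_lit 0x29c4e0) (nat_lit 89268) (nat_lit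
  865864) .nil) (nat_lit 0x29d182) (nat_lit 436) (nat_lit 0x743448) .nil) (nat_lit 0x29da20) (nat_lit 96435)
  (nat_lit 0x3b1c08) (.node (.node .nil (nat_lit 0x2a056c) (nat_lit 51777) (nat_lit 0x70603a) .nil) (nat_lit
  0x2a0b92) (nat_lit 5009) (nat_lit 0x739014) .nil)) (nat_lit 0x2a0c9c) (nat_lit 18690) (nat_lit 0x164c38)
  (.node (.node (.node .nil (nat_lit 0x2a0ee0) (nat_lit 91540) (nat_lit 602740) .nil) (nat_lit 0x2a1326)
  (nat_lit 44929) (nat_lit 0x715052) .nil) (nat_lit 0x2a16e0) (nat_lit 69539) (nat_lit 0x235710) (.node (.node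
  .nil (nat_lit 0x2a1954) (nat_lit 15938) (nat_lit 416308) .nil) (nat_lit 0x2a1ae0) (nat_lit 86979) (nat_lit
  0x2b5610) .nil))) (nat_lit 0x2a1ce0) (nat_lit 82836) (nat_lit 0x293254) (.node (.node (.node (.node .nil
  (nat_lit 0x2a1e60) (nat_lit 58338) (nat_lit 0x126aa4) .nil) (nat_lit 0x2a1ea0) (nat_lit 70290) (nat_lit
  0x126ea0) .nil) (nat_lit 0x2a1ec0) (nat_lit 37284) (nat_lit 0x293074) (.node (.node .nil (nat_lit 0x2a22ac)
  (nat_lit 56211) (nat_lit 251488) .nil) (nat_lit 0x2a25a2) (nat_lit 31476) (nat_lit 0x5132d0) .nil)) (nat_lit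
  0x2a290e) (nat_lit 24132) (nat_lit 0x5098d4) (.node (.node (.node .nil (nat_lit 0x2a2c52) (nat_lit 13410)
  (nat_lit 0x174864) .nil) (nat_lit 0x2a306a) (nat_lit 2001) (nat_lit 0x747048) .nil) (nat_lit 0x2a3a18)
  (nat_lit 7185) (nat_lit 0x772044) (.node (.node .nil (nat_lit 0x2a415a) (nat_lit 12819) (nat_lit 448658)
  .nil) (nat_lit 0x2a449c) (nat_lit 50818) (nat_lit 0x544c38) .nil)))) (nat_lit 0x2a45a2) (nat_lit 79108)
  (nat_lit 0x553250) (.node (.node (.node (.node (.node .nil (nat_lit 0x2a489c) (nat_lit 48932) (nat_lit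
  440404) .nil) (nat_lit 0x2a4b28) (nat_lit 87345) (nat_lit 0x736090) .nil) (nat_lit 0x2a4c1c) (nat_lit 78610)
  (nat_lit 0x564838) (.node (.node .nil (nat_lit 0x2a4c8c) (nat_lit 76996) (nat_lit 374868) .nil) (nat_lit
  0x2a4c94) (nat_lit 53188) (nat_lit 473172) .nil)) (nat_lit 0x2a4c98) (nat_lit 43268) (nat_lit 503892) (.node
  (.node (.node .nil (nat_lit 0x2a524c) (nat_lit 32914) (nat_lit 0x406a3c) .nil) (nat_lit 0x2a5710) (nat_lit
  31620) (nat_lit 0x371070) .nil) (nat_lit 0x2a61a2) (nat_lit 72324) (nat_lit 0x5432d0) (.node (.node .nil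
  (nat_lit 0x2a6216) (nat_lit 11329) (nat_lit 0x751086) .nil) (nat_lit 0x2a64a2) (nat_lit 92420) (nat_lit
  0x4532d0) .nil))) (nat_lit 0x2a6522) (nat_lit 69155) (nat_lit 219554) (.node (.node (.node (.node .nil
  (nat_lit 0x2a6582) (nat_lit 90452) (nat_lit 0x5530d0) .nil) (nat_lit 0x2a65a0) (nat_lit 97155) (nat_lit
  220064) .nil) (nat_lit 0x2a6864) (nat_lit 43700) (nat_lit 793300) (.node (.node .nil (nat_lit 0x2a70d0)
  (nat_lit 28755) (nat_lit 0x265a30) .nil) (nat_lit 0x2a815a) (nat_lit 19585) (nat_lit 0x78301c) .nil))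
  (nat_lit 0x2a8326) (nat_lit 35476) (nat_lit 0x501a78) (.node (.node (.node .nil (nat_lit 0x2a8654) (nat_lit
  11457) (nat_lit 0x79002e) .nil) (nat_lit 0x2a88aa) (nat_lit 63601) (nat_lit 0x7af000) .nil) (nat_lit
  0x2a9126) (nat_lit 82564) (nat_lit 0x701a58) (.node (.node .nil (nat_lit 0x2a9226) (nat_lit 81601) (nat_lit
  0x795042) .nil) (nat_lit 0x2a9306) (nat_lit 17809) (nat_lit 0x791052) .nil)))))) (nat_lit 0x2a9322) (nat_lit
  42084) (nat_lit 0x701278) (.node (.node (.node (.node (.node (.node (.node .nil (nat_lit 0x2a9324) (nat_lit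
  59249) (nat_lit 0x794052) .nil) (nat_lit 0x2a9492) (nat_lit 59891) (nat_lit 0x26530a) .nil) (nat_lit
  0x2a9a18) (nat_lit 18817) (nat_lit 0x7b2044) (.node (.node .nil (nat_lit 0x2aa194) (nat_lit 20259) (nat_lit
  414440) .nil) (nat_lit 0x2aa4c8) (nat_lit 88385) (nat_lit 0x7ca028) .nil)) (nat_lit 0x2aa864) (nat_lit
  14836) (nat_lit 531164) (.node (.node (.node .nil (nat_lit 0x2aaa18) (nat_lit 39107) (nat_lit 971816) .nil)
  (nat_lit 0x2ab218) (nat_lit 20961) (nat_lit 0x7d2044) .nil) (nat_lit 0x2ab818) (nat_lit 47585) (nat_lit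
  0x7e2044) (.node (.node .nil (nat_lit 0x2aba08) (nat_lit 24257) (nat_lit 0x7f2040) .nil) (nat_lit 0x2aba10)
  (nat_lit 51505) (nat_lit 0x7f0044) .nil))) (nat_lit 0x2ac05a) (nat_lit 15347) (nat_lit 448538) (.node (.node
  (.node (.node .nil (nat_lit 0x2ac11a) (nat_lit 28227) (nat_lit 448650) .nil) (nat_lit 0x2ac14a) (nat_lit
  42355) (nat_lit 186522) .nil) (nat_lit 0x2ac152) (nat_lit 12963) (nat_lit 415898) (.node (.node .nil
  (nat_lit 0x2ac158) (nat_lit 31937) (nat_lit 0x78209c) .nil) (nat_lit 0x2ac864) (nat_lit 28404) (nat_lit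
  793180) .nil)) (nat_lit 0x2ad428) (nat_lit 45009) (nat_lit 0x7860e0) (.node (.node (.node .nil (nat_lit
  0x2ae064) (nat_lit 34180) (nat_lit 793304) .nil) (nat_lit 0x2ae824) (nat_lit 49108) (nat_lit 269020) .nil)
  (nat_lit 0x2ae844) (nat_lit 77108) (nat_lit 792796) (.node (.node .nil (nat_lit 0x2ae860) (nat_lit 37172)
  (nat_lit 791260) .nil) (nat_lit 0x2b016c) (nat_lit 27809) (nat_lit 0x70611a) .nil)))) (nat_lit 0x2b02d8)
  (nat_lit 45618) (nat_lit 290092) (.node (.node (.node (.node (.node .nil (nat_lit 0x2b046c) (nat_lit 48145)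
  (nat_lit 0x70612a) .nil) (nat_lit 0x2b052c) (nat_lit 25009) (nat_lit 0x706132) .nil) (nat_lit 0x2b054c)
  (nat_lit 21841) (nat_lit 0x70213a) (.node (.node .nil (nat_lit 0x2b0564) (nat_lit 28417) (nat_lit 0x70413a)
  .nil) (nat_lit 0x2b0568) (nat_lit 14641) (nat_lit 0x706138) .nil)) (nat_lit 0x2b08aa) (nat_lit 84033)
  (nat_lit 0x72f100) (.node (.node (.node .nil (nat_lit 0x2b0c52) (nat_lit 14866) (nat_lit 0x164964) .nil)
  (nat_lit 0x2b101e) (nat_lit 67731) (nat_lit 0x36d042) .nil) (nat_lit 0x2b1710) (nat_lit 37828) (nat_lit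
  0x331470) (.node (.node .nil (nat_lit 0x2b2194) (nat_lit 24004) (nat_lit 0x123cd0) .nil) (nat_lit 0x2b2452)
  (nat_lit 25970) (nat_lit 0x154964) .nil))) (nat_lit 0x2b2852) (nat_lit 36946) (nat_lit 477540) (.node (.node
  (.node (.node .nil (nat_lit 0x2b2c12) (nat_lit 23026) (nat_lit 0x174960) .nil) (nat_lit 0x2b2c42) (nat_lit
  12305) (nat_lit 0x761128) .nil) (nat_lit 0x2b2c50) (nat_lit 10594) (nat_lit 0x174924) (.node (.node .nil
  (nat_lit 0x2b3282) (nat_lit 43012) (nat_lit 0x6034f0) .nil) (nat_lit 0x2b3920) (nat_lit 88275) (nat_lit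
  0x3b50a0) .nil)) (nat_lit 0x2b4262) (nat_lit 36114) (nat_lit 0x4069e4) (.node (.node (.node .nil (nat_lit
  0x2b4710) (nat_lit 68705) (nat_lit 0x7101b4) .nil) (nat_lit 0x2b49c0) (nat_lit 96897) (nat_lit 0x728198)
  .nil) (nat_lit 0x2b50a4) (nat_lit 58082) (nat_lit 0x404fb0) (.node (.node .nil (nat_lit 0x2b5310) (nat_lit
  75827) (nat_lit 0x365c80) .nil) (nat_lit 0x2b5510) (nat_lit 37393) (nat_lit 0x7001f4) .nil))))) (nat_lit
  0x2b5610) (nat_lit 59953) (nat_lit 0x7101e4) (.node (.node (.node (.node (.node (.node .nil (nat_lit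
  0x2b5700) (nat_lit 89090) (nat_lit 0x507b20) .nil) (nat_lit 0x2b80aa) (nat_lit 92228) (nat_lit 0x40b658)
  .nil) (nat_lit 0x2b8194) (nat_lit 29746) (nat_lit 318768) (.node (.node .nil (nat_lit 0x2b882a) (nat_lit
  66802) (nat_lit 182760) .nil) (nat_lit 0x2b888a) (nat_lit 94514) (nat_lit 183656) .nil)) (nat_lit 0x2b88a2)
  (nat_lit 97284) (nat_lit 0x40365c) (.node (.node (.node .nil (nat_lit 0x2b88a8) (nat_lit 65825) (nat_lit
  0x7ae100) .nil) (nat_lit 0x2ba094) (nat_lit 23683) (nat_lit 0x165268) .nil) (nat_lit 0x2ba114) (nat_lit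
  26563) (nat_lit 0x1650e8) (.node (.node .nil (nat_lit 0x2ba184) (nat_lit 6868) (nat_lit 0x103cd8) .nil)
  (nat_lit 0x2ba190) (nat_lit 20692) (nat_lit 0x1234d8) .nil))) (nat_lit 0x2ba620) (nat_lit 42755) (nat_lit
  0x135528) (.node (.node (.node (.node .nil (nat_lit 0x2bc406) (nat_lit 43971) (nat_lit 0x12594a) .nil)
  (nat_lit 0x2c05b4) (nat_lit 65218) (nat_lit 0x141cb2) .nil) (nat_lit 0x2c07c8) (nat_lit 40786) (nat_lit
  0x103c2e) (.node (.node .nil (nat_lit 0x2c0b64) (nat_lit 50404) (nat_lit 0x185a64) .nil) (nat_lit 0x2c0b92)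
  (nat_lit 6627) (nat_lit 923270) .nil)) (nat_lit 0x2c0e38) (nat_lit 25170) (nat_lit 0x1628aa) (.node (.node
  (.node .nil (nat_lit 0x2c11b4) (nat_lit 68930) (nat_lit 270002) .nil) (nat_lit 0x2c14b4) (nat_lit 37505)
  (nat_lit 0x60c266) .nil) (nat_lit 0x2c1534) (nat_lit 82913) (nat_lit 0x604276) (.node (.node .nil (nat_lit
  0x2c1594) (nat_lit 75073) (nat_lit 0x608276) .nil) (nat_lit 0x2c15a4) (nat_lit 73762) (nat_lit 0x101eb2)
  .nil)))) (nat_lit 0x2c15b0) (nat_lit 82050) (nat_lit 0x141ea2) (.node (.node (.node (.node (.node .nil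
  (nat_lit 0x2c1872) (nat_lit 92065) (nat_lit 0x62524c) .nil) (nat_lit 0x2c1c8a) (nat_lit 34673) (nat_lit
  0x62b260) .nil) (nat_lit 0x2c225a) (nat_lit 39299) (nat_lit 431158) (.node (.node .nil (nat_lit 0x2c22ac)
  (nat_lit 64707) (nat_lit 235108) .nil) (nat_lit 0x2c2706) (nat_lit 64081) (nat_lit 0x651232) .nil)) (nat_lit
  0x2c2c8a) (nat_lit 21969) (nat_lit 0x66b220) (.node (.node (.node .nil (nat_lit 0x2c314c) (nat_lit 19507)
  (nat_lit 0x2290f4) .nil) (nat_lit 0x2c348a) (nat_lit 46801) (nat_lit 0x64b260) .nil) (nat_lit 0x2c388a)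
  (nat_lit 25105) (nat_lit 0x66b240) (.node (.node .nil (nat_lit 0x2c3c0a) (nat_lit 48241) (nat_lit 0x663260)
  .nil) (nat_lit 0x2c3c82) (nat_lit 43073) (nat_lit 0x669260) .nil))) (nat_lit 0x2c3c88) (nat_lit 27921)
  (nat_lit 0x66a260) (.node (.node (.node (.node .nil (nat_lit 0x2c407c) (nat_lit 10177) (nat_lit 0x60628e)
  .nil) (nat_lit 0x2c43c8) (nat_lit 49361) (nat_lit 0x61a298) .nil) (nat_lit 0x2c45c8) (nat_lit 56434)
  (nat_lit 0x501c2e) (.node (.node .nil (nat_lit 0x2c46c8) (nat_lit 79650) (nat_lit 0x502c2e) .nil) (nat_lit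
  0x2c4748) (nat_lit 32754) (nat_lit 0x50382e) .nil)) (nat_lit 0x2c4788) (nat_lit 53649) (nat_lit 0x61a2b0)
  (.node (.node (.node .nil (nat_lit 0x2c47c0) (nat_lit 36690) (nat_lit 0x503c26) .nil) (nat_lit 0x2c4a0e)
  (nat_lit 17444) (nat_lit 0x44d864) .nil) (nat_lit 0x2c5918) (nat_lit 54577) (nat_lit 0x6222d4) (.node (.node
  .nil (nat_lit 0x2c5c44) (nat_lit 35651) (nat_lit 0x2a1954) .nil) (nat_lit 0x2c6330) (nat_lit 4307) (nat_lit
  466084) .nil)))))))
def t6160_15 : T := (.node (.node (.node (.node (.node (.node (.node (.node .nil (nat_lit 0x2c7026) (nat_lit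
  36515) (nat_lit 0x231866) .nil) (nat_lit 0x2c70d0) (nat_lit 32194) (nat_lit 0x450e26) .nil) (nat_lit
  0x2c8654) (nat_lit 10241) (nat_lit 0x69022e) (.node (.node .nil (nat_lit 0x2c86a2) (nat_lit 69554) (nat_lit
  0x10ace2) .nil) (nat_lit 0x2c8872) (nat_lit 92772) (nat_lit 0x4a524c) .nil)) (nat_lit 0x2c8a0e) (nat_lit
  44628) (nat_lit 0x40d86c) (.node (.node (.node .nil (nat_lit 0x2c9072) (nat_lit 70434) (nat_lit 297702)
  .nil) (nat_lit 0x2c914c) (nat_lit 78739) (nat_lit 0x2290dc) .nil) (nat_lit 0x2c9832) (nat_lit 92084)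
  (nat_lit 0x62524c) (.node (.node .nil (nat_lit 0x2c9852) (nat_lit 93121) (nat_lit 0x6a124c) .nil) (nat_lit
  0x2c9862) (nat_lit 71956) (nat_lit 0x68524c) .nil))) (nat_lit 0x2c9870) (nat_lit 60451) (nat_lit 0x2f101c)
  (.node (.node (.node (.node .nil (nat_lit 0x2ca14c) (nat_lit 56692) (nat_lit 0x18d8c8) .nil) (nat_lit
  0x2ca330) (nat_lit 1075) (nat_lit 464044) .nil) (nat_lit 0x2caac0) (nat_lit 82787) (nat_lit 661052) (.node
  (.node .nil (nat_lit 0x2cb04c) (nat_lit 31827) (nat_lit 0x22907c) .nil) (nat_lit 0x2cb10c) (nat_lit 55171)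
  (nat_lit 0x2290ec) .nil)) (nat_lit 0x2cb144) (nat_lit 67521) (nat_lit 0x6c025a) (.node (.node (.node .nil
  (nat_lit 0x2cb148) (nat_lit 64387) (nat_lit 0x2290bc) .nil) (nat_lit 0x2cc20e) (nat_lit 8963) (nat_lit
  171086) .nil) (nat_lit 0x2cc330) (nat_lit 4883) (nat_lit 466060) (.node (.node .nil (nat_lit 0x2cc80e)
  (nat_lit 2963) (nat_lit 694350) .nil) (nat_lit 0x2cca06) (nat_lit 25827) (nat_lit 662606) .nil)))) (nat_lit
  0x2cca0a) (nat_lit 22195) (nat_lit 695310) (.node (.node (.node (.node (.node .nil (nat_lit 0x2cca0c)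
  (nat_lit 22867) (nat_lit 695372) .nil) (nat_lit 0x2cd182) (nat_lit 2052) (nat_lit 0x747048) .nil) (nat_lit
  0x2cd428) (nat_lit 77249) (nat_lit 0x6862e0) (.node (.node .nil (nat_lit 0x2ce130) (nat_lit 11107) (nat_lit
  465068) .nil) (nat_lit 0x2ce230) (nat_lit 11283) (nat_lit 465964) .nil)) (nat_lit 0x2ce310) (nat_lit 10915)
  (nat_lit 400556) (.node (.node (.node .nil (nat_lit 0x2ce320) (nat_lit 9843) (nat_lit 203948) .nil) (nat_lit
  0x2ce484) (nat_lit 83828) (nat_lit 358600) .nil) (nat_lit 0x2d0638) (nat_lit 46866) (nat_lit 0x1429aa)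
  (.node (.node .nil (nat_lit 0x2d0706) (nat_lit 35249) (nat_lit 0x611332) .nil) (nat_lit 0x2d098c) (nat_lit
  5363) (nat_lit 0x1a92c4) .nil))) (nat_lit 0x2d0a38) (nat_lit 8434) (nat_lit 403882) (.node (.node (.node
  (.node .nil (nat_lit 0x2d0c38) (nat_lit 14098) (nat_lit 0x1609aa) .nil) (nat_lit 0x2d0e18) (nat_lit 27986)
  (nat_lit 0x16292a) .nil) (nat_lit 0x2d0e28) (nat_lit 22034) (nat_lit 0x1229aa) (.node (.node .nil (nat_lit
  0x2d0e30) (nat_lit 48306) (nat_lit 0x1629a2) .nil) (nat_lit 0x2d101e) (nat_lit 79169) (nat_lit 0x603346)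
  .nil)) (nat_lit 0x2d10e8) (nat_lit 3843) (nat_lit 0x339214) (.node (.node (.node .nil (nat_lit 0x2d1c44)
  (nat_lit 54161) (nat_lit 0x62036a) .nil) (nat_lit 0x2d20b2) (nat_lit 88049) (nat_lit 0x64d304) .nil)
  (nat_lit 0x2d2306) (nat_lit 23553) (nat_lit 0x651312) (.node (.node .nil (nat_lit 0x2d2506) (nat_lit 47089)
  (nat_lit 0x641332) .nil) (nat_lit 0x2d2606) (nat_lit 46289) (nat_lit 0x651322) .nil))))) (nat_lit 0x2d2702)
  (nat_lit 20049) (nat_lit 0x651330) (.node (.node (.node (.node (.node (.node .nil (nat_lit 0x2d2704)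
  (nat_lit 5745) (nat_lit 0x650332) .nil) (nat_lit 0x2d2ac0) (nat_lit 57251) (nat_lit 0x1a1634) .nil) (nat_lit
  0x2d3920) (nat_lit 75521) (nat_lit 0x664350) (.node (.node .nil (nat_lit 0x2d4262) (nat_lit 34498) (nat_lit
  0x4029e6) .nil) (nat_lit 0x2d4294) (nat_lit 13539) (nat_lit 0x161e44) .nil)) (nat_lit 0x2d4c44) (nat_lit
  65571) (nat_lit 0x1a1954) (.node (.node (.node .nil (nat_lit 0x2d5182) (nat_lit 1764) (nat_lit 0x747440)
  .nil) (nat_lit 0x2d5444) (nat_lit 79972) (nat_lit 0x2d5c40) .nil) (nat_lit 0x2d5844) (nat_lit 44465)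
  (nat_lit 0x6203ca) (.node (.node .nil (nat_lit 0x2d5c04) (nat_lit 37988) (nat_lit 0x255c44) .nil) (nat_lit
  0x2d5c40) (nat_lit 49873) (nat_lit 0x6203e8) .nil))) (nat_lit 0x2d844a) (nat_lit 47396) (nat_lit 0x49d448)
  (.node (.node (.node (.node .nil (nat_lit 0x2d8ac0) (nat_lit 74915) (nat_lit 0x1a161c) .nil) (nat_lit
  0x2d9182) (nat_lit 882) (nat_lit 40802) .nil) (nat_lit 0x2da2c0) (nat_lit 93713) (nat_lit 0x6d8308) (.node
  (.node .nil (nat_lit 0x2da8c0) (nat_lit 36787) (nat_lit 0x1a123c) .nil) (nat_lit 0x2daa40) (nat_lit 85395)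
  (nat_lit 0x1a143c) .nil)) (nat_lit 0x2daa80) (nat_lit 89843) (nat_lit 0x1a162c) (.node (.node (.node .nil
  (nat_lit 0x2db410) (nat_lit 20515) (nat_lit 0x36112c) .nil) (nat_lit 0x2dc182) (nat_lit 2643) (nat_lit
  0x121a8e) .nil) (nat_lit 0x2dd082) (nat_lit 3538) (nat_lit 0x408f62) (.node (.node .nil (nat_lit 0x2dd102)
  (nat_lit 3988) (nat_lit 0x745448) .nil) (nat_lit 0x2dd180) (nat_lit 1460) (nat_lit 0x347448) .nil))))
  (nat_lit 0x2e02ac) (nat_lit 37922) (nat_lit 27834) (.node (.node (.node (.node (.node .nil (nat_lit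
  0x2e0392) (nat_lit 1233) (nat_lit 0x719214) .nil) (nat_lit 0x2e0654) (nat_lit 8753) (nat_lit 0x71022e) .nil)
  (nat_lit 0x2e0992) (nat_lit 16530) (nat_lit 416866) (.node (.node .nil (nat_lit 0x2e0a92) (nat_lit 14209)
  (nat_lit 0x739204) .nil) (nat_lit 0x2e0b12) (nat_lit 4449) (nat_lit 0x731214) .nil)) (nat_lit 0x2e0b82)
  (nat_lit 9969) (nat_lit 0x739210) (.node (.node (.node .nil (nat_lit 0x2e0b90) (nat_lit 11217) (nat_lit
  0x738214) .nil) (nat_lit 0x2e0c26) (nat_lit 77761) (nat_lit 0x725222) .nil) (nat_lit 0x2e101e) (nat_lit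
  82177) (nat_lit 0x703246) (.node (.node .nil (nat_lit 0x2e1542) (nat_lit 42065) (nat_lit 0x701278) .nil)
  (nat_lit 0x2e20ac) (nat_lit 38579) (nat_lit 250468) .nil))) (nat_lit 0x2e222c) (nat_lit 66817) (nat_lit
  0x756202) (.node (.node (.node (.node .nil (nat_lit 0x2e228c) (nat_lit 35379) (nat_lit 185956) .nil)
  (nat_lit 0x2e22a4) (nat_lit 65601) (nat_lit 0x75c202) .nil) (nat_lit 0x2e22a8) (nat_lit 84307) (nat_lit
  251428) (.node (.node .nil (nat_lit 0x2e2518) (nat_lit 21218) (nat_lit 0x15582a) .nil) (nat_lit 0x2e30d0)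
  (nat_lit 56420) (nat_lit 0x2a70d0) .nil)) (nat_lit 0x2e3920) (nat_lit 72276) (nat_lit 0x3052d4) (.node
  (.node (.node .nil (nat_lit 0x2e4262) (nat_lit 55682) (nat_lit 0x4068e6) .nil) (nat_lit 0x2e50d0) (nat_lit
  39731) (nat_lit 0x265a14) .nil) (nat_lit 0x2e5428) (nat_lit 91489) (nat_lit 0x7062e0) (.node (.node .nil
  (nat_lit 0x2e60d0) (nat_lit 15955) (nat_lit 416308) .nil) (nat_lit 0x2e6e00) (nat_lit 87330) (nat_lit
  0x536822) .nil)))))) (nat_lit 0x2e7050) (nat_lit 19410) (nat_lit 0x454a26) (.node (.node (.node (.node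
  (.node (.node (.node .nil (nat_lit 0x2e7090) (nat_lit 49267) (nat_lit 0x265a24) .nil) (nat_lit 0x2e70c0)
  (nat_lit 45954) (nat_lit 0x414e26) .nil) (nat_lit 0x2e81e0) (nat_lit 98068) (nat_lit 0x187258) (.node (.node
  .nil (nat_lit 0x2e8254) (nat_lit 22177) (nat_lit 0x79020e) .nil) (nat_lit 0x2e8454) (nat_lit 5137) (nat_lit
  0x78022e) .nil)) (nat_lit 0x2e8614) (nat_lit 6273) (nat_lit 0x790226) (.node (.node (.node .nil (nat_lit
  0x2e8644) (nat_lit 22689) (nat_lit 0x79022a) .nil) (nat_lit 0x2e8650) (nat_lit 2529) (nat_lit 0x79022c)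
  .nil) (nat_lit 0x2e9428) (nat_lit 63009) (nat_lit 0x786260) (.node (.node .nil (nat_lit 0x2e9884) (nat_lit
  62083) (nat_lit 0x2a524c) .nil) (nat_lit 0x2ec428) (nat_lit 69697) (nat_lit 0x7862a0) .nil))) (nat_lit
  0x2ed028) (nat_lit 59025) (nat_lit 0x7862c0) (.node (.node (.node (.node .nil (nat_lit 0x2ed408) (nat_lit
  70227) (nat_lit 0x22d90c) .nil) (nat_lit 0x2ed420) (nat_lit 54465) (nat_lit 0x7842e0) .nil) (nat_lit
  0x2f001e) (nat_lit 85492) (nat_lit 0x42dc50) (.node (.node .nil (nat_lit 0x2f0262) (nat_lit 82962) (nat_lit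
  27110) .nil) (nat_lit 0x2f100e) (nat_lit 68625) (nat_lit 0x703342) .nil)) (nat_lit 0x2f1016) (nat_lit 85300)
  (nat_lit 0x625c50) (.node (.node (.node .nil (nat_lit 0x2f101a) (nat_lit 71012) (nat_lit 0x62d450) .nil)
  (nat_lit 0x2f101c) (nat_lit 31713) (nat_lit 0x702346) .nil) (nat_lit 0x2f1920) (nat_lit 91955) (nat_lit
  0x3b5084) (.node (.node .nil (nat_lit 0x2f2920) (nat_lit 69138) (nat_lit 219554) .nil) (nat_lit 0x2f3120)
  (nat_lit 83105) (nat_lit 0x744350) .nil)))) (nat_lit 0x2f3820) (nat_lit 80145) (nat_lit 0x764340) (.node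
  (.node (.node (.node (.node .nil (nat_lit 0x2f3900) (nat_lit 38449) (nat_lit 0x760350) .nil) (nat_lit
  0x2f4062) (nat_lit 73042) (nat_lit 0x4049e6) .nil) (nat_lit 0x2f4222) (nat_lit 78834) (nat_lit 0x4069e2)
  (.node (.node .nil (nat_lit 0x2f4242) (nat_lit 29858) (nat_lit 0x406966) .nil) (nat_lit 0x2f4260) (nat_lit
  29522) (nat_lit 0x4069a6) .nil)) (nat_lit 0x2f8308) (nat_lit 90706) (nat_lit 63786) (.node (.node (.node
  .nil (nat_lit 0x2fc810) (nat_lit 97362) (nat_lit 0x46c922) .nil) (nat_lit 0x300772) (nat_lit 57649) (nat_lit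
  0x41543c) .nil) (nat_lit 0x30096e) (nat_lit 63076) (nat_lit 0x589b04) (.node (.node .nil (nat_lit 0x300d96)
  (nat_lit 62657) (nat_lit 0x429436) .nil) (nat_lit 0x3011da) (nat_lit 94564) (nat_lit 0x7ab100) .nil)))
  (nat_lit 0x3016d4) (nat_lit 90002) (nat_lit 0x342634) (.node (.node (.node (.node .nil (nat_lit 0x301a78)
  (nat_lit 43811) (nat_lit 0x2db410) .nil) (nat_lit 0x301a8e) (nat_lit 1588) (nat_lit 0x60b924) .nil) (nat_lit
  0x301f24) (nat_lit 86226) (nat_lit 0x3232b0) (.node (.node .nil (nat_lit 0x302596) (nat_lit 82849) (nat_lit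
  0x449436) .nil) (nat_lit 0x302996) (nat_lit 37297) (nat_lit 0x469416) .nil)) (nat_lit 0x302c96) (nat_lit
  75218) (nat_lit 0x370470) (.node (.node (.node .nil (nat_lit 0x302d16) (nat_lit 31187) (nat_lit 799202)
  .nil) (nat_lit 0x302d86) (nat_lit 37810) (nat_lit 0x331470) .nil) (nat_lit 0x302d92) (nat_lit 66978)
  (nat_lit 0x371460) (.node (.node .nil (nat_lit 0x302d94) (nat_lit 38067) (nat_lit 799712) .nil) (nat_lit
  0x302e4c) (nat_lit 17313) (nat_lit 0x47242a) .nil))))) (nat_lit 0x303346) (nat_lit 80835) (nat_lit 0x2034f2)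
  (.node (.node (.node (.node (.node (.node .nil (nat_lit 0x3033b0) (nat_lit 54769) (nat_lit 0x45c454) .nil)
  (nat_lit 0x30361a) (nat_lit 55411) (nat_lit 0x24b522) .nil) (nat_lit 0x3038e4) (nat_lit 17330) (nat_lit
  0x2306b4) (.node (.node .nil (nat_lit 0x3043a6) (nat_lit 27249) (nat_lit 0x41d492) .nil) (nat_lit 0x3046d4)
  (nat_lit 70547) (nat_lit 278352) .nil)) (nat_lit 0x3048f2) (nat_lit 71937) (nat_lit 0x42d48c) (.node (.node
  (.node .nil (nat_lit 0x304d58) (nat_lit 58706) (nat_lit 0x76102c) .nil) (nat_lit 0x3052d4) (nat_lit 41666)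
  (nat_lit 0x642634) .nil) (nat_lit 0x3054d4) (nat_lit 68820) (nat_lit 0x2f3900) (.node (.node .nil (nat_lit
  0x30550e) (nat_lit 13905) (nat_lit 0x4034f2) .nil) (nat_lit 0x305654) (nat_lit 95554) (nat_lit 0x742234)
  .nil))) (nat_lit 0x305694) (nat_lit 72721) (nat_lit 0x4184e6) (.node (.node (.node (.node .nil (nat_lit
  0x3056c4) (nat_lit 83794) (nat_lit 0x702634) .nil) (nat_lit 0x3056d0) (nat_lit 80658) (nat_lit 0x742624)
  .nil) (nat_lit 0x305b12) (nat_lit 47252) (nat_lit 0x761124) (.node (.node .nil (nat_lit 0x30613a) (nat_lit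
  3378) (nat_lit 0x6510e8) .nil) (nat_lit 0x3061cc) (nat_lit 14724) (nat_lit 0x1cb980) .nil)) (nat_lit
  0x306466) (nat_lit 87268) (nat_lit 0x4d1b80) (.node (.node (.node .nil (nat_lit 0x306a98) (nat_lit 76322)
  (nat_lit 0x672428) .nil) (nat_lit 0x30722c) (nat_lit 32145) (nat_lit 0x4564c2) .nil) (nat_lit 0x307c30)
  (nat_lit 94995) (nat_lit 0x2d3920) (.node (.node .nil (nat_lit 0x30816e) (nat_lit 50372) (nat_lit 0x589b08)
  .nil) (nat_lit 0x30886e) (nat_lit 72515) (nat_lit 634970) .nil)))) (nat_lit 0x30892e) (nat_lit 45076)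
  (nat_lit 0x509b0c) (.node (.node (.node (.node (.node .nil (nat_lit 0x30894e) (nat_lit 30081) (nat_lit
  0x4a341a) .nil) (nat_lit 0x308966) (nat_lit 17956) (nat_lit 0x581b0c) .nil) (nat_lit 0x30896a) (nat_lit
  54516) (nat_lit 0x58930c) (.node (.node .nil (nat_lit 0x30896c) (nat_lit 64370) (nat_lit 0x2290bc) .nil)
  (nat_lit 0x308ab4) (nat_lit 89251) (nat_lit 865864) .nil)) (nat_lit 0x3092e2) (nat_lit 47345) (nat_lit
  0x49d448) (.node (.node (.node .nil (nat_lit 0x309748) (nat_lit 23409) (nat_lit 0x492478) .nil) (nat_lit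
  0x309b12) (nat_lit 51284) (nat_lit 0x72112c) .nil) (nat_lit 0x309c1c) (nat_lit 71681) (nat_lit 0x4a2466)
  (.node (.node .nil (nat_lit 0x30a38a) (nat_lit 49153) (nat_lit 0x4db410) .nil) (nat_lit 0x30b22c) (nat_lit
  29138) (nat_lit 0x21a2b8) .nil))) (nat_lit 0x30b522) (nat_lit 57938) (nat_lit 0x3192e0) (.node (.node (.node
  (.node .nil (nat_lit 0x30be80) (nat_lit 30227) (nat_lit 0x283728) .nil) (nat_lit 0x30c09e) (nat_lit 40868)
  (nat_lit 0x46b908) .nil) (nat_lit 0x30c534) (nat_lit 72468) (nat_lit 0x171b08) (.node (.node .nil (nat_lit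
  0x30c5c2) (nat_lit 74147) (nat_lit 15258) .nil) (nat_lit 0x30cb12) (nat_lit 6580) (nat_lit 0x56112c) .nil))
  (nat_lit 0x30ce60) (nat_lit 93779) (nat_lit 605464) (.node (.node (.node .nil (nat_lit 0x30d22c) (nat_lit
  66452) (nat_lit 0x249b28) .nil) (nat_lit 0x30d312) (nat_lit 12356) (nat_lit 0x761128) .nil) (nat_lit
  0x30d8c8) (nat_lit 53602) (nat_lit 0x62862c) (.node (.node .nil (nat_lit 0x30d912) (nat_lit 43090) (nat_lit
  0x669260) .nil) (nat_lit 0x30da12) (nat_lit 26756) (nat_lit 0x66112c) .nil)))))))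
def t6160_16 : T := (.node (.node (.node (.node (.node (.node (.node (.node .nil (nat_lit 0x30db10) (nat_lit
  20532) (nat_lit 0x36112c) .nil) (nat_lit 0x30e22c) (nat_lit 45921) (nat_lit 0x4d6482) (.node .nil (nat_lit
  0x30e9a0) (nat_lit 78531) (nat_lit 604840) .nil)) (nat_lit 0x30ec0a) (nat_lit 72355) (nat_lit 571690) (.node
  (.node .nil (nat_lit 0x30f02c) (nat_lit 19345) (nat_lit 0x4c64c2) .nil) (nat_lit 0x30f20c) (nat_lit 78689)
  (nat_lit 0x4d24c2) .nil)) (nat_lit 0x30f224) (nat_lit 53666) (nat_lit 0x61a2b0) (.node (.node (.node .nil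
  (nat_lit 0x30f228) (nat_lit 50897) (nat_lit 0x4d64c0) .nil) (nat_lit 0x3101f4) (nat_lit 91204) (nat_lit
  0x1a3f00) .nil) (nat_lit 0x310a56) (nat_lit 97811) (nat_lit 0x1c3452) (.node (.node .nil (nat_lit 0x310d58)
  (nat_lit 20498) (nat_lit 0x36112c) .nil) (nat_lit 0x310f24) (nat_lit 85138) (nat_lit 0x3231b0) .nil)))
  (nat_lit 0x3112e2) (nat_lit 26817) (nat_lit 0x41d548) (.node (.node (.node (.node .nil (nat_lit 0x31161a)
  (nat_lit 35827) (nat_lit 0x34b502) .nil) (nat_lit 0x311724) (nat_lit 83394) (nat_lit 0x3033b0) .nil)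
  (nat_lit 0x311b24) (nat_lit 86209) (nat_lit 0x434552) (.node (.node .nil (nat_lit 0x311d24) (nat_lit 71827)
  (nat_lit 0x3931c0) .nil) (nat_lit 0x311e24) (nat_lit 70372) (nat_lit 0x211f24) .nil)) (nat_lit 0x311f04)
  (nat_lit 72003) (nat_lit 0x3835c0) (.node (.node (.node .nil (nat_lit 0x311f20) (nat_lit 95810) (nat_lit
  0x3233a0) .nil) (nat_lit 0x312368) (nat_lit 13188) (nat_lit 0x1897a0) .nil) (nat_lit 0x312466) (nat_lit
  75188) (nat_lit 0x491f80) (.node (.node .nil (nat_lit 0x31261a) (nat_lit 66948) (nat_lit 0x4395a0) .nil)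
  (nat_lit 0x31283c) (nat_lit 45250) (nat_lit 0x2701b8) .nil)))) (nat_lit 0x3128ca) (nat_lit 39585) (nat_lit
  0x46b508) (.node (.node (.node (.node (.node .nil (nat_lit 0x31321a) (nat_lit 33731) (nat_lit 0x34b422)
  .nil) (nat_lit 0x31341a) (nat_lit 65715) (nat_lit 0x34b122) .nil) (nat_lit 0x3135c0) (nat_lit 83411)
  (nat_lit 0x3033b0) (.node (.node .nil (nat_lit 0x31360a) (nat_lit 30388) (nat_lit 0x6195a0) .nil) (nat_lit
  0x313612) (nat_lit 78932) (nat_lit 0x6315a0) .nil)) (nat_lit 0x313618) (nat_lit 74259) (nat_lit 0x34b520)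
  (.node (.node (.node .nil (nat_lit 0x31409e) (nat_lit 61154) (nat_lit 0x640578) .nil) (nat_lit 0x314466)
  (nat_lit 37410) (nat_lit 0x7001f4) .nil) (nat_lit 0x314558) (nat_lit 15539) (nat_lit 0x14b990) (.node (.node
  .nil (nat_lit 0x314958) (nat_lit 26722) (nat_lit 0x66112c) .nil) (nat_lit 0x314c58) (nat_lit 23778) (nat_lit
  0x76012c) .nil))) (nat_lit 0x314d18) (nat_lit 12322) (nat_lit 0x761128) (.node (.node (.node (.node .nil
  (nat_lit 0x314d48) (nat_lit 28275) (nat_lit 0x18b990) .nil) (nat_lit 0x314d50) (nat_lit 37027) (nat_lit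
  0x1c3990) .nil) (nat_lit 0x314e82) (nat_lit 66929) (nat_lit 0x4395a0) (.node (.node .nil (nat_lit 0x315388)
  (nat_lit 29457) (nat_lit 0x41a5d0) .nil) (nat_lit 0x31582a) (nat_lit 10547) (nat_lit 0x39b802) .nil))
  (nat_lit 0x316066) (nat_lit 79842) (nat_lit 0x6101f4) (.node (.node (.node .nil (nat_lit 0x316426) (nat_lit
  68595) (nat_lit 0x113962) .nil) (nat_lit 0x316446) (nat_lit 37764) (nat_lit 0x4d1d80) .nil) (nat_lit
  0x316462) (nat_lit 59970) (nat_lit 0x7101e4) (.node (.node .nil (nat_lit 0x316464) (nat_lit 68722) (nat_lit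
  0x7101b4) .nil) (nat_lit 0x3169a0) (nat_lit 48435) (nat_lit 0x193aa0) .nil))))) (nat_lit 0x317114) (nat_lit
  20066) (nat_lit 0x651330) (.node (.node (.node (.node (.node (.node .nil (nat_lit 0x317a40) (nat_lit 83889)
  (nat_lit 0x4705c8) .nil) (nat_lit 0x31809e) (nat_lit 76466) (nat_lit 0x248578) .nil) (nat_lit 0x3182e2)
  (nat_lit 6209) (nat_lit 0x49d508) (.node (.node .nil (nat_lit 0x318790) (nat_lit 52804) (nat_lit 0x133528)
  .nil) (nat_lit 0x318c32) (nat_lit 88356) (nat_lit 0x43170c) .nil)) (nat_lit 0x318cc4) (nat_lit 56545)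
  (nat_lit 0x4a852a) (.node (.node (.node .nil (nat_lit 0x3190e2) (nat_lit 12465) (nat_lit 0x48d548) .nil)
  (nat_lit 0x319138) (nat_lit 50708) (nat_lit 0x329708) .nil) (nat_lit 0x319262) (nat_lit 6705) (nat_lit
  0x495548) (.node (.node .nil (nat_lit 0x3192a2) (nat_lit 20305) (nat_lit 0x49d540) .nil) (nat_lit 0x3192c2)
  (nat_lit 26657) (nat_lit 0x499548) .nil))) (nat_lit 0x3192e0) (nat_lit 30033) (nat_lit 0x49c548) (.node
  (.node (.node (.node .nil (nat_lit 0x31a50c) (nat_lit 49329) (nat_lit 0x4c2532) .nil) (nat_lit 0x31a9a0)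
  (nat_lit 52611) (nat_lit 0x1932a8) .nil) (nat_lit 0x31b806) (nat_lit 22579) (nat_lit 0x38306a) (.node (.node
  .nil (nat_lit 0x31c01e) (nat_lit 80356) (nat_lit 0x469d08) .nil) (nat_lit 0x31c08e) (nat_lit 62180) (nat_lit
  0x44bd08) .nil)) (nat_lit 0x31c096) (nat_lit 75297) (nat_lit 0x489586) (.node (.node (.node .nil (nat_lit
  0x31c09a) (nat_lit 39620) (nat_lit 0x46b508) .nil) (nat_lit 0x31c09c) (nat_lit 38001) (nat_lit 0x48a586)
  .nil) (nat_lit 0x31c344) (nat_lit 98) (nat_lit 0x60b134) (.node (.node .nil (nat_lit 0x31c9a0) (nat_lit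
  50755) (nat_lit 0x193a88) .nil) (nat_lit 0x31e1a0) (nat_lit 13123) (nat_lit 0x113aa8) .nil)))) (nat_lit
  0x31e8a0) (nat_lit 57203) (nat_lit 0x193a28) (.node (.node (.node (.node (.node .nil (nat_lit 0x31e920)
  (nat_lit 45443) (nat_lit 0x1938a8) .nil) (nat_lit 0x31e980) (nat_lit 18547) (nat_lit 0x183aa8) .nil)
  (nat_lit 0x32045e) (nat_lit 20194) (nat_lit 0x34407c) (.node (.node .nil (nat_lit 0x3208f2) (nat_lit 60627)
  (nat_lit 881170) .nil) (nat_lit 0x320a8e) (nat_lit 1828) (nat_lit 0x40b934) .nil)) (nat_lit 0x32128e)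
  (nat_lit 2242) (nat_lit 0x206678) (.node (.node (.node .nil (nat_lit 0x3213b0) (nat_lit 63233) (nat_lit
  0x51c454) .nil) (nat_lit 0x321748) (nat_lit 5553) (nat_lit 0x512478) .nil) (nat_lit 0x32188e) (nat_lit 1508)
  (nat_lit 0x60b914) (.node (.node .nil (nat_lit 0x321954) (nat_lit 56372) (nat_lit 0x3a1914) .nil) (nat_lit
  0x321a0e) (nat_lit 4036) (nat_lit 0x609934) .nil))) (nat_lit 0x321a86) (nat_lit 612) (nat_lit 0x603934)
  (.node (.node (.node (.node .nil (nat_lit 0x321a8a) (nat_lit 132) (nat_lit 0x60b134) .nil) (nat_lit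
  0x321a8c) (nat_lit 500) (nat_lit 0x20b934) .nil) (nat_lit 0x3221cc) (nat_lit 28292) (nat_lit 0x18b990)
  (.node (.node .nil (nat_lit 0x3223b0) (nat_lit 39988) (nat_lit 0x1233b0) .nil) (nat_lit 0x3226c2) (nat_lit
  84513) (nat_lit 0x559428) .nil)) (nat_lit 0x32283c) (nat_lit 50626) (nat_lit 0x2740b8) (.node (.node (.node
  .nil (nat_lit 0x322d60) (nat_lit 45505) (nat_lit 0x564438) .nil) (nat_lit 0x32306a) (nat_lit 4673) (nat_lit
  0x547448) .nil) (nat_lit 0x3231b0) (nat_lit 57073) (nat_lit 0x54c454) (.node (.node .nil (nat_lit 0x3232b0)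
  (nat_lit 58913) (nat_lit 0x55c444) .nil) (nat_lit 0x323330) (nat_lit 45281) (nat_lit 0x554454) .nil))))))
  (nat_lit 0x323390) (nat_lit 68867) (nat_lit 0x2476a0) (.node (.node (.node (.node (.node (.node (.node .nil
  (nat_lit 0x3233a0) (nat_lit 78465) (nat_lit 0x55c450) .nil) (nat_lit 0x3240f2) (nat_lit 92849) (nat_lit
  0x50d48c) .nil) (nat_lit 0x3241cc) (nat_lit 43636) (nat_lit 0x1cb910) (.node (.node .nil (nat_lit 0x324534)
  (nat_lit 95587) (nat_lit 358848) .nil) (nat_lit 0x324872) (nat_lit 87969) (nat_lit 0x52548c) .nil)) (nat_lit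
  0x3248b2) (nat_lit 86531) (nat_lit 883202) (.node (.node (.node .nil (nat_lit 0x3248d2) (nat_lit 95361)
  (nat_lit 0x52948c) .nil) (nat_lit 0x3248e2) (nat_lit 90946) (nat_lit 0x6244e4) .nil) (nat_lit 0x3248f0)
  (nat_lit 72145) (nat_lit 0x52c48c) (.node (.node .nil (nat_lit 0x324b28) (nat_lit 91346) (nat_lit 0x6270a8)
  .nil) (nat_lit 0x325622) (nat_lit 20100) (nat_lit 0x651330) .nil))) (nat_lit 0x325d80) (nat_lit 78307)
  (nat_lit 0x287b80) (.node (.node (.node (.node .nil (nat_lit 0x3260cc) (nat_lit 57346) (nat_lit 0x61443c)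
  .nil) (nat_lit 0x32614c) (nat_lit 42275) (nat_lit 63728) .nil) (nat_lit 0x32618c) (nat_lit 15556) (nat_lit
  0x14b990) (.node (.node .nil (nat_lit 0x3261c4) (nat_lit 37044) (nat_lit 0x1c3990) .nil) (nat_lit 0x3261c8)
  (nat_lit 49044) (nat_lit 0x1cb190) .nil)) (nat_lit 0x326216) (nat_lit 2353) (nat_lit 0x551486) (.node (.node
  (.node .nil (nat_lit 0x326c0a) (nat_lit 85969) (nat_lit 0x5634a0) .nil) (nat_lit 0x327a40) (nat_lit 61009)
  (nat_lit 0x5704c8) .nil) (nat_lit 0x32823a) (nat_lit 68419) (nat_lit 390154) (.node (.node .nil (nat_lit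
  0x328534) (nat_lit 80691) (nat_lit 356808) .nil) (nat_lit 0x328748) (nat_lit 7793) (nat_lit 0x592438)
  .nil)))) (nat_lit 0x328998) (nat_lit 55635) (nat_lit 848520) (.node (.node (.node (.node (.node .nil
  (nat_lit 0x328cc4) (nat_lit 72642) (nat_lit 0x32c434) .nil) (nat_lit 0x329348) (nat_lit 19889) (nat_lit
  0x592458) .nil) (nat_lit 0x329492) (nat_lit 91297) (nat_lit 0x589464) (.node (.node .nil (nat_lit 0x329548)
  (nat_lit 26273) (nat_lit 0x582478) .nil) (nat_lit 0x329648) (nat_lit 21489) (nat_lit 0x592468) .nil))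
  (nat_lit 0x329708) (nat_lit 24833) (nat_lit 0x592470) (.node (.node (.node .nil (nat_lit 0x329740) (nat_lit
  46673) (nat_lit 0x590478) .nil) (nat_lit 0x32a0a6) (nat_lit 32692) (nat_lit 0x403b98) .nil) (nat_lit
  0x32ab04) (nat_lit 58900) (nat_lit 0x1019bc) (.node (.node .nil (nat_lit 0x32ac0a) (nat_lit 87843) (nat_lit
  586026) .nil) (nat_lit 0x32c134) (nat_lit 81908) (nat_lit 0x161b18) .nil))) (nat_lit 0x32c434) (nat_lit
  41875) (nat_lit 358728) (.node (.node (.node (.node .nil (nat_lit 0x32c514) (nat_lit 31252) (nat_lit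
  0x171918) .nil) (nat_lit 0x32c524) (nat_lit 60739) (nat_lit 96712) .nil) (nat_lit 0x32c530) (nat_lit 65889)
  (nat_lit 0x5844b4) (.node (.node .nil (nat_lit 0x32cc0a) (nat_lit 96804) (nat_lit 0x45911c) .nil) (nat_lit
  0x32d046) (nat_lit 80641) (nat_lit 0x5814ca) .nil)) (nat_lit 0x32e40a) (nat_lit 90723) (nat_lit 63786)
  (.node (.node (.node .nil (nat_lit 0x32e80a) (nat_lit 61780) (nat_lit 0x44919c) .nil) (nat_lit 0x32ec02)
  (nat_lit 93508) (nat_lit 0x45119c) .nil) (nat_lit 0x32ec08) (nat_lit 65507) (nat_lit 588072) (.node (.node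
  .nil (nat_lit 0x3302d8) (nat_lit 40723) (nat_lit 0x14f610) .nil) (nat_lit 0x33083c) (nat_lit 42322) (nat_lit
  0x2641b8) .nil))))) (nat_lit 0x330cc4) (nat_lit 82417) (nat_lit 0x52852a) (.node (.node (.node (.node (.node
  (.node .nil (nat_lit 0x331470) (nat_lit 17186) (nat_lit 0x3443a4) .nil) (nat_lit 0x33203c) (nat_lit 38929)
  (nat_lit 0x546506) .nil) (nat_lit 0x33281c) (nat_lit 80225) (nat_lit 0x562506) (.node (.node .nil (nat_lit
  0x33282c) (nat_lit 57409) (nat_lit 0x566502) .nil) (nat_lit 0x332834) (nat_lit 18354) (nat_lit 0x2741b0)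
  .nil)) (nat_lit 0x332838) (nat_lit 66225) (nat_lit 0x566504) (.node (.node (.node .nil (nat_lit 0x333a40)
  (nat_lit 60052) (nat_lit 0x2815b4) .nil) (nat_lit 0x33460c) (nat_lit 14628) (nat_lit 367920) .nil) (nat_lit
  0x3350a4) (nat_lit 95204) (nat_lit 0x243f10) (.node (.node .nil (nat_lit 0x335a40) (nat_lit 88994) (nat_lit
  0x626324) .nil) (nat_lit 0x336490) (nat_lit 37892) (nat_lit 472464) .nil))) (nat_lit 0x336a40) (nat_lit
  74753) (nat_lit 0x570588) (.node (.node (.node (.node .nil (nat_lit 0x337240) (nat_lit 76881) (nat_lit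
  0x5505c8) .nil) (nat_lit 0x337840) (nat_lit 79713) (nat_lit 0x5605c8) .nil) (nat_lit 0x337a00) (nat_lit
  36337) (nat_lit 0x5705c0) (.node (.node .nil (nat_lit 0x3384c4) (nat_lit 55457) (nat_lit 0x58852a) .nil)
  (nat_lit 0x3388c4) (nat_lit 94164) (nat_lit 539932) .nil)) (nat_lit 0x338c44) (nat_lit 74305) (nat_lit
  0x5a052a) (.node (.node (.node .nil (nat_lit 0x338c84) (nat_lit 35889) (nat_lit 0x5a8522) .nil) (nat_lit
  0x338cc0) (nat_lit 33857) (nat_lit 0x5a8528) .nil) (nat_lit 0x339214) (nat_lit 1443) (nat_lit 0x347448)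
  (.node (.node .nil (nat_lit 0x33a620) (nat_lit 13651) (nat_lit 0x117528) .nil) (nat_lit 0x33b088) (nat_lit
  7409) (nat_lit 0x5ca540) .nil)))) (nat_lit 0x33c068) (nat_lit 92116) (nat_lit 825112) (.node (.node (.node
  (.node (.node .nil (nat_lit 0x3401da) (nat_lit 59745) (nat_lit 0x40b61c) .nil) (nat_lit 0x3403a6) (nat_lit
  61281) (nat_lit 0x41d612) .nil) (nat_lit 0x340a56) (nat_lit 92257) (nat_lit 0x43160e) (.node (.node .nil
  (nat_lit 0x340f0a) (nat_lit 11138) (nat_lit 0x32306a) .nil) (nat_lit 0x3410da) (nat_lit 84820) (nat_lit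
  0x6af100) .nil)) (nat_lit 0x34115a) (nat_lit 61539) (nat_lit 0x24b096) (.node (.node (.node .nil (nat_lit
  0x34119a) (nat_lit 84052) (nat_lit 0x72f100) .nil) (nat_lit 0x3411ca) (nat_lit 92209) (nat_lit 0x40b658)
  .nil) (nat_lit 0x3411d2) (nat_lit 71857) (nat_lit 0x40965c) (.node (.node .nil (nat_lit 0x3411d8) (nat_lit
  96868) (nat_lit 0x3af100) .nil) (nat_lit 0x3418e4) (nat_lit 44530) (nat_lit 0x2206b6) .nil))) (nat_lit
  0x341c1c) (nat_lit 44785) (nat_lit 0x422666) (.node (.node (.node (.node .nil (nat_lit 0x342368) (nat_lit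
  18596) (nat_lit 0x18d3a0) .nil) (nat_lit 0x342634) (nat_lit 64593) (nat_lit 0x454626) .nil) (nat_lit
  0x3426c2) (nat_lit 75380) (nat_lit 0x4971a0) (.node (.node .nil (nat_lit 0x3428e4) (nat_lit 48626) (nat_lit
  0x2304b6) .nil) (nat_lit 0x342a98) (nat_lit 49860) (nat_lit 192932) .nil)) (nat_lit 0x3430e4) (nat_lit
  78178) (nat_lit 0x2106b6) (.node (.node (.node .nil (nat_lit 0x343522) (nat_lit 53570) (nat_lit 0x3112e2)
  .nil) (nat_lit 0x343864) (nat_lit 13682) (nat_lit 0x2302b6) .nil) (nat_lit 0x3438a4) (nat_lit 62611)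
  (nat_lit 0x293264) (.node (.node .nil (nat_lit 0x3438c4) (nat_lit 77154) (nat_lit 0x230636) .nil) (nat_lit
  0x3438e0) (nat_lit 42786) (nat_lit 0x2306a6) .nil)))))))
def t6160_17 : T := (.node (.node (.node (.node (.node (.node (.node (.node .nil (nat_lit 0x3441a6) (nat_lit
  21009) (nat_lit 0x40d692) .nil) (nat_lit 0x3442a6) (nat_lit 51553) (nat_lit 0x41d682) .nil) (nat_lit
  0x344326) (nat_lit 37666) (nat_lit 0x6030f2) (.node (.node .nil (nat_lit 0x344386) (nat_lit 53042) (nat_lit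
  0x603472) .nil) (nat_lit 0x3443a2) (nat_lit 24337) (nat_lit 0x41d690) .nil)) (nat_lit 0x3443a4) (nat_lit
  7265) (nat_lit 0x41c692) (.node (.node (.node .nil (nat_lit 0x344a98) (nat_lit 67009) (nat_lit 0x43a684)
  .nil) (nat_lit 0x344e60) (nat_lit 93969) (nat_lit 0x4346a8) .nil) (nat_lit 0x34582a) (nat_lit 32403)
  (nat_lit 0x29b806) (.node (.node .nil (nat_lit 0x345d80) (nat_lit 17875) (nat_lit 0x283b84) .nil) (nat_lit
  0x346298) (nat_lit 81124) (nat_lit 455072) .nil))) (nat_lit 0x346898) (nat_lit 40626) (nat_lit 0x67042a)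
  (.node (.node (.node (.node .nil (nat_lit 0x346942) (nat_lit 75697) (nat_lit 0x461698) .nil) (nat_lit
  0x346a18) (nat_lit 44452) (nat_lit 446884) .nil) (nat_lit 0x346a88) (nat_lit 62451) (nat_lit 572964) (.node
  (.node .nil (nat_lit 0x346a90) (nat_lit 42289) (nat_lit 0x478684) .nil) (nat_lit 0x347114) (nat_lit 64098)
  (nat_lit 0x651232) .nil)) (nat_lit 0x347448) (nat_lit 483) (nat_lit 0x20b934) (.node (.node (.node .nil
  (nat_lit 0x34823a) (nat_lit 63860) (nat_lit 0x42d328) .nil) (nat_lit 0x3482cc) (nat_lit 65524) (nat_lit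
  588072) .nil) (nat_lit 0x348790) (nat_lit 33714) (nat_lit 0x34b422) (.node (.node .nil (nat_lit 0x348c1c)
  (nat_lit 77185) (nat_lit 0x4a2626) .nil) (nat_lit 0x348e60) (nat_lit 61668) (nat_lit 611116) .nil))))
  (nat_lit 0x34941c) (nat_lit 17649) (nat_lit 0x482666) (.node (.node (.node (.node (.node .nil (nat_lit
  0x349522) (nat_lit 77874) (nat_lit 0x3092e2) .nil) (nat_lit 0x34981c) (nat_lit 60691) (nat_lit 0x2cb04c)
  .nil) (nat_lit 0x349c0c) (nat_lit 76691) (nat_lit 0x28b14c) (.node (.node .nil (nat_lit 0x349c14) (nat_lit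
  41827) (nat_lit 0x2c314c) .nil) (nat_lit 0x349c18) (nat_lit 78193) (nat_lit 0x4a2664) .nil)) (nat_lit
  0x34a522) (nat_lit 28834) (nat_lit 0x3190e2) (.node (.node (.node .nil (nat_lit 0x34ab04) (nat_lit 86145)
  (nat_lit 0x4f0612) .nil) (nat_lit 0x34b122) (nat_lit 35859) (nat_lit 0x2130ae) .nil) (nat_lit 0x34b422)
  (nat_lit 14946) (nat_lit 0x3182e2) (.node (.node .nil (nat_lit 0x34b502) (nat_lit 16050) (nat_lit 0x319262)
  .nil) (nat_lit 0x34b520) (nat_lit 43378) (nat_lit 0x3192a2) .nil))) (nat_lit 0x34c660) (nat_lit 87092)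
  (nat_lit 873256) (.node (.node (.node (.node .nil (nat_lit 0x34ca60) (nat_lit 67570) (nat_lit 0x62a0a6)
  .nil) (nat_lit 0x34cc60) (nat_lit 86801) (nat_lit 0x4a46a8) .nil) (nat_lit 0x34ce20) (nat_lit 96369)
  (nat_lit 0x4b46a0) (.node (.node .nil (nat_lit 0x34ce40) (nat_lit 94147) (nat_lit 539932) .nil) (nat_lit
  0x34d046) (nat_lit 64177) (nat_lit 0x4816ca) .nil)) (nat_lit 0x34d0b0) (nat_lit 95955) (nat_lit 0x253a0c)
  (.node (.node (.node .nil (nat_lit 0x34e484) (nat_lit 84547) (nat_lit 15212) .nil) (nat_lit 0x350256)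
  (nat_lit 98228) (nat_lit 0x4a5d20) .nil) (nat_lit 0x350368) (nat_lit 42500) (nat_lit 0x18d720) (.node (.node
  .nil (nat_lit 0x350790) (nat_lit 48612) (nat_lit 0x137520) .nil) (nat_lit 0x350856) (nat_lit 97924) (nat_lit
  0x4a5d04) .nil))))) (nat_lit 0x35098c) (nat_lit 23220) (nat_lit 0x10fd04) (.node (.node (.node (.node (.node
  (.node .nil (nat_lit 0x350a16) (nat_lit 98305) (nat_lit 0x431706) .nil) (nat_lit 0x350a46) (nat_lit 98290)
  (nat_lit 0x222176) .nil) (nat_lit 0x350a52) (nat_lit 88321) (nat_lit 0x43170c) (.node (.node .nil (nat_lit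
  0x350a54) (nat_lit 86658) (nat_lit 0x262136) .nil) (nat_lit 0x351470) (nat_lit 80803) (nat_lit 0x353114)
  .nil)) (nat_lit 0x351486) (nat_lit 10865) (nat_lit 0x409762) (.node (.node (.node .nil (nat_lit 0x35182a)
  (nat_lit 25923) (nat_lit 0x39b006) .nil) (nat_lit 0x3520b2) (nat_lit 78289) (nat_lit 0x44d704) .nil)
  (nat_lit 0x352168) (nat_lit 64564) (nat_lit 0x18d780) (.node (.node .nil (nat_lit 0x352268) (nat_lit 45492)
  (nat_lit 579488) .nil) (nat_lit 0x352328) (nat_lit 52676) (nat_lit 0x10d7a0) .nil))) (nat_lit 0x352348)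
  (nat_lit 56514) (nat_lit 0x21312e) (.node (.node (.node (.node .nil (nat_lit 0x352360) (nat_lit 48500)
  (nat_lit 0x1857a0) .nil) (nat_lit 0x353114) (nat_lit 51186) (nat_lit 0x251332) .nil) (nat_lit 0x35460c)
  (nat_lit 9331) (nat_lit 0x10bd44) (.node (.node .nil (nat_lit 0x35482a) (nat_lit 22979) (nat_lit 0x19b806)
  .nil) (nat_lit 0x35502a) (nat_lit 47011) (nat_lit 0x31b806) .nil)) (nat_lit 0x355114) (nat_lit 47106)
  (nat_lit 0x641332) (.node (.node (.node .nil (nat_lit 0x35580a) (nat_lit 11779) (nat_lit 0x38b806) .nil)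
  (nat_lit 0x355822) (nat_lit 22323) (nat_lit 0x393806) .nil) (nat_lit 0x355828) (nat_lit 25555) (nat_lit
  0x39b804) (.node (.node .nil (nat_lit 0x356114) (nat_lit 26450) (nat_lit 0x651132) .nil) (nat_lit 0x357014)
  (nat_lit 5762) (nat_lit 0x650332) .nil)))) (nat_lit 0x357104) (nat_lit 35266) (nat_lit 0x611332) (.node
  (.node (.node (.node (.node .nil (nat_lit 0x357110) (nat_lit 46306) (nat_lit 0x651322) .nil) (nat_lit
  0x358390) (nat_lit 55394) (nat_lit 0x24b522) .nil) (nat_lit 0x35844a) (nat_lit 6260) (nat_lit 0x49d508)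
  (.node (.node .nil (nat_lit 0x358590) (nat_lit 80740) (nat_lit 0x137508) .nil) (nat_lit 0x358690) (nat_lit
  55745) (nat_lit 0x498724) .nil)) (nat_lit 0x358710) (nat_lit 42772) (nat_lit 0x135528) (.node (.node (.node
  .nil (nat_lit 0x358780) (nat_lit 13668) (nat_lit 0x117528) .nil) (nat_lit 0x359940) (nat_lit 67940) (nat_lit
  0x38550c) .nil) (nat_lit 0x35b088) (nat_lit 42225) (nat_lit 0x4ca740) (.node (.node .nil (nat_lit 0x35e202)
  (nat_lit 40803) (nat_lit 0x103c2e) .nil) (nat_lit 0x36023a) (nat_lit 71668) (nat_lit 0x42d330) .nil)))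
  (nat_lit 0x3606c2) (nat_lit 65281) (nat_lit 0x519628) (.node (.node (.node (.node .nil (nat_lit 0x360c26)
  (nat_lit 13969) (nat_lit 0x525622) .nil) (nat_lit 0x36112c) (nat_lit 8801) (nat_lit 0x506652) .nil) (nat_lit
  0x361470) (nat_lit 59217) (nat_lit 0x50466c) (.node (.node .nil (nat_lit 0x361d80) (nat_lit 42964) (nat_lit
  0x317114) .nil) (nat_lit 0x3622c2) (nat_lit 80036) (nat_lit 0x4871b0) .nil)) (nat_lit 0x3624c2) (nat_lit
  67618) (nat_lit 0x314466) (.node (.node (.node .nil (nat_lit 0x362518) (nat_lit 72708) (nat_lit 0x13d190)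
  .nil) (nat_lit 0x362642) (nat_lit 83028) (nat_lit 0x4951b0) .nil) (nat_lit 0x362682) (nat_lit 59939)
  (nat_lit 30502) (.node (.node .nil (nat_lit 0x3626c0) (nat_lit 70241) (nat_lit 0x558628) .nil) (nat_lit
  0x362b04) (nat_lit 69345) (nat_lit 0x570612) .nil)))))) (nat_lit 0x363812) (nat_lit 55828) (nat_lit
  0x625194) (.node (.node (.node (.node (.node (.node (.node .nil (nat_lit 0x364350) (nat_lit 69426) (nat_lit
  0x647026) .nil) (nat_lit 0x36460c) (nat_lit 20387) (nat_lit 64836) .nil) (nat_lit 0x364d80) (nat_lit 48772)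
  (nat_lit 0x157114) (.node (.node .nil (nat_lit 0x365046) (nat_lit 61489) (nat_lit 0x5016ca) .nil) (nat_lit
  0x365580) (nat_lit 76932) (nat_lit 0x357110) .nil)) (nat_lit 0x365980) (nat_lit 50307) (nat_lit 0x287a84)
  (.node (.node (.node .nil (nat_lit 0x365c80) (nat_lit 44995) (nat_lit 0x287b04) .nil) (nat_lit 0x365d00)
  (nat_lit 77235) (nat_lit 0x287984) .nil) (nat_lit 0x36803a) (nat_lit 63778) (nat_lit 0x24c0ea) (.node (.node
  .nil (nat_lit 0x3681e0) (nat_lit 89777) (nat_lit 0x58c618) .nil) (nat_lit 0x36821a) (nat_lit 66050) (nat_lit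
  0x24e06a) .nil))) (nat_lit 0x36822a) (nat_lit 59411) (nat_lit 128014) (.node (.node (.node (.node .nil
  (nat_lit 0x368232) (nat_lit 66116) (nat_lit 0x425338) .nil) (nat_lit 0x368238) (nat_lit 71153) (nat_lit
  0x596604) .nil) (nat_lit 0x368b04) (nat_lit 17762) (nat_lit 0x22f032) (.node (.node .nil (nat_lit 0x369046)
  (nat_lit 75956) (nat_lit 0x685918) .nil) (nat_lit 0x36a304) (nat_lit 70660) (nat_lit 0x1059b8) .nil))
  (nat_lit 0x36a904) (nat_lit 54386) (nat_lit 0x23d032) (.node (.node (.node .nil (nat_lit 0x36aa04) (nat_lit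
  44882) (nat_lit 0x23e032) .nil) (nat_lit 0x36ab00) (nat_lit 50210) (nat_lit 0x23f022) .nil) (nat_lit
  0x36b088) (nat_lit 21153) (nat_lit 0x5ca640) (.node (.node .nil (nat_lit 0x36c046) (nat_lit 94641) (nat_lit
  0x58168a) .nil) (nat_lit 0x36d006) (nat_lit 40545) (nat_lit 0x5816c2) .nil)))) (nat_lit 0x36d042) (nat_lit
  37522) (nat_lit 0x60c266) (.node (.node (.node (.node (.node .nil (nat_lit 0x36d044) (nat_lit 83332)
  (nat_lit 0x2c5918) .nil) (nat_lit 0x370470) (nat_lit 44402) (nat_lit 0x3441a6) .nil) (nat_lit 0x37060c)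
  (nat_lit 3331) (nat_lit 0x10f544) (.node (.node .nil (nat_lit 0x370aa0) (nat_lit 94177) (nat_lit 0x53c700)
  .nil) (nat_lit 0x371070) (nat_lit 13875) (nat_lit 0x357014) .nil)) (nat_lit 0x371430) (nat_lit 49794)
  (nat_lit 0x3443a2) (.node (.node (.node .nil (nat_lit 0x371450) (nat_lit 57297) (nat_lit 0x50076c) .nil)
  (nat_lit 0x371460) (nat_lit 36865) (nat_lit 0x504768) .nil) (nat_lit 0x373088) (nat_lit 52209) (nat_lit
  0x54a740) (.node (.node .nil (nat_lit 0x37420c) (nat_lit 26115) (nat_lit 0x10fc44) .nil) (nat_lit 0x37440c)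
  (nat_lit 12547) (nat_lit 0x10f944) .nil))) (nat_lit 0x374604) (nat_lit 6339) (nat_lit 0x107d44) (.node
  (.node (.node (.node .nil (nat_lit 0x374608) (nat_lit 23203) (nat_lit 0x10fd04) .nil) (nat_lit 0x379088)
  (nat_lit 51633) (nat_lit 0x58a740) .nil) (nat_lit 0x37a088) (nat_lit 24465) (nat_lit 0x5ca700) (.node (.node
  .nil (nat_lit 0x37b008) (nat_lit 37492) (nat_lit 0x20d598) .nil) (nat_lit 0x37b080) (nat_lit 27345) (nat_lit
  0x5c8740) .nil)) (nat_lit 0x37c810) (nat_lit 62948) (nat_lit 415004) (.node (.node (.node .nil (nat_lit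
  0x380372) (nat_lit 49473) (nat_lit 0x61541c) .nil) (nat_lit 0x380572) (nat_lit 44049) (nat_lit 0x60543c)
  .nil) (nat_lit 0x380672) (nat_lit 53809) (nat_lit 0x61542c) (.node (.node .nil (nat_lit 0x380732) (nat_lit
  73329) (nat_lit 0x615434) .nil) (nat_lit 0x380752) (nat_lit 30449) (nat_lit 0x61143c) .nil))))) (nat_lit
  0x380762) (nat_lit 16593) (nat_lit 0x615438) (.node (.node (.node (.node (.node (.node .nil (nat_lit
  0x380770) (nat_lit 37875) (nat_lit 472464) .nil) (nat_lit 0x380ab4) (nat_lit 65412) (nat_lit 146276) .nil)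
  (nat_lit 0x380e4c) (nat_lit 50579) (nat_lit 701776) (.node (.node .nil (nat_lit 0x38150e) (nat_lit 53025)
  (nat_lit 0x603472) .nil) (nat_lit 0x381954) (nat_lit 14337) (nat_lit 0x62045e) .nil)) (nat_lit 0x3819a2)
  (nat_lit 70961) (nat_lit 0x62d450) (.node (.node (.node .nil (nat_lit 0x38238a) (nat_lit 58804) (nat_lit
  0x50b1e0) .nil) (nat_lit 0x38264c) (nat_lit 14307) (nat_lit 177520) .nil) (nat_lit 0x382a4c) (nat_lit 54193)
  (nat_lit 0x67240a) (.node (.node .nil (nat_lit 0x382c4c) (nat_lit 63203) (nat_lit 700784) .nil) (nat_lit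
  0x382e0c) (nat_lit 65027) (nat_lit 701792) .nil))) (nat_lit 0x382e44) (nat_lit 18307) (nat_lit 669040)
  (.node (.node (.node (.node .nil (nat_lit 0x382e48) (nat_lit 53107) (nat_lit 701744) .nil) (nat_lit
  0x38306a) (nat_lit 9729) (nat_lit 0x647448) .nil) (nat_lit 0x38309c) (nat_lit 37652) (nat_lit 0x22b9c0)
  (.node (.node .nil (nat_lit 0x3835c0) (nat_lit 41473) (nat_lit 0x648478) .nil) (nat_lit 0x383c30) (nat_lit
  97123) (nat_lit 0x2f3120) .nil)) (nat_lit 0x38407c) (nat_lit 22657) (nat_lit 0x60648e) (.node (.node (.node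
  .nil (nat_lit 0x38450e) (nat_lit 38241) (nat_lit 0x6034b2) .nil) (nat_lit 0x384b28) (nat_lit 70177) (nat_lit
  0x636490) .nil) (nat_lit 0x384e82) (nat_lit 60291) (nat_lit 671490) (.node (.node .nil (nat_lit 0x38510e)
  (nat_lit 77729) (nat_lit 0x6034d2) .nil) (nat_lit 0x38540e) (nat_lit 65153) (nat_lit 0x6034e2) .nil))))
  (nat_lit 0x385506) (nat_lit 48785) (nat_lit 0x6014f2) (.node (.node (.node (.node (.node .nil (nat_lit
  0x38550a) (nat_lit 42977) (nat_lit 0x6034f0) .nil) (nat_lit 0x38550c) (nat_lit 37635) (nat_lit 0x22b9c0)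
  .nil) (nat_lit 0x3858c8) (nat_lit 43474) (nat_lit 0x620e2c) (.node (.node .nil (nat_lit 0x385c30) (nat_lit
  68803) (nat_lit 0x2f3900) .nil) (nat_lit 0x386216) (nat_lit 16003) (nat_lit 408674) .nil)) (nat_lit
  0x3862e0) (nat_lit 7555) (nat_lit 212528) (.node (.node (.node .nil (nat_lit 0x386942) (nat_lit 78945)
  (nat_lit 0x661498) .nil) (nat_lit 0x386c30) (nat_lit 89348) (nat_lit 463812) .nil) (nat_lit 0x387430)
  (nat_lit 86738) (nat_lit 0x750aa0) (.node (.node .nil (nat_lit 0x387830) (nat_lit 96259) (nat_lit 0x2f3820)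
  .nil) (nat_lit 0x387c10) (nat_lit 93668) (nat_lit 0x2711c4) .nil))) (nat_lit 0x387c20) (nat_lit 87505)
  (nat_lit 0x6644e0) (.node (.node (.node (.node .nil (nat_lit 0x3882b4) (nat_lit 94034) (nat_lit 0x24acb0)
  .nil) (nat_lit 0x38838a) (nat_lit 28561) (nat_lit 0x69b410) .nil) (nat_lit 0x3888b4) (nat_lit 93923)
  (nat_lit 995912) (.node (.node .nil (nat_lit 0x388a34) (nat_lit 70834) (nat_lit 0x26a8b0) .nil) (nat_lit
  0x388a94) (nat_lit 36561) (nat_lit 0x6b8406) .nil)) (nat_lit 0x388aa4) (nat_lit 79729) (nat_lit 0x6bc402)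
  (.node (.node (.node .nil (nat_lit 0x388ab0) (nat_lit 57009) (nat_lit 0x6bc404) .nil) (nat_lit 0x389138)
  (nat_lit 41026) (nat_lit 0x249aa8) .nil) (nat_lit 0x389464) (nat_lit 71025) (nat_lit 0x68446a) (.node (.node
  .nil (nat_lit 0x389492) (nat_lit 88145) (nat_lit 0x689464) .nil) (nat_lit 0x3898c8) (nat_lit 28146) (nat_lit
  0x228e2c) .nil)))))))
def t6160_18 : T := (.node (.node (.node (.node (.node (.node (.node (.node .nil (nat_lit 0x38a28a) (nat_lit
  36195) (nat_lit 177706) .nil) (nat_lit 0x38a30a) (nat_lit 69987) (nat_lit 177322) (.node .nil (nat_lit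
  0x38a382) (nat_lit 56803) (nat_lit 145066) .nil)) (nat_lit 0x38a388) (nat_lit 15761) (nat_lit 0x6da410)
  (.node (.node .nil (nat_lit 0x38b806) (nat_lit 4947) (nat_lit 0x2a306a) .nil) (nat_lit 0x38c344) (nat_lit
  690) (nat_lit 0x60b834) .nil)) (nat_lit 0x38c618) (nat_lit 76371) (nat_lit 441608) (.node (.node (.node .nil
  (nat_lit 0x38c8c8) (nat_lit 81314) (nat_lit 0x628c2c) .nil) (nat_lit 0x38d0c8) (nat_lit 53362) (nat_lit
  0x608e2c) .nil) (nat_lit 0x38d848) (nat_lit 77922) (nat_lit 0x628a2c) (.node (.node .nil (nat_lit 0x38d888)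
  (nat_lit 15074) (nat_lit 0x628e28) .nil) (nat_lit 0x38d8c0) (nat_lit 16146) (nat_lit 0x628e24) .nil)))
  (nat_lit 0x38e484) (nat_lit 94372) (nat_lit 342472) (.node (.node (.node (.node .nil (nat_lit 0x39022e)
  (nat_lit 1011) (nat_lit 0x13b442) .nil) (nat_lit 0x3902d8) (nat_lit 18866) (nat_lit 0x242d2c) .nil) (nat_lit
  0x39098c) (nat_lit 9348) (nat_lit 0x10bd44) (.node (.node .nil (nat_lit 0x390e82) (nat_lit 40305) (nat_lit
  0x639520) .nil) (nat_lit 0x391138) (nat_lit 35521) (nat_lit 0x606554) .nil)) (nat_lit 0x3915c0) (nat_lit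
  87876) (nat_lit 0x393540) (.node (.node (.node .nil (nat_lit 0x3920b2) (nat_lit 54401) (nat_lit 0x64d504)
  .nil) (nat_lit 0x3925c0) (nat_lit 39971) (nat_lit 0x1233b0) .nil) (nat_lit 0x392b10) (nat_lit 70001)
  (nat_lit 0x670514) (.node (.node .nil (nat_lit 0x3931c0) (nat_lit 41121) (nat_lit 0x648558) .nil) (nat_lit
  0x3934c0) (nat_lit 76051) (nat_lit 0x323330) .nil)))) (nat_lit 0x393540) (nat_lit 61137) (nat_lit 0x640578)
  (.node (.node (.node (.node (.node .nil (nat_lit 0x393580) (nat_lit 83681) (nat_lit 0x648570) .nil) (nat_lit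
  0x393806) (nat_lit 9603) (nat_lit 0x3a3062) .nil) (nat_lit 0x394344) (nat_lit 578) (nat_lit 0x603934) (.node
  (.node .nil (nat_lit 0x394682) (nat_lit 30353) (nat_lit 0x6195a0) .nil) (nat_lit 0x394a82) (nat_lit 73265)
  (nat_lit 0x639580) .nil)) (nat_lit 0x394c82) (nat_lit 67684) (nat_lit 0x453544) (.node (.node (.node .nil
  (nat_lit 0x394e02) (nat_lit 78913) (nat_lit 0x6315a0) .nil) (nat_lit 0x394e80) (nat_lit 86097) (nat_lit
  0x6385a0) .nil) (nat_lit 0x395052) (nat_lit 24577) (nat_lit 0x6015cc) (.node (.node .nil (nat_lit 0x3950a4)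
  (nat_lit 87028) (nat_lit 0x243f40) .nil) (nat_lit 0x398138) (nat_lit 56305) (nat_lit 0x686514) .nil)))
  (nat_lit 0x398344) (nat_lit 466) (nat_lit 0x20b934) (.node (.node (.node (.node .nil (nat_lit 0x39844a)
  (nat_lit 26708) (nat_lit 0x499548) .nil) (nat_lit 0x399038) (nat_lit 57556) (nat_lit 0x229748) .nil)
  (nat_lit 0x399118) (nat_lit 44723) (nat_lit 0x36b088) (.node (.node .nil (nat_lit 0x399128) (nat_lit 17555)
  (nat_lit 0x33b088) .nil) (nat_lit 0x399130) (nat_lit 13332) (nat_lit 0x321748) .nil)) (nat_lit 0x399806)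
  (nat_lit 1155) (nat_lit 0x3a304a) (.node (.node (.node .nil (nat_lit 0x39a620) (nat_lit 52787) (nat_lit
  0x133528) .nil) (nat_lit 0x39a806) (nat_lit 3731) (nat_lit 0x1a306a) .nil) (nat_lit 0x39b006) (nat_lit
  11155) (nat_lit 0x32306a) (.node (.node .nil (nat_lit 0x39b802) (nat_lit 4371) (nat_lit 0x3a302a) .nil)
  (nat_lit 0x39b804) (nat_lit 10979) (nat_lit 0x3a3068) .nil))))) (nat_lit 0x39c144) (nat_lit 1889) (nat_lit
  0x68059a) (.node (.node (.node (.node (.node (.node .nil (nat_lit 0x39c244) (nat_lit 1858) (nat_lit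
  0x60a934) .nil) (nat_lit 0x39c304) (nat_lit 4626) (nat_lit 0x60b930) .nil) (nat_lit 0x39c340) (nat_lit 1554)
  (nat_lit 0x60b924) (.node (.node .nil (nat_lit 0x3a02d8) (nat_lit 63220) (nat_lit 700784) .nil) (nat_lit
  0x3a0784) (nat_lit 90276) (nat_lit 0x113970) .nil)) (nat_lit 0x3a0954) (nat_lit 65041) (nat_lit 0x72041e)
  (.node (.node (.node .nil (nat_lit 0x3a0b28) (nat_lit 88514) (nat_lit 0x2278a8) .nil) (nat_lit 0x3a0c26)
  (nat_lit 48833) (nat_lit 0x725422) .nil) (nat_lit 0x3a106a) (nat_lit 5921) (nat_lit 0x707448) (.node (.node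
  .nil (nat_lit 0x3a1154) (nat_lit 76945) (nat_lit 0x70045e) .nil) (nat_lit 0x3a1492) (nat_lit 98083) (nat_lit
  0x267302) .nil))) (nat_lit 0x3a1854) (nat_lit 35668) (nat_lit 0x2a1954) (.node (.node (.node (.node .nil
  (nat_lit 0x3a1914) (nat_lit 28738) (nat_lit 0x265a30) .nil) (nat_lit 0x3a1944) (nat_lit 32548) (nat_lit
  0x381954) .nil) (nat_lit 0x3a1950) (nat_lit 49250) (nat_lit 0x265a24) (.node (.node .nil (nat_lit 0x3a206a)
  (nat_lit 4113) (nat_lit 0x747408) .nil) (nat_lit 0x3a2216) (nat_lit 34209) (nat_lit 0x751406) .nil))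
  (nat_lit 0x3a2518) (nat_lit 51698) (nat_lit 0x355828) (.node (.node (.node .nil (nat_lit 0x3a302a) (nat_lit
  1713) (nat_lit 0x747440) .nil) (nat_lit 0x3a304a) (nat_lit 385) (nat_lit 0x743448) .nil) (nat_lit 0x3a3062)
  (nat_lit 3937) (nat_lit 0x745448) (.node (.node .nil (nat_lit 0x3a3068) (nat_lit 4577) (nat_lit 0x746448)
  .nil) (nat_lit 0x3a4216) (nat_lit 14467) (nat_lit 425026) .nil)))) (nat_lit 0x3a4328) (nat_lit 95137)
  (nat_lit 0x716490) (.node (.node (.node (.node (.node .nil (nat_lit 0x3a4928) (nat_lit 86771) (nat_lit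
  784512) .nil) (nat_lit 0x3a4a28) (nat_lit 98193) (nat_lit 0x736480) .nil) (nat_lit 0x3a4b08) (nat_lit 90788)
  (nat_lit 0x149174) (.node (.node .nil (nat_lit 0x3a4b20) (nat_lit 89188) (nat_lit 0x141374) .nil) (nat_lit
  0x3a50a4) (nat_lit 69939) (nat_lit 0x237a40) .nil)) (nat_lit 0x3a6016) (nat_lit 10113) (nat_lit 0x741486)
  (.node (.node (.node .nil (nat_lit 0x3a6206) (nat_lit 15649) (nat_lit 0x751482) .nil) (nat_lit 0x3a6212)
  (nat_lit 8545) (nat_lit 0x751484) .nil) (nat_lit 0x3a6214) (nat_lit 29363) (nat_lit 425056) (.node (.node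
  .nil (nat_lit 0x3a81e0) (nat_lit 71537) (nat_lit 0x78c418) .nil) (nat_lit 0x3a8492) (nat_lit 94836) (nat_lit
  0x433158) .nil))) (nat_lit 0x3a8a42) (nat_lit 95668) (nat_lit 0x48117c) (.node (.node (.node (.node .nil
  (nat_lit 0x3a9092) (nat_lit 93058) (nat_lit 0x24ce60) .nil) (nat_lit 0x3a9412) (nat_lit 91732) (nat_lit
  0x631158) .nil) (nat_lit 0x3a9482) (nat_lit 93489) (nat_lit 0x789460) (.node (.node .nil (nat_lit 0x3a9490)
  (nat_lit 96180) (nat_lit 0x233158) .nil) (nat_lit 0x3aa620) (nat_lit 77619) (nat_lit 226600) .nil)) (nat_lit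
  0x3af100) (nat_lit 82449) (nat_lit 0x7c04d0) (.node (.node (.node .nil (nat_lit 0x3b00d8) (nat_lit 50596)
  (nat_lit 701776) .nil) (nat_lit 0x3b0258) (nat_lit 54708) (nat_lit 693616) .nil) (nat_lit 0x3b0298) (nat_lit
  14324) (nat_lit 177520) (.node (.node .nil (nat_lit 0x3b02c8) (nat_lit 35793) (nat_lit 0x71a508) .nil)
  (nat_lit 0x3b02d0) (nat_lit 18324) (nat_lit 669040) .nil)))))) (nat_lit 0x3b10a4) (nat_lit 95427) (nat_lit
  0x337240) (.node (.node (.node (.node (.node (.node (.node .nil (nat_lit 0x3b1c08) (nat_lit 80577) (nat_lit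
  0x722560) .nil) (nat_lit 0x3b2620) (nat_lit 48595) (nat_lit 0x137520) .nil) (nat_lit 0x3b40a4) (nat_lit
  70564) (nat_lit 278352) (.node (.node .nil (nat_lit 0x3b5024) (nat_lit 70674) (nat_lit 0x604bb0) .nil)
  (nat_lit 0x3b5084) (nat_lit 68018) (nat_lit 0x604f30) .nil)) (nat_lit 0x3b50a0) (nat_lit 61681) (nat_lit
  0x70c5c0) (.node (.node (.node .nil (nat_lit 0x3b8620) (nat_lit 80723) (nat_lit 0x137508) .nil) (nat_lit
  0x3ba220) (nat_lit 66899) (nat_lit 0x137428) .nil) (nat_lit 0x3ba420) (nat_lit 80514) (nat_lit 0x31c9a0)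
  (.node (.node .nil (nat_lit 0x3ba600) (nat_lit 76210) (nat_lit 0x31e920) .nil) (nat_lit 0x3bc810) (nat_lit
  91042) (nat_lit 0x66c920) .nil))) (nat_lit 0x3c007c) (nat_lit 22129) (nat_lit 0x60660e) (.node (.node (.node
  (.node .nil (nat_lit 0x3c098c) (nat_lit 12564) (nat_lit 0x10f944) .nil) (nat_lit 0x3c0c26) (nat_lit 80305)
  (nat_lit 0x625622) .nil) (nat_lit 0x3c0cd0) (nat_lit 31778) (nat_lit 0x360c26) (.node (.node .nil (nat_lit
  0x3c20b2) (nat_lit 17793) (nat_lit 0x64d604) .nil) (nat_lit 0x3c2518) (nat_lit 41649) (nat_lit 0x642634)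
  .nil)) (nat_lit 0x3c2942) (nat_lit 36498) (nat_lit 0x231866) (.node (.node (.node .nil (nat_lit 0x3c403c)
  (nat_lit 34193) (nat_lit 0x606686) .nil) (nat_lit 0x3c405c) (nat_lit 25281) (nat_lit 0x60268e) .nil)
  (nat_lit 0x3c406c) (nat_lit 14657) (nat_lit 0x60668a) (.node (.node .nil (nat_lit 0x3c4074) (nat_lit 11393)
  (nat_lit 0x60468e) .nil) (nat_lit 0x3c4078) (nat_lit 15633) (nat_lit 0x60668c) .nil)))) (nat_lit 0x3c4942)
  (nat_lit 75972) (nat_lit 0x5c5144) (.node (.node (.node (.node (.node .nil (nat_lit 0x3c6142) (nat_lit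
  38978) (nat_lit 0x611866) .nil) (nat_lit 0x3c6484) (nat_lit 65395) (nat_lit 146276) .nil) (nat_lit 0x3c6842)
  (nat_lit 40113) (nat_lit 0x661688) (.node (.node .nil (nat_lit 0x3c6902) (nat_lit 39572) (nat_lit 0x5451c4)
  .nil) (nat_lit 0x3c6940) (nat_lit 76129) (nat_lit 0x660698) .nil)) (nat_lit 0x3c8116) (nat_lit 29284)
  (nat_lit 0x525948) (.node (.node (.node .nil (nat_lit 0x3c81e0) (nat_lit 96337) (nat_lit 0x68c618) .nil)
  (nat_lit 0x3c844a) (nat_lit 51972) (nat_lit 0x49d148) .nil) (nat_lit 0x3ca484) (nat_lit 60756) (nat_lit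
  96712) (.node (.node .nil (nat_lit 0x3ca828) (nat_lit 85219) (nat_lit 765996) .nil) (nat_lit 0x3cc484)
  (nat_lit 41892) (nat_lit 358728) .nil))) (nat_lit 0x3ce084) (nat_lit 86643) (nat_lit 146028) (.node (.node
  (.node (.node .nil (nat_lit 0x3ce404) (nat_lit 89892) (nat_lit 350664) .nil) (nat_lit 0x3ce480) (nat_lit
  80708) (nat_lit 356808) .nil) (nat_lit 0x3d00b2) (nat_lit 81585) (nat_lit 0x60d704) (.node (.node .nil
  (nat_lit 0x3d018c) (nat_lit 5427) (nat_lit 0x12b2c4) .nil) (nat_lit 0x3d044a) (nat_lit 20356) (nat_lit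
  0x49d540) .nil)) (nat_lit 0x3d088c) (nat_lit 20404) (nat_lit 64836) (.node (.node (.node .nil (nat_lit
  0x3d090c) (nat_lit 18721) (nat_lit 0x622712) .nil) (nat_lit 0x3d0984) (nat_lit 6356) (nat_lit 0x107d44)
  .nil) (nat_lit 0x3d0988) (nat_lit 3348) (nat_lit 0x10f544) (.node (.node .nil (nat_lit 0x3d2032) (nat_lit
  77217) (nat_lit 0x645704) .nil) (nat_lit 0x3d2092) (nat_lit 50241) (nat_lit 0x649704) .nil))))) (nat_lit
  0x3d20a2) (nat_lit 87107) (nat_lit 0x133226) (.node (.node (.node (.node (.node (.node .nil (nat_lit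
  0x3d20b0) (nat_lit 44913) (nat_lit 0x64c704) .nil) (nat_lit 0x3d4520) (nat_lit 39203) (nat_lit 0x133984)
  .nil) (nat_lit 0x3d804a) (nat_lit 12516) (nat_lit 0x48d548) (.node (.node .nil (nat_lit 0x3d840a) (nat_lit
  26868) (nat_lit 0x41d548) .nil) (nat_lit 0x3d8442) (nat_lit 6756) (nat_lit 0x495548) .nil)) (nat_lit
  0x3d8448) (nat_lit 12196) (nat_lit 644424) (.node (.node (.node .nil (nat_lit 0x3dc810) (nat_lit 83092)
  (nat_lit 415052) .nil) (nat_lit 0x3e01e0) (nat_lit 88561) (nat_lit 0x70c618) .nil) (nat_lit 0x3e0426)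
  (nat_lit 65972) (nat_lit 0x415b50) (.node (.node .nil (nat_lit 0x3e0518) (nat_lit 61378) (nat_lit 0x34582a)
  .nil) (nat_lit 0x3e0826) (nat_lit 53089) (nat_lit 0x725602) .nil))) (nat_lit 0x3e0c06) (nat_lit 39137)
  (nat_lit 0x721622) (.node (.node (.node (.node .nil (nat_lit 0x3e0c22) (nat_lit 80849) (nat_lit 0x725620)
  .nil) (nat_lit 0x3e0c24) (nat_lit 75841) (nat_lit 0x724622) .nil) (nat_lit 0x3e2118) (nat_lit 7474) (nat_lit
  0x25582a) (.node (.node .nil (nat_lit 0x3e2418) (nat_lit 47730) (nat_lit 0x35482a) .nil) (nat_lit 0x3e2508)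
  (nat_lit 24530) (nat_lit 0x31582a) .nil)) (nat_lit 0x3e2510) (nat_lit 46562) (nat_lit 0x355822) (.node
  (.node (.node .nil (nat_lit 0x3e408a) (nat_lit 31059) (nat_lit 195078) .nil) (nat_lit 0x3e80e0) (nat_lit
  90994) (nat_lit 0x20cca6) .nil) (nat_lit 0x3e8160) (nat_lit 90497) (nat_lit 0x784618) (.node (.node .nil
  (nat_lit 0x3e81a0) (nat_lit 97185) (nat_lit 0x78c610) .nil) (nat_lit 0x3e81c0) (nat_lit 70065) (nat_lit
  0x788618) .nil)))) (nat_lit 0x3ec810) (nat_lit 80116) (nat_lit 414044) (.node (.node (.node (.node (.node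
  .nil (nat_lit 0x3f2044) (nat_lit 46913) (nat_lit 0x74070a) .nil) (nat_lit 0x3f4810) (nat_lit 86708) (nat_lit
  415060) .nil) (nat_lit 0x3f8810) (nat_lit 75460) (nat_lit 152924) (.node (.node .nil (nat_lit 0x3fc010)
  (nat_lit 38228) (nat_lit 415064) .nil) (nat_lit 0x3fc800) (nat_lit 91684) (nat_lit 283996) .nil)) (nat_lit
  0x4007d6) (nat_lit 56721) (nat_lit 104510) (.node (.node (.node .nil (nat_lit 0x40117e) (nat_lit 37138)
  (nat_lit 791260) .nil) (nat_lit 0x401b9a) (nat_lit 65089) (nat_lit 243796) .nil) (nat_lit 0x401dcc) (nat_lit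
  9108) (nat_lit 0x39a806) (.node (.node .nil (nat_lit 0x401f62) (nat_lit 6308) (nat_lit 0x790226) .nil)
  (nat_lit 0x4025bc) (nat_lit 52114) (nat_lit 0x1d1498) .nil))) (nat_lit 0x4029e6) (nat_lit 15313) (nat_lit
  448538) (.node (.node (.node (.node .nil (nat_lit 0x402b9a) (nat_lit 62497) (nat_lit 505876) .nil) (nat_lit
  0x402ee8) (nat_lit 22532) (nat_lit 631462) .nil) (nat_lit 0x40339a) (nat_lit 76977) (nat_lit 374868) (.node
  (.node .nil (nat_lit 0x4034f2) (nat_lit 5779) (nat_lit 0x650332) .nil) (nat_lit 0x40365c) (nat_lit 83699)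
  (nat_lit 0x648570) .nil)) (nat_lit 0x40399a) (nat_lit 48897) (nat_lit 440404) (.node (.node (.node .nil
  (nat_lit 0x403a9a) (nat_lit 67604) (nat_lit 0x62a0a6) .nil) (nat_lit 0x403b1a) (nat_lit 53153) (nat_lit
  473172) .nil) (nat_lit 0x403b8a) (nat_lit 89713) (nat_lit 505936) (.node (.node .nil (nat_lit 0x403b92)
  (nat_lit 80865) (nat_lit 497748) .nil) (nat_lit 0x403b98) (nat_lit 14401) (nat_lit 501844) .nil)))))))
def t6160_19 : T := (.node (.node (.node (.node (.node (.node (.node (.node .nil (nat_lit 0x40476c) (nat_lit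
  55234) (nat_lit 0x58309c) .nil) (nat_lit 0x4049e6) (nat_lit 42337) (nat_lit 186522) .nil) (nat_lit 0x404d1e)
  (nat_lit 57812) (nat_lit 0x578806) (.node (.node .nil (nat_lit 0x404fb0) (nat_lit 30145) (nat_lit 247988)
  .nil) (nat_lit 0x4055aa) (nat_lit 40756) (nat_lit 0x75a202) .nil)) (nat_lit 0x405b54) (nat_lit 82244)
  (nat_lit 0x3e0826) (.node (.node (.node .nil (nat_lit 0x4061e6) (nat_lit 29025) (nat_lit 317594) .nil)
  (nat_lit 0x40668e) (nat_lit 3555) (nat_lit 0x408f62) .nil) (nat_lit 0x4068e6) (nat_lit 28193) (nat_lit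
  448650) (.node (.node .nil (nat_lit 0x406966) (nat_lit 12945) (nat_lit 415898) .nil) (nat_lit 0x4069a6)
  (nat_lit 12785) (nat_lit 448658) .nil))) (nat_lit 0x4069c6) (nat_lit 43585) (nat_lit 432282) (.node (.node
  (.node (.node .nil (nat_lit 0x4069e2) (nat_lit 48337) (nat_lit 448664) .nil) (nat_lit 0x4069e4) (nat_lit
  16193) (nat_lit 444570) .nil) (nat_lit 0x406a3c) (nat_lit 14545) (nat_lit 485510) (.node (.node .nil
  (nat_lit 0x406e52) (nat_lit 11089) (nat_lit 465068) .nil) (nat_lit 0x40726a) (nat_lit 83809) (nat_lit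
  358600) .nil)) (nat_lit 0x4077c0) (nat_lit 96450) (nat_lit 0x593604) (.node (.node (.node .nil (nat_lit
  0x407c94) (nat_lit 39364) (nat_lit 0x272886) .nil) (nat_lit 0x4084ee) (nat_lit 69076) (nat_lit 0x49aa0a)
  .nil) (nat_lit 0x408d1e) (nat_lit 27091) (nat_lit 0x4c81ca) (.node (.node .nil (nat_lit 0x408f62) (nat_lit
  1331) (nat_lit 0x49059a) .nil) (nat_lit 0x40965c) (nat_lit 41155) (nat_lit 0x648558) .nil)))) (nat_lit
  0x409762) (nat_lit 4531) (nat_lit 0x61059a) (.node (.node (.node (.node (.node .nil (nat_lit 0x4098d6)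
  (nat_lit 2929) (nat_lit 694350) .nil) (nat_lit 0x409b62) (nat_lit 4067) (nat_lit 0x69049a) .nil) (nat_lit
  0x409cb8) (nat_lit 35137) (nat_lit 714852) (.node (.node .nil (nat_lit 0x409d62) (nat_lit 3907) (nat_lit
  0x69019a) .nil) (nat_lit 0x409e62) (nat_lit 1619) (nat_lit 0x69051a) .nil)) (nat_lit 0x409f22) (nat_lit
  8788) (nat_lit 0x71022e) (.node (.node (.node .nil (nat_lit 0x409f42) (nat_lit 1923) (nat_lit 0x68059a)
  .nil) (nat_lit 0x409f60) (nat_lit 2724) (nat_lit 0x39022e) .nil) (nat_lit 0x40a32e) (nat_lit 90627) (nat_lit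
  0x4184ea) (.node (.node .nil (nat_lit 0x40a65c) (nat_lit 83555) (nat_lit 0x448578) .nil) (nat_lit 0x40a87a)
  (nat_lit 24452) (nat_lit 0x4a828e) .nil))) (nat_lit 0x40add0) (nat_lit 35348) (nat_lit 0x1b208e) (.node
  (.node (.node (.node .nil (nat_lit 0x40b1e8) (nat_lit 39458) (nat_lit 628364) .nil) (nat_lit 0x40b25c)
  (nat_lit 41491) (nat_lit 0x648478) .nil) (nat_lit 0x40b45c) (nat_lit 81970) (nat_lit 0x1d821c) (.node (.node
  .nil (nat_lit 0x40b586) (nat_lit 62420) (nat_lit 0x71288a) .nil) (nat_lit 0x40b61c) (nat_lit 31378) (nat_lit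
  0x1da218) .nil)) (nat_lit 0x40b64c) (nat_lit 88452) (nat_lit 0x2988aa) (.node (.node (.node .nil (nat_lit
  0x40b654) (nat_lit 61171) (nat_lit 0x640578) .nil) (nat_lit 0x40b658) (nat_lit 68529) (nat_lit 862316) .nil)
  (nat_lit 0x40b934) (nat_lit 625) (nat_lit 936022) (.node (.node .nil (nat_lit 0x40c276) (nat_lit 91188)
  (nat_lit 0x4e0a2a) .nil) (nat_lit 0x40c51e) (nat_lit 77507) (nat_lit 0x4489ca) .nil))))) (nat_lit 0x40c91e)
  (nat_lit 24179) (nat_lit 0x4c88ca) (.node (.node (.node (.node (.node (.node .nil (nat_lit 0x40caaa)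
  (nat_lit 86753) (nat_lit 784512) .nil) (nat_lit 0x40cc1e) (nat_lit 7107) (nat_lit 0x4c894a) .nil) (nat_lit
  0x40cd0e) (nat_lit 47555) (nat_lit 0x4889ca) (.node (.node .nil (nat_lit 0x40cd16) (nat_lit 17491) (nat_lit
  0x4c09ca) .nil) (nat_lit 0x40cd1a) (nat_lit 50035) (nat_lit 0x4c898a) .nil)) (nat_lit 0x40cd1c) (nat_lit
  44675) (nat_lit 0x4c89c8) (.node (.node (.node .nil (nat_lit 0x40cec4) (nat_lit 97092) (nat_lit 862254)
  .nil) (nat_lit 0x40d338) (nat_lit 82658) (nat_lit 0x4cb288) .nil) (nat_lit 0x40d692) (nat_lit 9027) (nat_lit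
  0x640f0a) (.node (.node .nil (nat_lit 0x40d86c) (nat_lit 21106) (nat_lit 0x4a829c) .nil) (nat_lit 0x40e394)
  (nat_lit 25204) (nat_lit 0x1628aa) .nil))) (nat_lit 0x40eb48) (nat_lit 19300) (nat_lit 0x1c80ae) (.node
  (.node (.node (.node .nil (nat_lit 0x40f152) (nat_lit 77057) (nat_lit 792796) .nil) (nat_lit 0x40fa06)
  (nat_lit 18626) (nat_lit 0x4ba250) .nil) (nat_lit 0x4104ee) (nat_lit 90689) (nat_lit 63786) (.node (.node
  .nil (nat_lit 0x410af2) (nat_lit 77204) (nat_lit 0x4a2626) .nil) (nat_lit 0x410e9c) (nat_lit 27363) (nat_lit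
  0x5c8740) .nil)) (nat_lit 0x41170e) (nat_lit 96225) (nat_lit 80242) (.node (.node (.node .nil (nat_lit
  0x411b54) (nat_lit 79236) (nat_lit 0x3a0c26) .nil) (nat_lit 0x411c5a) (nat_lit 36612) (nat_lit 0x6b8406)
  .nil) (nat_lit 0x4123cc) (nat_lit 41521) (nat_lit 370970) (.node (.node .nil (nat_lit 0x4127a2) (nat_lit
  41011) (nat_lit 0x5107a2) .nil) (nat_lit 0x412dd0) (nat_lit 42547) (nat_lit 0x5c03b0) .nil)))) (nat_lit
  0x41326a) (nat_lit 41841) (nat_lit 358728) (.node (.node (.node (.node (.node .nil (nat_lit 0x413564)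
  (nat_lit 70900) (nat_lit 0x390e82) .nil) (nat_lit 0x413e30) (nat_lit 36929) (nat_lit 477540) .nil) (nat_lit
  0x414572) (nat_lit 83315) (nat_lit 0x550992) (.node (.node .nil (nat_lit 0x414b54) (nat_lit 55539) (nat_lit
  0x5c0cd0) .nil) (nat_lit 0x414e26) (nat_lit 21891) (nat_lit 0x590d42) .nil)) (nat_lit 0x41526a) (nat_lit
  60705) (nat_lit 96712) (.node (.node (.node .nil (nat_lit 0x415354) (nat_lit 85571) (nat_lit 0x740cd0) .nil)
  (nat_lit 0x41543c) (nat_lit 29778) (nat_lit 0x5c0398) .nil) (nat_lit 0x415692) (nat_lit 22259) (nat_lit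
  0x740f02) (.node (.node .nil (nat_lit 0x41588e) (nat_lit 58051) (nat_lit 0x788a42) .nil) (nat_lit 0x415954)
  (nat_lit 56627) (nat_lit 0x7c08d0) .nil))) (nat_lit 0x415a54) (nat_lit 74387) (nat_lit 0x7c0c50) (.node
  (.node (.node (.node .nil (nat_lit 0x415b14) (nat_lit 31812) (nat_lit 0x360c26) .nil) (nat_lit 0x415b44)
  (nat_lit 86113) (nat_lit 199130) .nil) (nat_lit 0x415b50) (nat_lit 35971) (nat_lit 0x7c0c90) (.node (.node
  .nil (nat_lit 0x415ce0) (nat_lit 66785) (nat_lit 182760) .nil) (nat_lit 0x41626a) (nat_lit 87204) (nat_lit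
  0x4c86a2) .nil)) (nat_lit 0x416718) (nat_lit 73252) (nat_lit 0x1784a2) (.node (.node (.node .nil (nat_lit
  0x416c4c) (nat_lit 8417) (nat_lit 403882) .nil) (nat_lit 0x41706a) (nat_lit 95314) (nat_lit 0x4903cc) .nil)
  (nat_lit 0x4171b0) (nat_lit 35073) (nat_lit 313812) (.node (.node .nil (nat_lit 0x41722a) (nat_lit 95569)
  (nat_lit 358848) .nil) (nat_lit 0x41724a) (nat_lit 94353) (nat_lit 342472) .nil)))))) (nat_lit 0x417262)
  (nat_lit 89873) (nat_lit 350664) (.node (.node (.node (.node (.node (.node (.node .nil (nat_lit 0x417268)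
  (nat_lit 76705) (nat_lit 354760) .nil) (nat_lit 0x417d02) (nat_lit 43732) (nat_lit 0x750486) .nil) (nat_lit
  0x4180ee) (nat_lit 84772) (nat_lit 0x48ae0a) (.node (.node .nil (nat_lit 0x41835a) (nat_lit 88659) (nat_lit
  0x54849a) .nil) (nat_lit 0x41846e) (nat_lit 95874) (nat_lit 0x1881dc) .nil)) (nat_lit 0x4184ae) (nat_lit
  76754) (nat_lit 0x1885d8) (.node (.node (.node .nil (nat_lit 0x4184ce) (nat_lit 60802) (nat_lit 0x18855c)
  .nil) (nat_lit 0x4184e6) (nat_lit 41922) (nat_lit 0x1885d4) .nil) (nat_lit 0x4184ea) (nat_lit 65473)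
  (nat_lit 588072) (.node (.node .nil (nat_lit 0x4184ec) (nat_lit 83842) (nat_lit 0x18859c) .nil) (nat_lit
  0x418734) (nat_lit 49026) (nat_lit 0x1cb190) .nil))) (nat_lit 0x418b86) (nat_lit 50562) (nat_lit 701776)
  (.node (.node (.node (.node .nil (nat_lit 0x418dd0) (nat_lit 29795) (nat_lit 0x5c0398) .nil) (nat_lit
  0x41919c) (nat_lit 86915) (nat_lit 0x7482c8) .nil) (nat_lit 0x419692) (nat_lit 46947) (nat_lit 0x74070a)
  (.node (.node .nil (nat_lit 0x419ac8) (nat_lit 38705) (nat_lit 764232) .nil) (nat_lit 0x41a2b8) (nat_lit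
  6802) (nat_lit 894344) .nil)) (nat_lit 0x41a5d0) (nat_lit 12755) (nat_lit 0x5403b8) (.node (.node (.node
  .nil (nat_lit 0x41a9d0) (nat_lit 20755) (nat_lit 0x5c02b8) .nil) (nat_lit 0x41aa64) (nat_lit 29316) (nat_lit
  528046) .nil) (nat_lit 0x41acd0) (nat_lit 24051) (nat_lit 0x5c0338) (.node (.node .nil (nat_lit 0x41ad50)
  (nat_lit 13457) (nat_lit 919868) .nil) (nat_lit 0x41ad90) (nat_lit 6931) (nat_lit 0x5c03a8) .nil))))
  (nat_lit 0x41adc0) (nat_lit 26963) (nat_lit 0x5803b8) (.node (.node (.node (.node (.node .nil (nat_lit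
  0x41ae0a) (nat_lit 55475) (nat_lit 0x58852a) .nil) (nat_lit 0x41b8a2) (nat_lit 22707) (nat_lit 0x79022a)
  .nil) (nat_lit 0x41c3e0) (nat_lit 50083) (nat_lit 0x510e98) (.node (.node .nil (nat_lit 0x41c692) (nat_lit
  3027) (nat_lit 0x540f0a) .nil) (nat_lit 0x41c8b4) (nat_lit 50739) (nat_lit 0x5d0a48) .nil)) (nat_lit
  0x41d126) (nat_lit 22948) (nat_lit 0x740e0a) (.node (.node (.node .nil (nat_lit 0x41d292) (nat_lit 22931)
  (nat_lit 0x740e0a) .nil) (nat_lit 0x41d492) (nat_lit 11715) (nat_lit 0x740b0a) .nil) (nat_lit 0x41d548)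
  (nat_lit 11553) (nat_lit 535032) (.node (.node .nil (nat_lit 0x41d612) (nat_lit 32355) (nat_lit 0x740d0a)
  .nil) (nat_lit 0x41d682) (nat_lit 25491) (nat_lit 0x700f0a) .nil))) (nat_lit 0x41d690) (nat_lit 10483)
  (nat_lit 0x740f08) (.node (.node (.node (.node .nil (nat_lit 0x41e18a) (nat_lit 26674) (nat_lit 0x499548)
  .nil) (nat_lit 0x41f0c4) (nat_lit 20849) (nat_lit 821706) .nil) (nat_lit 0x41f818) (nat_lit 88593) (nat_lit
  928196) (.node (.node .nil (nat_lit 0x4203ea) (nat_lit 7299) (nat_lit 0x41c692) .nil) (nat_lit 0x4205bc)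
  (nat_lit 47602) (nat_lit 0x1c5498) .nil)) (nat_lit 0x420b36) (nat_lit 65556) (nat_lit 0x520a36) (.node
  (.node (.node .nil (nat_lit 0x420f58) (nat_lit 75428) (nat_lit 0x1b8036) .nil) (nat_lit 0x42170e) (nat_lit
  97105) (nat_lit 0x113872) .nil) (nat_lit 0x4219f0) (nat_lit 23842) (nat_lit 939652) (.node (.node .nil
  (nat_lit 0x4221bc) (nat_lit 7234) (nat_lit 873624) .nil) (nat_lit 0x4224bc) (nat_lit 58306) (nat_lit
  0x1d4498) .nil))))) (nat_lit 0x42253c) (nat_lit 20978) (nat_lit 0x1d5098) (.node (.node (.node (.node (.node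
  (.node .nil (nat_lit 0x42259c) (nat_lit 27218) (nat_lit 0x1d5418) .nil) (nat_lit 0x4225ac) (nat_lit 24306)
  (nat_lit 0x195498) .nil) (nat_lit 0x4225b4) (nat_lit 28625) (nat_lit 0x14c836) (.node (.node .nil (nat_lit
  0x4225b8) (nat_lit 51522) (nat_lit 0x1d5488) .nil) (nat_lit 0x422666) (nat_lit 21201) (nat_lit 0x15582a)
  .nil)) (nat_lit 0x42287a) (nat_lit 7396) (nat_lit 0x4a8296) (.node (.node (.node .nil (nat_lit 0x422ad4)
  (nat_lit 33618) (nat_lit 0xf6414) .nil) (nat_lit 0x4230ce) (nat_lit 83938) (nat_lit 607836) .nil) (nat_lit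
  0x4237c0) (nat_lit 83252) (nat_lit 0x3920b2) (.node (.node .nil (nat_lit 0x423e30) (nat_lit 13393) (nat_lit
  0x174864) .nil) (nat_lit 0x424572) (nat_lit 85476) (nat_lit 0x5f0212) .nil))) (nat_lit 0x424b8c) (nat_lit
  53540) (nat_lit 0x14a836) (.node (.node (.node (.node .nil (nat_lit 0x425196) (nat_lit 37057) (nat_lit
  0x1098d6) .nil) (nat_lit 0x425338) (nat_lit 36050) (nat_lit 0x4c7288) .nil) (nat_lit 0x4257c0) (nat_lit
  59809) (nat_lit 0x1188f8) (.node (.node .nil (nat_lit 0x42594a) (nat_lit 52561) (nat_lit 0x1238d8) .nil)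
  (nat_lit 0x425d24) (nat_lit 92595) (nat_lit 0x6949c0) .nil)) (nat_lit 0x4262b2) (nat_lit 50532) (nat_lit
  0x4622b2) (.node (.node (.node .nil (nat_lit 0x4267c0) (nat_lit 58099) (nat_lit 0x404fb0) .nil) (nat_lit
  0x426c4c) (nat_lit 25153) (nat_lit 0x1628aa) .nil) (nat_lit 0x427074) (nat_lit 32324) (nat_lit 0x2e0a92)
  (.node (.node .nil (nat_lit 0x4273c0) (nat_lit 38884) (nat_lit 0x3c20b2) .nil) (nat_lit 0x42741a) (nat_lit
  52578) (nat_lit 0x5d4248) .nil)))) (nat_lit 0x4275c0) (nat_lit 70691) (nat_lit 0x604bb0) (.node (.node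
  (.node (.node (.node .nil (nat_lit 0x4276c0) (nat_lit 68035) (nat_lit 0x604f30) .nil) (nat_lit 0x427740)
  (nat_lit 96612) (nat_lit 0x3d00b2) .nil) (nat_lit 0x427780) (nat_lit 94851) (nat_lit 0x604fa0) (.node (.node
  .nil (nat_lit 0x4278a8) (nat_lit 96642) (nat_lit 0x4b4688) .nil) (nat_lit 0x427a06) (nat_lit 65633) (nat_lit
  0x1718c2) .nil)) (nat_lit 0x42829e) (nat_lit 22961) (nat_lit 0x19b806) (.node (.node (.node .nil (nat_lit
  0x4286f0) (nat_lit 90484) (nat_lit 729658) .nil) (nat_lit 0x42887a) (nat_lit 16931) (nat_lit 0x4dc01a) .nil)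
  (nat_lit 0x428e2c) (nat_lit 30051) (nat_lit 0x49c548) (.node (.node .nil (nat_lit 0x429338) (nat_lit 55618)
  (nat_lit 848520) .nil) (nat_lit 0x429436) (nat_lit 33331) (nat_lit 0x65414a) .nil))) (nat_lit 0x429ac8)
  (nat_lit 80161) (nat_lit 0x1ba848) (.node (.node (.node (.node .nil (nat_lit 0x42a07a) (nat_lit 51620)
  (nat_lit 0x4a829a) .nil) (nat_lit 0x42a712) (nat_lit 48100) (nat_lit 0x5300ba) .nil) (nat_lit 0x42a83a)
  (nat_lit 47700) (nat_lit 0x42829e) (.node (.node .nil (nat_lit 0x42a85a) (nat_lit 27332) (nat_lit 0x4a809e)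
  .nil) (nat_lit 0x42a86a) (nat_lit 61332) (nat_lit 0x48829e) .nil)) (nat_lit 0x42a872) (nat_lit 38323)
  (nat_lit 0x4d403a) (.node (.node (.node .nil (nat_lit 0x42a878) (nat_lit 52196) (nat_lit 688798) .nil)
  (nat_lit 0x42aba0) (nat_lit 90289) (nat_lit 0x1fc810) .nil) (nat_lit 0x42ba06) (nat_lit 29970) (nat_lit
  778832) (.node (.node .nil (nat_lit 0x42bd08) (nat_lit 59137) (nat_lit 0x1e2870) .nil) (nat_lit 0x42c338)
  (nat_lit 95714) (nat_lit 0x4cf088) .nil)))))))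
def t6160_20 : T := (.node (.node (.node (.node (.node (.node (.node (.node .nil (nat_lit 0x42c8b4) (nat_lit
  77331) (nat_lit 0x4d4a48) .nil) (nat_lit 0x42d0e2) (nat_lit 56657) (nat_lit 0x18d8c8) (.node .nil (nat_lit
  0x42d138) (nat_lit 56706) (nat_lit 0x4cd288) .nil)) (nat_lit 0x42d238) (nat_lit 80369) (nat_lit 0x1968c4)
  (.node (.node .nil (nat_lit 0x42d318) (nat_lit 76433) (nat_lit 0x1928d4) .nil) (nat_lit 0x42d328) (nat_lit
  34050) (nat_lit 0x48f288) .nil)) (nat_lit 0x42d330) (nat_lit 40945) (nat_lit 0x1948d4) (.node (.node (.node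
  .nil (nat_lit 0x42d48c) (nat_lit 41220) (nat_lit 0x25a81a) .nil) (nat_lit 0x42da06) (nat_lit 42689) (nat_lit
  0x1b18c2) .nil) (nat_lit 0x42dc50) (nat_lit 57873) (nat_lit 0x1a08ec) (.node (.node .nil (nat_lit 0x42e18a)
  (nat_lit 47362) (nat_lit 0x49d448) .nil) (nat_lit 0x42ea06) (nat_lit 54850) (nat_lit 0x4be050) .nil)))
  (nat_lit 0x42f206) (nat_lit 29650) (nat_lit 0x49e250) (.node (.node (.node (.node .nil (nat_lit 0x42f806)
  (nat_lit 45778) (nat_lit 0x4bc250) .nil) (nat_lit 0x42fa02) (nat_lit 19058) (nat_lit 0x4be240) .nil)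
  (nat_lit 0x42fa04) (nat_lit 34450) (nat_lit 0x4be210) (.node (.node .nil (nat_lit 0x43027c) (nat_lit 78483)
  (nat_lit 0x55c450) .nil) (nat_lit 0x430572) (nat_lit 69011) (nat_lit 0x554192) .nil)) (nat_lit 0x43070e)
  (nat_lit 87154) (nat_lit 0x187158) (.node (.node (.node .nil (nat_lit 0x4310ba) (nat_lit 12529) (nat_lit
  0x10f944) .nil) (nat_lit 0x43130e) (nat_lit 69297) (nat_lit 0x113952) .nil) (nat_lit 0x4314d4) (nat_lit
  47860) (nat_lit 0x2b2c12) (.node (.node .nil (nat_lit 0x43150e) (nat_lit 89043) (nat_lit 0x70c1c2) .nil)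
  (nat_lit 0x43160e) (nat_lit 68577) (nat_lit 0x113962) .nil)))) (nat_lit 0x431706) (nat_lit 90307) (nat_lit
  0x7045c2) (.node (.node (.node (.node (.node .nil (nat_lit 0x43170a) (nat_lit 90257) (nat_lit 0x113970)
  .nil) (nat_lit 0x43170c) (nat_lit 61715) (nat_lit 0x70c5c0) .nil) (nat_lit 0x431866) (nat_lit 43937)
  (nat_lit 0x12594a) (.node (.node .nil (nat_lit 0x431ac8) (nat_lit 83185) (nat_lit 0x13a948) .nil) (nat_lit
  0x431e30) (nat_lit 22353) (nat_lit 0x134964) .nil)) (nat_lit 0x432b42) (nat_lit 31201) (nat_lit 0x171918)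
  (.node (.node (.node .nil (nat_lit 0x432c4c) (nat_lit 27969) (nat_lit 0x16292a) .nil) (nat_lit 0x432e30)
  (nat_lit 10577) (nat_lit 0x174924) .nil) (nat_lit 0x433158) (nat_lit 75121) (nat_lit 0x14295c) (.node (.node
  .nil (nat_lit 0x433630) (nat_lit 25953) (nat_lit 0x154964) .nil) (nat_lit 0x433984) (nat_lit 54483) (nat_lit
  0x7842e0) .nil))) (nat_lit 0x433a30) (nat_lit 9121) (nat_lit 0x174944) (.node (.node (.node (.node .nil
  (nat_lit 0x433c30) (nat_lit 14849) (nat_lit 0x164964) .nil) (nat_lit 0x433e10) (nat_lit 11809) (nat_lit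
  0x170964) .nil) (nat_lit 0x433e20) (nat_lit 23009) (nat_lit 0x174960) (.node (.node .nil (nat_lit 0x434172)
  (nat_lit 70417) (nat_lit 0x10599c) .nil) (nat_lit 0x4342c6) (nat_lit 22755) (nat_lit 0x504e52) .nil))
  (nat_lit 0x434472) (nat_lit 86164) (nat_lit 0x4f0612) (.node (.node (.node .nil (nat_lit 0x434532) (nat_lit
  69380) (nat_lit 0x570612) .nil) (nat_lit 0x434552) (nat_lit 58881) (nat_lit 0x1019bc) .nil) (nat_lit
  0x434562) (nat_lit 70641) (nat_lit 0x1059b8) (.node (.node .nil (nat_lit 0x434570) (nat_lit 95044) (nat_lit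
  0x1f0612) .nil) (nat_lit 0x4346a8) (nat_lit 73169) (nat_lit 0x11e9a0) .nil))))) (nat_lit 0x4348b4) (nat_lit
  45427) (nat_lit 0x5d4a40) (.node (.node (.node (.node (.node (.node .nil (nat_lit 0x434a1a) (nat_lit 39169)
  (nat_lit 0x133984) .nil) (nat_lit 0x434c4c) (nat_lit 22017) (nat_lit 0x1229aa) .nil) (nat_lit 0x43618a)
  (nat_lit 6722) (nat_lit 0x495548) (.node (.node .nil (nat_lit 0x436324) (nat_lit 39249) (nat_lit 0x154992)
  .nil) (nat_lit 0x43644c) (nat_lit 46849) (nat_lit 0x1429aa) .nil)) (nat_lit 0x43684c) (nat_lit 43137)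
  (nat_lit 0x16298a) (.node (.node (.node .nil (nat_lit 0x436c0c) (nat_lit 48289) (nat_lit 0x1629a2) .nil)
  (nat_lit 0x436c44) (nat_lit 14081) (nat_lit 0x1609aa) .nil) (nat_lit 0x436c48) (nat_lit 34721) (nat_lit
  0x1629a8) (.node (.node .nil (nat_lit 0x4388b4) (nat_lit 52595) (nat_lit 0x5d4248) .nil) (nat_lit 0x438ac8)
  (nat_lit 69218) (nat_lit 713996) .nil))) (nat_lit 0x4392c8) (nat_lit 75617) (nat_lit 0x19a948) (.node (.node
  (.node (.node .nil (nat_lit 0x4395a0) (nat_lit 36835) (nat_lit 0x714388) .nil) (nat_lit 0x4398c8) (nat_lit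
  95761) (nat_lit 0x1aa948) .nil) (nat_lit 0x439912) (nat_lit 65076) (nat_lit 0x72041e) (.node (.node .nil
  (nat_lit 0x439a48) (nat_lit 71555) (nat_lit 0x78c418) .nil) (nat_lit 0x439a88) (nat_lit 93954) (nat_lit
  714504) .nil)) (nat_lit 0x439ac0) (nat_lit 86849) (nat_lit 0x1b8948) (.node (.node (.node .nil (nat_lit
  0x43a18a) (nat_lit 12162) (nat_lit 644424) .nil) (nat_lit 0x43a684) (nat_lit 36899) (nat_lit 0x504768) .nil)
  (nat_lit 0x43b02c) (nat_lit 32834) (nat_lit 639896) (.node (.node .nil (nat_lit 0x43b442) (nat_lit 754)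
  (nat_lit 0x19c344) .nil) (nat_lit 0x43c0b4) (nat_lit 67857) (nat_lit 0x18c986) .nil)))) (nat_lit 0x43c18a)
  (nat_lit 12482) (nat_lit 0x48d548) (.node (.node (.node (.node (.node .nil (nat_lit 0x43c834) (nat_lit
  64515) (nat_lit 0x5d4848) .nil) (nat_lit 0x43c894) (nat_lit 18531) (nat_lit 0x5c4a48) .nil) (nat_lit
  0x43c8a4) (nat_lit 42403) (nat_lit 0x594a48) (.node (.node .nil (nat_lit 0x43c8b0) (nat_lit 48387) (nat_lit
  0x5d4a08) .nil) (nat_lit 0x43cf00) (nat_lit 31345) (nat_lit 0x1b09b0) .nil)) (nat_lit 0x43e08a) (nat_lit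
  14689) (nat_lit 0x1cb980) (.node (.node (.node .nil (nat_lit 0x43e10a) (nat_lit 37009) (nat_lit 0x1c3990)
  .nil) (nat_lit 0x43e182) (nat_lit 20322) (nat_lit 0x49d540) .nil) (nat_lit 0x43e188) (nat_lit 6226) (nat_lit
  0x49d508) (.node (.node .nil (nat_lit 0x43e250) (nat_lit 27777) (nat_lit 0x1d098c) .nil) (nat_lit 0x4403d6)
  (nat_lit 91171) (nat_lit 0x4406d6) .nil))) (nat_lit 0x4405d6) (nat_lit 94292) (nat_lit 0x5b6802) (.node
  (.node (.node (.node .nil (nat_lit 0x4406d6) (nat_lit 66195) (nat_lit 0x440756) .nil) (nat_lit 0x440756)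
  (nat_lit 36097) (nat_lit 72254) .nil) (nat_lit 0x440796) (nat_lit 74465) (nat_lit 105014) (.node (.node .nil
  (nat_lit 0x4407c6) (nat_lit 60356) (nat_lit 0x596822) .nil) (nat_lit 0x4407d2) (nat_lit 55665) (nat_lit
  105020) .nil)) (nat_lit 0x4407d4) (nat_lit 60769) (nat_lit 100926) (.node (.node (.node .nil (nat_lit
  0x4408be) (nat_lit 31025) (nat_lit 195078) .nil) (nat_lit 0x440ee8) (nat_lit 10852) (nat_lit 647718) .nil)
  (nat_lit 0x4415aa) (nat_lit 60945) (nat_lit 64112) (.node (.node .nil (nat_lit 0x4419f0) (nat_lit 6610)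
  (nat_lit 923270) .nil) (nat_lit 0x441c5a) (nat_lit 86018) (nat_lit 0x1e024e) .nil)))))) (nat_lit 0x44232e)
  (nat_lit 72739) (nat_lit 0x4184e6) (.node (.node (.node (.node (.node (.node (.node .nil (nat_lit 0x4426e8)
  (nat_lit 9476) (nat_lit 647842) .nil) (nat_lit 0x44295c) (nat_lit 81043) (nat_lit 0x4c80f4) .nil) (nat_lit
  0x442ae8) (nat_lit 20164) (nat_lit 582310) (.node (.node .nil (nat_lit 0x442ce8) (nat_lit 5860) (nat_lit
  647814) .nil) (nat_lit 0x442d32) (nat_lit 13586) (nat_lit 0x1f10c2) .nil)) (nat_lit 0x442e68) (nat_lit 3476)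
  (nat_lit 639654) (.node (.node (.node .nil (nat_lit 0x442ea8) (nat_lit 25716) (nat_lit 123558) .nil)
  (nat_lit 0x442ec8) (nat_lit 12132) (nat_lit 647334) .nil) (nat_lit 0x442ee0) (nat_lit 23316) (nat_lit
  615078) (.node (.node .nil (nat_lit 0x4430ce) (nat_lit 75091) (nat_lit 0x608276) .nil) (nat_lit 0x443564)
  (nat_lit 79859) (nat_lit 0x6101f4) .nil))) (nat_lit 0x443c94) (nat_lit 48996) (nat_lit 0x236886) (.node
  (.node (.node (.node .nil (nat_lit 0x4445aa) (nat_lit 76849) (nat_lit 64176) .nil) (nat_lit 0x444b8c)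
  (nat_lit 30098) (nat_lit 0x4a341a) .nil) (nat_lit 0x444e26) (nat_lit 19444) (nat_lit 0x454a26) (.node (.node
  .nil (nat_lit 0x4451aa) (nat_lit 64164) (nat_lit 0x74e202) .nil) (nat_lit 0x44521e) (nat_lit 79041) (nat_lit
  80582) .nil)) (nat_lit 0x4454aa) (nat_lit 84628) (nat_lit 0x65e202) (.node (.node (.node .nil (nat_lit
  0x44552a) (nat_lit 65620) (nat_lit 0x75c202) .nil) (nat_lit 0x44558a) (nat_lit 61603) (nat_lit 0x608b86)
  .nil) (nat_lit 0x4455a2) (nat_lit 39811) (nat_lit 0x610b86) (.node (.node .nil (nat_lit 0x4455a8) (nat_lit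
  71492) (nat_lit 0x35e202) .nil) (nat_lit 0x445670) (nat_lit 54530) (nat_lit 0x5c2286) .nil)))) (nat_lit
  0x44586c) (nat_lit 52100) (nat_lit 0x2cca06) (.node (.node (.node (.node (.node .nil (nat_lit 0x445ac2)
  (nat_lit 81570) (nat_lit 0x4a2646) .nil) (nat_lit 0x445c94) (nat_lit 41268) (nat_lit 0x276806) .nil)
  (nat_lit 0x4462b2) (nat_lit 32211) (nat_lit 0x450e26) (.node (.node .nil (nat_lit 0x446718) (nat_lit 89972)
  (nat_lit 0x17c0a2) .nil) (nat_lit 0x446c94) (nat_lit 14596) (nat_lit 485510) .nil)) (nat_lit 0x447152)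
  (nat_lit 49057) (nat_lit 269020) (.node (.node (.node .nil (nat_lit 0x447494) (nat_lit 41428) (nat_lit
  0x276882) .nil) (nat_lit 0x447894) (nat_lit 77044) (nat_lit 0x266886) .nil) (nat_lit 0x447b20) (nat_lit
  81108) (nat_lit 0x3442a6) (.node (.node .nil (nat_lit 0x447c14) (nat_lit 62548) (nat_lit 0x274886) .nil)
  (nat_lit 0x447c84) (nat_lit 53236) (nat_lit 0x256886) .nil))) (nat_lit 0x447c90) (nat_lit 80916) (nat_lit
  0x276086) (.node (.node (.node (.node .nil (nat_lit 0x44832e) (nat_lit 87522) (nat_lit 569562) .nil)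
  (nat_lit 0x448578) (nat_lit 54994) (nat_lit 0x1c908e) .nil) (nat_lit 0x4489ca) (nat_lit 46898) (nat_lit
  693326) (.node (.node .nil (nat_lit 0x448da4) (nat_lit 95331) (nat_lit 0x4903cc) .nil) (nat_lit 0x44919c)
  (nat_lit 32705) (nat_lit 567894) .nil)) (nat_lit 0x449436) (nat_lit 53907) (nat_lit 0x65014e) (.node (.node
  (.node .nil (nat_lit 0x44986c) (nat_lit 51492) (nat_lit 0x28ca0e) .nil) (nat_lit 0x44a0f4) (nat_lit 24209)
  (nat_lit 838158) .nil) (nat_lit 0x44a12e) (nat_lit 95378) (nat_lit 626906) (.node (.node .nil (nat_lit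
  0x44a22e) (nat_lit 86497) (nat_lit 883202) .nil) (nat_lit 0x44a30e) (nat_lit 72498) (nat_lit 634970)
  .nil))))) (nat_lit 0x44a326) (nat_lit 92641) (nat_lit 875026) (.node (.node (.node (.node (.node (.node .nil
  (nat_lit 0x44a32a) (nat_lit 95395) (nat_lit 0x4184ae) .nil) (nat_lit 0x44a32c) (nat_lit 94305) (nat_lit
  879122) .nil) (nat_lit 0x44a49a) (nat_lit 33268) (nat_lit 0x43e08a) (.node (.node .nil (nat_lit 0x44ac46)
  (nat_lit 94721) (nat_lit 924202) .nil) (nat_lit 0x44b152) (nat_lit 28369) (nat_lit 793180) .nil)) (nat_lit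
  0x44b8a2) (nat_lit 10228) (nat_lit 0x60628e) (.node (.node (.node .nil (nat_lit 0x44bd08) (nat_lit 32961)
  (nat_lit 928368) .nil) (nat_lit 0x44c3e0) (nat_lit 36625) (nat_lit 641688) .nil) (nat_lit 0x44c64a) (nat_lit
  53971) (nat_lit 0x408d1e) (.node (.node .nil (nat_lit 0x44c86c) (nat_lit 24244) (nat_lit 838158) .nil)
  (nat_lit 0x44d06c) (nat_lit 46468) (nat_lit 0x2cca0a) .nil))) (nat_lit 0x44d152) (nat_lit 14785) (nat_lit
  531164) (.node (.node (.node (.node .nil (nat_lit 0x44d704) (nat_lit 47764) (nat_lit 0x35482a) .nil)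
  (nat_lit 0x44d82c) (nat_lit 27172) (nat_lit 0x24ca0e) .nil) (nat_lit 0x44d84c) (nat_lit 7172) (nat_lit
  0x2cc80e) (.node (.node .nil (nat_lit 0x44d864) (nat_lit 7362) (nat_lit 0x4a8296) .nil) (nat_lit 0x44d868)
  (nat_lit 20948) (nat_lit 0x2cc20e) .nil)) (nat_lit 0x44e152) (nat_lit 59267) (nat_lit 0x4408be) (.node
  (.node (.node .nil (nat_lit 0x44f052) (nat_lit 53249) (nat_lit 793292) .nil) (nat_lit 0x44f112) (nat_lit
  43649) (nat_lit 793300) .nil) (nat_lit 0x44f142) (nat_lit 34145) (nat_lit 793304) (.node (.node .nil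
  (nat_lit 0x44f150) (nat_lit 15569) (nat_lit 789212) .nil) (nat_lit 0x44f288) (nat_lit 53379) (nat_lit
  0x608e2c) .nil)))) (nat_lit 0x45027c) (nat_lit 85060) (nat_lit 708130) (.node (.node (.node (.node (.node
  .nil (nat_lit 0x450c5a) (nat_lit 93268) (nat_lit 0x4bc406) .nil) (nat_lit 0x450e26) (nat_lit 14163) (nat_lit
  0x590546) .nil) (nat_lit 0x45119c) (nat_lit 71809) (nat_lit 43862) (.node (.node .nil (nat_lit 0x451332)
  (nat_lit 43715) (nat_lit 0x750486) .nil) (nat_lit 0x45145a) (nat_lit 70466) (nat_lit 0x1c034e) .nil))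
  (nat_lit 0x451564) (nat_lit 82883) (nat_lit 0x7101d4) (.node (.node (.node .nil (nat_lit 0x45185a) (nat_lit
  89138) (nat_lit 918350) .nil) (nat_lit 0x451c1a) (nat_lit 65361) (nat_lit 146276) .nil) (nat_lit 0x451c4a)
  (nat_lit 96580) (nat_lit 0x69c406) (.node (.node .nil (nat_lit 0x451c52) (nat_lit 90754) (nat_lit 0x1e0346)
  .nil) (nat_lit 0x451c58) (nat_lit 74868) (nat_lit 0x2bc406) .nil))) (nat_lit 0x451f80) (nat_lit 85825)
  (nat_lit 232304) (.node (.node (.node (.node .nil (nat_lit 0x452564) (nat_lit 72945) (nat_lit 281402) .nil)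
  (nat_lit 0x452718) (nat_lit 88308) (nat_lit 0x13c4a2) .nil) (nat_lit 0x452b42) (nat_lit 86580) (nat_lit
  0x5844a6) (.node (.node .nil (nat_lit 0x453164) (nat_lit 87300) (nat_lit 0x384e82) .nil) (nat_lit 0x4532d0)
  (nat_lit 69267) (nat_lit 0x740634) .nil)) (nat_lit 0x453464) (nat_lit 71140) (nat_lit 0x294e82) (.node
  (.node (.node .nil (nat_lit 0x453524) (nat_lit 59987) (nat_lit 0x7101e4) .nil) (nat_lit 0x453544) (nat_lit
  37427) (nat_lit 0x7001f4) .nil) (nat_lit 0x453560) (nat_lit 58548) (nat_lit 0x394682) (.node (.node .nil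
  (nat_lit 0x4538a2) (nat_lit 6291) (nat_lit 0x790226) .nil) (nat_lit 0x453a0c) (nat_lit 72594) (nat_lit
  729882) .nil)))))))
def t6160_21 : T := (.node (.node (.node (.node (.node (.node (.node (.node .nil (nat_lit 0x4543e0) (nat_lit
  57137) (nat_lit 117656) .nil) (nat_lit 0x454626) (nat_lit 34867) (nat_lit 0x510d46) .nil) (nat_lit 0x454718)
  (nat_lit 68193) (nat_lit 76724) (.node (.node .nil (nat_lit 0x454992) (nat_lit 57796) (nat_lit 0x566406)
  .nil) (nat_lit 0x454a26) (nat_lit 8275) (nat_lit 0x590c46) .nil)) (nat_lit 0x454c26) (nat_lit 27859)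
  (nat_lit 0x590946) (.node (.node (.node .nil (nat_lit 0x454e06) (nat_lit 46755) (nat_lit 0x580d46) .nil)
  (nat_lit 0x454e22) (nat_lit 25043) (nat_lit 0x590d06) .nil) (nat_lit 0x454e24) (nat_lit 51811) (nat_lit
  0x590d44) (.node (.node .nil (nat_lit 0x4560ac) (nat_lit 1314) (nat_lit 0x49059a) .nil) (nat_lit 0x456318)
  (nat_lit 80564) (nat_lit 0x16c4a2) .nil))) (nat_lit 0x4564c2) (nat_lit 14146) (nat_lit 0x590546) (.node
  (.node (.node (.node .nil (nat_lit 0x456518) (nat_lit 30340) (nat_lit 0x17c482) .nil) (nat_lit 0x456618)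
  (nat_lit 40292) (nat_lit 509090) .nil) (nat_lit 0x456708) (nat_lit 71233) (nat_lit 338864) (.node (.node
  .nil (nat_lit 0x456710) (nat_lit 59633) (nat_lit 330676) .nil) (nat_lit 0x456870) (nat_lit 40611) (nat_lit
  0x5d0834) .nil)) (nat_lit 0x45819c) (nat_lit 85313) (nat_lit 568086) (.node (.node (.node .nil (nat_lit
  0x4583e0) (nat_lit 71505) (nat_lit 641816) .nil) (nat_lit 0x45909c) (nat_lit 71041) (nat_lit 568134) .nil)
  (nat_lit 0x45911c) (nat_lit 82337) (nat_lit 535382) (.node (.node .nil (nat_lit 0x45918c) (nat_lit 67410)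
  (nat_lit 562970) .nil) (nat_lit 0x459194) (nat_lit 79313) (nat_lit 559958) .nil)))) (nat_lit 0x459198)
  (nat_lit 85521) (nat_lit 568148) (.node (.node (.node (.node (.node .nil (nat_lit 0x459246) (nat_lit 76963)
  (nat_lit 0x70045e) .nil) (nat_lit 0x459628) (nat_lit 66276) (nat_lit 0x21c62a) .nil) (nat_lit 0x4598a2)
  (nat_lit 22164) (nat_lit 0x60660e) (.node (.node .nil (nat_lit 0x45a684) (nat_lit 57331) (nat_lit 0x50076c)
  .nil) (nat_lit 0x45a8a2) (nat_lit 6995) (nat_lit 0x59022e) .nil)) (nat_lit 0x45b0a2) (nat_lit 8771) (nat_lit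
  0x71022e) (.node (.node (.node .nil (nat_lit 0x45b822) (nat_lit 11444) (nat_lit 0x60468e) .nil) (nat_lit
  0x45b882) (nat_lit 5155) (nat_lit 0x78022e) .nil) (nat_lit 0x45b8a0) (nat_lit 2516) (nat_lit 0x20668e)
  (.node (.node .nil (nat_lit 0x45c03a) (nat_lit 27074) (nat_lit 0x4c81ca) .nil) (nat_lit 0x45c1e0) (nat_lit
  44755) (nat_lit 0x510a9c) .nil))) (nat_lit 0x45c2e0) (nat_lit 17603) (nat_lit 0x510e1c) (.node (.node (.node
  (.node .nil (nat_lit 0x45c360) (nat_lit 85409) (nat_lit 609176) .nil) (nat_lit 0x45c3a0) (nat_lit 81155)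
  (nat_lit 0x510e8c) .nil) (nat_lit 0x45c3c0) (nat_lit 72995) (nat_lit 0x500e9c) (.node (.node .nil (nat_lit
  0x45c454) (nat_lit 27665) (nat_lit 527278) .nil) (nat_lit 0x45cc88) (nat_lit 78323) (nat_lit 0x588b0c)
  .nil)) (nat_lit 0x45e904) (nat_lit 9249) (nat_lit 920466) (.node (.node (.node .nil (nat_lit 0x46027c)
  (nat_lit 54803) (nat_lit 0x45c454) .nil) (nat_lit 0x4609f0) (nat_lit 47282) (nat_lit 939142) .nil) (nat_lit
  0x460b8c) (nat_lit 77844) (nat_lit 0x10e836) (.node (.node .nil (nat_lit 0x4610ce) (nat_lit 65682) (nat_lit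
  542302) .nil) (nat_lit 0x4611f0) (nat_lit 19972) (nat_lit 0x3a6212) .nil))))) (nat_lit 0x461436) (nat_lit
  44163) (nat_lit 0x654146) (.node (.node (.node (.node (.node (.node .nil (nat_lit 0x461698) (nat_lit 44900)
  (nat_lit 0x23e032) .nil) (nat_lit 0x4618f0) (nat_lit 26356) (nat_lit 0x2a6216) .nil) (nat_lit 0x461970)
  (nat_lit 32804) (nat_lit 0x3a4216) (.node (.node .nil (nat_lit 0x4619b0) (nat_lit 5668) (nat_lit 0x326216)
  .nil) (nat_lit 0x4619d0) (nat_lit 23476) (nat_lit 0x3a6016) .nil)) (nat_lit 0x4619e0) (nat_lit 12386)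
  (nat_lit 677510) (.node (.node (.node .nil (nat_lit 0x461a2a) (nat_lit 42114) (nat_lit 680650) .nil)
  (nat_lit 0x461e44) (nat_lit 51106) (nat_lit 0x1a6216) .nil) (nat_lit 0x4620ce) (nat_lit 97857) (nat_lit
  0x14ba0a) (.node (.node .nil (nat_lit 0x4622b2) (nat_lit 24737) (nat_lit 0x15da04) .nil) (nat_lit 0x462b42)
  (nat_lit 73521) (nat_lit 0x171a18) .nil))) (nat_lit 0x46304e) (nat_lit 96563) (nat_lit 0x60c076) (.node
  (.node (.node (.node .nil (nat_lit 0x46308e) (nat_lit 37539) (nat_lit 0x60c266) .nil) (nat_lit 0x4630c6)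
  (nat_lit 82931) (nat_lit 0x604276) .nil) (nat_lit 0x4630ca) (nat_lit 90114) (nat_lit 607822) (.node (.node
  .nil (nat_lit 0x4630cc) (nat_lit 88882) (nat_lit 607774) .nil) (nat_lit 0x463314) (nat_lit 60610) (nat_lit
  881170) .nil)) (nat_lit 0x463d08) (nat_lit 54625) (nat_lit 0x162a70) (.node (.node (.node .nil (nat_lit
  0x4642b2) (nat_lit 18260) (nat_lit 0x466232) .nil) (nat_lit 0x46438c) (nat_lit 49220) (nat_lit 0x14e832)
  .nil) (nat_lit 0x4644e4) (nat_lit 84099) (nat_lit 0x414b54) (.node (.node .nil (nat_lit 0x46464a) (nat_lit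
  13089) (nat_lit 0x113aa8) .nil) (nat_lit 0x464856) (nat_lit 51) (nat_lit 0x4c4856) .nil)))) (nat_lit
  0x46498c) (nat_lit 15828) (nat_lit 0x14e816) (.node (.node (.node (.node (.node .nil (nat_lit 0x464a8c)
  (nat_lit 81348) (nat_lit 321590) .nil) (nat_lit 0x464b0c) (nat_lit 28660) (nat_lit 0x14c836) .nil) (nat_lit
  0x464b84) (nat_lit 43844) (nat_lit 0x146836) (.node (.node .nil (nat_lit 0x464b88) (nat_lit 73122) (nat_lit
  0x4a740a) .nil) (nat_lit 0x464c38) (nat_lit 27699) (nat_lit 0x4dc904) .nil)) (nat_lit 0x4660b2) (nat_lit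
  19427) (nat_lit 0x454a26) (.node (.node (.node .nil (nat_lit 0x466168) (nat_lit 58788) (nat_lit 0x1cc292)
  .nil) (nat_lit 0x466232) (nat_lit 7697) (nat_lit 0x155a84) .nil) (nat_lit 0x466292) (nat_lit 41748) (nat_lit
  0x4660b2) (.node (.node .nil (nat_lit 0x4662a2) (nat_lit 45971) (nat_lit 0x414e26) .nil) (nat_lit 0x4662b0)
  (nat_lit 30737) (nat_lit 0x15ca84) .nil))) (nat_lit 0x466506) (nat_lit 73059) (nat_lit 0x4049e6) (.node
  (.node (.node (.node .nil (nat_lit 0x468436) (nat_lit 55891) (nat_lit 0x45414e) .nil) (nat_lit 0x46864a)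
  (nat_lit 57185) (nat_lit 0x193a28) .nil) (nat_lit 0x469036) (nat_lit 59073) (nat_lit 0x185a46) (.node (.node
  .nil (nat_lit 0x469382) (nat_lit 11427) (nat_lit 0x60468e) .nil) (nat_lit 0x469416) (nat_lit 16867) (nat_lit
  0x64414e) .nil)) (nat_lit 0x469426) (nat_lit 66386) (nat_lit 0x18c2d2) (.node (.node (.node .nil (nat_lit
  0x469432) (nat_lit 50385) (nat_lit 0x185a64) .nil) (nat_lit 0x469434) (nat_lit 45121) (nat_lit 0x184a66)
  .nil) (nat_lit 0x469d08) (nat_lit 50465) (nat_lit 0x1a2a70) (.node (.node .nil (nat_lit 0x46a684) (nat_lit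
  55346) (nat_lit 0x19e412) .nil) (nat_lit 0x46ad08) (nat_lit 34353) (nat_lit 0x1e2a30) .nil)))))) (nat_lit
  0x46b260) (nat_lit 5826) (nat_lit 647814) (.node (.node (.node (.node (.node (.node (.node .nil (nat_lit
  0x46b508) (nat_lit 18145) (nat_lit 0x1c2a70) .nil) (nat_lit 0x46b908) (nat_lit 18961) (nat_lit 0x1e2a50)
  .nil) (nat_lit 0x46bc08) (nat_lit 78417) (nat_lit 0x1e2a60) (.node (.node .nil (nat_lit 0x46bd00) (nat_lit
  62321) (nat_lit 0x1e0a70) .nil) (nat_lit 0x46c24a) (nat_lit 16995) (nat_lit 0x40cc1e) .nil)) (nat_lit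
  0x46c44a) (nat_lit 16948) (nat_lit 0x4dc01a) (.node (.node (.node .nil (nat_lit 0x46c590) (nat_lit 58019)
  (nat_lit 0x444b8c) .nil) (nat_lit 0x46c60a) (nat_lit 48401) (nat_lit 0x193aa0) .nil) (nat_lit 0x46c642)
  (nat_lit 38340) (nat_lit 0x4d403a) (.node (.node .nil (nat_lit 0x46c648) (nat_lit 42417) (nat_lit 0x192aa8)
  .nil) (nat_lit 0x46c922) (nat_lit 84130) (nat_lit 0x4ad0c2) .nil))) (nat_lit 0x46e01c) (nat_lit 16244)
  (nat_lit 444570) (.node (.node (.node (.node .nil (nat_lit 0x46e8c0) (nat_lit 79411) (nat_lit 0x484a3c)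
  .nil) (nat_lit 0x47007c) (nat_lit 81651) (nat_lit 0x55c054) .nil) (nat_lit 0x4701a6) (nat_lit 10308)
  (nat_lit 0x506e12) (.node (.node .nil (nat_lit 0x47023c) (nat_lit 58947) (nat_lit 0x55c444) .nil) (nat_lit
  0x47025c) (nat_lit 57107) (nat_lit 0x54c454) .nil)) (nat_lit 0x47026c) (nat_lit 63251) (nat_lit 0x51c454)
  (.node (.node (.node .nil (nat_lit 0x470274) (nat_lit 45315) (nat_lit 0x554454) .nil) (nat_lit 0x470278)
  (nat_lit 50659) (nat_lit 0x55c414) .nil) (nat_lit 0x4705c8) (nat_lit 55380) (nat_lit 0x19e412) (.node (.node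
  .nil (nat_lit 0x470b42) (nat_lit 84852) (nat_lit 0x584436) .nil) (nat_lit 0x470d14) (nat_lit 86196) (nat_lit
  0x134c16) .nil)))) (nat_lit 0x472342) (nat_lit 63684) (nat_lit 0x5844b2) (.node (.node (.node (.node (.node
  .nil (nat_lit 0x47242a) (nat_lit 7316) (nat_lit 0x41c692) .nil) (nat_lit 0x472684) (nat_lit 66356) (nat_lit
  93362) .nil) (nat_lit 0x472898) (nat_lit 82706) (nat_lit 0xf450a) (.node (.node .nil (nat_lit 0x472942)
  (nat_lit 81873) (nat_lit 0x161b18) .nil) (nat_lit 0x472a42) (nat_lit 72417) (nat_lit 0x171b08) .nil))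
  (nat_lit 0x472b02) (nat_lit 86563) (nat_lit 0x5844a6) (.node (.node (.node .nil (nat_lit 0x472b40) (nat_lit
  65923) (nat_lit 0x5844b4) .nil) (nat_lit 0x4780d2) (nat_lit 81410) (nat_lit 836934) .nil) (nat_lit 0x478684)
  (nat_lit 19746) (nat_lit 0x18e512) (.node (.node .nil (nat_lit 0x47880e) (nat_lit 17012) (nat_lit 0x40cc1e)
  .nil) (nat_lit 0x478c60) (nat_lit 88900) (nat_lit 607774) .nil))) (nat_lit 0x47a130) (nat_lit 4771) (nat_lit
  0x5540ac) (.node (.node (.node (.node .nil (nat_lit 0x47a284) (nat_lit 32098) (nat_lit 648466) .nil)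
  (nat_lit 0x47a484) (nat_lit 74050) (nat_lit 0x19c512) .nil) (nat_lit 0x47a604) (nat_lit 51058) (nat_lit
  0x19e112) (.node (.node .nil (nat_lit 0x47a680) (nat_lit 46210) (nat_lit 0x19e502) .nil) (nat_lit 0x48017e)
  (nat_lit 77074) (nat_lit 792796) .nil)) (nat_lit 0x480af2) (nat_lit 54340) (nat_lit 0x4a2266) (.node (.node
  (.node .nil (nat_lit 0x480f58) (nat_lit 83060) (nat_lit 0x1b8066) .nil) (nat_lit 0x48107e) (nat_lit 15586)
  (nat_lit 789212) .nil) (nat_lit 0x48113e) (nat_lit 34162) (nat_lit 793304) (.node (.node .nil (nat_lit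
  0x48115e) (nat_lit 28386) (nat_lit 793180) .nil) (nat_lit 0x48116e) (nat_lit 14802) (nat_lit 531164)
  .nil))))) (nat_lit 0x481176) (nat_lit 43666) (nat_lit 793300) (.node (.node (.node (.node (.node (.node .nil
  (nat_lit 0x48117a) (nat_lit 53266) (nat_lit 793292) .nil) (nat_lit 0x48117c) (nat_lit 77794) (nat_lit
  793244) .nil) (nat_lit 0x4816ca) (nat_lit 34340) (nat_lit 0x69a062) (.node (.node .nil (nat_lit 0x481cb8)
  (nat_lit 59346) (nat_lit 0x1e0e88) .nil) (nat_lit 0x481e16) (nat_lit 18978) (nat_lit 0x1e2a50) .nil))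
  (nat_lit 0x4823cc) (nat_lit 41185) (nat_lit 0x25a81a) (.node (.node (.node .nil (nat_lit 0x482666) (nat_lit
  7457) (nat_lit 0x25582a) .nil) (nat_lit 0x482a3c) (nat_lit 41233) (nat_lit 0x276806) .nil) (nat_lit
  0x482d32) (nat_lit 20596) (nat_lit 0x5302c6) (.node (.node .nil (nat_lit 0x483586) (nat_lit 77139) (nat_lit
  0x6203e2) .nil) (nat_lit 0x483728) (nat_lit 14980) (nat_lit 0x3182e2) .nil))) (nat_lit 0x4844b6) (nat_lit
  55522) (nat_lit 0x5c0cd0) (.node (.node (.node (.node .nil (nat_lit 0x484a3c) (nat_lit 48961) (nat_lit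
  0x236886) .nil) (nat_lit 0x484c6a) (nat_lit 84563) (nat_lit 0x4b8912) .nil) (nat_lit 0x484ec4) (nat_lit
  60514) (nat_lit 0x5a2c14) (.node (.node .nil (nat_lit 0x485670) (nat_lit 78354) (nat_lit 0x5c2a84) .nil)
  (nat_lit 0x48588e) (nat_lit 64820) (nat_lit 0x64a846) .nil)) (nat_lit 0x485d24) (nat_lit 97889) (nat_lit
  0x2248f2) (.node (.node (.node .nil (nat_lit 0x48623c) (nat_lit 53217) (nat_lit 0x256886) .nil) (nat_lit
  0x486554) (nat_lit 24962) (nat_lit 0x5d1814) .nil) (nat_lit 0x48683c) (nat_lit 77009) (nat_lit 0x266886)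
  (.node (.node .nil (nat_lit 0x486a1c) (nat_lit 39329) (nat_lit 0x272886) .nil) (nat_lit 0x486a2c) (nat_lit
  41409) (nat_lit 0x276882) .nil)))) (nat_lit 0x486a34) (nat_lit 62513) (nat_lit 0x274886) (.node (.node
  (.node (.node (.node .nil (nat_lit 0x486a38) (nat_lit 43313) (nat_lit 0x276884) .nil) (nat_lit 0x486d88)
  (nat_lit 70817) (nat_lit 0x26a8b0) .nil) (nat_lit 0x4871b0) (nat_lit 49953) (nat_lit 0x24c8d4) (.node (.node
  .nil (nat_lit 0x48741a) (nat_lit 50722) (nat_lit 0x5d0a48) .nil) (nat_lit 0x48829e) (nat_lit 32369) (nat_lit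
  0x29b806) .nil)) (nat_lit 0x488734) (nat_lit 58737) (nat_lit 0x294836) (.node (.node (.node .nil (nat_lit
  0x4889ca) (nat_lit 22850) (nat_lit 695372) .nil) (nat_lit 0x488cb8) (nat_lit 79569) (nat_lit 0x2ae824) .nil)
  (nat_lit 0x488ec4) (nat_lit 85730) (nat_lit 0x1aac14) (.node (.node .nil (nat_lit 0x4893d0) (nat_lit 9908)
  (nat_lit 0x3a206a) .nil) (nat_lit 0x4894b8) (nat_lit 82385) (nat_lit 0x28e864) .nil))) (nat_lit 0x489586)
  (nat_lit 44483) (nat_lit 0x6203ca) (.node (.node (.node (.node .nil (nat_lit 0x4898b8) (nat_lit 95521)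
  (nat_lit 0x2ae844) .nil) (nat_lit 0x489b0c) (nat_lit 67057) (nat_lit 0x2b2852) .nil) (nat_lit 0x489c38)
  (nat_lit 74593) (nat_lit 0x2a6864) (.node (.node .nil (nat_lit 0x489c98) (nat_lit 33489) (nat_lit 0x2aa864)
  .nil) (nat_lit 0x489ca8) (nat_lit 67377) (nat_lit 0x2ae860) .nil)) (nat_lit 0x489cb0) (nat_lit 56001)
  (nat_lit 0x2ac864) (.node (.node (.node .nil (nat_lit 0x48a0f4) (nat_lit 7137) (nat_lit 0x2cc80e) .nil)
  (nat_lit 0x48a586) (nat_lit 17283) (nat_lit 0x4203ea) .nil) (nat_lit 0x48aba0) (nat_lit 92148) (nat_lit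
  0x1022ee) (.node (.node .nil (nat_lit 0x48ae0a) (nat_lit 56563) (nat_lit 0x4a852a) .nil) (nat_lit 0x48b186)
  (nat_lit 83634) (nat_lit 630352) .nil)))))))
def t6160_22 : T := (.node (.node (.node (.node (.node (.node (.node (.node .nil (nat_lit 0x48b486) (nat_lit
  41348) (nat_lit 0x6128ca) .nil) (nat_lit 0x48b506) (nat_lit 76530) (nat_lit 0x199a50) (.node .nil (nat_lit
  0x48b582) (nat_lit 62386) (nat_lit 0x199e40) .nil)) (nat_lit 0x48b584) (nat_lit 49891) (nat_lit 0x6203e8)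
  (.node (.node .nil (nat_lit 0x48c1ac) (nat_lit 62978) (nat_lit 0x489c98) .nil) (nat_lit 0x48c6c4) (nat_lit
  88433) (nat_lit 0x2988aa) .nil)) (nat_lit 0x48c970) (nat_lit 79329) (nat_lit 0x2a489c) (.node (.node (.node
  .nil (nat_lit 0x48cac4) (nat_lit 90244) (nat_lit 796782) .nil) (nat_lit 0x48ccc4) (nat_lit 89361) (nat_lit
  0x2a88aa) .nil) (nat_lit 0x48ce44) (nat_lit 92626) (nat_lit 0x5aa814) (.node (.node .nil (nat_lit 0x48ce84)
  (nat_lit 98324) (nat_lit 338030) .nil) (nat_lit 0x48cec0) (nat_lit 70339) (nat_lit 0x4a0f18) .nil)))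
  (nat_lit 0x48d0e2) (nat_lit 71329) (nat_lit 0x28d8c8) (.node (.node (.node (.node .nil (nat_lit 0x48d548)
  (nat_lit 5233) (nat_lit 0x2828f8) .nil) (nat_lit 0x48e04e) (nat_lit 24196) (nat_lit 0x4c88ca) .nil) (nat_lit
  0x48e892) (nat_lit 88497) (nat_lit 0x2e9884) (.node (.node .nil (nat_lit 0x48f288) (nat_lit 15091) (nat_lit
  0x628e28) .nil) (nat_lit 0x4902f2) (nat_lit 69363) (nat_lit 0x570612) .nil)) (nat_lit 0x4903cc) (nat_lit
  76593) (nat_lit 0x21a91a) (.node (.node (.node .nil (nat_lit 0x49059a) (nat_lit 449) (nat_lit 0x20b934)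
  .nil) (nat_lit 0x490734) (nat_lit 36371) (nat_lit 0x5705c0) .nil) (nat_lit 0x4908f2) (nat_lit 70209)
  (nat_lit 0x22d90c) (.node (.node .nil (nat_lit 0x490a72) (nat_lit 50148) (nat_lit 0x4a0666) .nil) (nat_lit
  0x490ab2) (nat_lit 44820) (nat_lit 0x422666) .nil)))) (nat_lit 0x490ad2) (nat_lit 71700) (nat_lit 0x4a2466)
  (.node (.node (.node (.node (.node .nil (nat_lit 0x490ae2) (nat_lit 17700) (nat_lit 0x482666) .nil) (nat_lit
  0x490af0) (nat_lit 70148) (nat_lit 665190) .nil) (nat_lit 0x490d46) (nat_lit 8292) (nat_lit 0x590c46) (.node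
  (.node .nil (nat_lit 0x4914d4) (nat_lit 28484) (nat_lit 0x2b2c42) .nil) (nat_lit 0x49188e) (nat_lit 68516)
  (nat_lit 0x60ac46) .nil)) (nat_lit 0x491f80) (nat_lit 44369) (nat_lit 0x238970) (.node (.node (.node .nil
  (nat_lit 0x4921cc) (nat_lit 60260) (nat_lit 0x18acc2) .nil) (nat_lit 0x4922cc) (nat_lit 59506) (nat_lit
  601372) .nil) (nat_lit 0x49234c) (nat_lit 83729) (nat_lit 0x25291a) (.node (.node .nil (nat_lit 0x49238c)
  (nat_lit 61201) (nat_lit 0x25a912) .nil) (nat_lit 0x4923c4) (nat_lit 83585) (nat_lit 0x25891a) .nil)))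
  (nat_lit 0x4923c8) (nat_lit 90049) (nat_lit 0x25a918) (.node (.node (.node (.node .nil (nat_lit 0x492478)
  (nat_lit 10099) (nat_lit 0x578130) .nil) (nat_lit 0x492ca4) (nat_lit 56147) (nat_lit 0x5b0360) .nil)
  (nat_lit 0x492e0a) (nat_lit 35907) (nat_lit 0x5a8522) (.node (.node .nil (nat_lit 0x4931b0) (nat_lit 95489)
  (nat_lit 0x24c954) .nil) (nat_lit 0x4946a8) (nat_lit 89937) (nat_lit 0x21e9a0) .nil)) (nat_lit 0x49488e)
  (nat_lit 84497) (nat_lit 0x22b982) (.node (.node (.node .nil (nat_lit 0x49508e) (nat_lit 79921) (nat_lit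
  0x20b9c2) .nil) (nat_lit 0x4951b0) (nat_lit 54209) (nat_lit 0x20c9d4) .nil) (nat_lit 0x495548) (nat_lit
  2801) (nat_lit 0x2029f8) (.node (.node .nil (nat_lit 0x49580e) (nat_lit 75153) (nat_lit 0x2239c2) .nil)
  (nat_lit 0x495886) (nat_lit 42049) (nat_lit 0x2299c2) .nil))))) (nat_lit 0x49588a) (nat_lit 37601) (nat_lit
  0x22b9c0) (.node (.node (.node (.node (.node (.node .nil (nat_lit 0x49588c) (nat_lit 70322) (nat_lit
  0x4a0f18) .nil) (nat_lit 0x4961b0) (nat_lit 17361) (nat_lit 0x24c994) .nil) (nat_lit 0x4964c2) (nat_lit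
  51794) (nat_lit 0x590d44) (.node (.node .nil (nat_lit 0x4970b0) (nat_lit 33425) (nat_lit 0x24c9c4) .nil)
  (nat_lit 0x497130) (nat_lit 74561) (nat_lit 0x2449d4) .nil)) (nat_lit 0x497190) (nat_lit 67329) (nat_lit
  0x2489d4) (.node (.node (.node .nil (nat_lit 0x4971a0) (nat_lit 44561) (nat_lit 0x24c9d0) .nil) (nat_lit
  0x497604) (nat_lit 89540) (nat_lit 0x250ce2) .nil) (nat_lit 0x498334) (nat_lit 60996) (nat_lit 0x120e6a)
  (.node (.node .nil (nat_lit 0x498534) (nat_lit 39427) (nat_lit 0x5701c8) .nil) (nat_lit 0x498634) (nat_lit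
  34114) (nat_lit 0x1ca990) .nil))) (nat_lit 0x498714) (nat_lit 31105) (nat_lit 0x290936) (.node (.node (.node
  (.node .nil (nat_lit 0x498724) (nat_lit 28258) (nat_lit 0x18b990) .nil) (nat_lit 0x498730) (nat_lit 14706)
  (nat_lit 0x1cb980) .nil) (nat_lit 0x49885c) (nat_lit 10436) (nat_lit 691278) (.node (.node .nil (nat_lit
  0x498e0a) (nat_lit 95699) (nat_lit 0x5a850a) .nil) (nat_lit 0x499246) (nat_lit 62483) (nat_lit 0x72045a)
  .nil)) (nat_lit 0x499548) (nat_lit 11473) (nat_lit 0x282978) (.node (.node (.node .nil (nat_lit 0x499912)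
  (nat_lit 35633) (nat_lit 0x2a1954) .nil) (nat_lit 0x49a162) (nat_lit 48083) (nat_lit 0x5300ba) .nil)
  (nat_lit 0x49a60a) (nat_lit 75634) (nat_lit 0x19a948) (.node (.node .nil (nat_lit 0x49aa0a) (nat_lit 38722)
  (nat_lit 764232) .nil) (nat_lit 0x49ac0a) (nat_lit 62579) (nat_lit 0x5a812a) .nil)))) (nat_lit 0x49ae02)
  (nat_lit 74323) (nat_lit 0x5a052a) (.node (.node (.node (.node (.node .nil (nat_lit 0x49ae08) (nat_lit
  33891) (nat_lit 0x5a8528) .nil) (nat_lit 0x49b02c) (nat_lit 69185) (nat_lit 0x2c6942) .nil) (nat_lit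
  0x49c03a) (nat_lit 44658) (nat_lit 0x4c89c8) (.node (.node .nil (nat_lit 0x49c548) (nat_lit 13025) (nat_lit
  0x2829b8) .nil) (nat_lit 0x49d148) (nat_lit 25729) (nat_lit 0x2829d8) .nil)) (nat_lit 0x49d448) (nat_lit
  22785) (nat_lit 0x2829e8) (.node (.node (.node .nil (nat_lit 0x49d508) (nat_lit 2561) (nat_lit 0x2829f0)
  .nil) (nat_lit 0x49d540) (nat_lit 8689) (nat_lit 0x2809f8) .nil) (nat_lit 0x49da20) (nat_lit 97842) (nat_lit
  0x4aab80) (.node (.node .nil (nat_lit 0x49e250) (nat_lit 12849) (nat_lit 0x2d098c) .nil) (nat_lit 0x49e904)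
  (nat_lit 36721) (nat_lit 0x2e0992) .nil))) (nat_lit 0x4a029e) (nat_lit 46977) (nat_lit 0x31b806) (.node
  (.node (.node (.node .nil (nat_lit 0x4a0666) (nat_lit 24513) (nat_lit 0x31582a) .nil) (nat_lit 0x4a0758)
  (nat_lit 62900) (nat_lit 0x1b8072) .nil) (nat_lit 0x4a08ec) (nat_lit 32724) (nat_lit 567894) (.node (.node
  .nil (nat_lit 0x4a0b58) (nat_lit 80068) (nat_lit 0x1a8076) .nil) (nat_lit 0x4a0d58) (nat_lit 80433) (nat_lit
  0x32283c) .nil)) (nat_lit 0x4a0e58) (nat_lit 64900) (nat_lit 753782) (.node (.node (.node .nil (nat_lit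
  0x4a0f18) (nat_lit 39921) (nat_lit 0x332834) .nil) (nat_lit 0x4a0f48) (nat_lit 90580) (nat_lit 0x198076)
  .nil) (nat_lit 0x4a0f50) (nat_lit 60388) (nat_lit 0x1b0076) (.node (.node .nil (nat_lit 0x4a14d4) (nat_lit
  67092) (nat_lit 0x2b2852) .nil) (nat_lit 0x4a1a2a) (nat_lit 75108) (nat_lit 0x608276) .nil)))))) (nat_lit
  0x4a1d24) (nat_lit 97330) (nat_lit 0x1a5a90) (.node (.node (.node (.node (.node (.node (.node .nil (nat_lit
  0x4a21d2) (nat_lit 39780) (nat_lit 0x5a20d2) .nil) (nat_lit 0x4a2266) (nat_lit 27393) (nat_lit 0x35580a)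
  .nil) (nat_lit 0x4a2466) (nat_lit 40962) (nat_lit 0x1948d4) (.node (.node .nil (nat_lit 0x4a2626) (nat_lit
  46545) (nat_lit 0x355822) .nil) (nat_lit 0x4a2646) (nat_lit 52257) (nat_lit 0x35182a) .nil)) (nat_lit
  0x4a2662) (nat_lit 51681) (nat_lit 0x355828) (.node (.node (.node .nil (nat_lit 0x4a2664) (nat_lit 47713)
  (nat_lit 0x35482a) .nil) (nat_lit 0x4a290e) (nat_lit 28356) (nat_lit 0x5088d6) .nil) (nat_lit 0x4a2ba0)
  (nat_lit 89025) (nat_lit 0x37c810) (.node (.node .nil (nat_lit 0x4a3314) (nat_lit 87492) (nat_lit 0x3208f2)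
  .nil) (nat_lit 0x4a341a) (nat_lit 13042) (nat_lit 0x1d4a48) .nil))) (nat_lit 0x4a46a8) (nat_lit 59699)
  (nat_lit 0x43cf00) (.node (.node (.node (.node .nil (nat_lit 0x4a4856) (nat_lit 532) (nat_lit 0x4e0856)
  .nil) (nat_lit 0x4a4d24) (nat_lit 97395) (nat_lit 0x4b49c0) .nil) (nat_lit 0x4a50e2) (nat_lit 82625)
  (nat_lit 0x30d8c8) (.node (.node .nil (nat_lit 0x4a524c) (nat_lit 69890) (nat_lit 0x486a1c) .nil) (nat_lit
  0x4a541a) (nat_lit 18514) (nat_lit 0x5c4a48) .nil)) (nat_lit 0x4a5524) (nat_lit 93537) (nat_lit 0x3048f2)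
  (.node (.node (.node .nil (nat_lit 0x4a5924) (nat_lit 89571) (nat_lit 0x6b48c0) .nil) (nat_lit 0x4a5a90)
  (nat_lit 98420) (nat_lit 0x262076) .nil) (nat_lit 0x4a5c24) (nat_lit 90802) (nat_lit 0x5a4a90) (.node (.node
  .nil (nat_lit 0x4a5d04) (nat_lit 87473) (nat_lit 0x3208f2) .nil) (nat_lit 0x4a5d20) (nat_lit 89282) (nat_lit
  0x5a5a80) .nil)))) (nat_lit 0x4a6168) (nat_lit 71265) (nat_lit 0x346898) (.node (.node (.node (.node (.node
  .nil (nat_lit 0x4a641a) (nat_lit 64498) (nat_lit 0x5d4848) .nil) (nat_lit 0x4a701a) (nat_lit 77314) (nat_lit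
  0x4d4a48) .nil) (nat_lit 0x4a740a) (nat_lit 42386) (nat_lit 0x594a48) (.node (.node .nil (nat_lit 0x4a7412)
  (nat_lit 45410) (nat_lit 0x5d4a40) .nil) (nat_lit 0x4a7418) (nat_lit 48370) (nat_lit 0x5d4a08) .nil))
  (nat_lit 0x4a809e) (nat_lit 11745) (nat_lit 0x38b806) (.node (.node (.node .nil (nat_lit 0x4a821e) (nat_lit
  22289) (nat_lit 0x393806) .nil) (nat_lit 0x4a828e) (nat_lit 10513) (nat_lit 0x39b802) .nil) (nat_lit
  0x4a8296) (nat_lit 3057) (nat_lit 0x399806) (.node (.node .nil (nat_lit 0x4a829a) (nat_lit 25521) (nat_lit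
  0x39b804) .nil) (nat_lit 0x4a829c) (nat_lit 9057) (nat_lit 0x39a806) .nil))) (nat_lit 0x4a852a) (nat_lit
  28899) (nat_lit 0x43c18a) (.node (.node (.node (.node .nil (nat_lit 0x4a8ba0) (nat_lit 92708) (nat_lit
  0x10227e) .nil) (nat_lit 0x4a90e2) (nat_lit 92035) (nat_lit 0x63421a) .nil) (nat_lit 0x4a9912) (nat_lit
  48884) (nat_lit 0x72005e) (.node (.node .nil (nat_lit 0x4aa3a0) (nat_lit 93987) (nat_lit 0x4346a8) .nil)
  (nat_lit 0x4aa4c8) (nat_lit 86994) (nat_lit 0x19cc0c) .nil)) (nat_lit 0x4aa9a0) (nat_lit 70755) (nat_lit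
  0x4b42a8) (.node (.node (.node .nil (nat_lit 0x4aaaa0) (nat_lit 95891) (nat_lit 0x4b4628) .nil) (nat_lit
  0x4aab20) (nat_lit 86468) (nat_lit 0x1002fe) .nil) (nat_lit 0x4aab80) (nat_lit 86819) (nat_lit 0x4a46a8)
  (.node (.node .nil (nat_lit 0x4aac14) (nat_lit 70707) (nat_lit 0x4e4168) .nil) (nat_lit 0x4ab02c) (nat_lit
  36642) (nat_lit 641688) .nil))))) (nat_lit 0x4ac0e2) (nat_lit 33985) (nat_lit 0x38d888) (.node (.node (.node
  (.node (.node (.node .nil (nat_lit 0x4ac590) (nat_lit 91572) (nat_lit 0x17205a) .nil) (nat_lit 0x4ad062)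
  (nat_lit 67540) (nat_lit 0x6c025a) .nil) (nat_lit 0x4ad0a2) (nat_lit 36001) (nat_lit 0x38d8c0) (.node (.node
  .nil (nat_lit 0x4ad0c2) (nat_lit 55569) (nat_lit 0x3898c8) .nil) (nat_lit 0x4ad0e0) (nat_lit 69860) (nat_lit
  0x2c225a) .nil)) (nat_lit 0x4ae250) (nat_lit 43569) (nat_lit 0x3d088c) (.node (.node (.node .nil (nat_lit
  0x4b01a6) (nat_lit 23907) (nat_lit 0x5342c2) .nil) (nat_lit 0x4b04d4) (nat_lit 21364) (nat_lit 732242) .nil)
  (nat_lit 0x4b06a8) (nat_lit 76193) (nat_lit 0x31e920) (.node (.node .nil (nat_lit 0x4b10d4) (nat_lit 30852)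
  (nat_lit 0x2a2c52) .nil) (nat_lit 0x4b1360) (nat_lit 53409) (nat_lit 0x314958) .nil))) (nat_lit 0x4b1454)
  (nat_lit 33588) (nat_lit 0x2b0c52) (.node (.node (.node (.node .nil (nat_lit 0x4b1494) (nat_lit 7620)
  (nat_lit 0x232c52) .nil) (nat_lit 0x4b14c4) (nat_lit 27556) (nat_lit 0x292c52) .nil) (nat_lit 0x4b14d0)
  (nat_lit 52372) (nat_lit 0x2b2452) (.node (.node .nil (nat_lit 0x4b1912) (nat_lit 53140) (nat_lit 0x720456)
  .nil) (nat_lit 0x4b2898) (nat_lit 40052) (nat_lit 173270) .nil)) (nat_lit 0x4b302c) (nat_lit 85426) (nat_lit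
  609176) (.node (.node (.node .nil (nat_lit 0x4b3282) (nat_lit 75859) (nat_lit 0x724622) .nil) (nat_lit
  0x4b411c) (nat_lit 67457) (nat_lit 0x302996) .nil) (nat_lit 0x4b42a8) (nat_lit 40225) (nat_lit 0x31e980)
  (.node (.node .nil (nat_lit 0x4b44a8) (nat_lit 95825) (nat_lit 0x30e9a0) .nil) (nat_lit 0x4b4628) (nat_lit
  78865) (nat_lit 0x3169a0) .nil)))) (nat_lit 0x4b4688) (nat_lit 81729) (nat_lit 0x31a9a0) (.node (.node
  (.node (.node (.node .nil (nat_lit 0x4b46a0) (nat_lit 80497) (nat_lit 0x31c9a0) .nil) (nat_lit 0x4b49c0)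
  (nat_lit 84225) (nat_lit 0x328998) .nil) (nat_lit 0x4b6250) (nat_lit 48129) (nat_lit 0x35098c) (.node (.node
  .nil (nat_lit 0x4b6822) (nat_lit 80241) (nat_lit 0x365980) .nil) (nat_lit 0x4b8912) (nat_lit 56353) (nat_lit
  0x3a1914) .nil)) (nat_lit 0x4b8c60) (nat_lit 84692) (nat_lit 591454) (.node (.node (.node .nil (nat_lit
  0x4b902c) (nat_lit 79346) (nat_lit 576408) .nil) (nat_lit 0x4b9112) (nat_lit 32529) (nat_lit 0x381954) .nil)
  (nat_lit 0x4b9812) (nat_lit 14388) (nat_lit 0x62045e) (.node (.node .nil (nat_lit 0x4b9902) (nat_lit 71747)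
  (nat_lit 0x7a408a) .nil) (nat_lit 0x4b9910) (nat_lit 43236) (nat_lit 0x32045e) .nil))) (nat_lit 0x4ba02c)
  (nat_lit 70033) (nat_lit 0x3c6902) (.node (.node (.node (.node .nil (nat_lit 0x4ba250) (nat_lit 7874)
  (nat_lit 911620) .nil) (nat_lit 0x4bb00c) (nat_lit 66513) (nat_lit 0x3c2942) .nil) (nat_lit 0x4bb024)
  (nat_lit 85346) (nat_lit 641936) (.node (.node .nil (nat_lit 0x4bb028) (nat_lit 74882) (nat_lit 641928)
  .nil) (nat_lit 0x4bc250) (nat_lit 21809) (nat_lit 0x39098c) .nil)) (nat_lit 0x4bc406) (nat_lit 71202)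
  (nat_lit 0x58c950) (.node (.node (.node .nil (nat_lit 0x4be050) (nat_lit 27682) (nat_lit 0x4dc904) .nil)
  (nat_lit 0x4be210) (nat_lit 15297) (nat_lit 0x3d0984) .nil) (nat_lit 0x4be240) (nat_lit 8145) (nat_lit
  0x3d0988) (.node (.node .nil (nat_lit 0x4c03b8) (nat_lit 25393) (nat_lit 0x21ea14) .nil) (nat_lit 0x4c09ca)
  (nat_lit 7379) (nat_lit 0x4a8296) .nil)))))))
def t6160_23 : T := (.node (.node (.node (.node (.node (.node (.node (.node .nil (nat_lit 0x4c0d32) (nat_lit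
  51300) (nat_lit 0x534246) .nil) (nat_lit 0x4c1670) (nat_lit 17970) (nat_lit 0x1c2a86) .nil) (nat_lit
  0x4c1a2a) (nat_lit 36595) (nat_lit 0x6b8406) (.node (.node .nil (nat_lit 0x4c1f80) (nat_lit 54097) (nat_lit
  0x238a70) .nil) (nat_lit 0x4c20f4) (nat_lit 27121) (nat_lit 0x24ca0e) .nil)) (nat_lit 0x4c225a) (nat_lit
  63732) (nat_lit 0x4ac0e2) (.node (.node (.node .nil (nat_lit 0x4c2532) (nat_lit 23924) (nat_lit 0x5342c2)
  .nil) (nat_lit 0x4c2932) (nat_lit 39713) (nat_lit 0x265a14) .nil) (nat_lit 0x4c2a86) (nat_lit 21330)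
  (nat_lit 732242) (.node (.node .nil (nat_lit 0x4c2c32) (nat_lit 47332) (nat_lit 0x4342c6) .nil) (nat_lit
  0x4c2d12) (nat_lit 26804) (nat_lit 0x5340c6) .nil))) (nat_lit 0x4c2d22) (nat_lit 28721) (nat_lit 0x265a30)
  (.node (.node (.node (.node .nil (nat_lit 0x4c2d30) (nat_lit 6692) (nat_lit 0x1342c6) .nil) (nat_lit
  0x4c3314) (nat_lit 98354) (nat_lit 866834) .nil) (nat_lit 0x4c4670) (nat_lit 63090) (nat_lit 0x5c2886)
  (.node (.node .nil (nat_lit 0x4c4856) (nat_lit 0) (nat_lit 0x4c4856) .nil) (nat_lit 0x4c51c4) (nat_lit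
  40898) (nat_lit 0x481e16) .nil)) (nat_lit 0x4c5270) (nat_lit 45090) (nat_lit 0x4c2a86) (.node (.node (.node
  .nil (nat_lit 0x4c5470) (nat_lit 57764) (nat_lit 0x2f4242) .nil) (nat_lit 0x4c5630) (nat_lit 56098) (nat_lit
  0x5c2a82) .nil) (nat_lit 0x4c5650) (nat_lit 88689) (nat_lit 0x210aec) (.node (.node .nil (nat_lit 0x4c5660)
  (nat_lit 33809) (nat_lit 0x214ae8) .nil) (nat_lit 0x4c5918) (nat_lit 81633) (nat_lit 0x222ad4) .nil))))
  (nat_lit 0x4c6168) (nat_lit 37937) (nat_lit 0x246a98) (.node (.node (.node (.node (.node .nil (nat_lit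
  0x4c64c2) (nat_lit 8258) (nat_lit 0x590c46) .nil) (nat_lit 0x4c7026) (nat_lit 71604) (nat_lit 0x644ac2)
  .nil) (nat_lit 0x4c7288) (nat_lit 16163) (nat_lit 0x628e24) (.node (.node .nil (nat_lit 0x4c80f4) (nat_lit
  51457) (nat_lit 0x28ca0e) .nil) (nat_lit 0x4c81ca) (nat_lit 11634) (nat_lit 564302) .nil)) (nat_lit
  0x4c86a2) (nat_lit 60226) (nat_lit 0x18acc2) (.node (.node (.node .nil (nat_lit 0x4c88ca) (nat_lit 10402)
  (nat_lit 691278) .nil) (nat_lit 0x4c894a) (nat_lit 2946) (nat_lit 694350) .nil) (nat_lit 0x4c898a) (nat_lit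
  24435) (nat_lit 0x4a828e) (.node (.node .nil (nat_lit 0x4c89c2) (nat_lit 32338) (nat_lit 695366) .nil)
  (nat_lit 0x4c89c8) (nat_lit 21123) (nat_lit 0x4a829c) .nil))) (nat_lit 0x4c9246) (nat_lit 14371) (nat_lit
  0x62045e) (.node (.node (.node (.node .nil (nat_lit 0x4ca074) (nat_lit 38289) (nat_lit 0x2c4a0e) .nil)
  (nat_lit 0x4ca0b4) (nat_lit 52081) (nat_lit 0x2cca06) .nil) (nat_lit 0x4ca0d4) (nat_lit 75473) (nat_lit
  0x2c8a0e) (.node (.node .nil (nat_lit 0x4ca0e4) (nat_lit 46449) (nat_lit 0x2cca0a) .nil) (nat_lit 0x4ca0f0)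
  (nat_lit 42148) (nat_lit 680650) .nil)) (nat_lit 0x4ca740) (nat_lit 19713) (nat_lit 0x2d0a38) (.node (.node
  (.node .nil (nat_lit 0x4cb288) (nat_lit 53619) (nat_lit 0x62862c) .nil) (nat_lit 0x4cc03a) (nat_lit 24162)
  (nat_lit 0x4c88ca) .nil) (nat_lit 0x4cc590) (nat_lit 85812) (nat_lit 0x17604a) (.node (.node .nil (nat_lit
  0x4cd288) (nat_lit 28963) (nat_lit 0x628e0c) .nil) (nat_lit 0x4cdc02) (nat_lit 81460) (nat_lit 0x65404e)
  .nil))))) (nat_lit 0x4ce288) (nat_lit 57987) (nat_lit 0x428e2c) (.node (.node (.node (.node (.node (.node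
  .nil (nat_lit 0x4ce904) (nat_lit 32289) (nat_lit 0x2e0a92) .nil) (nat_lit 0x4cf088) (nat_lit 77939) (nat_lit
  0x628a2c) .nil) (nat_lit 0x4cf208) (nat_lit 63812) (nat_lit 0x24c0ea) (.node (.node .nil (nat_lit 0x4cf280)
  (nat_lit 43491) (nat_lit 0x620e2c) .nil) (nat_lit 0x4d01a6) (nat_lit 8002) (nat_lit 531922) .nil)) (nat_lit
  0x4d0f80) (nat_lit 81057) (nat_lit 0x238b30) (.node (.node (.node .nil (nat_lit 0x4d10e8) (nat_lit 11251)
  (nat_lit 0x738214) .nil) (nat_lit 0x4d1246) (nat_lit 53123) (nat_lit 0x720456) .nil) (nat_lit 0x4d1780)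
  (nat_lit 81489) (nat_lit 0x218b70) (.node (.node .nil (nat_lit 0x4d1834) (nat_lit 9266) (nat_lit 920466)
  .nil) (nat_lit 0x4d1b80) (nat_lit 60274) (nat_lit 671490) .nil))) (nat_lit 0x4d1d80) (nat_lit 17153)
  (nat_lit 0x228b70) (.node (.node (.node (.node .nil (nat_lit 0x4d1e80) (nat_lit 49761) (nat_lit 0x238b60)
  .nil) (nat_lit 0x4d1f00) (nat_lit 67652) (nat_lit 0x314466) .nil) (nat_lit 0x4d24c2) (nat_lit 48162)
  (nat_lit 0x190d46) (.node (.node .nil (nat_lit 0x4d2898) (nat_lit 74786) (nat_lit 986378) .nil) (nat_lit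
  0x4d310a) (nat_lit 91889) (nat_lit 0x243b50) .nil)) (nat_lit 0x4d403a) (nat_lit 17474) (nat_lit 0x4c09ca)
  (.node (.node (.node .nil (nat_lit 0x4d4294) (nat_lit 32433) (nat_lit 0x218b86) .nil) (nat_lit 0x4d44c2)
  (nat_lit 41619) (nat_lit 0x520b16) .nil) (nat_lit 0x4d4a48) (nat_lit 46689) (nat_lit 0x232b88) (.node (.node
  .nil (nat_lit 0x4d60c2) (nat_lit 19380) (nat_lit 0x4c64c2) .nil) (nat_lit 0x4d6442) (nat_lit 27842) (nat_lit
  0x590946) .nil)))) (nat_lit 0x4d6482) (nat_lit 21874) (nat_lit 0x590d42) (.node (.node (.node (.node (.node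
  .nil (nat_lit 0x4d64c0) (nat_lit 25026) (nat_lit 0x590d06) .nil) (nat_lit 0x4d6904) (nat_lit 25585) (nat_lit
  0x260b92) .nil) (nat_lit 0x4d803a) (nat_lit 20866) (nat_lit 821706) (.node (.node .nil (nat_lit 0x4d8246)
  (nat_lit 71411) (nat_lit 0x52045e) .nil) (nat_lit 0x4d8c60) (nat_lit 72866) (nat_lit 0x1a8986) .nil))
  (nat_lit 0x4d9046) (nat_lit 48867) (nat_lit 0x72005e) (.node (.node (.node .nil (nat_lit 0x4d9206) (nat_lit
  77779) (nat_lit 0x72044e) .nil) (nat_lit 0x4d9242) (nat_lit 65059) (nat_lit 0x72041e) .nil) (nat_lit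
  0x4d9244) (nat_lit 64739) (nat_lit 0x72045c) (.node (.node .nil (nat_lit 0x4da904) (nat_lit 10705) (nat_lit
  0x2e0b12) .nil) (nat_lit 0x4db410) (nat_lit 23795) (nat_lit 0x76012c) .nil))) (nat_lit 0x4dc01a) (nat_lit
  7090) (nat_lit 0x4c894a) (.node (.node (.node (.node .nil (nat_lit 0x4dc02a) (nat_lit 47538) (nat_lit
  0x4889ca) .nil) (nat_lit 0x4dc032) (nat_lit 30196) (nat_lit 0x46464a) .nil) (nat_lit 0x4dc038) (nat_lit
  50018) (nat_lit 0x4c898a) (.node (.node .nil (nat_lit 0x4dc904) (nat_lit 11905) (nat_lit 0x2a0b92) .nil)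
  (nat_lit 0x4de104) (nat_lit 15873) (nat_lit 0x2c0b92) .nil)) (nat_lit 0x4de804) (nat_lit 23137) (nat_lit
  0x2e0b82) (.node (.node (.node .nil (nat_lit 0x4de900) (nat_lit 26049) (nat_lit 0x2e0b90) .nil) (nat_lit
  0x4e01a6) (nat_lit 11540) (nat_lit 0x506a52) .nil) (nat_lit 0x4e0856) (nat_lit 163) (nat_lit 0x4e4056)
  (.node (.node .nil (nat_lit 0x4e0a2a) (nat_lit 66305) (nat_lit 0x337a00) .nil) (nat_lit 0x4e122a) (nat_lit
  82755) (nat_lit 0x63c406) .nil)))))) (nat_lit 0x4e1314) (nat_lit 97651) (nat_lit 0x6644c4) (.node (.node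
  (.node (.node (.node (.node (.node .nil (nat_lit 0x4e1542) (nat_lit 33283) (nat_lit 0x624196) .nil) (nat_lit
  0x4e182a) (nat_lit 38386) (nat_lit 674506) .nil) (nat_lit 0x4e1a0a) (nat_lit 87041) (nat_lit 0x333a40)
  (.node (.node .nil (nat_lit 0x4e1a22) (nat_lit 60882) (nat_lit 682690) .nil) (nat_lit 0x4e1a28) (nat_lit
  57043) (nat_lit 0x6bc404) .nil)) (nat_lit 0x4e2168) (nat_lit 66420) (nat_lit 0x18c2d2) (.node (.node (.node
  .nil (nat_lit 0x4e2314) (nat_lit 96786) (nat_lit 882706) .nil) (nat_lit 0x4e2898) (nat_lit 75665) (nat_lit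
  0x36aa04) .nil) (nat_lit 0x4e3114) (nat_lit 92658) (nat_lit 875026) (.node (.node .nil (nat_lit 0x4e3214)
  (nat_lit 94322) (nat_lit 879122) .nil) (nat_lit 0x4e3304) (nat_lit 90963) (nat_lit 0x6244e4) .nil)))
  (nat_lit 0x4e3310) (nat_lit 86514) (nat_lit 883202) (.node (.node (.node (.node .nil (nat_lit 0x4e34a0)
  (nat_lit 91841) (nat_lit 0x34ca60) .nil) (nat_lit 0x4e4056) (nat_lit 34) (nat_lit 0x4c4856) .nil) (nat_lit
  0x4e4168) (nat_lit 40211) (nat_lit 0x43c894) (.node (.node .nil (nat_lit 0x4e4590) (nat_lit 74724) (nat_lit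
  0x176052) .nil) (nat_lit 0x4e4816) (nat_lit 228) (nat_lit 0x464856) .nil)) (nat_lit 0x4e4846) (nat_lit 68)
  (nat_lit 0x4c4856) (.node (.node (.node .nil (nat_lit 0x4e4852) (nat_lit 180) (nat_lit 0x4e4056) .nil)
  (nat_lit 0x4e4854) (nat_lit 644) (nat_lit 936022) .nil) (nat_lit 0x4e6068) (nat_lit 88673) (nat_lit
  0x346a88) (.node (.node .nil (nat_lit 0x4e6128) (nat_lit 67874) (nat_lit 0x49588a) .nil) (nat_lit 0x4e6148)
  (nat_lit 79937) (nat_lit 0x342a98) .nil)))) (nat_lit 0x4e6160) (nat_lit 72834) (nat_lit 0x495886) (.node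
  (.node (.node (.node (.node .nil (nat_lit 0x4e6e00) (nat_lit 94274) (nat_lit 0x5b6802) .nil) (nat_lit
  0x4e8590) (nat_lit 79620) (nat_lit 0x13605a) .nil) (nat_lit 0x4e8c60) (nat_lit 91795) (nat_lit 0x4b411c)
  (.node (.node .nil (nat_lit 0x4e9058) (nat_lit 24226) (nat_lit 838158) .nil) (nat_lit 0x4e9884) (nat_lit
  88643) (nat_lit 0x6a424c) .nil)) (nat_lit 0x4ec190) (nat_lit 66609) (nat_lit 0x388a94) (.node (.node (.node
  .nil (nat_lit 0x4ec224) (nat_lit 46163) (nat_lit 0x434c4c) .nil) (nat_lit 0x4ec490) (nat_lit 56292) (nat_lit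
  483418) .nil) (nat_lit 0x4ec510) (nat_lit 35508) (nat_lit 0x17405a) (.node (.node .nil (nat_lit 0x4ec580)
  (nat_lit 82596) (nat_lit 0x15605a) .nil) (nat_lit 0x4f00a6) (nat_lit 21682) (nat_lit 544210) .nil)))
  (nat_lit 0x4f0126) (nat_lit 22772) (nat_lit 0x504e52) (.node (.node (.node (.node .nil (nat_lit 0x4f0186)
  (nat_lit 25348) (nat_lit 0x506c52) .nil) (nat_lit 0x4f01a2) (nat_lit 8852) (nat_lit 0x506652) .nil) (nat_lit
  0x4f01a4) (nat_lit 2788) (nat_lit 0x106e52) (.node (.node .nil (nat_lit 0x4f0612) (nat_lit 58834) (nat_lit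
  0x1c6942) .nil) (nat_lit 0x4f0898) (nat_lit 61124) (nat_lit 189526) .nil)) (nat_lit 0x4f0c60) (nat_lit
  87698) (nat_lit 0x1a4986) (.node (.node (.node .nil (nat_lit 0x4f2098) (nat_lit 42195) (nat_lit 0x56c224)
  .nil) (nat_lit 0x4f2818) (nat_lit 85156) (nat_lit 181462) .nil) (nat_lit 0x4f2888) (nat_lit 56962) (nat_lit
  740618) (.node (.node .nil (nat_lit 0x4f2890) (nat_lit 38785) (nat_lit 0x368b04) .nil) (nat_lit 0x4f8308)
  (nat_lit 72132) (nat_lit 0x10c47a) .nil))))) (nat_lit 0x4f8460) (nat_lit 67844) (nat_lit 607834) (.node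
  (.node (.node (.node (.node (.node .nil (nat_lit 0x4f8860) (nat_lit 65700) (nat_lit 542302) .nil) (nat_lit
  0x4f8c20) (nat_lit 63380) (nat_lit 83550) .nil) (nat_lit 0x4f8c40) (nat_lit 94978) (nat_lit 0x1ac906) (.node
  (.node .nil (nat_lit 0x50076c) (nat_lit 29475) (nat_lit 0x41a5d0) .nil) (nat_lit 0x500b36) (nat_lit 78707)
  (nat_lit 0x4d24c2) .nil)) (nat_lit 0x500e9c) (nat_lit 42243) (nat_lit 0x4ca740) (.node (.node (.node .nil
  (nat_lit 0x5016ca) (nat_lit 32498) (nat_lit 0x38264c) .nil) (nat_lit 0x5018d6) (nat_lit 8929) (nat_lit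
  171086) .nil) (nat_lit 0x501a78) (nat_lit 15779) (nat_lit 0x6da410) (.node (.node .nil (nat_lit 0x501c2e)
  (nat_lit 28785) (nat_lit 162914) .nil) (nat_lit 0x5027a2) (nat_lit 43361) (nat_lit 384048) .nil))) (nat_lit
  0x50295c) (nat_lit 37233) (nat_lit 404510) (.node (.node (.node (.node .nil (nat_lit 0x502c2e) (nat_lit
  49281) (nat_lit 424994) .nil) (nat_lit 0x502e52) (nat_lit 11265) (nat_lit 465964) .nil) (nat_lit 0x5031e8)
  (nat_lit 53683) (nat_lit 0x61a2b0) (.node (.node .nil (nat_lit 0x503346) (nat_lit 82818) (nat_lit 0x293254)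
  .nil) (nat_lit 0x50342e) (nat_lit 40706) (nat_lit 0x3902d8) .nil)) (nat_lit 0x50382e) (nat_lit 14449)
  (nat_lit 425026) (.node (.node (.node .nil (nat_lit 0x503c0e) (nat_lit 15985) (nat_lit 408674) .nil)
  (nat_lit 0x503c26) (nat_lit 16513) (nat_lit 416866) .nil) (nat_lit 0x503c2a) (nat_lit 29345) (nat_lit
  425056) (.node (.node .nil (nat_lit 0x503c2c) (nat_lit 32484) (nat_lit 0x218b86) .nil) (nat_lit 0x50436c)
  (nat_lit 49523) (nat_lit 0x41acd0) .nil)))) (nat_lit 0x5044b6) (nat_lit 82466) (nat_lit 0x7c04d0) (.node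
  (.node (.node (.node (.node .nil (nat_lit 0x50456c) (nat_lit 37905) (nat_lit 27834) .nil) (nat_lit 0x50466c)
  (nat_lit 30931) (nat_lit 0x41ad50) .nil) (nat_lit 0x50472c) (nat_lit 46098) (nat_lit 0x783098) (.node (.node
  .nil (nat_lit 0x50474c) (nat_lit 19602) (nat_lit 0x78301c) .nil) (nat_lit 0x504764) (nat_lit 73379) (nat_lit
  0x412dd0) .nil)) (nat_lit 0x504768) (nat_lit 16643) (nat_lit 0x41ad90) (.node (.node (.node .nil (nat_lit
  0x504aaa) (nat_lit 93458) (nat_lit 0x6a24c8) .nil) (nat_lit 0x504e52) (nat_lit 9809) (nat_lit 203948) .nil)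
  (nat_lit 0x50521e) (nat_lit 89651) (nat_lit 0x64ac42) (.node (.node .nil (nat_lit 0x50594a) (nat_lit 26913)
  (nat_lit 146648) .nil) (nat_lit 0x505ce0) (nat_lit 48740) (nat_lit 0x2d2306) .nil))) (nat_lit 0x50613a)
  (nat_lit 16771) (nat_lit 0x45a8a2) (.node (.node (.node (.node .nil (nat_lit 0x506394) (nat_lit 48324)
  (nat_lit 0x1629a2) .nil) (nat_lit 0x506652) (nat_lit 3649) (nat_lit 335020) .nil) (nat_lit 0x506a52)
  (nat_lit 4849) (nat_lit 466060) (.node (.node .nil (nat_lit 0x506c52) (nat_lit 10897) (nat_lit 400556) .nil)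
  (nat_lit 0x506d88) (nat_lit 58369) (nat_lit 437424) .nil)) (nat_lit 0x506e12) (nat_lit 4289) (nat_lit
  466084) (.node (.node (.node .nil (nat_lit 0x506e42) (nat_lit 13265) (nat_lit 466088) .nil) (nat_lit
  0x506e50) (nat_lit 2145) (nat_lit 461996) .nil) (nat_lit 0x507074) (nat_lit 23172) (nat_lit 0x2e0b82) (.node
  (.node .nil (nat_lit 0x507b20) (nat_lit 63185) (nat_lit 478416) .nil) (nat_lit 0x50835a) (nat_lit 60674)
  (nat_lit 0x2cb04c) .nil)))))))
def t6160_24 : T := (.node (.node (.node (.node (.node (.node (.node (.node .nil (nat_lit 0x5088d6) (nat_lit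
  12242) (nat_lit 0x2e8454) .nil) (nat_lit 0x508aaa) (nat_lit 95027) (nat_lit 0x49a60a) (.node .nil (nat_lit
  0x508da4) (nat_lit 94884) (nat_lit 0x112b0e) .nil)) (nat_lit 0x5090d6) (nat_lit 11617) (nat_lit 564302)
  (.node (.node .nil (nat_lit 0x5091e8) (nat_lit 49395) (nat_lit 0x61a298) .nil) (nat_lit 0x509856) (nat_lit
  25809) (nat_lit 662606) .nil)) (nat_lit 0x509896) (nat_lit 6130) (nat_lit 0x2e8650) (.node (.node (.node
  .nil (nat_lit 0x5098c6) (nat_lit 25409) (nat_lit 695370) .nil) (nat_lit 0x5098d2) (nat_lit 22833) (nat_lit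
  695372) .nil) (nat_lit 0x5098d4) (nat_lit 10385) (nat_lit 691278) (.node (.node .nil (nat_lit 0x509b0c)
  (nat_lit 21313) (nat_lit 732242) .nil) (nat_lit 0x50a1e8) (nat_lit 16339) (nat_lit 0x41a2b8) .nil)))
  (nat_lit 0x50a394) (nat_lit 22068) (nat_lit 0x1229aa) (.node (.node (.node (.node .nil (nat_lit 0x50a49a)
  (nat_lit 28116) (nat_lit 0x43a18a) .nil) (nat_lit 0x50aa64) (nat_lit 23427) (nat_lit 0x492478) .nil)
  (nat_lit 0x50b0e8) (nat_lit 78977) (nat_lit 846920) (.node (.node .nil (nat_lit 0x50b168) (nat_lit 56260)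
  (nat_lit 0x38838a) .nil) (nat_lit 0x50b1a8) (nat_lit 30977) (nat_lit 846928) .nil)) (nat_lit 0x50b1c8)
  (nat_lit 78003) (nat_lit 0x60a2b8) (.node (.node (.node .nil (nat_lit 0x50b1e0) (nat_lit 30626) (nat_lit
  0x299684) .nil) (nat_lit 0x50b232) (nat_lit 72177) (nat_lit 875588) .nil) (nat_lit 0x50be80) (nat_lit 55444)
  (nat_lit 0x2121ae) (.node (.node .nil (nat_lit 0x50c2aa) (nat_lit 84003) (nat_lit 0x41ae0a) .nil) (nat_lit
  0x50c394) (nat_lit 28020) (nat_lit 0x16292a) .nil)))) (nat_lit 0x50c5c2) (nat_lit 88739) (nat_lit 0x402b9a)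
  (.node (.node (.node (.node (.node .nil (nat_lit 0x50c8aa) (nat_lit 69059) (nat_lit 0x49aa0a) .nil) (nat_lit
  0x50c970) (nat_lit 32737) (nat_lit 674972) .nil) (nat_lit 0x50ca2a) (nat_lit 88819) (nat_lit 0x49ac0a)
  (.node (.node .nil (nat_lit 0x50ca8a) (nat_lit 84755) (nat_lit 0x48ae0a) .nil) (nat_lit 0x50caa2) (nat_lit
  65795) (nat_lit 0x492e0a) .nil)) (nat_lit 0x50caa8) (nat_lit 63523) (nat_lit 0x49ae08) (.node (.node (.node
  .nil (nat_lit 0x50d126) (nat_lit 11732) (nat_lit 0x740b0a) .nil) (nat_lit 0x50d48c) (nat_lit 70082) (nat_lit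
  0x788618) .nil) (nat_lit 0x50e04e) (nat_lit 50052) (nat_lit 0x4c898a) (.node (.node .nil (nat_lit 0x50e194)
  (nat_lit 43188) (nat_lit 0x16298a) .nil) (nat_lit 0x50e294) (nat_lit 8468) (nat_lit 403882) .nil))) (nat_lit
  0x50e314) (nat_lit 14132) (nat_lit 0x1609aa) (.node (.node (.node (.node .nil (nat_lit 0x50e384) (nat_lit
  28578) (nat_lit 0x69b410) .nil) (nat_lit 0x50e390) (nat_lit 51924) (nat_lit 0x1621aa) .nil) (nat_lit
  0x50f818) (nat_lit 97761) (nat_lit 928964) (.node (.node .nil (nat_lit 0x5101f4) (nat_lit 44225) (nat_lit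
  52510) .nil) (nat_lit 0x51035a) (nat_lit 35924) (nat_lit 0x5a8522) .nil)) (nat_lit 0x51069c) (nat_lit 52227)
  (nat_lit 0x54a740) (.node (.node (.node .nil (nat_lit 0x5107a2) (nat_lit 19025) (nat_lit 122160) .nil)
  (nat_lit 0x510a9c) (nat_lit 21171) (nat_lit 0x5ca640) .nil) (nat_lit 0x510c9c) (nat_lit 61363) (nat_lit
  0x5ca340) (.node (.node .nil (nat_lit 0x510d46) (nat_lit 15489) (nat_lit 138554) .nil) (nat_lit 0x510e1c)
  (nat_lit 7427) (nat_lit 0x5ca540) .nil))))) (nat_lit 0x510e8c) (nat_lit 51651) (nat_lit 0x58a740) (.node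
  (.node (.node (.node (.node (.node .nil (nat_lit 0x510e94) (nat_lit 38529) (nat_lit 232742) .nil) (nat_lit
  0x510e98) (nat_lit 24483) (nat_lit 0x5ca700) .nil) (nat_lit 0x5110ba) (nat_lit 20369) (nat_lit 64836) (.node
  (.node .nil (nat_lit 0x511ce0) (nat_lit 52964) (nat_lit 0x292706) .nil) (nat_lit 0x5123a2) (nat_lit 56737)
  (nat_lit 384272) .nil)) (nat_lit 0x512478) (nat_lit 2323) (nat_lit 0x55a130) (.node (.node (.node .nil
  (nat_lit 0x5125a2) (nat_lit 29729) (nat_lit 318768) .nil) (nat_lit 0x5126a2) (nat_lit 45745) (nat_lit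
  384288) .nil) (nat_lit 0x512722) (nat_lit 34417) (nat_lit 351536) (.node (.node .nil (nat_lit 0x512782)
  (nat_lit 14609) (nat_lit 367920) .nil) (nat_lit 0x5127a0) (nat_lit 49009) (nat_lit 380208) .nil))) (nat_lit
  0x5128ca) (nat_lit 38020) (nat_lit 0x48a586) (.node (.node (.node (.node .nil (nat_lit 0x512a64) (nat_lit
  24820) (nat_lit 528294) .nil) (nat_lit 0x5132d0) (nat_lit 13810) (nat_lit 0x2d2704) .nil) (nat_lit 0x513984)
  (nat_lit 66849) (nat_lit 429394) (.node (.node .nil (nat_lit 0x5142c6) (nat_lit 26179) (nat_lit 0x502e52)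
  .nil) (nat_lit 0x514992) (nat_lit 56115) (nat_lit 0x5c2a82) .nil)) (nat_lit 0x514ce0) (nat_lit 72753)
  (nat_lit 183720) (.node (.node (.node .nil (nat_lit 0x515126) (nat_lit 22276) (nat_lit 0x740f02) .nil)
  (nat_lit 0x515388) (nat_lit 30481) (nat_lit 110032) .nil) (nat_lit 0x5154e0) (nat_lit 42948) (nat_lit
  0x2d2702) (.node (.node .nil (nat_lit 0x5158e0) (nat_lit 89732) (nat_lit 0x2c2706) .nil) (nat_lit 0x515c60)
  (nat_lit 65124) (nat_lit 0x2d0706) .nil)))) (nat_lit 0x515ca0) (nat_lit 94692) (nat_lit 0x252706) (.node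
  (.node (.node (.node (.node .nil (nat_lit 0x515cc0) (nat_lit 61953) (nat_lit 167400) .nil) (nat_lit
  0x5160ac) (nat_lit 2676) (nat_lit 307074) .nil) (nat_lit 0x517604) (nat_lit 83491) (nat_lit 0x702d60) (.node
  (.node .nil (nat_lit 0x517818) (nat_lit 97076) (nat_lit 0x268586) .nil) (nat_lit 0x51815a) (nat_lit 94129)
  (nat_lit 539932) .nil)) (nat_lit 0x51825a) (nat_lit 56580) (nat_lit 0x4a852a) (.node (.node (.node .nil
  (nat_lit 0x51831a) (nat_lit 82436) (nat_lit 0x52852a) .nil) (nat_lit 0x51834a) (nat_lit 55492) (nat_lit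
  0x58852a) .nil) (nat_lit 0x518352) (nat_lit 74340) (nat_lit 0x5a052a) (.node (.node .nil (nat_lit 0x518358)
  (nat_lit 59489) (nat_lit 601372) .nil) (nat_lit 0x518a64) (nat_lit 19907) (nat_lit 0x592458) .nil)))
  (nat_lit 0x518c32) (nat_lit 92834) (nat_lit 0x3e81c0) (.node (.node (.node (.node .nil (nat_lit 0x519126)
  (nat_lit 25508) (nat_lit 0x700f0a) .nil) (nat_lit 0x519628) (nat_lit 35410) (nat_lit 0x38a388) .nil)
  (nat_lit 0x51a264) (nat_lit 5571) (nat_lit 0x512478) (.node (.node .nil (nat_lit 0x51a50c) (nat_lit 28817)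
  (nat_lit 798002) .nil) (nat_lit 0x51a864) (nat_lit 29715) (nat_lit 0x592078) .nil)) (nat_lit 0x51aa24)
  (nat_lit 21476) (nat_lit 4014) (.node (.node (.node .nil (nat_lit 0x51aa44) (nat_lit 26291) (nat_lit
  0x582478) .nil) (nat_lit 0x51aa60) (nat_lit 7780) (nat_lit 526254) .nil) (nat_lit 0x51b442) (nat_lit 1362)
  (nat_lit 0x398344) (.node (.node .nil (nat_lit 0x51b818) (nat_lit 71713) (nat_lit 929092) .nil) (nat_lit
  0x51c126) (nat_lit 3044) (nat_lit 0x540f0a) .nil)))))) (nat_lit 0x51c454) (nat_lit 33681) (nat_lit 527790)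
  (.node (.node (.node (.node (.node (.node (.node .nil (nat_lit 0x51cf00) (nat_lit 81953) (nat_lit 724400)
  .nil) (nat_lit 0x51d026) (nat_lit 9044) (nat_lit 0x640f0a) .nil) (nat_lit 0x51d106) (nat_lit 7985) (nat_lit
  531922) (.node (.node .nil (nat_lit 0x51d122) (nat_lit 46964) (nat_lit 0x74070a) .nil) (nat_lit 0x51d124)
  (nat_lit 21665) (nat_lit 544210) .nil)) (nat_lit 0x51d818) (nat_lit 91379) (nat_lit 0x7ca808) (.node (.node
  (.node .nil (nat_lit 0x51e818) (nat_lit 70161) (nat_lit 929156) .nil) (nat_lit 0x51f018) (nat_lit 93730)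
  (nat_lit 0x6d8308) .nil) (nat_lit 0x51f808) (nat_lit 90642) (nat_lit 0x6b8308) (.node (.node .nil (nat_lit
  0x51f810) (nat_lit 97777) (nat_lit 921028) .nil) (nat_lit 0x520336) (nat_lit 32163) (nat_lit 0x4564c2)
  .nil))) (nat_lit 0x52045e) (nat_lit 40769) (nat_lit 0x103c2e) (.node (.node (.node (.node .nil (nat_lit
  0x5206f0) (nat_lit 86723) (nat_lit 0x456710) .nil) (nat_lit 0x5208ec) (nat_lit 29667) (nat_lit 0x49e250)
  .nil) (nat_lit 0x520936) (nat_lit 41636) (nat_lit 0x520b16) (.node (.node .nil (nat_lit 0x520a36) (nat_lit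
  35698) (nat_lit 0x2e60d0) .nil) (nat_lit 0x520b16) (nat_lit 19363) (nat_lit 0x4c64c2) .nil)) (nat_lit
  0x520b26) (nat_lit 56402) (nat_lit 0x2a70d0) (.node (.node (.node .nil (nat_lit 0x520b32) (nat_lit 45939)
  (nat_lit 0x4d6482) .nil) (nat_lit 0x520b34) (nat_lit 50915) (nat_lit 0x4d64c0) .nil) (nat_lit 0x5210ba)
  (nat_lit 26097) (nat_lit 0x10fc44) (.node (.node .nil (nat_lit 0x52194a) (nat_lit 52017) (nat_lit 0x123c58)
  .nil) (nat_lit 0x521e44) (nat_lit 31124) (nat_lit 0x290936) .nil)))) (nat_lit 0x5221d2) (nat_lit 61091)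
  (nat_lit 0x4462b2) (.node (.node (.node (.node (.node .nil (nat_lit 0x522d60) (nat_lit 18673) (nat_lit
  0x164c38) .nil) (nat_lit 0x523074) (nat_lit 11956) (nat_lit 0x2a0b92) .nil) (nat_lit 0x523984) (nat_lit
  67508) (nat_lit 0x302996) (.node (.node .nil (nat_lit 0x5242c6) (nat_lit 25763) (nat_lit 0x406e52) .nil)
  (nat_lit 0x52494a) (nat_lit 47441) (nat_lit 0x123c98) .nil)) (nat_lit 0x524c38) (nat_lit 52467) (nat_lit
  0x4de900) (.node (.node (.node .nil (nat_lit 0x525074) (nat_lit 10756) (nat_lit 0x2e0b12) .nil) (nat_lit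
  0x52514a) (nat_lit 6849) (nat_lit 0x103cd8) .nil) (nat_lit 0x52548c) (nat_lit 61252) (nat_lit 0x25a912)
  (.node (.node .nil (nat_lit 0x525622) (nat_lit 5796) (nat_lit 0x650332) .nil) (nat_lit 0x52584a) (nat_lit
  32881) (nat_lit 0x123cc8) .nil))) (nat_lit 0x52590a) (nat_lit 23985) (nat_lit 0x123cd0) (.node (.node (.node
  (.node .nil (nat_lit 0x525942) (nat_lit 51345) (nat_lit 0x121cd8) .nil) (nat_lit 0x525948) (nat_lit 12657)
  (nat_lit 0x122cd8) .nil) (nat_lit 0x525a90) (nat_lit 86609) (nat_lit 0x138cc4) (.node (.node .nil (nat_lit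
  0x526074) (nat_lit 9300) (nat_lit 920466) .nil) (nat_lit 0x526506) (nat_lit 65201) (nat_lit 0x141cb2) .nil))
  (nat_lit 0x527034) (nat_lit 25620) (nat_lit 0x260b92) (.node (.node (.node .nil (nat_lit 0x527054) (nat_lit
  36756) (nat_lit 0x2e0992) .nil) (nat_lit 0x527064) (nat_lit 15908) (nat_lit 0x2c0b92) .nil) (nat_lit
  0x527070) (nat_lit 3300) (nat_lit 0x2e0392) (.node (.node .nil (nat_lit 0x5282f0) (nat_lit 31588) (nat_lit
  664378) .nil) (nat_lit 0x5284f0) (nat_lit 69089) (nat_lit 0x18cc2c) .nil))))) (nat_lit 0x52852a) (nat_lit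
  53315) (nat_lit 0x41e18a) (.node (.node (.node (.node (.node (.node .nil (nat_lit 0x528670) (nat_lit 58484)
  (nat_lit 721722) .nil) (nat_lit 0x5286b0) (nat_lit 79156) (nat_lit 205626) .nil) (nat_lit 0x5286d0) (nat_lit
  97425) (nat_lit 0x198c2c) (.node (.node .nil (nat_lit 0x5286e0) (nat_lit 89585) (nat_lit 0x19cc28) .nil)
  (nat_lit 0x528998) (nat_lit 85587) (nat_lit 0x4ce288) .nil)) (nat_lit 0x529382) (nat_lit 14675) (nat_lit
  0x60668a) (.node (.node (.node .nil (nat_lit 0x52948c) (nat_lit 76628) (nat_lit 0x21a91a) .nil) (nat_lit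
  0x52a0a6) (nat_lit 79825) (nat_lit 0x1cdc02) .nil) (nat_lit 0x52ac14) (nat_lit 68275) (nat_lit 0x4c6168)
  (.node (.node .nil (nat_lit 0x52b442) (nat_lit 3924) (nat_lit 0x69019a) .nil) (nat_lit 0x52c48c) (nat_lit
  41572) (nat_lit 370970) .nil))) (nat_lit 0x52cf00) (nat_lit 63618) (nat_lit 0x7af000) (.node (.node (.node
  (.node .nil (nat_lit 0x52d08c) (nat_lit 60209) (nat_lit 0x18acc2) .nil) (nat_lit 0x52d40c) (nat_lit 83620)
  (nat_lit 0x25891a) .nil) (nat_lit 0x52d484) (nat_lit 83780) (nat_lit 0x25291a) (.node (.node .nil (nat_lit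
  0x52d488) (nat_lit 76516) (nat_lit 0x25a11a) .nil) (nat_lit 0x52e8c0) (nat_lit 57026) (nat_lit 0x6bc404)
  .nil)) (nat_lit 0x5300ba) (nat_lit 23185) (nat_lit 0x10fd04) (.node (.node (.node .nil (nat_lit 0x5302c6)
  (nat_lit 8835) (nat_lit 0x506652) .nil) (nat_lit 0x5305c8) (nat_lit 67922) (nat_lit 0x38550c) .nil) (nat_lit
  0x53103a) (nat_lit 6321) (nat_lit 0x107d44) (.node (.node .nil (nat_lit 0x53109a) (nat_lit 9313) (nat_lit
  0x10bd44) .nil) (nat_lit 0x5310aa) (nat_lit 30017) (nat_lit 0x10fd40) .nil)))) (nat_lit 0x5310b2) (nat_lit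
  18756) (nat_lit 0x622712) (.node (.node (.node (.node (.node .nil (nat_lit 0x5310b8) (nat_lit 11969)
  (nat_lit 0x10ed44) .nil) (nat_lit 0x531360) (nat_lit 63953) (nat_lit 0x114d58) .nil) (nat_lit 0x531984)
  (nat_lit 59043) (nat_lit 0x7862c0) (.node (.node .nil (nat_lit 0x532984) (nat_lit 50355) (nat_lit 0x5862e0)
  .nil) (nat_lit 0x533184) (nat_lit 91476) (nat_lit 0x302d92) .nil)) (nat_lit 0x533442) (nat_lit 1666)
  (nat_lit 0x394344) (.node (.node (.node .nil (nat_lit 0x533884) (nat_lit 63027) (nat_lit 0x786260) .nil)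
  (nat_lit 0x533904) (nat_lit 45043) (nat_lit 0x7860e0) .nil) (nat_lit 0x533980) (nat_lit 69715) (nat_lit
  0x7862a0) (.node (.node .nil (nat_lit 0x5340c6) (nat_lit 11523) (nat_lit 0x506a52) .nil) (nat_lit 0x53411c)
  (nat_lit 39506) (nat_lit 0x6c5118) .nil))) (nat_lit 0x534246) (nat_lit 25331) (nat_lit 0x506c52) (.node
  (.node (.node (.node .nil (nat_lit 0x534286) (nat_lit 30531) (nat_lit 0x506e42) .nil) (nat_lit 0x5342c2)
  (nat_lit 10291) (nat_lit 0x506e12) .nil) (nat_lit 0x5342c4) (nat_lit 5203) (nat_lit 0x506e50) (.node (.node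
  .nil (nat_lit 0x534f00) (nat_lit 95441) (nat_lit 0x130db0) .nil) (nat_lit 0x536490) (nat_lit 91249) (nat_lit
  0x148da4) .nil)) (nat_lit 0x536822) (nat_lit 60339) (nat_lit 0x596822) (.node (.node (.node .nil (nat_lit
  0x53880e) (nat_lit 53988) (nat_lit 0x408d1e) .nil) (nat_lit 0x538f00) (nat_lit 96289) (nat_lit 0x1b0d30)
  .nil) (nat_lit 0x539214) (nat_lit 4595) (nat_lit 0x746448) (.node (.node .nil (nat_lit 0x539442) (nat_lit
  1636) (nat_lit 0x69051a) .nil) (nat_lit 0x53a130) (nat_lit 3796) (nat_lit 0x12079a) .nil)))))))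
def t6160_25 : T := (.node (.node (.node (.node (.node (.node (.node (.node .nil (nat_lit 0x53b042) (nat_lit
  1940) (nat_lit 0x68059a) .nil) (nat_lit 0x53b402) (nat_lit 4082) (nat_lit 0x39c340) .nil) (nat_lit 0x53b440)
  (nat_lit 308) (nat_lit 0x29059a) (.node (.node .nil (nat_lit 0x53c068) (nat_lit 92899) (nat_lit 0x51e818)
  .nil) (nat_lit 0x53c700) (nat_lit 73601) (nat_lit 0x190db0) .nil)) (nat_lit 0x53cb00) (nat_lit 84802)
  (nat_lit 0x6af100) (.node (.node (.node .nil (nat_lit 0x53cd00) (nat_lit 93873) (nat_lit 0x1a0db0) .nil)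
  (nat_lit 0x53ce00) (nat_lit 65842) (nat_lit 0x7ae100) .nil) (nat_lit 0x5403b8) (nat_lit 5329) (nat_lit
  126484) (.node (.node .nil (nat_lit 0x54095c) (nat_lit 94963) (nat_lit 0x4ca0d4) .nil) (nat_lit 0x540da4)
  (nat_lit 88545) (nat_lit 183858) .nil))) (nat_lit 0x540f0a) (nat_lit 1138) (nat_lit 0x3a304a) (.node (.node
  (.node (.node .nil (nat_lit 0x54121e) (nat_lit 69842) (nat_lit 0x2c225a) .nil) (nat_lit 0x541e44) (nat_lit
  64066) (nat_lit 0x3a2216) .nil) (nat_lit 0x54215c) (nat_lit 49715) (nat_lit 0x44a0f4) (.node (.node .nil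
  (nat_lit 0x54249a) (nat_lit 43444) (nat_lit 0x43e182) .nil) (nat_lit 0x542634) (nat_lit 78721) (nat_lit
  347686) .nil)) (nat_lit 0x54285c) (nat_lit 68675) (nat_lit 0x4ca074) (.node (.node (.node .nil (nat_lit
  0x54291c) (nat_lit 74945) (nat_lit 405014) .nil) (nat_lit 0x54294c) (nat_lit 17059) (nat_lit 0x48a0f4) .nil)
  (nat_lit 0x542954) (nat_lit 54035) (nat_lit 0x4c20f4) (.node (.node .nil (nat_lit 0x542958) (nat_lit 58193)
  (nat_lit 405020) .nil) (nat_lit 0x542a86) (nat_lit 17683) (nat_lit 0x482666) .nil)))) (nat_lit 0x5432d0)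
  (nat_lit 41683) (nat_lit 0x642634) (.node (.node (.node (.node (.node .nil (nat_lit 0x543b20) (nat_lit
  45201) (nat_lit 478800) .nil) (nat_lit 0x54421e) (nat_lit 66881) (nat_lit 81542) .nil) (nat_lit 0x544992)
  (nat_lit 45107) (nat_lit 0x4c2a86) (.node (.node .nil (nat_lit 0x544c38) (nat_lit 24915) (nat_lit 0x4da904)
  .nil) (nat_lit 0x54501e) (nat_lit 64803) (nat_lit 0x64a846) .nil)) (nat_lit 0x5451c4) (nat_lit 18115)
  (nat_lit 0x602ad4) (.node (.node (.node .nil (nat_lit 0x54520e) (nat_lit 68499) (nat_lit 0x60ac46) .nil)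
  (nat_lit 0x545216) (nat_lit 31265) (nat_lit 73414) .nil) (nat_lit 0x54521a) (nat_lit 62787) (nat_lit
  0x64ac06) (.node (.node .nil (nat_lit 0x54521c) (nat_lit 85249) (nat_lit 77510) .nil) (nat_lit 0x545b20)
  (nat_lit 18209) (nat_lit 216784) .nil))) (nat_lit 0x5460ac) (nat_lit 4050) (nat_lit 0x69049a) (.node (.node
  (.node (.node .nil (nat_lit 0x546506) (nat_lit 17826) (nat_lit 0x791052) .nil) (nat_lit 0x546b20) (nat_lit
  81540) (nat_lit 0x1443a6) .nil) (nat_lit 0x547320) (nat_lit 49828) (nat_lit 0x3443a2) (.node (.node .nil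
  (nat_lit 0x547448) (nat_lit 1875) (nat_lit 0x60a934) .nil) (nat_lit 0x547920) (nat_lit 59201) (nat_lit
  413392) .nil)) (nat_lit 0x547a20) (nat_lit 31700) (nat_lit 0x2443a6) (.node (.node (.node .nil (nat_lit
  0x547b00) (nat_lit 44436) (nat_lit 0x3441a6) .nil) (nat_lit 0x5482cc) (nat_lit 96132) (nat_lit 583978) .nil)
  (nat_lit 0x54849a) (nat_lit 62433) (nat_lit 572964) (.node (.node .nil (nat_lit 0x5485a4) (nat_lit 68180)
  (nat_lit 0x116b0a) .nil) (nat_lit 0x5489a4) (nat_lit 86595) (nat_lit 0x4922cc) .nil))))) (nat_lit 0x548ca4)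
  (nat_lit 85025) (nat_lit 708130) (.node (.node (.node (.node (.node (.node .nil (nat_lit 0x548d24) (nat_lit
  87220) (nat_lit 0x114b0e) .nil) (nat_lit 0x548d84) (nat_lit 71907) (nat_lit 0x4823cc) .nil) (nat_lit
  0x548da0) (nat_lit 70593) (nat_lit 708144) (.node (.node .nil (nat_lit 0x549382) (nat_lit 25299) (nat_lit
  0x60268e) .nil) (nat_lit 0x549628) (nat_lit 66258) (nat_lit 0x38a28a) .nil)) (nat_lit 0x54a09a) (nat_lit
  77908) (nat_lit 0x42e18a) (.node (.node (.node .nil (nat_lit 0x54a41a) (nat_lit 28916) (nat_lit 0x43c18a)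
  .nil) (nat_lit 0x54a48a) (nat_lit 53332) (nat_lit 0x41e18a) .nil) (nat_lit 0x54a492) (nat_lit 16116)
  (nat_lit 0x43618a) (.node (.node .nil (nat_lit 0x54a498) (nat_lit 41361) (nat_lit 831012) .nil) (nat_lit
  0x54a740) (nat_lit 25906) (nat_lit 0x39b006) .nil))) (nat_lit 0x54c454) (nat_lit 29297) (nat_lit 528046)
  (.node (.node (.node (.node .nil (nat_lit 0x54d0b0) (nat_lit 92241) (nat_lit 577220) .nil) (nat_lit
  0x54dc02) (nat_lit 81012) (nat_lit 0x65410e) .nil) (nat_lit 0x54e8c0) (nat_lit 36578) (nat_lit 0x6b8406)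
  (.node (.node .nil (nat_lit 0x5505c8) (nat_lit 46244) (nat_lit 0x19e502) .nil) (nat_lit 0x550992) (nat_lit
  54547) (nat_lit 0x5c2286) .nil)) (nat_lit 0x5512d0) (nat_lit 61059) (nat_lit 0x742614) (.node (.node (.node
  .nil (nat_lit 0x551486) (nat_lit 865) (nat_lit 40802) .nil) (nat_lit 0x551628) (nat_lit 58756) (nat_lit
  0x21c722) .nil) (nat_lit 0x551834) (nat_lit 3266) (nat_lit 0x2e0392) (.node (.node .nil (nat_lit 0x5520ac)
  (nat_lit 274) (nat_lit 0x29059a) .nil) (nat_lit 0x5522d0) (nat_lit 77666) (nat_lit 0x2d2506) .nil))))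
  (nat_lit 0x5530d0) (nat_lit 65106) (nat_lit 0x2d0706) (.node (.node (.node (.node (.node .nil (nat_lit
  0x55310a) (nat_lit 70513) (nat_lit 278352) .nil) (nat_lit 0x553250) (nat_lit 48722) (nat_lit 0x2d2306) .nil)
  (nat_lit 0x553290) (nat_lit 42914) (nat_lit 0x2d2702) (.node (.node .nil (nat_lit 0x5532c0) (nat_lit 52930)
  (nat_lit 0x292706) .nil) (nat_lit 0x5540ac) (nat_lit 1906) (nat_lit 0x68059a) .nil)) (nat_lit 0x554192)
  (nat_lit 38691) (nat_lit 0x542a86) (.node (.node (.node .nil (nat_lit 0x554454) (nat_lit 21457) (nat_lit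
  4014) .nil) (nat_lit 0x554892) (nat_lit 87650) (nat_lit 0x6e0542) .nil) (nat_lit 0x554912) (nat_lit 63107)
  (nat_lit 0x5c2886) (.node (.node .nil (nat_lit 0x554982) (nat_lit 38964) (nat_lit 0x546506) .nil) (nat_lit
  0x554990) (nat_lit 75764) (nat_lit 0x166506) .nil))) (nat_lit 0x554a48) (nat_lit 47969) (nat_lit 208776)
  (.node (.node (.node (.node .nil (nat_lit 0x55602c) (nat_lit 3890) (nat_lit 0x69019a) .nil) (nat_lit
  0x55608c) (nat_lit 1602) (nat_lit 0x69051a) .nil) (nat_lit 0x5560a4) (nat_lit 5092) (nat_lit 290690) (.node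
  (.node .nil (nat_lit 0x5560a8) (nat_lit 8740) (nat_lit 321410) .nil) (nat_lit 0x558454) (nat_lit 56996)
  (nat_lit 740618) .nil)) (nat_lit 0x558628) (nat_lit 39857) (nat_lit 618272) (.node (.node (.node .nil
  (nat_lit 0x55880e) (nat_lit 42002) (nat_lit 0x2a815a) .nil) (nat_lit 0x559228) (nat_lit 76001) (nat_lit
  618304) .nil) (nat_lit 0x559428) (nat_lit 56226) (nat_lit 0x38838a) (.node (.node .nil (nat_lit 0x559608)
  (nat_lit 69665) (nat_lit 601952) .nil) (nat_lit 0x559620) (nat_lit 59315) (nat_lit 0x71250c) .nil))))))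
  (nat_lit 0x559940) (nat_lit 31955) (nat_lit 0x78209c) (.node (.node (.node (.node (.node (.node (.node .nil
  (nat_lit 0x55a130) (nat_lit 835) (nat_lit 0x5520ac) .nil) (nat_lit 0x55c054) (nat_lit 52449) (nat_lit
  528270) .nil) (nat_lit 0x55c414) (nat_lit 24801) (nat_lit 528294) (.node (.node .nil (nat_lit 0x55c444)
  (nat_lit 30721) (nat_lit 528298) .nil) (nat_lit 0x55c450) (nat_lit 47921) (nat_lit 528300) .nil)) (nat_lit
  0x55e202) (nat_lit 79667) (nat_lit 0x502c2e) (.node (.node (.node .nil (nat_lit 0x5605c8) (nat_lit 49409)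
  (nat_lit 0x10ae38) .nil) (nat_lit 0x560c38) (nat_lit 35555) (nat_lit 0x4de104) .nil) (nat_lit 0x560e44)
  (nat_lit 23458) (nat_lit 0x3a6016) (.node (.node .nil (nat_lit 0x56112c) (nat_lit 2737) (nat_lit 0x106e52)
  .nil) (nat_lit 0x561382) (nat_lit 8178) (nat_lit 0x287642) .nil))) (nat_lit 0x561644) (nat_lit 35539)
  (nat_lit 0x606554) (.node (.node (.node (.node .nil (nat_lit 0x561a44) (nat_lit 26322) (nat_lit 0x2a6216)
  .nil) (nat_lit 0x561c44) (nat_lit 32786) (nat_lit 0x3a4216) .nil) (nat_lit 0x561e04) (nat_lit 19938)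
  (nat_lit 0x3a6212) (.node (.node .nil (nat_lit 0x561e40) (nat_lit 35218) (nat_lit 0x3a6206) .nil) (nat_lit
  0x562506) (nat_lit 50274) (nat_lit 0x395052) .nil)) (nat_lit 0x5634a0) (nat_lit 58514) (nat_lit 0x394682)
  (.node (.node (.node .nil (nat_lit 0x563812) (nat_lit 13521) (nat_lit 0x161e44) .nil) (nat_lit 0x564350)
  (nat_lit 33060) (nat_lit 0x1e4132) .nil) (nat_lit 0x564438) (nat_lit 21571) (nat_lit 0x45e904) (.node (.node
  .nil (nat_lit 0x564506) (nat_lit 73745) (nat_lit 0x101eb2) .nil) (nat_lit 0x564838) (nat_lit 48035) (nat_lit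
  0x4de804) .nil)))) (nat_lit 0x564c18) (nat_lit 61267) (nat_lit 0x4ce904) (.node (.node (.node (.node (.node
  .nil (nat_lit 0x564c28) (nat_lit 66835) (nat_lit 0x49e904) .nil) (nat_lit 0x564c30) (nat_lit 51747) (nat_lit
  0x4d6904) .nil) (nat_lit 0x566106) (nat_lit 54434) (nat_lit 0x695052) (.node (.node .nil (nat_lit 0x566406)
  (nat_lit 29875) (nat_lit 0x406966) .nil) (nat_lit 0x566502) (nat_lit 29539) (nat_lit 0x4069a6) .nil))
  (nat_lit 0x566504) (nat_lit 36131) (nat_lit 0x4069e4) (.node (.node (.node .nil (nat_lit 0x5668c0) (nat_lit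
  88755) (nat_lit 0x486a34) .nil) (nat_lit 0x568382) (nat_lit 8675) (nat_lit 0x40668e) .nil) (nat_lit
  0x56880e) (nat_lit 34562) (nat_lit 0x2ac05a) (.node (.node .nil (nat_lit 0x569058) (nat_lit 20930) (nat_lit
  0x2cc20e) .nil) (nat_lit 0x569182) (nat_lit 10211) (nat_lit 0x60628e) .nil))) (nat_lit 0x569282) (nat_lit
  22147) (nat_lit 0x60660e) (.node (.node (.node (.node .nil (nat_lit 0x569302) (nat_lit 22675) (nat_lit
  0x60648e) .nil) (nat_lit 0x569380) (nat_lit 8212) (nat_lit 0x30613a) .nil) (nat_lit 0x56a130) (nat_lit 3507)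
  (nat_lit 0x4560ac) (.node (.node .nil (nat_lit 0x56a8c0) (nat_lit 74834) (nat_lit 0x2bc406) .nil) (nat_lit
  0x56c224) (nat_lit 19683) (nat_lit 0x416c4c) .nil)) (nat_lit 0x56c8c0) (nat_lit 69907) (nat_lit 0x486a1c)
  (.node (.node (.node .nil (nat_lit 0x56e0c0) (nat_lit 32931) (nat_lit 0x406a3c) .nil) (nat_lit 0x56e840)
  (nat_lit 59329) (nat_lit 0x1e0e88) .nil) (nat_lit 0x56e880) (nat_lit 71987) (nat_lit 0x486a2c) (.node (.node
  .nil (nat_lit 0x5701c8) (nat_lit 18049) (nat_lit 0x10af18) .nil) (nat_lit 0x5704c8) (nat_lit 32132) (nat_lit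
  648466) .nil))))) (nat_lit 0x570548) (nat_lit 53697) (nat_lit 0x102f38) (.node (.node (.node (.node (.node
  (.node .nil (nat_lit 0x570588) (nat_lit 43905) (nat_lit 0x10af30) .nil) (nat_lit 0x5705c0) (nat_lit 16369)
  (nat_lit 0x108f38) .nil) (nat_lit 0x570612) (nat_lit 38947) (nat_lit 0x546506) (.node (.node .nil (nat_lit
  0x57080e) (nat_lit 29602) (nat_lit 0x2a415a) .nil) (nat_lit 0x570aa0) (nat_lit 71171) (nat_lit 0x596604)
  .nil)) (nat_lit 0x572130) (nat_lit 4436) (nat_lit 0x124792) (.node (.node (.node .nil (nat_lit 0x57800e)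
  (nat_lit 74546) (nat_lit 0x28c15a) .nil) (nat_lit 0x578130) (nat_lit 4195) (nat_lit 0x55608c) .nil) (nat_lit
  0x578806) (nat_lit 29922) (nat_lit 0x2ac152) (.node (.node .nil (nat_lit 0x57880a) (nat_lit 73090) (nat_lit
  0x2ac14a) .nil) (nat_lit 0x57880c) (nat_lit 44276) (nat_lit 52510) .nil))) (nat_lit 0x57a030) (nat_lit 6418)
  (nat_lit 0x2dc182) (.node (.node (.node (.node .nil (nat_lit 0x57a110) (nat_lit 9668) (nat_lit 0x12459a)
  .nil) (nat_lit 0x57a120) (nat_lit 1220) (nat_lit 0x10479a) .nil) (nat_lit 0x5803b8) (nat_lit 11601) (nat_lit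
  0x21ec14) (.node (.node .nil (nat_lit 0x5804b6) (nat_lit 59476) (nat_lit 0x432b42) .nil) (nat_lit 0x5806ca)
  (nat_lit 68769) (nat_lit 0x21bc28) .nil)) (nat_lit 0x5808ec) (nat_lit 18643) (nat_lit 0x4ba250) (.node
  (.node (.node .nil (nat_lit 0x580d46) (nat_lit 22465) (nat_lit 0x221c3a) .nil) (nat_lit 0x5812ca) (nat_lit
  54931) (nat_lit 0x62a612) .nil) (nat_lit 0x5814ca) (nat_lit 50851) (nat_lit 0x62a312) (.node (.node .nil
  (nat_lit 0x58164a) (nat_lit 45668) (nat_lit 0x698162) .nil) (nat_lit 0x58168a) (nat_lit 74484) (nat_lit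
  0x61a162) .nil)))) (nat_lit 0x5816c2) (nat_lit 18739) (nat_lit 0x622712) (.node (.node (.node (.node (.node
  .nil (nat_lit 0x5816c8) (nat_lit 18948) (nat_lit 0x29a162) .nil) (nat_lit 0x5819a2) (nat_lit 31748) (nat_lit
  0x702346) .nil) (nat_lit 0x581b0c) (nat_lit 7569) (nat_lit 0x232c52) (.node (.node .nil (nat_lit 0x5821d2)
  (nat_lit 50515) (nat_lit 0x4622b2) .nil) (nat_lit 0x582478) (nat_lit 11315) (nat_lit 0x47a130) .nil))
  (nat_lit 0x582a86) (nat_lit 24642) (nat_lit 0x2b2c50) (.node (.node (.node .nil (nat_lit 0x582d88) (nat_lit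
  87713) (nat_lit 0x26ac30) .nil) (nat_lit 0x58309c) (nat_lit 27939) (nat_lit 0x66a260) .nil) (nat_lit
  0x583232) (nat_lit 37953) (nat_lit 0x255c44) (.node (.node .nil (nat_lit 0x5840b6) (nat_lit 93763) (nat_lit
  0x472a42) .nil) (nat_lit 0x584436) (nat_lit 56610) (nat_lit 0x7c08d0) .nil))) (nat_lit 0x584496) (nat_lit
  74370) (nat_lit 0x7c0c50) (.node (.node (.node (.node .nil (nat_lit 0x5844a6) (nat_lit 59459) (nat_lit
  0x432b42) .nil) (nat_lit 0x5844b2) (nat_lit 33954) (nat_lit 0x7c0cc0) .nil) (nat_lit 0x5844b4) (nat_lit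
  35954) (nat_lit 0x7c0c90) (.node (.node .nil (nat_lit 0x584970) (nat_lit 69171) (nat_lit 0x4f2890) .nil)
  (nat_lit 0x584d88) (nat_lit 97492) (nat_lit 0x15a146) .nil)) (nat_lit 0x5851c4) (nat_lit 64210) (nat_lit
  0x681e14) (.node (.node (.node .nil (nat_lit 0x585a90) (nat_lit 88769) (nat_lit 0x238cc4) .nil) (nat_lit
  0x58604e) (nat_lit 30962) (nat_lit 0x69085c) .nil) (nat_lit 0x5862e0) (nat_lit 24611) (nat_lit 0x432e30)
  (.node (.node .nil (nat_lit 0x586588) (nat_lit 94017) (nat_lit 0x24acb0) .nil) (nat_lit 0x586988) (nat_lit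
  88932) (nat_lit 0x14a1c6) .nil)))))))
def t6160_26 : T := (.node (.node (.node (.node (.node (.node (.node (.node .nil (nat_lit 0x586d08) (nat_lit
  72881) (nat_lit 0x262cb0) .nil) (nat_lit 0x586d80) (nat_lit 96401) (nat_lit 0x268cb0) (.node .nil (nat_lit
  0x587604) (nat_lit 89505) (nat_lit 0x250ce2) .nil)) (nat_lit 0x58852a) (nat_lit 28099) (nat_lit 0x43a18a)
  (.node (.node .nil (nat_lit 0x588970) (nat_lit 72931) (nat_lit 0x4f2098) .nil) (nat_lit 0x588b0c) (nat_lit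
  47809) (nat_lit 0x2b2c12) .nil)) (nat_lit 0x589232) (nat_lit 54180) (nat_lit 0x62036a) (.node (.node (.node
  .nil (nat_lit 0x58930c) (nat_lit 27505) (nat_lit 0x292c52) .nil) (nat_lit 0x589464) (nat_lit 66626) (nat_lit
  0x388a94) .nil) (nat_lit 0x58990c) (nat_lit 30817) (nat_lit 0x2a2c52) (.node (.node .nil (nat_lit 0x589a0c)
  (nat_lit 28433) (nat_lit 0x2b2c42) .nil) (nat_lit 0x589b04) (nat_lit 33537) (nat_lit 0x2b0c52) .nil)))
  (nat_lit 0x589b08) (nat_lit 24625) (nat_lit 0x2b2c50) (.node (.node (.node (.node .nil (nat_lit 0x58a04e)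
  (nat_lit 47572) (nat_lit 0x4889ca) .nil) (nat_lit 0x58a232) (nat_lit 17300) (nat_lit 0x4203ea) .nil)
  (nat_lit 0x58a740) (nat_lit 25538) (nat_lit 0x39b804) (.node (.node .nil (nat_lit 0x58ac14) (nat_lit 91220)
  (nat_lit 199118) .nil) (nat_lit 0x58b032) (nat_lit 44500) (nat_lit 0x6203ca) .nil)) (nat_lit 0x58b212)
  (nat_lit 78164) (nat_lit 0x6201ea) (.node (.node (.node .nil (nat_lit 0x58b222) (nat_lit 79953) (nat_lit
  0x2d5c40) .nil) (nat_lit 0x58b230) (nat_lit 76339) (nat_lit 0x672428) .nil) (nat_lit 0x58c04e) (nat_lit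
  7124) (nat_lit 0x4c894a) (.node (.node .nil (nat_lit 0x58c170) (nat_lit 86369) (nat_lit 0x284c9c) .nil)
  (nat_lit 0x58c618) (nat_lit 64195) (nat_lit 0x46ad08) .nil)))) (nat_lit 0x58c870) (nat_lit 89156) (nat_lit
  918350) (.node (.node (.node (.node (.node .nil (nat_lit 0x58c930) (nat_lit 82353) (nat_lit 0x2a4c94) .nil)
  (nat_lit 0x58c950) (nat_lit 40513) (nat_lit 0x2a0c9c) .nil) (nat_lit 0x58c960) (nat_lit 70500) (nat_lit
  0x1c034e) (.node (.node .nil (nat_lit 0x58dc02) (nat_lit 53924) (nat_lit 0x65014e) .nil) (nat_lit 0x58e00e)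
  (nat_lit 73410) (nat_lit 0x698858) .nil)) (nat_lit 0x58e046) (nat_lit 17508) (nat_lit 0x4c09ca) (.node
  (.node (.node .nil (nat_lit 0x58e04a) (nat_lit 27108) (nat_lit 0x4c81ca) .nil) (nat_lit 0x58e04c) (nat_lit
  20900) (nat_lit 821706) .nil) (nat_lit 0x59022e) (nat_lit 2915) (nat_lit 0x53a442) (.node (.node .nil
  (nat_lit 0x590478) (nat_lit 22420) (nat_lit 755522) .nil) (nat_lit 0x590546) (nat_lit 5873) (nat_lit
  0x201d3a) .nil))) (nat_lit 0x590946) (nat_lit 12065) (nat_lit 0x221d1a) (.node (.node (.node (.node .nil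
  (nat_lit 0x590c46) (nat_lit 3409) (nat_lit 0x221d2a) .nil) (nat_lit 0x590d06) (nat_lit 10785) (nat_lit
  0x221d32) .nil) (nat_lit 0x590d42) (nat_lit 9409) (nat_lit 0x221d38) (.node (.node .nil (nat_lit 0x590d44)
  (nat_lit 25649) (nat_lit 0x220d3a) .nil) (nat_lit 0x591360) (nat_lit 15697) (nat_lit 0x214d58) .nil))
  (nat_lit 0x591834) (nat_lit 24275) (nat_lit 0x7f2040) (.node (.node (.node .nil (nat_lit 0x592078) (nat_lit
  12866) (nat_lit 0x2d098c) .nil) (nat_lit 0x592438) (nat_lit 3220) (nat_lit 231362) .nil) (nat_lit 0x592458)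
  (nat_lit 8531) (nat_lit 0x56a130) (.node (.node .nil (nat_lit 0x592468) (nat_lit 9220) (nat_lit 624578)
  .nil) (nat_lit 0x592470) (nat_lit 10676) (nat_lit 722882) .nil))))) (nat_lit 0x592b10) (nat_lit 68786)
  (nat_lit 0x2f3900) (.node (.node (.node (.node (.node (.node .nil (nat_lit 0x59310a) (nat_lit 97201)
  (nat_lit 0x243d50) .nil) (nat_lit 0x593604) (nat_lit 80595) (nat_lit 0x722560) .nil) (nat_lit 0x59411c)
  (nat_lit 86306) (nat_lit 0x6c1918) (.node (.node .nil (nat_lit 0x594a48) (nat_lit 19809) (nat_lit 0x232d88)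
  .nil) (nat_lit 0x595052) (nat_lit 51729) (nat_lit 0x201dcc) .nil)) (nat_lit 0x595604) (nat_lit 88610)
  (nat_lit 0x782b10) (.node (.node (.node .nil (nat_lit 0x596604) (nat_lit 40483) (nat_lit 0x522d60) .nil)
  (nat_lit 0x596822) (nat_lit 31633) (nat_lit 0x265d80) .nil) (nat_lit 0x597204) (nat_lit 93618) (nat_lit
  0x692b10) (.node (.node .nil (nat_lit 0x597404) (nat_lit 89011) (nat_lit 0x722960) .nil) (nat_lit 0x597600)
  (nat_lit 94931) (nat_lit 0x722d20) .nil))) (nat_lit 0x5a00ec) (nat_lit 54963) (nat_lit 0x43e250) (.node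
  (.node (.node (.node .nil (nat_lit 0x5a01d2) (nat_lit 65458) (nat_lit 0x2c5c44) .nil) (nat_lit 0x5a052a)
  (nat_lit 43427) (nat_lit 0x43e182) .nil) (nat_lit 0x5a0784) (nat_lit 85683) (nat_lit 0x4267c0) (.node (.node
  .nil (nat_lit 0x5a086c) (nat_lit 54867) (nat_lit 0x4be050) .nil) (nat_lit 0x5a08ac) (nat_lit 19075) (nat_lit
  0x4be240) .nil)) (nat_lit 0x5a08cc) (nat_lit 74515) (nat_lit 0x4ae250) (.node (.node (.node .nil (nat_lit
  0x5a08e4) (nat_lit 78659) (nat_lit 0x4b6250) .nil) (nat_lit 0x5a08e8) (nat_lit 34467) (nat_lit 0x4be210)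
  .nil) (nat_lit 0x5a1360) (nat_lit 49121) (nat_lit 0x314c58) (.node (.node .nil (nat_lit 0x5a1a90) (nat_lit
  87315) (nat_lit 0x6e6600) .nil) (nat_lit 0x5a20d2) (nat_lit 18243) (nat_lit 0x466232) .nil)))) (nat_lit
  0x5a2152) (nat_lit 41731) (nat_lit 0x4660b2) (.node (.node (.node (.node (.node .nil (nat_lit 0x5a2192)
  (nat_lit 72529) (nat_lit 0x349c14) .nil) (nat_lit 0x5a21c2) (nat_lit 80420) (nat_lit 0x5821d2) .nil)
  (nat_lit 0x5a21d0) (nat_lit 58979) (nat_lit 0x4662b0) (.node (.node .nil (nat_lit 0x5a2c14) (nat_lit 31761)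
  (nat_lit 0x360c26) .nil) (nat_lit 0x5a34a0) (nat_lit 94915) (nat_lit 0x636320) .nil)) (nat_lit 0x5a411c)
  (nat_lit 94756) (nat_lit 0x168952) (.node (.node (.node .nil (nat_lit 0x5a4a90) (nat_lit 65729) (nat_lit
  0x338c84) .nil) (nat_lit 0x5a5290) (nat_lit 84705) (nat_lit 0x318cc4) .nil) (nat_lit 0x5a5890) (nat_lit
  93889) (nat_lit 0x328cc4) (.node (.node .nil (nat_lit 0x5a5a10) (nat_lit 96849) (nat_lit 0x330cc4) .nil)
  (nat_lit 0x5a5a80) (nat_lit 63457) (nat_lit 0x338cc0) .nil))) (nat_lit 0x5a6822) (nat_lit 75809) (nat_lit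
  0x365c80) (.node (.node (.node (.node .nil (nat_lit 0x5a812a) (nat_lit 33251) (nat_lit 0x43e08a) .nil)
  (nat_lit 0x5a842a) (nat_lit 67139) (nat_lit 0x43e10a) .nil) (nat_lit 0x5a850a) (nat_lit 77891) (nat_lit
  0x42e18a) (.node (.node .nil (nat_lit 0x5a8522) (nat_lit 16099) (nat_lit 0x43618a) .nil) (nat_lit 0x5a8528)
  (nat_lit 15027) (nat_lit 0x43e188) .nil)) (nat_lit 0x5a8a42) (nat_lit 89923) (nat_lit 0x4a641a) (.node
  (.node (.node .nil (nat_lit 0x5a8c14) (nat_lit 79217) (nat_lit 0x3a0c26) .nil) (nat_lit 0x5a9058) (nat_lit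
  42020) (nat_lit 0x2a815a) .nil) (nat_lit 0x5aa414) (nat_lit 86132) (nat_lit 199130) (.node (.node .nil
  (nat_lit 0x5aa814) (nat_lit 69617) (nat_lit 0x3e0c06) .nil) (nat_lit 0x5aac04) (nat_lit 93299) (nat_lit
  0x4a6168) .nil)))))) (nat_lit 0x5aac10) (nat_lit 91939) (nat_lit 0x4e6128) (.node (.node (.node (.node
  (.node (.node (.node .nil (nat_lit 0x5ac224) (nat_lit 64451) (nat_lit 0x436c48) .nil) (nat_lit 0x5af100)
  (nat_lit 60545) (nat_lit 0x3c0cd0) .nil) (nat_lit 0x5b011c) (nat_lit 59425) (nat_lit 0x302d16) (.node (.node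
  .nil (nat_lit 0x5b0360) (nat_lit 28497) (nat_lit 0x314d18) .nil) (nat_lit 0x5b0612) (nat_lit 57427) (nat_lit
  0x566502) .nil)) (nat_lit 0x5b1160) (nat_lit 58660) (nat_lit 0x380752) (.node (.node (.node .nil (nat_lit
  0x5b1260) (nat_lit 55777) (nat_lit 0x314d48) .nil) (nat_lit 0x5b1320) (nat_lit 67153) (nat_lit 0x314d50)
  .nil) (nat_lit 0x5b1340) (nat_lit 43745) (nat_lit 0x310d58) (.node (.node .nil (nat_lit 0x5b1c08) (nat_lit
  65859) (nat_lit 0x7ae100) .nil) (nat_lit 0x5b2822) (nat_lit 69491) (nat_lit 0x5b6022) .nil))) (nat_lit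
  0x5b401c) (nat_lit 66868) (nat_lit 429394) (.node (.node (.node (.node .nil (nat_lit 0x5b410c) (nat_lit
  75938) (nat_lit 0x685918) .nil) (nat_lit 0x5b4114) (nat_lit 88849) (nat_lit 0x300d96) .nil) (nat_lit
  0x5b4118) (nat_lit 68433) (nat_lit 0x302d94) (.node (.node .nil (nat_lit 0x5b4822) (nat_lit 66212) (nat_lit
  0x440756) .nil) (nat_lit 0x5b6022) (nat_lit 39025) (nat_lit 0x345d80) .nil)) (nat_lit 0x5b6802) (nat_lit
  73809) (nat_lit 0x361d80) (.node (.node (.node .nil (nat_lit 0x5b6820) (nat_lit 63940) (nat_lit 264150)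
  .nil) (nat_lit 0x5c01b8) (nat_lit 15377) (nat_lit 0x20ee14) .nil) (nat_lit 0x5c02b8) (nat_lit 8913) (nat_lit
  0x21ee04) (.node (.node .nil (nat_lit 0x5c0338) (nat_lit 10369) (nat_lit 0x216e14) .nil) (nat_lit 0x5c0398)
  (nat_lit 12897) (nat_lit 0x21ae14) .nil)))) (nat_lit 0x5c03a8) (nat_lit 2881) (nat_lit 0x21ee10) (.node
  (.node (.node (.node (.node .nil (nat_lit 0x5c03b0) (nat_lit 19873) (nat_lit 0x21ce14) .nil) (nat_lit
  0x5c0a86) (nat_lit 29892) (nat_lit 0x406966) .nil) (nat_lit 0x5c0cd0) (nat_lit 28129) (nat_lit 0x228e2c)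
  (.node (.node .nil (nat_lit 0x5c11c4) (nat_lit 54595) (nat_lit 0x6222d4) .nil) (nat_lit 0x5c1834) (nat_lit
  27203) (nat_lit 0x6f2044) .nil)) (nat_lit 0x5c2286) (nat_lit 27522) (nat_lit 0x292c52) (.node (.node (.node
  .nil (nat_lit 0x5c2740) (nat_lit 22306) (nat_lit 0x393806) .nil) (nat_lit 0x5c2886) (nat_lit 33554) (nat_lit
  0x2b0c52) .nil) (nat_lit 0x5c2a06) (nat_lit 67074) (nat_lit 0x2b2852) (.node (.node .nil (nat_lit 0x5c2a82)
  (nat_lit 28450) (nat_lit 0x2b2c42) .nil) (nat_lit 0x5c2a84) (nat_lit 47826) (nat_lit 0x2b2c12) .nil)))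
  (nat_lit 0x5c310a) (nat_lit 67587) (nat_lit 0x62a0a6) (.node (.node (.node (.node .nil (nat_lit 0x5c34a0)
  (nat_lit 70866) (nat_lit 0x390e82) .nil) (nat_lit 0x5c41c4) (nat_lit 58868) (nat_lit 0x1c6942) .nil)
  (nat_lit 0x5c4a48) (nat_lit 7809) (nat_lit 0x232e88) (.node (.node .nil (nat_lit 0x5c50c4) (nat_lit 59123)
  (nat_lit 0x622a54) .nil) (nat_lit 0x5c5144) (nat_lit 45171) (nat_lit 0x6228d4) .nil)) (nat_lit 0x5c5184)
  (nat_lit 78403) (nat_lit 0x622ac4) (.node (.node (.node .nil (nat_lit 0x5c51c0) (nat_lit 50435) (nat_lit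
  0x622a94) .nil) (nat_lit 0x5c5c02) (nat_lit 44180) (nat_lit 0x654146) .nil) (nat_lit 0x5c8116) (nat_lit
  78036) (nat_lit 0x52494a) (.node (.node .nil (nat_lit 0x5c8740) (nat_lit 11762) (nat_lit 0x38b806) .nil)
  (nat_lit 0x5c9058) (nat_lit 73108) (nat_lit 0x2ac14a) .nil))))) (nat_lit 0x5c9c02) (nat_lit 78116) (nat_lit
  0x61414e) (.node (.node (.node (.node (.node (.node .nil (nat_lit 0x5ca340) (nat_lit 32386) (nat_lit
  0x29b806) .nil) (nat_lit 0x5ca540) (nat_lit 3074) (nat_lit 0x399806) .nil) (nat_lit 0x5ca640) (nat_lit 9074)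
  (nat_lit 0x39a806) (.node (.node .nil (nat_lit 0x5ca700) (nat_lit 10530) (nat_lit 0x39b802) .nil) (nat_lit
  0x5ca828) (nat_lit 92819) (nat_lit 0x4ba02c) .nil)) (nat_lit 0x5cc224) (nat_lit 55299) (nat_lit 0x432c4c)
  (.node (.node (.node .nil (nat_lit 0x5ccc02) (nat_lit 55908) (nat_lit 0x45414e) .nil) (nat_lit 0x5cd402)
  (nat_lit 33348) (nat_lit 0x65414a) .nil) (nat_lit 0x5cd802) (nat_lit 16884) (nat_lit 0x64414e) (.node (.node
  .nil (nat_lit 0x5cdc00) (nat_lit 67268) (nat_lit 0x25414e) .nil) (nat_lit 0x5d0612) (nat_lit 66530) (nat_lit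
  0x3c2942) .nil))) (nat_lit 0x5d0834) (nat_lit 18785) (nat_lit 0x224f06) (.node (.node (.node (.node .nil
  (nat_lit 0x5d0a48) (nat_lit 24849) (nat_lit 0x232f08) .nil) (nat_lit 0x5d1034) (nat_lit 7203) (nat_lit
  0x772044) .nil) (nat_lit 0x5d110a) (nat_lit 86627) (nat_lit 0x72a086) (.node (.node .nil (nat_lit 0x5d1814)
  (nat_lit 10722) (nat_lit 0x2e0b12) .nil) (nat_lit 0x5d1824) (nat_lit 11922) (nat_lit 0x2a0b92) .nil))
  (nat_lit 0x5d1830) (nat_lit 23154) (nat_lit 0x2e0b82) (.node (.node (.node .nil (nat_lit 0x5d210a) (nat_lit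
  95185) (nat_lit 0x243f10) .nil) (nat_lit 0x5d300a) (nat_lit 87009) (nat_lit 0x243f40) .nil) (nat_lit
  0x5d3102) (nat_lit 90324) (nat_lit 0x7045c2) (.node (.node .nil (nat_lit 0x5d3108) (nat_lit 94500) (nat_lit
  0x30c5c2) .nil) (nat_lit 0x5d4248) (nat_lit 26209) (nat_lit 0x212f88) .nil)))) (nat_lit 0x5d4520) (nat_lit
  80323) (nat_lit 0x532984) (.node (.node (.node (.node (.node .nil (nat_lit 0x5d4848) (nat_lit 34785)
  (nat_lit 0x222f88) .nil) (nat_lit 0x5d4a08) (nat_lit 23345) (nat_lit 0x232f80) .nil) (nat_lit 0x5d4a40)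
  (nat_lit 21505) (nat_lit 0x230f88) (.node (.node .nil (nat_lit 0x5e0612) (nat_lit 70610) (nat_lit 0x3c6842)
  .nil) (nat_lit 0x5e1058) (nat_lit 29940) (nat_lit 0x2ac152) .nil)) (nat_lit 0x5e14a0) (nat_lit 87282)
  (nat_lit 0x384e82) (.node (.node (.node .nil (nat_lit 0x5e24a0) (nat_lit 69763) (nat_lit 0x436324) .nil)
  (nat_lit 0x5e30a0) (nat_lit 68483) (nat_lit 0x636224) .nil) (nat_lit 0x5e3420) (nat_lit 94098) (nat_lit
  0x394a82) (.node (.node .nil (nat_lit 0x5e3480) (nat_lit 88257) (nat_lit 0x348e60) .nil) (nat_lit 0x5e408a)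
  (nat_lit 58209) (nat_lit 0x30be80) .nil))) (nat_lit 0x5e4224) (nat_lit 32019) (nat_lit 0x436c44) (.node
  (.node (.node (.node .nil (nat_lit 0x5e8058) (nat_lit 7154) (nat_lit 0x2cc80e) .nil) (nat_lit 0x5e8224)
  (nat_lit 77459) (nat_lit 0x43644c) .nil) (nat_lit 0x5e9018) (nat_lit 39825) (nat_lit 0x382e44) (.node (.node
  .nil (nat_lit 0x5e9048) (nat_lit 51474) (nat_lit 0x28ca0e) .nil) (nat_lit 0x5e9050) (nat_lit 29620) (nat_lit
  0x2a415a) .nil)) (nat_lit 0x5ec024) (nat_lit 74003) (nat_lit 0x43684c) (.node (.node (.node .nil (nat_lit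
  0x5ec204) (nat_lit 51027) (nat_lit 0x426c4c) .nil) (nat_lit 0x5ec220) (nat_lit 78803) (nat_lit 0x436c0c)
  .nil) (nat_lit 0x5f0212) (nat_lit 57779) (nat_lit 0x566406) (.node (.node .nil (nat_lit 0x5f0412) (nat_lit
  83267) (nat_lit 0x566106) .nil) (nat_lit 0x5f0602) (nat_lit 90515) (nat_lit 0x526506) .nil)))))))
def t6160_27 : T := (.node (.node (.node (.node (.node (.node (.node (.node .nil (nat_lit 0x5f2044) (nat_lit
  21700) (nat_lit 544210) .nil) (nat_lit 0x6003ea) (nat_lit 77555) (nat_lit 0x419692) .nil) (nat_lit 0x6008be)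
  (nat_lit 57860) (nat_lit 0x42ba06) (.node (.node .nil (nat_lit 0x600dcc) (nat_lit 22996) (nat_lit 0x19b806)
  .nil) (nat_lit 0x600fb0) (nat_lit 87124) (nat_lit 0x133226) .nil)) (nat_lit 0x6014f2) (nat_lit 23587)
  (nat_lit 0x651312) (.node (.node (.node .nil (nat_lit 0x6015cc) (nat_lit 10564) (nat_lit 0x39b802) .nil)
  (nat_lit 0x6019cc) (nat_lit 11796) (nat_lit 0x38b806) .nil) (nat_lit 0x601a78) (nat_lit 73969) (nat_lit
  0x43684c) (.node (.node .nil (nat_lit 0x601ccc) (nat_lit 32420) (nat_lit 0x29b806) .nil) (nat_lit 0x601d4c)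
  (nat_lit 3108) (nat_lit 0x399806) .nil))) (nat_lit 0x601d8c) (nat_lit 47028) (nat_lit 0x31b806) (.node
  (.node (.node (.node .nil (nat_lit 0x601dc4) (nat_lit 22340) (nat_lit 0x393806) .nil) (nat_lit 0x601dc8)
  (nat_lit 25940) (nat_lit 0x39b006) .nil) (nat_lit 0x601e16) (nat_lit 45698) (nat_lit 0x1e2270) (.node (.node
  .nil (nat_lit 0x6024f2) (nat_lit 54081) (nat_lit 0x44d82c) .nil) (nat_lit 0x60268e) (nat_lit 10883) (nat_lit
  0x409762) .nil)) (nat_lit 0x602ad4) (nat_lit 7650) (nat_lit 992308) (.node (.node (.node .nil (nat_lit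
  0x6030f2) (nat_lit 17105) (nat_lit 0x44d84c) .nil) (nat_lit 0x603346) (nat_lit 48803) (nat_lit 0x6014f2)
  .nil) (nat_lit 0x603472) (nat_lit 26467) (nat_lit 0x651132) (.node (.node .nil (nat_lit 0x6034b2) (nat_lit
  17425) (nat_lit 0x44d864) .nil) (nat_lit 0x6034d2) (nat_lit 47123) (nat_lit 0x641332) .nil)))) (nat_lit
  0x6034e2) (nat_lit 35283) (nat_lit 0x611332) (.node (.node (.node (.node (.node .nil (nat_lit 0x6034f0)
  (nat_lit 20083) (nat_lit 0x651330) .nil) (nat_lit 0x603728) (nat_lit 30371) (nat_lit 0x6195a0) .nil)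
  (nat_lit 0x603934) (nat_lit 193) (nat_lit 0x464856) (.node (.node .nil (nat_lit 0x604276) (nat_lit 54018)
  (nat_lit 0x4c20f4) .nil) (nat_lit 0x60468e) (nat_lit 4803) (nat_lit 0x409f42) .nil)) (nat_lit 0x6047b0)
  (nat_lit 80481) (nat_lit 0x41c8b4) (.node (.node (.node .nil (nat_lit 0x604bb0) (nat_lit 40193) (nat_lit
  0x43c894) .nil) (nat_lit 0x604c6a) (nat_lit 65443) (nat_lit 0x499912) .nil) (nat_lit 0x604db0) (nat_lit
  87251) (nat_lit 0x4d1b80) (.node (.node .nil (nat_lit 0x604eb0) (nat_lit 73137) (nat_lit 0x43c8a4) .nil)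
  (nat_lit 0x604f30) (nat_lit 37747) (nat_lit 0x4d1d80) .nil))) (nat_lit 0x604f90) (nat_lit 81713) (nat_lit
  0x4388b4) (.node (.node (.node (.node .nil (nat_lit 0x604fa0) (nat_lit 75171) (nat_lit 0x491f80) .nil)
  (nat_lit 0x605196) (nat_lit 7009) (nat_lit 0x4098d6) .nil) (nat_lit 0x60543c) (nat_lit 20738) (nat_lit
  0x5c02b8) (.node (.node .nil (nat_lit 0x605ac2) (nat_lit 78210) (nat_lit 0x4a2664) .nil) (nat_lit 0x60613a)
  (nat_lit 26130) (nat_lit 0x4d10e8) .nil)) (nat_lit 0x60628e) (nat_lit 4243) (nat_lit 0x409e62) (.node (.node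
  (.node .nil (nat_lit 0x60648e) (nat_lit 9763) (nat_lit 0x409b62) .nil) (nat_lit 0x606554) (nat_lit 15859)
  (nat_lit 0x4419f0) .nil) (nat_lit 0x60660e) (nat_lit 9539) (nat_lit 0x409d62) (.node (.node .nil (nat_lit
  0x606686) (nat_lit 15172) (nat_lit 0x4538a2) .nil) (nat_lit 0x60668a) (nat_lit 6097) (nat_lit 0x45b8a0)
  .nil))))) (nat_lit 0x60668c) (nat_lit 6516) (nat_lit 374946) (.node (.node (.node (.node (.node (.node .nil
  (nat_lit 0x606b48) (nat_lit 55140) (nat_lit 0x1c90a6) .nil) (nat_lit 0x6078a8) (nat_lit 95218) (nat_lit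
  0x4b06a8) .nil) (nat_lit 0x607d02) (nat_lit 11380) (nat_lit 0x751086) (.node (.node .nil (nat_lit 0x608276)
  (nat_lit 44306) (nat_lit 827636) .nil) (nat_lit 0x608578) (nat_lit 64626) (nat_lit 0x1c90ac) .nil)) (nat_lit
  0x608b86) (nat_lit 32641) (nat_lit 0x4b9812) (.node (.node (.node .nil (nat_lit 0x608e2c) (nat_lit 26691)
  (nat_lit 0x499548) .nil) (nat_lit 0x6093d0) (nat_lit 4388) (nat_lit 0x3a302a) .nil) (nat_lit 0x609934)
  (nat_lit 1521) (nat_lit 0x4a4856) (.node (.node .nil (nat_lit 0x60a2b8) (nat_lit 47426) (nat_lit 894120)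
  .nil) (nat_lit 0x60a712) (nat_lit 21601) (nat_lit 0x4d1834) .nil))) (nat_lit 0x60a934) (nat_lit 657)
  (nat_lit 0x4e4816) (.node (.node (.node (.node .nil (nat_lit 0x60ab48) (nat_lit 74100) (nat_lit 0x1890ae)
  .nil) (nat_lit 0x60ac46) (nat_lit 38146) (nat_lit 0x1b8074) .nil) (nat_lit 0x60b134) (nat_lit 17) (nat_lit
  0x4c4856) (.node (.node .nil (nat_lit 0x60b834) (nat_lit 241) (nat_lit 0x4e4846) .nil) (nat_lit 0x60b914)
  (nat_lit 513) (nat_lit 0x4e0856) .nil)) (nat_lit 0x60b924) (nat_lit 545) (nat_lit 0x4e4852) (.node (.node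
  (.node .nil (nat_lit 0x60b930) (nat_lit 1841) (nat_lit 0x4e4854) .nil) (nat_lit 0x60be80) (nat_lit 35619)
  (nat_lit 0x681728) .nil) (nat_lit 0x60c076) (nat_lit 81026) (nat_lit 0x4c80f4) (.node (.node .nil (nat_lit
  0x60c1ac) (nat_lit 69027) (nat_lit 0x419ac8) .nil) (nat_lit 0x60c236) (nat_lit 72817) (nat_lit 0x495886)
  .nil)))) (nat_lit 0x60c256) (nat_lit 68658) (nat_lit 0x4ca074) (.node (.node (.node (.node (.node .nil
  (nat_lit 0x60c266) (nat_lit 17042) (nat_lit 0x48a0f4) .nil) (nat_lit 0x60c272) (nat_lit 77122) (nat_lit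
  0x4ca0e4) .nil) (nat_lit 0x60c274) (nat_lit 81474) (nat_lit 0x4ca0b4) (.node (.node .nil (nat_lit 0x60c5c2)
  (nat_lit 90403) (nat_lit 0x401b9a) .nil) (nat_lit 0x60cb48) (nat_lit 19140) (nat_lit 0x1c902e) .nil))
  (nat_lit 0x60d704) (nat_lit 52276) (nat_lit 0x35182a) (.node (.node (.node .nil (nat_lit 0x60dc50) (nat_lit
  61793) (nat_lit 0x4a08ec) .nil) (nat_lit 0x60e348) (nat_lit 45908) (nat_lit 0x1c90aa) .nil) (nat_lit
  0x60e892) (nat_lit 66707) (nat_lit 0x4c1a2a) (.node (.node .nil (nat_lit 0x60e948) (nat_lit 55028) (nat_lit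
  0x1c908e) .nil) (nat_lit 0x60ea48) (nat_lit 77380) (nat_lit 823470) .nil))) (nat_lit 0x60eb08) (nat_lit
  45828) (nat_lit 0x1490ae) (.node (.node (.node (.node .nil (nat_lit 0x60eb40) (nat_lit 32276) (nat_lit
  0x1c10ae) .nil) (nat_lit 0x60f0c4) (nat_lit 24145) (nat_lit 0x4c88ca) .nil) (nat_lit 0x6101f4) (nat_lit
  49649) (nat_lit 0x40c91e) (.node (.node .nil (nat_lit 0x61059a) (nat_lit 1777) (nat_lit 0x40b934) .nil)
  (nat_lit 0x610b86) (nat_lit 18290) (nat_lit 669040) .nil)) (nat_lit 0x611332) (nat_lit 15667) (nat_lit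
  0x751482) (.node (.node (.node .nil (nat_lit 0x61143c) (nat_lit 13218) (nat_lit 0x1c03b8) .nil) (nat_lit
  0x611866) (nat_lit 17843) (nat_lit 0x791052) .nil) (nat_lit 0x6122b8) (nat_lit 20626) (nat_lit 861608)
  (.node (.node .nil (nat_lit 0x6128ca) (nat_lit 19186) (nat_lit 722284) .nil) (nat_lit 0x612ca4) (nat_lit
  35299) (nat_lit 0x591360) .nil)))))) (nat_lit 0x613158) (nat_lit 94450) (nat_lit 856876) (.node (.node
  (.node (.node (.node (.node (.node .nil (nat_lit 0x613a0c) (nat_lit 82114) (nat_lit 729912) .nil) (nat_lit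
  0x613d02) (nat_lit 22116) (nat_lit 0x711486) .nil) (nat_lit 0x61414e) (nat_lit 47491) (nat_lit 0x5098d2)
  (.node (.node .nil (nat_lit 0x61443c) (nat_lit 29505) (nat_lit 0x4069a6) .nil) (nat_lit 0x614a1a) (nat_lit
  83281) (nat_lit 0x433984) .nil)) (nat_lit 0x61503c) (nat_lit 42035) (nat_lit 0x759840) (.node (.node (.node
  .nil (nat_lit 0x615388) (nat_lit 33748) (nat_lit 0x34b422) .nil) (nat_lit 0x61541c) (nat_lit 24034) (nat_lit
  0x5c0338) .nil) (nat_lit 0x61542c) (nat_lit 26946) (nat_lit 0x5803b8) (.node (.node .nil (nat_lit 0x615434)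
  (nat_lit 42530) (nat_lit 0x5c03b0) .nil) (nat_lit 0x615438) (nat_lit 6914) (nat_lit 0x5c03a8) .nil)))
  (nat_lit 0x615d02) (nat_lit 34244) (nat_lit 0x751406) (.node (.node (.node (.node .nil (nat_lit 0x616324)
  (nat_lit 82084) (nat_lit 0x141ea2) .nil) (nat_lit 0x616870) (nat_lit 6644) (nat_lit 923270) .nil) (nat_lit
  0x616d02) (nat_lit 2404) (nat_lit 0x551486) (.node (.node .nil (nat_lit 0x6170c4) (nat_lit 66370) (nat_lit
  0x490734) .nil) (nat_lit 0x617502) (nat_lit 15684) (nat_lit 0x751482) .nil)) (nat_lit 0x617902) (nat_lit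
  10164) (nat_lit 0x741486) (.node (.node (.node .nil (nat_lit 0x617c02) (nat_lit 22644) (nat_lit 0x651486)
  .nil) (nat_lit 0x617d00) (nat_lit 25268) (nat_lit 0x351486) .nil) (nat_lit 0x6182b8) (nat_lit 36212)
  (nat_lit 177706) (.node (.node .nil (nat_lit 0x618386) (nat_lit 48850) (nat_lit 570736) .nil) (nat_lit
  0x61885c) (nat_lit 22212) (nat_lit 695310) .nil)))) (nat_lit 0x618986) (nat_lit 35764) (nat_lit 0x503c0e)
  (.node (.node (.node (.node (.node .nil (nat_lit 0x618a86) (nat_lit 76356) (nat_lit 0x403c2e) .nil) (nat_lit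
  0x618b06) (nat_lit 56468) (nat_lit 0x501c2e) .nil) (nat_lit 0x618b82) (nat_lit 65010) (nat_lit 701792)
  (.node (.node .nil (nat_lit 0x618b84) (nat_lit 40820) (nat_lit 0x103c2e) .nil) (nat_lit 0x618c32) (nat_lit
  92276) (nat_lit 0x43160e) .nil)) (nat_lit 0x6195a0) (nat_lit 13170) (nat_lit 0x1897a0) (.node (.node (.node
  .nil (nat_lit 0x61a0b8) (nat_lit 32898) (nat_lit 886184) .nil) (nat_lit 0x61a162) (nat_lit 43539) (nat_lit
  0x5110ba) .nil) (nat_lit 0x61a238) (nat_lit 51314) (nat_lit 893352) (.node (.node .nil (nat_lit 0x61a298)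
  (nat_lit 23954) (nat_lit 894248) .nil) (nat_lit 0x61a2a8) (nat_lit 52002) (nat_lit 632232) .nil))) (nat_lit
  0x61a2b0) (nat_lit 26882) (nat_lit 894368) (.node (.node (.node (.node .nil (nat_lit 0x61a50c) (nat_lit
  40180) (nat_lit 0x119c8a) .nil) (nat_lit 0x61b0c4) (nat_lit 7073) (nat_lit 0x4c894a) .nil) (nat_lit
  0x61cc88) (nat_lit 33874) (nat_lit 0x5a8528) (.node (.node .nil (nat_lit 0x61d0c4) (nat_lit 47521) (nat_lit
  0x4889ca) .nil) (nat_lit 0x61da20) (nat_lit 97377) (nat_lit 0x4b49c0) .nil)) (nat_lit 0x61e0c4) (nat_lit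
  35459) (nat_lit 0x501a78) (.node (.node (.node .nil (nat_lit 0x61f044) (nat_lit 17457) (nat_lit 0x4c09ca)
  .nil) (nat_lit 0x61f084) (nat_lit 31892) (nat_lit 0x243c8a) .nil) (nat_lit 0x61f0c0) (nat_lit 44641)
  (nat_lit 0x4c89c8) (.node (.node .nil (nat_lit 0x6201ea) (nat_lit 47651) (nat_lit 0x41d292) .nil) (nat_lit
  0x6202ea) (nat_lit 61315) (nat_lit 0x41d612) .nil))))) (nat_lit 0x62036a) (nat_lit 27283) (nat_lit 0x41d492)
  (.node (.node (.node (.node (.node (.node .nil (nat_lit 0x6203aa) (nat_lit 51587) (nat_lit 0x41d682) .nil)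
  (nat_lit 0x6203ca) (nat_lit 21043) (nat_lit 0x40d692) .nil) (nat_lit 0x6203e2) (nat_lit 46515) (nat_lit
  0x415692) (.node (.node .nil (nat_lit 0x6203e8) (nat_lit 24371) (nat_lit 0x41d690) .nil) (nat_lit 0x62045e)
  (nat_lit 5954) (nat_lit 0x1c407c) .nil)) (nat_lit 0x620ad4) (nat_lit 67106) (nat_lit 943156) (.node (.node
  (.node .nil (nat_lit 0x620e2c) (nat_lit 20339) (nat_lit 0x49d540) .nil) (nat_lit 0x621196) (nat_lit 38643)
  (nat_lit 0x6452c2) .nil) (nat_lit 0x621698) (nat_lit 57569) (nat_lit 0x51a864) (.node (.node .nil (nat_lit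
  0x621866) (nat_lit 54451) (nat_lit 0x695052) .nil) (nat_lit 0x6222d4) (nat_lit 27570) (nat_lit 877620)
  .nil))) (nat_lit 0x622712) (nat_lit 7921) (nat_lit 0x551834) (.node (.node (.node (.node .nil (nat_lit
  0x6228d4) (nat_lit 21378) (nat_lit 0xf4434) .nil) (nat_lit 0x62290e) (nat_lit 14772) (nat_lit 0x509896)
  .nil) (nat_lit 0x622a54) (nat_lit 30882) (nat_lit 0xf6034) (.node (.node .nil (nat_lit 0x622a94) (nat_lit
  24690) (nat_lit 0xf6430) .nil) (nat_lit 0x622ac4) (nat_lit 47874) (nat_lit 746548) .nil)) (nat_lit 0x622ad0)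
  (nat_lit 46626) (nat_lit 0xf6424) (.node (.node (.node .nil (nat_lit 0x622d60) (nat_lit 78593) (nat_lit
  0x564838) .nil) (nat_lit 0x623158) (nat_lit 87171) (nat_lit 0x64d0b0) .nil) (nat_lit 0x6238a8) (nat_lit
  58242) (nat_lit 738984) (.node (.node .nil (nat_lit 0x624196) (nat_lit 14737) (nat_lit 0x509896) .nil)
  (nat_lit 0x6244e4) (nat_lit 65906) (nat_lit 0x5844b4) .nil)))) (nat_lit 0x624a1a) (nat_lit 86292) (nat_lit
  0x469036) (.node (.node (.node (.node (.node .nil (nat_lit 0x625096) (nat_lit 51393) (nat_lit 0x5098c6)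
  .nil) (nat_lit 0x625116) (nat_lit 20785) (nat_lit 0x5018d6) .nil) (nat_lit 0x625186) (nat_lit 47457)
  (nat_lit 0x5098d2) (.node (.node .nil (nat_lit 0x625192) (nat_lit 24081) (nat_lit 0x5098d4) .nil) (nat_lit
  0x625194) (nat_lit 28305) (nat_lit 0x5088d6) .nil)) (nat_lit 0x62524c) (nat_lit 68353) (nat_lit 0x5128ca)
  (.node (.node (.node .nil (nat_lit 0x625622) (nat_lit 50338) (nat_lit 0x5862e0) .nil) (nat_lit 0x6258a8)
  (nat_lit 85089) (nat_lit 0x52e8c0) .nil) (nat_lit 0x625c50) (nat_lit 57505) (nat_lit 0x5208ec) (.node (.node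
  .nil (nat_lit 0x626324) (nat_lit 62818) (nat_lit 0x4970b0) .nil) (nat_lit 0x6268a8) (nat_lit 93553) (nat_lit
  0x56e880) .nil))) (nat_lit 0x6270a8) (nat_lit 66657) (nat_lit 0x54e8c0) (.node (.node (.node (.node .nil
  (nat_lit 0x627828) (nat_lit 70738) (nat_lit 0x4b42a8) .nil) (nat_lit 0x627888) (nat_lit 61556) (nat_lit
  0x24b096) .nil) (nat_lit 0x6278a0) (nat_lit 92785) (nat_lit 0x56c8c0) (.node (.node .nil (nat_lit 0x62862c)
  (nat_lit 26851) (nat_lit 0x41d548) .nil) (nat_lit 0x628712) (nat_lit 15252) (nat_lit 0x53103a) .nil))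
  (nat_lit 0x628998) (nat_lit 39090) (nat_lit 971816) (.node (.node (.node .nil (nat_lit 0x628a2c) (nat_lit
  47379) (nat_lit 0x49d448) .nil) (nat_lit 0x628c2c) (nat_lit 51955) (nat_lit 0x49d148) .nil) (nat_lit
  0x628e0c) (nat_lit 12499) (nat_lit 0x48d548) (.node (.node .nil (nat_lit 0x628e24) (nat_lit 6739) (nat_lit
  0x495548) .nil) (nat_lit 0x628e28) (nat_lit 6243) (nat_lit 0x49d508) .nil)))))))
def t6160_28 : T := (.node (.node (.node (.node (.node (.node (.node (.node .nil (nat_lit 0x629c50) (nat_lit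
  39523) (nat_lit 0x6c5118) .nil) (nat_lit 0x62a0a6) (nat_lit 37345) (nat_lit 0x5cd802) (.node .nil (nat_lit
  0x62a312) (nat_lit 24945) (nat_lit 0x5d1814) .nil)) (nat_lit 0x62a4c8) (nat_lit 96947) (nat_lit 0x40d338)
  (.node (.node .nil (nat_lit 0x62a512) (nat_lit 21764) (nat_lit 0x53109a) .nil) (nat_lit 0x62a612) (nat_lit
  27729) (nat_lit 0x5d1824) .nil)) (nat_lit 0x62a702) (nat_lit 43556) (nat_lit 0x5110ba) (.node (.node (.node
  .nil (nat_lit 0x62a710) (nat_lit 8100) (nat_lit 0x1310ba) .nil) (nat_lit 0x62b260) (nat_lit 15426) (nat_lit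
  647844) .nil) (nat_lit 0x62c922) (nat_lit 67891) (nat_lit 0x49588a) (.node (.node .nil (nat_lit 0x62cc50)
  (nat_lit 41073) (nat_lit 0x5a08ac) .nil) (nat_lit 0x62d450) (nat_lit 40401) (nat_lit 0x5808ec) .nil)))
  (nat_lit 0x62d850) (nat_lit 76818) (nat_lit 0x4ec224) (.node (.node (.node (.node .nil (nat_lit 0x62dc10)
  (nat_lit 95539) (nat_lit 0x6c5908) .nil) (nat_lit 0x62dc40) (nat_lit 64273) (nat_lit 0x5a08e8) .nil)
  (nat_lit 0x62e01c) (nat_lit 43620) (nat_lit 432282) (.node (.node .nil (nat_lit 0x630866) (nat_lit 40932)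
  (nat_lit 0x481e16) .nil) (nat_lit 0x630a1a) (nat_lit 58146) (nat_lit 942440) .nil)) (nat_lit 0x630d14)
  (nat_lit 72193) (nat_lit 0x520936) (.node (.node (.node .nil (nat_lit 0x631066) (nat_lit 44963) (nat_lit
  0x715052) .nil) (nat_lit 0x631158) (nat_lit 67393) (nat_lit 0x50295c) .nil) (nat_lit 0x6315a0) (nat_lit
  48482) (nat_lit 0x1857a0) (.node (.node .nil (nat_lit 0x631826) (nat_lit 76420) (nat_lit 0x601e16) .nil)
  (nat_lit 0x631846) (nat_lit 81361) (nat_lit 0x52194a) .nil)))) (nat_lit 0x631862) (nat_lit 29233) (nat_lit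
  0x525948) (.node (.node (.node (.node (.node .nil (nat_lit 0x631864) (nat_lit 78017) (nat_lit 0x52494a)
  .nil) (nat_lit 0x632158) (nat_lit 94769) (nat_lit 0x54291c) .nil) (nat_lit 0x632324) (nat_lit 73796)
  (nat_lit 0x101eb2) (.node (.node .nil (nat_lit 0x63242a) (nat_lit 77572) (nat_lit 0x419692) .nil) (nat_lit
  0x633058) (nat_lit 37553) (nat_lit 0x54294c) .nil)) (nat_lit 0x633118) (nat_lit 82945) (nat_lit 0x542954)
  (.node (.node (.node .nil (nat_lit 0x633148) (nat_lit 61634) (nat_lit 611116) .nil) (nat_lit 0x633150)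
  (nat_lit 98529) (nat_lit 0x54095c) .nil) (nat_lit 0x633282) (nat_lit 38276) (nat_lit 0x6034b2) (.node (.node
  .nil (nat_lit 0x63421a) (nat_lit 68258) (nat_lit 0x4c6168) .nil) (nat_lit 0x634324) (nat_lit 80018) (nat_lit
  0x4871b0) .nil))) (nat_lit 0x63481a) (nat_lit 37332) (nat_lit 0x469416) (.node (.node (.node (.node .nil
  (nat_lit 0x6349c0) (nat_lit 97697) (nat_lit 0x528998) .nil) (nat_lit 0x634a0a) (nat_lit 82868) (nat_lit
  0x449436) .nil) (nat_lit 0x634a12) (nat_lit 74996) (nat_lit 0x461436) (.node (.node .nil (nat_lit 0x634a18)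
  (nat_lit 39316) (nat_lit 431158) .nil) (nat_lit 0x636124) (nat_lit 75889) (nat_lit 0x544992) .nil)) (nat_lit
  0x636224) (nat_lit 38098) (nat_lit 0x4961b0) (.node (.node (.node .nil (nat_lit 0x636304) (nat_lit 65252)
  (nat_lit 0x141cb2) .nil) (nat_lit 0x636320) (nat_lit 75346) (nat_lit 0x4971a0) .nil) (nat_lit 0x636490)
  (nat_lit 39699) (nat_lit 0x545b20) (.node (.node .nil (nat_lit 0x6380d2) (nat_lit 30132) (nat_lit 0x4a341a)
  .nil) (nat_lit 0x6385a0) (nat_lit 58675) (nat_lit 0x515388) .nil))))) (nat_lit 0x6391a0) (nat_lit 45474)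
  (nat_lit 579488) (.node (.node (.node (.node (.node (.node .nil (nat_lit 0x639214) (nat_lit 3971) (nat_lit
  0x745448) .nil) (nat_lit 0x6394a0) (nat_lit 78562) (nat_lit 0x18c7a0) .nil) (nat_lit 0x639520) (nat_lit
  18578) (nat_lit 0x18d3a0) (.node (.node .nil (nat_lit 0x639580) (nat_lit 42482) (nat_lit 0x18d720) .nil)
  (nat_lit 0x63c068) (nat_lit 88836) (nat_lit 824858) .nil)) (nat_lit 0x63c406) (nat_lit 53747) (nat_lit
  0x50594a) (.node (.node (.node .nil (nat_lit 0x6400be) (nat_lit 40353) (nat_lit 0x40fa06) .nil) (nat_lit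
  0x640578) (nat_lit 32242) (nat_lit 0x1c10ae) .nil) (nat_lit 0x64083e) (nat_lit 73460) (nat_lit 0x42da06)
  (.node (.node .nil (nat_lit 0x64089e) (nat_lit 32611) (nat_lit 0x4c9246) .nil) (nat_lit 0x6408ae) (nat_lit
  40388) (nat_lit 0x40fa06) .nil))) (nat_lit 0x6408b6) (nat_lit 73425) (nat_lit 0x42da06) (.node (.node (.node
  (.node .nil (nat_lit 0x6408ba) (nat_lit 57492) (nat_lit 0x42f206) .nil) (nat_lit 0x6408bc) (nat_lit 31076)
  (nat_lit 195078) .nil) (nat_lit 0x640b64) (nat_lit 56132) (nat_lit 0x185a26) (.node (.node .nil (nat_lit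
  0x640f0a) (nat_lit 3714) (nat_lit 0x1a306a) .nil) (nat_lit 0x641332) (nat_lit 22627) (nat_lit 0x651486)
  .nil)) (nat_lit 0x641698) (nat_lit 50228) (nat_lit 0x23f022) (.node (.node (.node .nil (nat_lit 0x641ac2)
  (nat_lit 39635) (nat_lit 0x681616) .nil) (nat_lit 0x64225a) (nat_lit 66020) (nat_lit 0x4ad0a2) .nil)
  (nat_lit 0x642634) (nat_lit 19393) (nat_lit 0x454a26) (.node (.node .nil (nat_lit 0x642c46) (nat_lit 60370)
  (nat_lit 0x1b0076) .nil) (nat_lit 0x643a0c) (nat_lit 88163) (nat_lit 0x689464) .nil)))) (nat_lit 0x64414e)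
  (nat_lit 7043) (nat_lit 0x4098d6) (.node (.node (.node (.node (.node .nil (nat_lit 0x6444e4) (nat_lit 86548)
  (nat_lit 883202) .nil) (nat_lit 0x644ac2) (nat_lit 40915) (nat_lit 0x481e16) .nil) (nat_lit 0x6452c2)
  (nat_lit 17666) (nat_lit 0x482666) (.node (.node .nil (nat_lit 0x645704) (nat_lit 46580) (nat_lit 0x355822)
  .nil) (nat_lit 0x6458c2) (nat_lit 50130) (nat_lit 0x4a0666) .nil)) (nat_lit 0x645918) (nat_lit 63153)
  (nat_lit 0x422ad4) (.node (.node (.node .nil (nat_lit 0x645a42) (nat_lit 54322) (nat_lit 0x4a2266) .nil)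
  (nat_lit 0x645a82) (nat_lit 69444) (nat_lit 0x647026) .nil) (nat_lit 0x645ac0) (nat_lit 64227) (nat_lit
  0x681e14) (.node (.node .nil (nat_lit 0x646870) (nat_lit 21635) (nat_lit 0x4d1834) .nil) (nat_lit 0x647026)
  (nat_lit 38995) (nat_lit 0x611866) .nil))) (nat_lit 0x647448) (nat_lit 4019) (nat_lit 0x609934) (.node
  (.node (.node (.node .nil (nat_lit 0x648178) (nat_lit 69873) (nat_lit 0x486a1c) .nil) (nat_lit 0x6482cc)
  (nat_lit 69041) (nat_lit 0x49aa0a) .nil) (nat_lit 0x648478) (nat_lit 19266) (nat_lit 0x1c80ae) (.node (.node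
  .nil (nat_lit 0x648538) (nat_lit 45874) (nat_lit 0x1c90aa) .nil) (nat_lit 0x648558) (nat_lit 19106) (nat_lit
  0x1c902e) .nil)) (nat_lit 0x648568) (nat_lit 74066) (nat_lit 0x1890ae) (.node (.node (.node .nil (nat_lit
  0x648570) (nat_lit 55106) (nat_lit 0x1c90a6) .nil) (nat_lit 0x6486a2) (nat_lit 95970) (nat_lit 0x18a4e2)
  .nil) (nat_lit 0x648c46) (nat_lit 55971) (nat_lit 0x48115e) (.node (.node .nil (nat_lit 0x649704) (nat_lit
  24564) (nat_lit 0x31582a) .nil) (nat_lit 0x64a446) (nat_lit 66689) (nat_lit 0x4c1a2a) .nil)))))) (nat_lit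
  0x64a846) (nat_lit 35043) (nat_lit 0x48107e) (.node (.node (.node (.node (.node (.node (.node .nil (nat_lit
  0x64ac06) (nat_lit 33411) (nat_lit 0x48116e) .nil) (nat_lit 0x64ac42) (nat_lit 64003) (nat_lit 0x48113e)
  .nil) (nat_lit 0x64ac44) (nat_lit 75394) (nat_lit 0x1b8036) (.node (.node .nil (nat_lit 0x64b260) (nat_lit
  22498) (nat_lit 631462) .nil) (nat_lit 0x64c704) (nat_lit 21252) (nat_lit 0x15582a) .nil)) (nat_lit
  0x64c922) (nat_lit 92196) (nat_lit 0x54520e) (.node (.node (.node .nil (nat_lit 0x64cc88) (nat_lit 91507)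
  (nat_lit 0x489b0c) .nil) (nat_lit 0x64d0b0) (nat_lit 60179) (nat_lit 0x651a0c) .nil) (nat_lit 0x64d304)
  (nat_lit 61412) (nat_lit 0x34582a) (.node (.node .nil (nat_lit 0x64d504) (nat_lit 27444) (nat_lit 0x35580a)
  .nil) (nat_lit 0x64d604) (nat_lit 7508) (nat_lit 0x25582a) .nil))) (nat_lit 0x64d700) (nat_lit 77604)
  (nat_lit 0x35502a) (.node (.node (.node (.node .nil (nat_lit 0x64e01c) (nat_lit 28244) (nat_lit 448650)
  .nil) (nat_lit 0x65014e) (nat_lit 27027) (nat_lit 0x5090d6) .nil) (nat_lit 0x650332) (nat_lit 2387) (nat_lit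
  0x551486) (.node (.node .nil (nat_lit 0x650d14) (nat_lit 83347) (nat_lit 0x5c11c4) .nil) (nat_lit 0x6510e8)
  (nat_lit 1267) (nat_lit 0x719214) .nil)) (nat_lit 0x651132) (nat_lit 11363) (nat_lit 0x751086) (.node (.node
  (.node .nil (nat_lit 0x651232) (nat_lit 34227) (nat_lit 0x751406) .nil) (nat_lit 0x651312) (nat_lit 10147)
  (nat_lit 0x741486) .nil) (nat_lit 0x651322) (nat_lit 22099) (nat_lit 0x711486) (.node (.node .nil (nat_lit
  0x651330) (nat_lit 8579) (nat_lit 0x751484) .nil) (nat_lit 0x651486) (nat_lit 9745) (nat_lit 0x409b62)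
  .nil)))) (nat_lit 0x651a0c) (nat_lit 31554) (nat_lit 664378) (.node (.node (.node (.node (.node .nil
  (nat_lit 0x65242a) (nat_lit 51604) (nat_lit 0x41d682) .nil) (nat_lit 0x652870) (nat_lit 12404) (nat_lit
  677510) .nil) (nat_lit 0x652a0c) (nat_lit 91315) (nat_lit 0x589464) (.node (.node .nil (nat_lit 0x65320c)
  (nat_lit 94082) (nat_lit 598842) .nil) (nat_lit 0x65380c) (nat_lit 58450) (nat_lit 721722) .nil)) (nat_lit
  0x653a04) (nat_lit 95634) (nat_lit 729906) (.node (.node (.node .nil (nat_lit 0x653a08) (nat_lit 87586)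
  (nat_lit 729898) .nil) (nat_lit 0x65404e) (nat_lit 52051) (nat_lit 0x509856) .nil) (nat_lit 0x65410e)
  (nat_lit 51427) (nat_lit 0x5098c6) (.node (.node .nil (nat_lit 0x654146) (nat_lit 20819) (nat_lit 0x5018d6)
  .nil) (nat_lit 0x65414a) (nat_lit 14755) (nat_lit 0x509896) .nil))) (nat_lit 0x65414c) (nat_lit 24115)
  (nat_lit 0x5098d4) (.node (.node (.node (.node .nil (nat_lit 0x654294) (nat_lit 49300) (nat_lit 424994)
  .nil) (nat_lit 0x654870) (nat_lit 24979) (nat_lit 0x5d1814) .nil) (nat_lit 0x654c88) (nat_lit 63059)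
  (nat_lit 0x589b04) (.node (.node .nil (nat_lit 0x656070) (nat_lit 7955) (nat_lit 0x551834) .nil) (nat_lit
  0x656830) (nat_lit 20580) (nat_lit 415366) .nil)) (nat_lit 0x656850) (nat_lit 47300) (nat_lit 939142) (.node
  (.node (.node .nil (nat_lit 0x656860) (nat_lit 49314) (nat_lit 0x4b01a6) .nil) (nat_lit 0x6580d2) (nat_lit
  67202) (nat_lit 820582) .nil) (nat_lit 0x658c88) (nat_lit 54499) (nat_lit 0x58930c) (.node (.node .nil
  (nat_lit 0x659940) (nat_lit 51011) (nat_lit 0x78109c) .nil) (nat_lit 0x65b410) (nat_lit 37363) (nat_lit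
  0x74112c) .nil))))) (nat_lit 0x65c488) (nat_lit 45059) (nat_lit 0x509b0c) (.node (.node (.node (.node (.node
  (.node .nil (nat_lit 0x65c888) (nat_lit 56067) (nat_lit 0x589a0c) .nil) (nat_lit 0x65cc08) (nat_lit 59059)
  (nat_lit 0x58990c) .nil) (nat_lit 0x65cc80) (nat_lit 17939) (nat_lit 0x581b0c) (.node (.node .nil (nat_lit
  0x65e202) (nat_lit 56451) (nat_lit 0x501c2e) .nil) (nat_lit 0x6604e4) (nat_lit 97682) (nat_lit 0x1844b6)
  .nil)) (nat_lit 0x660698) (nat_lit 45345) (nat_lit 0x51aa24) (.node (.node (.node .nil (nat_lit 0x660d14)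
  (nat_lit 65537) (nat_lit 0x520a36) .nil) (nat_lit 0x66112c) (nat_lit 11489) (nat_lit 0x506a52) .nil)
  (nat_lit 0x661298) (nat_lit 17780) (nat_lit 0x22f032) (.node (.node .nil (nat_lit 0x661498) (nat_lit 48513)
  (nat_lit 0x50aa64) .nil) (nat_lit 0x661542) (nat_lit 16787) (nat_lit 0x605196) .nil))) (nat_lit 0x661618)
  (nat_lit 50673) (nat_lit 0x512a64) (.node (.node (.node (.node .nil (nat_lit 0x661688) (nat_lit 18449)
  (nat_lit 0x51aa60) .nil) (nat_lit 0x661690) (nat_lit 42577) (nat_lit 0x518a64) .nil) (nat_lit 0x66242a)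
  (nat_lit 47668) (nat_lit 0x41d292) (.node (.node .nil (nat_lit 0x663260) (nat_lit 23282) (nat_lit 615078)
  .nil) (nat_lit 0x663812) (nat_lit 52753) (nat_lit 0x561a44) .nil)) (nat_lit 0x6640e4) (nat_lit 84066)
  (nat_lit 0x4844b6) (.node (.node (.node .nil (nat_lit 0x664350) (nat_lit 44737) (nat_lit 0x510a9c) .nil)
  (nat_lit 0x664464) (nat_lit 84867) (nat_lit 0x415954) .nil) (nat_lit 0x6644a4) (nat_lit 63666) (nat_lit
  0x5844b2) (.node (.node .nil (nat_lit 0x6644c4) (nat_lit 84834) (nat_lit 0x584436) .nil) (nat_lit 0x6644e0)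
  (nat_lit 60644) (nat_lit 881170) .nil)))) (nat_lit 0x664922) (nat_lit 59604) (nat_lit 0x545216) (.node
  (.node (.node (.node (.node .nil (nat_lit 0x66601c) (nat_lit 12836) (nat_lit 448658) .nil) (nat_lit
  0x666e00) (nat_lit 69474) (nat_lit 0x5b6022) .nil) (nat_lit 0x6680d2) (nat_lit 55842) (nat_lit 836710)
  (.node (.node .nil (nat_lit 0x668922) (nat_lit 96195) (nat_lit 0x49508e) .nil) (nat_lit 0x669260) (nat_lit
  20130) (nat_lit 582310) .nil)) (nat_lit 0x669884) (nat_lit 66594) (nat_lit 706098) (.node (.node (.node .nil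
  (nat_lit 0x66a01c) (nat_lit 42372) (nat_lit 186522) .nil) (nat_lit 0x66a260) (nat_lit 12098) (nat_lit
  647334) .nil) (nat_lit 0x66b060) (nat_lit 3442) (nat_lit 639654) (.node (.node .nil (nat_lit 0x66b220)
  (nat_lit 9442) (nat_lit 647842) .nil) (nat_lit 0x66b240) (nat_lit 10818) (nat_lit 647718) .nil))) (nat_lit
  0x66c01c) (nat_lit 15364) (nat_lit 448538) (.node (.node (.node (.node .nil (nat_lit 0x66c122) (nat_lit
  85651) (nat_lit 0x41588e) .nil) (nat_lit 0x66c822) (nat_lit 63714) (nat_lit 0x4ac0e2) .nil) (nat_lit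
  0x66c902) (nat_lit 90212) (nat_lit 0x54501e) (.node (.node .nil (nat_lit 0x66c920) (nat_lit 66002) (nat_lit
  0x4ad0a2) .nil) (nat_lit 0x66e00c) (nat_lit 29076) (nat_lit 317594) .nil)) (nat_lit 0x66e014) (nat_lit
  12980) (nat_lit 415898) (.node (.node (.node .nil (nat_lit 0x66e018) (nat_lit 54068) (nat_lit 446618) .nil)
  (nat_lit 0x6700d2) (nat_lit 44114) (nat_lit 804198) .nil) (nat_lit 0x67042a) (nat_lit 18803) (nat_lit
  0x51d106) (.node (.node .nil (nat_lit 0x670514) (nat_lit 39555) (nat_lit 0x5451c4) .nil) (nat_lit 0x670914)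
  (nat_lit 41585) (nat_lit 0x520b16) .nil)))))))
def t6160_29 : T := (.node (.node (.node (.node (.node (.node (.node (.node .nil (nat_lit 0x670c14) (nat_lit
  33042) (nat_lit 0x1e4132) .nil) (nat_lit 0x670d04) (nat_lit 68836) (nat_lit 0x115c16) .nil) (nat_lit
  0x670d10) (nat_lit 79442) (nat_lit 0x1e5122) (.node (.node .nil (nat_lit 0x67202a) (nat_lit 21060) (nat_lit
  0x40d692) .nil) (nat_lit 0x67240a) (nat_lit 27300) (nat_lit 0x41d492) .nil)) (nat_lit 0x672422) (nat_lit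
  39681) (nat_lit 0x545b20) (.node (.node (.node .nil (nat_lit 0x672428) (nat_lit 45587) (nat_lit 0x51d124)
  .nil) (nat_lit 0x678052) (nat_lit 16818) (nat_lit 835942) .nil) (nat_lit 0x678092) (nat_lit 63041) (nat_lit
  0x589b04) (.node (.node .nil (nat_lit 0x6780c2) (nat_lit 49570) (nat_lit 574822) .nil) (nat_lit 0x6780d0)
  (nat_lit 78066) (nat_lit 836902) .nil))) (nat_lit 0x678308) (nat_lit 87826) (nat_lit 586026) (.node (.node
  (.node (.node .nil (nat_lit 0x68059a) (nat_lit 673) (nat_lit 0x60b834) .nil) (nat_lit 0x680b64) (nat_lit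
  67553) (nat_lit 0x63481a) .nil) (nat_lit 0x680c6a) (nat_lit 57890) (nat_lit 0x1a08ec) (.node (.node .nil
  (nat_lit 0x680e16) (nat_lit 59154) (nat_lit 0x1e2870) .nil) (nat_lit 0x6813d0) (nat_lit 9620) (nat_lit
  0x3a3062) .nil)) (nat_lit 0x681616) (nat_lit 18162) (nat_lit 0x1c2a70) (.node (.node (.node .nil (nat_lit
  0x681728) (nat_lit 15921) (nat_lit 0x616870) .nil) (nat_lit 0x6819a2) (nat_lit 82212) (nat_lit 0x703246)
  .nil) (nat_lit 0x681a16) (nat_lit 32978) (nat_lit 928368) (.node (.node .nil (nat_lit 0x681c16) (nat_lit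
  62338) (nat_lit 0x1e0a70) .nil) (nat_lit 0x681e06) (nat_lit 39012) (nat_lit 0x611866) .nil)))) (nat_lit
  0x681e12) (nat_lit 75796) (nat_lit 0x631066) (.node (.node (.node (.node (.node .nil (nat_lit 0x681e14)
  (nat_lit 34370) (nat_lit 0x1e2a30) .nil) (nat_lit 0x68225a) (nat_lit 68546) (nat_lit 862316) .nil) (nat_lit
  0x682554) (nat_lit 42724) (nat_lit 0x1b18c2) (.node (.node .nil (nat_lit 0x682728) (nat_lit 28068) (nat_lit
  0x1192e2) .nil) (nat_lit 0x68290e) (nat_lit 51444) (nat_lit 0x5098c6) .nil)) (nat_lit 0x682ca4) (nat_lit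
  79060) (nat_lit 80582) (.node (.node (.node .nil (nat_lit 0x68309c) (nat_lit 43107) (nat_lit 0x669260) .nil)
  (nat_lit 0x683328) (nat_lit 77857) (nat_lit 0x656850) .nil) (nat_lit 0x683528) (nat_lit 45553) (nat_lit
  0x646870) (.node (.node .nil (nat_lit 0x683628) (nat_lit 40323) (nat_lit 0x639520) .nil) (nat_lit 0x683708)
  (nat_lit 28705) (nat_lit 0x652870) .nil))) (nat_lit 0x683720) (nat_lit 48418) (nat_lit 0x193aa0) (.node
  (.node (.node (.node .nil (nat_lit 0x6841ac) (nat_lit 86052) (nat_lit 0x14ba42) .nil) (nat_lit 0x68446a)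
  (nat_lit 40418) (nat_lit 0x5808ec) .nil) (nat_lit 0x684554) (nat_lit 30564) (nat_lit 0x1f1842) (.node (.node
  .nil (nat_lit 0x68486a) (nat_lit 32628) (nat_lit 0x4c9246) .nil) (nat_lit 0x684c2a) (nat_lit 64290) (nat_lit
  0x5a08e8) .nil)) (nat_lit 0x684c4a) (nat_lit 79268) (nat_lit 0x4d9046) (.node (.node (.node .nil (nat_lit
  0x684c62) (nat_lit 82276) (nat_lit 0x4d1246) .nil) (nat_lit 0x684c68) (nat_lit 41090) (nat_lit 0x5a08ac)
  .nil) (nat_lit 0x68524c) (nat_lit 41313) (nat_lit 0x6128ca) (.node (.node .nil (nat_lit 0x685918) (nat_lit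
  45153) (nat_lit 0x6228d4) .nil) (nat_lit 0x686154) (nat_lit 21618) (nat_lit 0x4d1834) .nil))))) (nat_lit
  0x6862e0) (nat_lit 46611) (nat_lit 0x431e30) (.node (.node (.node (.node (.node (.node .nil (nat_lit
  0x686454) (nat_lit 40594) (nat_lit 0x5d0834) .nil) (nat_lit 0x686514) (nat_lit 28691) (nat_lit 0x4619e0)
  .nil) (nat_lit 0x686544) (nat_lit 49235) (nat_lit 0x4219f0) (.node (.node .nil (nat_lit 0x686550) (nat_lit
  13620) (nat_lit 0x1f10c2) .nil) (nat_lit 0x686892) (nat_lit 87683) (nat_lit 0x4e1a22) .nil)) (nat_lit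
  0x687026) (nat_lit 56947) (nat_lit 0x631862) (.node (.node (.node .nil (nat_lit 0x6881ac) (nat_lit 89682)
  (nat_lit 564408) .nil) (nat_lit 0x6883d0) (nat_lit 3748) (nat_lit 0x1a306a) .nil) (nat_lit 0x6886a2)
  (nat_lit 72580) (nat_lit 0x41326a) (.node (.node .nil (nat_lit 0x68885c) (nat_lit 2980) (nat_lit 694350)
  .nil) (nat_lit 0x6891d0) (nat_lit 1172) (nat_lit 0x3a304a) .nil))) (nat_lit 0x6892d0) (nat_lit 4964)
  (nat_lit 0x2a306a) (.node (.node (.node (.node .nil (nat_lit 0x689350) (nat_lit 14276) (nat_lit 0x3a106a)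
  .nil) (nat_lit 0x689390) (nat_lit 11172) (nat_lit 0x32306a) .nil) (nat_lit 0x6893c0) (nat_lit 22596)
  (nat_lit 0x38306a) (.node (.node .nil (nat_lit 0x689464) (nat_lit 61569) (nat_lit 0x68486a) .nil) (nat_lit
  0x68a162) (nat_lit 28995) (nat_lit 0x4310ba) .nil)) (nat_lit 0x68a4c8) (nat_lit 84211) (nat_lit 0x429338)
  (.node (.node (.node .nil (nat_lit 0x68a892) (nat_lit 96995) (nat_lit 0x4e122a) .nil) (nat_lit 0x68c0ac)
  (nat_lit 93411) (nat_lit 0x439a48) .nil) (nat_lit 0x68c12c) (nat_lit 98017) (nat_lit 0x686892) (.node (.node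
  .nil (nat_lit 0x68c18c) (nat_lit 94658) (nat_lit 0x489c38) .nil) (nat_lit 0x68c1a4) (nat_lit 84434) (nat_lit
  0x489cb0) .nil)))) (nat_lit 0x68c1a8) (nat_lit 91698) (nat_lit 0x489ca8) (.node (.node (.node (.node (.node
  .nil (nat_lit 0x68c618) (nat_lit 80339) (nat_lit 0x469d08) .nil) (nat_lit 0x68c892) (nat_lit 93025) (nat_lit
  0x6a9884) .nil) (nat_lit 0x68da20) (nat_lit 88964) (nat_lit 0x24126e) (.node (.node .nil (nat_lit 0x68e092)
  (nat_lit 72851) (nat_lit 0x461a2a) .nil) (nat_lit 0x68e812) (nat_lit 68755) (nat_lit 0x4e182a) .nil))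
  (nat_lit 0x68e882) (nat_lit 94804) (nat_lit 0x4430ce) (.node (.node (.node .nil (nat_lit 0x68e890) (nat_lit
  85123) (nat_lit 0x4e1a28) .nil) (nat_lit 0x69019a) (nat_lit 1473) (nat_lit 0x60b914) .nil) (nat_lit
  0x69022e) (nat_lit 4260) (nat_lit 0x409e62) (.node (.node .nil (nat_lit 0x69049a) (nat_lit 1537) (nat_lit
  0x60b924) .nil) (nat_lit 0x69051a) (nat_lit 561) (nat_lit 0x603934) .nil))) (nat_lit 0x69058a) (nat_lit
  3636) (nat_lit 0x51b442) (.node (.node (.node (.node .nil (nat_lit 0x690592) (nat_lit 4001) (nat_lit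
  0x609934) .nil) (nat_lit 0x690598) (nat_lit 1028) (nat_lit 0x13b442) .nil) (nat_lit 0x69085c) (nat_lit
  13474) (nat_lit 919868) (.node (.node .nil (nat_lit 0x690ca4) (nat_lit 74643) (nat_lit 0x5b1340) .nil)
  (nat_lit 0x6910e8) (nat_lit 10003) (nat_lit 0x739210) .nil)) (nat_lit 0x692162) (nat_lit 40564) (nat_lit
  0x5816c2) (.node (.node (.node .nil (nat_lit 0x6924a4) (nat_lit 73588) (nat_lit 81602) .nil) (nat_lit
  0x6928a4) (nat_lit 81924) (nat_lit 16070) .nil) (nat_lit 0x692b10) (nat_lit 72161) (nat_lit 0x670914) (.node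
  (.node .nil (nat_lit 0x692c24) (nat_lit 31284) (nat_lit 73414) .nil) (nat_lit 0x692c84) (nat_lit 79587)
  (nat_lit 0x5a1360) .nil)))))) (nat_lit 0x692ca0) (nat_lit 91025) (nat_lit 0x66c920) (.node (.node (.node
  (.node (.node (.node (.node .nil (nat_lit 0x693282) (nat_lit 39155) (nat_lit 0x721622) .nil) (nat_lit
  0x694294) (nat_lit 16020) (nat_lit 408674) .nil) (nat_lit 0x6949c0) (nat_lit 69585) (nat_lit 0x628998)
  (.node (.node .nil (nat_lit 0x695052) (nat_lit 27457) (nat_lit 0x6019cc) .nil) (nat_lit 0x695a20) (nat_lit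
  97988) (nat_lit 0x241666) .nil)) (nat_lit 0x69805c) (nat_lit 25444) (nat_lit 695370) (.node (.node (.node
  .nil (nat_lit 0x698162) (nat_lit 21747) (nat_lit 0x53109a) .nil) (nat_lit 0x69881c) (nat_lit 8980) (nat_lit
  171086) .nil) (nat_lit 0x69884c) (nat_lit 11668) (nat_lit 564302) (.node (.node .nil (nat_lit 0x698854)
  (nat_lit 25844) (nat_lit 662606) .nil) (nat_lit 0x698858) (nat_lit 42594) (nat_lit 952620) .nil))) (nat_lit
  0x699a20) (nat_lit 85778) (nat_lit 699296) (.node (.node (.node (.node .nil (nat_lit 0x69a062) (nat_lit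
  15235) (nat_lit 0x53103a) .nil) (nat_lit 0x69a122) (nat_lit 57923) (nat_lit 0x5310aa) .nil) (nat_lit
  0x69a142) (nat_lit 52499) (nat_lit 0x5210ba) (.node (.node .nil (nat_lit 0x69a160) (nat_lit 27763) (nat_lit
  0x5310b8) .nil) (nat_lit 0x69b410) (nat_lit 12339) (nat_lit 0x761128) .nil)) (nat_lit 0x69c406) (nat_lit
  81379) (nat_lit 0x52194a) (.node (.node (.node .nil (nat_lit 0x69ca20) (nat_lit 90931) (nat_lit 0x5b1c08)
  .nil) (nat_lit 0x69d220) (nat_lit 71091) (nat_lit 0x731c08) .nil) (nat_lit 0x69d820) (nat_lit 89443)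
  (nat_lit 0x7b1808) (.node (.node .nil (nat_lit 0x69da00) (nat_lit 97524) (nat_lit 0x24146e) .nil) (nat_lit
  0x6a0784) (nat_lit 86931) (nat_lit 0x4257c0) .nil)))) (nat_lit 0x6a090e) (nat_lit 52068) (nat_lit 0x509856)
  (.node (.node (.node (.node (.node .nil (nat_lit 0x6a124c) (nat_lit 70995) (nat_lit 0x62d450) .nil) (nat_lit
  0x6a1542) (nat_lit 17860) (nat_lit 0x791052) .nil) (nat_lit 0x6a210e) (nat_lit 47508) (nat_lit 0x5098d2)
  (.node (.node .nil (nat_lit 0x6a24c8) (nat_lit 71651) (nat_lit 0x42d330) .nil) (nat_lit 0x6a280e) (nat_lit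
  7060) (nat_lit 0x4098d6) .nil)) (nat_lit 0x6a2906) (nat_lit 20836) (nat_lit 0x5018d6) (.node (.node (.node
  .nil (nat_lit 0x6a290a) (nat_lit 27044) (nat_lit 0x5090d6) .nil) (nat_lit 0x6a290c) (nat_lit 37108) (nat_lit
  0x1098d6) .nil) (nat_lit 0x6a3282) (nat_lit 37700) (nat_lit 0x6030f2) (.node (.node .nil (nat_lit 0x6a424c)
  (nat_lit 62401) (nat_lit 0x71288a) .nil) (nat_lit 0x6a49c0) (nat_lit 98241) (nat_lit 0x728898) .nil)))
  (nat_lit 0x6a504c) (nat_lit 79394) (nat_lit 0x484a3c) (.node (.node (.node (.node .nil (nat_lit 0x6a520c)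
  (nat_lit 74210) (nat_lit 0x486a38) .nil) (nat_lit 0x6a5244) (nat_lit 85283) (nat_lit 0x625c50) .nil)
  (nat_lit 0x6a5248) (nat_lit 71970) (nat_lit 0x486a2c) (.node (.node .nil (nat_lit 0x6a6e00) (nat_lit 89604)
  (nat_lit 332022) .nil) (nat_lit 0x6a84c8) (nat_lit 69106) (nat_lit 0x18cc2c) .nil)) (nat_lit 0x6a8a42)
  (nat_lit 35060) (nat_lit 0x48107e) (.node (.node (.node .nil (nat_lit 0x6a9884) (nat_lit 70580) (nat_lit
  0x20385e) .nil) (nat_lit 0x6aa0c8) (nat_lit 87540) (nat_lit 569562) .nil) (nat_lit 0x6aa448) (nat_lit 84963)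
  (nat_lit 0x42d138) (.node (.node .nil (nat_lit 0x6aa488) (nat_lit 63843) (nat_lit 0x42d328) .nil) (nat_lit
  0x6aa4c0) (nat_lit 66099) (nat_lit 0x425338) .nil))))) (nat_lit 0x6ac406) (nat_lit 81683) (nat_lit 0x42594a)
  (.node (.node (.node (.node (.node (.node .nil (nat_lit 0x6af100) (nat_lit 56593) (nat_lit 0x7c08d0) .nil)
  (nat_lit 0x6b09c0) (nat_lit 87377) (nat_lit 0x728918) .nil) (nat_lit 0x6b1282) (nat_lit 53076) (nat_lit
  0x603472) (.node (.node .nil (nat_lit 0x6b1c08) (nat_lit 62772) (nat_lit 0x219456) .nil) (nat_lit 0x6b2282)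
  (nat_lit 13956) (nat_lit 0x4034f2) .nil)) (nat_lit 0x6b3082) (nat_lit 77748) (nat_lit 0x6034d2) (.node
  (.node (.node .nil (nat_lit 0x6b3202) (nat_lit 48820) (nat_lit 0x6014f2) .nil) (nat_lit 0x6b3280) (nat_lit
  39874) (nat_lit 618272) .nil) (nat_lit 0x6b41c0) (nat_lit 96961) (nat_lit 0x708998) (.node (.node .nil
  (nat_lit 0x6b4406) (nat_lit 80931) (nat_lit 0x525942) .nil) (nat_lit 0x6b48c0) (nat_lit 63873) (nat_lit
  0x728988) .nil))) (nat_lit 0x6b4940) (nat_lit 94593) (nat_lit 0x720998) (.node (.node (.node (.node .nil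
  (nat_lit 0x6b4980) (nat_lit 66129) (nat_lit 0x728990) .nil) (nat_lit 0x6b8308) (nat_lit 65490) (nat_lit
  588072) .nil) (nat_lit 0x6b8406) (nat_lit 16467) (nat_lit 0x52514a) (.node (.node .nil (nat_lit 0x6bc006)
  (nat_lit 62035) (nat_lit 0x52584a) .nil) (nat_lit 0x6bc402) (nat_lit 49427) (nat_lit 0x52590a) .nil))
  (nat_lit 0x6bc404) (nat_lit 29267) (nat_lit 0x525948) (.node (.node (.node .nil (nat_lit 0x6c025a) (nat_lit
  37315) (nat_lit 0x469416) .nil) (nat_lit 0x6c0364) (nat_lit 78372) (nat_lit 0x185a62) .nil) (nat_lit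
  0x6c06a2) (nat_lit 96306) (nat_lit 0x182ce2) (.node (.node .nil (nat_lit 0x6c0964) (nat_lit 59092) (nat_lit
  0x185a46) .nil) (nat_lit 0x6c0a64) (nat_lit 63140) (nat_lit 547430) .nil)))) (nat_lit 0x6c0b24) (nat_lit
  54564) (nat_lit 0x105a66) (.node (.node (.node (.node (.node .nil (nat_lit 0x6c0b44) (nat_lit 85713)
  (nat_lit 0x630a1a) .nil) (nat_lit 0x6c0b60) (nat_lit 18036) (nat_lit 0x185266) .nil) (nat_lit 0x6c0cd0)
  (nat_lit 73858) (nat_lit 0x1e0c26) (.node (.node .nil (nat_lit 0x6c10e8) (nat_lit 9683) (nat_lit 0x639214)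
  .nil) (nat_lit 0x6c1542) (nat_lit 68995) (nat_lit 0x621196) .nil)) (nat_lit 0x6c1918) (nat_lit 59105)
  (nat_lit 0x622a54) (.node (.node (.node .nil (nat_lit 0x6c205a) (nat_lit 84148) (nat_lit 0x4ad0c2) .nil)
  (nat_lit 0x6c221a) (nat_lit 84916) (nat_lit 0x42d0e2) .nil) (nat_lit 0x6c224a) (nat_lit 62675) (nat_lit
  0x429436) (.node (.node .nil (nat_lit 0x6c2252) (nat_lit 60145) (nat_lit 0x651a0c) .nil) (nat_lit 0x6c2258)
  (nat_lit 75907) (nat_lit 0x469434) .nil))) (nat_lit 0x6c3026) (nat_lit 75779) (nat_lit 0x631066) (.node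
  (.node (.node (.node .nil (nat_lit 0x6c4294) (nat_lit 64356) (nat_lit 424034) .nil) (nat_lit 0x6c4918)
  (nat_lit 50417) (nat_lit 0x622a94) .nil) (nat_lit 0x6c5026) (nat_lit 83172) (nat_lit 0x645a42) (.node (.node
  .nil (nat_lit 0x6c5118) (nat_lit 18097) (nat_lit 0x602ad4) .nil) (nat_lit 0x6c5818) (nat_lit 78385) (nat_lit
  0x622ac4) .nil)) (nat_lit 0x6c5908) (nat_lit 77265) (nat_lit 0x622ad0) (.node (.node (.node .nil (nat_lit
  0x6c5910) (nat_lit 87666) (nat_lit 0x4e1a22) .nil) (nat_lit 0x6c6026) (nat_lit 74771) (nat_lit 0x431866)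
  .nil) (nat_lit 0x6c6e00) (nat_lit 92514) (nat_lit 0x5b2822) (.node (.node .nil (nat_lit 0x6c7006) (nat_lit
  70113) (nat_lit 0x641ac2) .nil) (nat_lit 0x6c7022) (nat_lit 38660) (nat_lit 0x6452c2) .nil)))))))
def t6160_30 : T := (.node (.node (.node (.node (.node (.node (.node (.node .nil (nat_lit 0x6c8116) (nat_lit
  62052) (nat_lit 0x52584a) .nil) (nat_lit 0x6c82a2) (nat_lit 85954) (nat_lit 568546) (.node .nil (nat_lit
  0x6c84a2) (nat_lit 92451) (nat_lit 0x43130e) .nil)) (nat_lit 0x6c8622) (nat_lit 87572) (nat_lit 0x41526a)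
  (.node (.node .nil (nat_lit 0x6c8682) (nat_lit 97713) (nat_lit 0x699a20) .nil) (nat_lit 0x6c86a0) (nat_lit
  88339) (nat_lit 0x43170c) .nil)) (nat_lit 0x6c9884) (nat_lit 64833) (nat_lit 0x6a8a42) (.node (.node (.node
  .nil (nat_lit 0x6ca828) (nat_lit 96003) (nat_lit 0x4b902c) .nil) (nat_lit 0x6cb410) (nat_lit 26739) (nat_lit
  0x66112c) .nil) (nat_lit 0x6d00e8) (nat_lit 11027) (nat_lit 0x539214) (.node (.node .nil (nat_lit 0x6d0294)
  (nat_lit 28804) (nat_lit 162914) .nil) (nat_lit 0x6d1068) (nat_lit 5043) (nat_lit 0x739014) .nil))) (nat_lit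
  0x6d10a8) (nat_lit 14196) (nat_lit 0x20f642) (.node (.node (.node (.node .nil (nat_lit 0x6d10c8) (nat_lit
  19331) (nat_lit 0x729214) .nil) (nat_lit 0x6d10e0) (nat_lit 4467) (nat_lit 0x731214) .nil) (nat_lit
  0x6d3410) (nat_lit 47235) (nat_lit 0x761124) (.node (.node .nil (nat_lit 0x6d4094) (nat_lit 14484) (nat_lit
  425026) .nil) (nat_lit 0x6d4214) (nat_lit 16548) (nat_lit 416866) .nil)) (nat_lit 0x6d4284) (nat_lit 43284)
  (nat_lit 293986) (.node (.node (.node .nil (nat_lit 0x6d4290) (nat_lit 42659) (nat_lit 0x561e04) .nil)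
  (nat_lit 0x6d4520) (nat_lit 60484) (nat_lit 0x155642) .nil) (nat_lit 0x6d8308) (nat_lit 72338) (nat_lit
  571690) (.node (.node .nil (nat_lit 0x6d9410) (nat_lit 52531) (nat_lit 0x76110c) .nil) (nat_lit 0x6da410)
  (nat_lit 6563) (nat_lit 0x56112c) .nil)))) (nat_lit 0x6db010) (nat_lit 58723) (nat_lit 0x76102c) (.node
  (.node (.node (.node (.node .nil (nat_lit 0x6db400) (nat_lit 39377) (nat_lit 0x6c0b60) .nil) (nat_lit
  0x6e0542) (nat_lit 60849) (nat_lit 0x701a38) .nil) (nat_lit 0x6e1142) (nat_lit 63122) (nat_lit 547430)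
  (.node (.node .nil (nat_lit 0x6e1442) (nat_lit 44083) (nat_lit 0x625116) .nil) (nat_lit 0x6e1502) (nat_lit
  44980) (nat_lit 0x715052) .nil)) (nat_lit 0x6e1540) (nat_lit 50292) (nat_lit 0x395052) (.node (.node (.node
  .nil (nat_lit 0x6e1884) (nat_lit 89665) (nat_lit 0x728a42) .nil) (nat_lit 0x6e2e00) (nat_lit 98004) (nat_lit
  86262) .nil) (nat_lit 0x6e408a) (nat_lit 73443) (nat_lit 0x42da06) (.node (.node .nil (nat_lit 0x6e4e00)
  (nat_lit 95074) (nat_lit 0x5a6822) .nil) (nat_lit 0x6e6600) (nat_lit 60322) (nat_lit 0x596822) .nil)))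
  (nat_lit 0x6e6a00) (nat_lit 96274) (nat_lit 0x4b6822) (.node (.node (.node (.node .nil (nat_lit 0x6e6c00)
  (nat_lit 91140) (nat_lit 348374) .nil) (nat_lit 0x6e8308) (nat_lit 68100) (nat_lit 0x10d07a) .nil) (nat_lit
  0x6e8884) (nat_lit 91649) (nat_lit 0x7a8a02) (.node (.node .nil (nat_lit 0x6e9084) (nat_lit 58033) (nat_lit
  0x788a42) .nil) (nat_lit 0x6e9804) (nat_lit 93217) (nat_lit 0x7a0a42) .nil)) (nat_lit 0x6e9880) (nat_lit
  85042) (nat_lit 708130) (.node (.node (.node .nil (nat_lit 0x6f0308) (nat_lit 97300) (nat_lit 0x10d472)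
  .nil) (nat_lit 0x6f2044) (nat_lit 11681) (nat_lit 0x740b0a) .nil) (nat_lit 0x6f8108) (nat_lit 84578)
  (nat_lit 579882) (.node (.node .nil (nat_lit 0x6f8208) (nat_lit 96114) (nat_lit 583978) .nil) (nat_lit
  0x6f8300) (nat_lit 87956) (nat_lit 0x10547a) .nil))))) (nat_lit 0x7001f4) (nat_lit 16961) (nat_lit 0x40cc1e)
  (.node (.node (.node (.node (.node (.node .nil (nat_lit 0x70045e) (nat_lit 46338) (nat_lit 0x3c007c) .nil)
  (nat_lit 0x700a78) (nat_lit 49171) (nat_lit 0x4db410) .nil) (nat_lit 0x700f0a) (nat_lit 10962) (nat_lit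
  0x3a3068) (.node (.node .nil (nat_lit 0x701278) (nat_lit 19649) (nat_lit 0x416c4c) .nil) (nat_lit 0x701346)
  (nat_lit 66721) (nat_lit 0x411c5a) .nil)) (nat_lit 0x701878) (nat_lit 38916) (nat_lit 0x2a9306) (.node
  (.node (.node .nil (nat_lit 0x7019a2) (nat_lit 69651) (nat_lit 0x693282) .nil) (nat_lit 0x701a38) (nat_lit
  31985) (nat_lit 0x436c44) .nil) (nat_lit 0x701a58) (nat_lit 53491) (nat_lit 0x6cb410) (.node (.node .nil
  (nat_lit 0x701a68) (nat_lit 28595) (nat_lit 0x69b410) .nil) (nat_lit 0x701a70) (nat_lit 46145) (nat_lit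
  0x434c4c) .nil))) (nat_lit 0x70213a) (nat_lit 9378) (nat_lit 0x2d10e8) (.node (.node (.node (.node .nil
  (nat_lit 0x702346) (nat_lit 13939) (nat_lit 0x4034f2) .nil) (nat_lit 0x702634) (nat_lit 55153) (nat_lit
  0x454c26) .nil) (nat_lit 0x7028ca) (nat_lit 71315) (nat_lit 0x48b232) (.node (.node .nil (nat_lit 0x702d60)
  (nat_lit 54897) (nat_lit 0x464c38) .nil) (nat_lit 0x70309c) (nat_lit 46819) (nat_lit 0x64b260) .nil))
  (nat_lit 0x703146) (nat_lit 37683) (nat_lit 0x6030f2) (.node (.node (.node .nil (nat_lit 0x703246) (nat_lit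
  53059) (nat_lit 0x603472) .nil) (nat_lit 0x703306) (nat_lit 65171) (nat_lit 0x6034e2) .nil) (nat_lit
  0x703342) (nat_lit 38259) (nat_lit 0x6034b2) (.node (.node .nil (nat_lit 0x703344) (nat_lit 42995) (nat_lit
  0x6034f0) .nil) (nat_lit 0x703e80) (nat_lit 62708) (nat_lit 0x2131a6) .nil)))) (nat_lit 0x70413a) (nat_lit
  12291) (nat_lit 0x45b882) (.node (.node (.node (.node (.node .nil (nat_lit 0x7045c2) (nat_lit 64961)
  (nat_lit 0x409cb8) .nil) (nat_lit 0x705388) (nat_lit 49505) (nat_lit 0x41acd0) .nil) (nat_lit 0x705622)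
  (nat_lit 46324) (nat_lit 0x651322) (.node (.node .nil (nat_lit 0x70603a) (nat_lit 25634) (nat_lit 0x6d00e8)
  .nil) (nat_lit 0x70611a) (nat_lit 12034) (nat_lit 0x6d1068) .nil)) (nat_lit 0x70612a) (nat_lit 23234)
  (nat_lit 0x6910e8) (.node (.node (.node .nil (nat_lit 0x706132) (nat_lit 10770) (nat_lit 0x6d10e0) .nil)
  (nat_lit 0x706138) (nat_lit 6084) (nat_lit 0x169382) .nil) (nat_lit 0x7062e0) (nat_lit 67043) (nat_lit
  0x413e30) (.node (.node .nil (nat_lit 0x707448) (nat_lit 2452) (nat_lit 0x2d9182) .nil) (nat_lit 0x7082cc)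
  (nat_lit 72372) (nat_lit 571690) .nil))) (nat_lit 0x7085c2) (nat_lit 93170) (nat_lit 0x389464) (.node (.node
  (.node (.node .nil (nat_lit 0x708998) (nat_lit 82675) (nat_lit 0x4cb288) .nil) (nat_lit 0x708c32) (nat_lit
  92468) (nat_lit 0x43130e) .nil) (nat_lit 0x709464) (nat_lit 97569) (nat_lit 0x484c6a) (.node (.node .nil
  (nat_lit 0x709e80) (nat_lit 56323) (nat_lit 0x683708) .nil) (nat_lit 0x70a0a6) (nat_lit 72563) (nat_lit
  0x41326a) .nil)) (nat_lit 0x70a50c) (nat_lit 69971) (nat_lit 0x40b1e8) (.node (.node (.node .nil (nat_lit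
  0x70ae80) (nat_lit 33796) (nat_lit 78254) .nil) (nat_lit 0x70b680) (nat_lit 58563) (nat_lit 0x603728) .nil)
  (nat_lit 0x70ba80) (nat_lit 70915) (nat_lit 0x683628) (.node (.node .nil (nat_lit 0x70bc80) (nat_lit 84356)
  (nat_lit 0x21318e) .nil) (nat_lit 0x70be00) (nat_lit 76291) (nat_lit 0x683528) .nil)))))) (nat_lit 0x70c1c2)
  (nat_lit 62961) (nat_lit 0x489c98) (.node (.node (.node (.node (.node (.node (.node .nil (nat_lit 0x70c4c2)
  (nat_lit 82307) (nat_lit 0x403b1a) .nil) (nat_lit 0x70c542) (nat_lit 79299) (nat_lit 0x40399a) .nil)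
  (nat_lit 0x70c582) (nat_lit 84417) (nat_lit 0x489cb0) (.node (.node .nil (nat_lit 0x70c5c0) (nat_lit 32675)
  (nat_lit 0x403b98) .nil) (nat_lit 0x70c618) (nat_lit 62163) (nat_lit 0x44bd08) .nil)) (nat_lit 0x70d0b0)
  (nat_lit 95940) (nat_lit 0x26330a) (.node (.node (.node .nil (nat_lit 0x7100f4) (nat_lit 60308) (nat_lit
  671490) .nil) (nat_lit 0x710174) (nat_lit 68116) (nat_lit 0x1a1f02) .nil) (nat_lit 0x7101b4) (nat_lit 38353)
  (nat_lit 0x40cd16) (.node (.node .nil (nat_lit 0x7101d4) (nat_lit 53937) (nat_lit 0x408d1e) .nil) (nat_lit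
  0x7101e4) (nat_lit 31459) (nat_lit 0x5132d0) .nil))) (nat_lit 0x7101f0) (nat_lit 73715) (nat_lit 0x553290)
  (.node (.node (.node (.node .nil (nat_lit 0x71022e) (nat_lit 3619) (nat_lit 0x51b442) .nil) (nat_lit
  0x7108ca) (nat_lit 81202) (nat_lit 0x2a056c) .nil) (nat_lit 0x710c32) (nat_lit 98178) (nat_lit 0x3e01e0)
  (.node (.node .nil (nat_lit 0x711388) (nat_lit 30210) (nat_lit 0x283728) .nil) (nat_lit 0x711486) (nat_lit
  9521) (nat_lit 0x409d62) .nil)) (nat_lit 0x7120ca) (nat_lit 62145) (nat_lit 0x44bd08) (.node (.node (.node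
  .nil (nat_lit 0x71250c) (nat_lit 31089) (nat_lit 0x442d32) .nil) (nat_lit 0x71284a) (nat_lit 55058) (nat_lit
  0x2b016c) .nil) (nat_lit 0x71288a) (nat_lit 33122) (nat_lit 0x2b0568) (.node (.node .nil (nat_lit 0x7128c2)
  (nat_lit 56018) (nat_lit 0x2b0564) .nil) (nat_lit 0x7128c8) (nat_lit 50866) (nat_lit 0x2b052c) .nil))))
  (nat_lit 0x712b10) (nat_lit 93107) (nat_lit 0x5c34a0) (.node (.node (.node (.node (.node .nil (nat_lit
  0x714388) (nat_lit 16625) (nat_lit 0x41ad90) .nil) (nat_lit 0x715052) (nat_lit 21265) (nat_lit 0x401dcc)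
  .nil) (nat_lit 0x715188) (nat_lit 35602) (nat_lit 0x681728) (.node (.node .nil (nat_lit 0x715288) (nat_lit
  53841) (nat_lit 0x41adc0) .nil) (nat_lit 0x715308) (nat_lit 73361) (nat_lit 0x412dd0) .nil)) (nat_lit
  0x715380) (nat_lit 57697) (nat_lit 0x418dd0) (.node (.node (.node .nil (nat_lit 0x716490) (nat_lit 75987)
  (nat_lit 0x543b20) .nil) (nat_lit 0x718432) (nat_lit 92995) (nat_lit 0x55310a) .nil) (nat_lit 0x71850c)
  (nat_lit 39796) (nat_lit 0x119d0a) (.node (.node .nil (nat_lit 0x718832) (nat_lit 97875) (nat_lit 0x5d300a)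
  .nil) (nat_lit 0x718c12) (nat_lit 91859) (nat_lit 0x5c310a) .nil))) (nat_lit 0x718c22) (nat_lit 93378)
  (nat_lit 0x3a81e0) (.node (.node (.node (.node .nil (nat_lit 0x718c30) (nat_lit 98516) (nat_lit 202510)
  .nil) (nat_lit 0x719214) (nat_lit 419) (nat_lit 0x743448) .nil) (nat_lit 0x719940) (nat_lit 46115) (nat_lit
  0x783098) (.node (.node .nil (nat_lit 0x71a10c) (nat_lit 53553) (nat_lit 0x4c2d12) .nil) (nat_lit 0x71a40c)
  (nat_lit 56337) (nat_lit 0x4c2d22) .nil)) (nat_lit 0x71a504) (nat_lit 30596) (nat_lit 0x111d8a) (.node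
  (.node (.node .nil (nat_lit 0x71a508) (nat_lit 16033) (nat_lit 0x4c2d30) .nil) (nat_lit 0x71c068) (nat_lit
  93089) (nat_lit 0x486d88) .nil) (nat_lit 0x71e202) (nat_lit 37729) (nat_lit 0x4d1d80) (.node (.node .nil
  (nat_lit 0x72005e) (nat_lit 23634) (nat_lit 0x2c407c) .nil) (nat_lit 0x72041e) (nat_lit 35170) (nat_lit
  0x3c4078) .nil))))) (nat_lit 0x72044e) (nat_lit 47154) (nat_lit 0x38407c) (.node (.node (.node (.node (.node
  (.node .nil (nat_lit 0x720456) (nat_lit 26514) (nat_lit 0x3c4074) .nil) (nat_lit 0x72045a) (nat_lit 33170)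
  (nat_lit 0x3c406c) .nil) (nat_lit 0x72045c) (nat_lit 35011) (nat_lit 0x44f150) (.node (.node .nil (nat_lit
  0x720784) (nat_lit 97828) (nat_lit 0x113932) .nil) (nat_lit 0x720998) (nat_lit 74435) (nat_lit 0x4cf280)
  .nil)) (nat_lit 0x720d60) (nat_lit 81665) (nat_lit 0x524c38) (.node (.node (.node .nil (nat_lit 0x72112c)
  (nat_lit 25313) (nat_lit 0x506c52) .nil) (nat_lit 0x721622) (nat_lit 17906) (nat_lit 0x3862e0) .nil)
  (nat_lit 0x7220a6) (nat_lit 96548) (nat_lit 0x403b92) (.node (.node .nil (nat_lit 0x722560) (nat_lit 50801)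
  (nat_lit 0x544c38) .nil) (nat_lit 0x722960) (nat_lit 62835) (nat_lit 0x4970b0) .nil))) (nat_lit 0x722c60)
  (nat_lit 91393) (nat_lit 0x564c28) (.node (.node (.node (.node .nil (nat_lit 0x722d20) (nat_lit 75363)
  (nat_lit 0x4971a0) .nil) (nat_lit 0x722d40) (nat_lit 65425) (nat_lit 0x560c38) .nil) (nat_lit 0x723812)
  (nat_lit 57378) (nat_lit 0x2f4260) (.node (.node .nil (nat_lit 0x724350) (nat_lit 88001) (nat_lit 0x510c9c)
  .nil) (nat_lit 0x724622) (nat_lit 45026) (nat_lit 0x7860e0) .nil)) (nat_lit 0x725222) (nat_lit 47140)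
  (nat_lit 0x641332) (.node (.node (.node .nil (nat_lit 0x725422) (nat_lit 23604) (nat_lit 0x651312) .nil)
  (nat_lit 0x725602) (nat_lit 26484) (nat_lit 0x651132) .nil) (nat_lit 0x725620) (nat_lit 51220) (nat_lit
  0x251332) (.node (.node .nil (nat_lit 0x726490) (nat_lit 95122) (nat_lit 0x7d4420) .nil) (nat_lit 0x7280a6)
  (nat_lit 82324) (nat_lit 0x403b1a) .nil)))) (nat_lit 0x728198) (nat_lit 82531) (nat_lit 0x44f288) (.node
  (.node (.node (.node (.node .nil (nat_lit 0x728898) (nat_lit 89492) (nat_lit 176414) .nil) (nat_lit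
  0x728918) (nat_lit 60497) (nat_lit 0x5a2c14) .nil) (nat_lit 0x728988) (nat_lit 34067) (nat_lit 0x48f288)
  (.node (.node .nil (nat_lit 0x728990) (nat_lit 36067) (nat_lit 0x4c7288) .nil) (nat_lit 0x728a42) (nat_lit
  64020) (nat_lit 0x48113e) .nil)) (nat_lit 0x729214) (nat_lit 8241) (nat_lit 0x590c46) (.node (.node (.node
  .nil (nat_lit 0x72a026) (nat_lit 75009) (nat_lit 0x5c5c02) .nil) (nat_lit 0x72a086) (nat_lit 59538) (nat_lit
  0x29c470) .nil) (nat_lit 0x72a0a2) (nat_lit 91585) (nat_lit 0x5cdc00) (.node (.node .nil (nat_lit 0x72a0a4)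
  (nat_lit 74164) (nat_lit 15258) .nil) (nat_lit 0x72c068) (nat_lit 97012) (nat_lit 824090) .nil))) (nat_lit
  0x72f100) (nat_lit 55505) (nat_lit 0x5c0cd0) (.node (.node (.node (.node .nil (nat_lit 0x730aa0) (nat_lit
  98481) (nat_lit 0x53cd00) .nil) (nat_lit 0x731214) (nat_lit 1747) (nat_lit 0x747440) .nil) (nat_lit
  0x731c08) (nat_lit 40449) (nat_lit 0x522d60) (.node (.node .nil (nat_lit 0x732490) (nat_lit 69682) (nat_lit
  0x3d4520) .nil) (nat_lit 0x734068) (nat_lit 85857) (nat_lit 0x506d88) .nil)) (nat_lit 0x734490) (nat_lit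
  75284) (nat_lit 472338) (.node (.node (.node .nil (nat_lit 0x736090) (nat_lit 60420) (nat_lit 406930) .nil)
  (nat_lit 0x736410) (nat_lit 86355) (nat_lit 0x547920) .nil) (nat_lit 0x736480) (nat_lit 89107) (nat_lit
  0x507b20) (.node (.node .nil (nat_lit 0x738068) (nat_lit 67444) (nat_lit 562970) .nil) (nat_lit 0x738214)
  (nat_lit 4707) (nat_lit 0x547448) .nil)))))))
def t6160_31 : T := (.node (.node (.node (.node (.node (.node (.node (.node .nil (nat_lit 0x739204) (nat_lit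
  5908) (nat_lit 0x201d3a) .nil) (nat_lit 0x739210) (nat_lit 4147) (nat_lit 0x747408) .nil) (nat_lit 0x73c028)
  (nat_lit 98339) (nat_lit 0x51f808) (.node (.node .nil (nat_lit 0x73c048) (nat_lit 98033) (nat_lit 0x582d88)
  .nil) (nat_lit 0x73c060) (nat_lit 97460) (nat_lit 792346) .nil)) (nat_lit 0x7402cc) (nat_lit 83985) (nat_lit
  0x41ae0a) (.node (.node (.node .nil (nat_lit 0x740634) (nat_lit 38850) (nat_lit 0x3c20b2) .nil) (nat_lit
  0x74070a) (nat_lit 22562) (nat_lit 0x38306a) .nil) (nat_lit 0x740b0a) (nat_lit 4930) (nat_lit 0x2a306a)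
  (.node (.node .nil (nat_lit 0x740cd0) (nat_lit 57969) (nat_lit 0x428e2c) .nil) (nat_lit 0x740d0a) (nat_lit
  14242) (nat_lit 0x3a106a) .nil))) (nat_lit 0x740e0a) (nat_lit 9874) (nat_lit 0x3a206a) (.node (.node (.node
  (.node .nil (nat_lit 0x740f02) (nat_lit 9586) (nat_lit 0x3a3062) .nil) (nat_lit 0x740f08) (nat_lit 4354)
  (nat_lit 0x3a302a) .nil) (nat_lit 0x74112c) (nat_lit 16899) (nat_lit 0x61b0c4) (.node (.node .nil (nat_lit
  0x741486) (nat_lit 4225) (nat_lit 0x409e62) .nil) (nat_lit 0x742234) (nat_lit 77393) (nat_lit 0x454e06)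
  .nil)) (nat_lit 0x742434) (nat_lit 41761) (nat_lit 0x444e26) (.node (.node (.node .nil (nat_lit 0x742614)
  (nat_lit 32177) (nat_lit 0x450e26) .nil) (nat_lit 0x742624) (nat_lit 50929) (nat_lit 0x454e22) .nil)
  (nat_lit 0x742630) (nat_lit 81233) (nat_lit 0x454e24) (.node (.node .nil (nat_lit 0x743448) (nat_lit 115)
  (nat_lit 0x60b134) .nil) (nat_lit 0x743812) (nat_lit 78052) (nat_lit 0x625186) .nil)))) (nat_lit 0x744350)
  (nat_lit 54273) (nat_lit 0x410e9c) (.node (.node (.node (.node (.node .nil (nat_lit 0x7450b0) (nat_lit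
  98100) (nat_lit 0x267302) .nil) (nat_lit 0x745448) (nat_lit 1491) (nat_lit 0x60b914) .nil) (nat_lit
  0x746448) (nat_lit 1811) (nat_lit 0x40b934) (.node (.node .nil (nat_lit 0x747048) (nat_lit 707) (nat_lit
  0x60b834) .nil) (nat_lit 0x747408) (nat_lit 1571) (nat_lit 0x60b924) .nil)) (nat_lit 0x747440) (nat_lit 595)
  (nat_lit 0x603934) (.node (.node (.node .nil (nat_lit 0x7480cc) (nat_lit 72035) (nat_lit 0x40b25c) .nil)
  (nat_lit 0x748116) (nat_lit 40881) (nat_lit 0x481e16) .nil) (nat_lit 0x74824c) (nat_lit 65777) (nat_lit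
  0x492e0a) (.node (.node .nil (nat_lit 0x74828c) (nat_lit 90740) (nat_lit 63786) .nil) (nat_lit 0x7482c4)
  (nat_lit 97267) (nat_lit 0x40365c) .nil))) (nat_lit 0x7482c8) (nat_lit 59779) (nat_lit 0x40b61c) (.node
  (.node (.node (.node .nil (nat_lit 0x7490b0) (nat_lit 92562) (nat_lit 0x2c86a2) .nil) (nat_lit 0x749940)
  (nat_lit 73939) (nat_lit 0x68309c) .nil) (nat_lit 0x74a828) (nat_lit 92403) (nat_lit 0x49b02c) (.node (.node
  .nil (nat_lit 0x74c0b0) (nat_lit 93843) (nat_lit 0x453a0c) .nil) (nat_lit 0x74d030) (nat_lit 59908) (nat_lit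
  0x26530a) .nil)) (nat_lit 0x74d090) (nat_lit 93684) (nat_lit 0x26710a) (.node (.node (.node .nil (nat_lit
  0x74d0a0) (nat_lit 92929) (nat_lit 0x48cec0) .nil) (nat_lit 0x74e202) (nat_lit 34322) (nat_lit 0x69a062)
  .nil) (nat_lit 0x750486) (nat_lit 20481) (nat_lit 0x409f22) (.node (.node .nil (nat_lit 0x750aa0) (nat_lit
  59665) (nat_lit 0x43cf00) .nil) (nat_lit 0x751086) (nat_lit 4785) (nat_lit 0x409f42) .nil))))) (nat_lit
  0x751406) (nat_lit 15185) (nat_lit 0x401f62) (.node (.node (.node (.node (.node (.node .nil (nat_lit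
  0x751482) (nat_lit 6529) (nat_lit 0x409f60) .nil) (nat_lit 0x751484) (nat_lit 3521) (nat_lit 0x408f62) .nil)
  (nat_lit 0x751940) (nat_lit 75730) (nat_lit 0x2a1326) (.node (.node .nil (nat_lit 0x754520) (nat_lit 58065)
  (nat_lit 0x404fb0) .nil) (nat_lit 0x756202) (nat_lit 36707) (nat_lit 0x503c26) .nil)) (nat_lit 0x758940)
  (nat_lit 55251) (nat_lit 0x58309c) (.node (.node (.node .nil (nat_lit 0x759140) (nat_lit 73828) (nat_lit
  0x38550a) .nil) (nat_lit 0x759840) (nat_lit 19619) (nat_lit 0x78301c) .nil) (nat_lit 0x759900) (nat_lit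
  31668) (nat_lit 0x30550e) (.node (.node .nil (nat_lit 0x75a202) (nat_lit 18914) (nat_lit 0x29a162) .nil)
  (nat_lit 0x75c202) (nat_lit 35747) (nat_lit 0x503c0e) .nil))) (nat_lit 0x75e002) (nat_lit 32771) (nat_lit
  0x50382e) (.node (.node (.node (.node .nil (nat_lit 0x75e200) (nat_lit 61476) (nat_lit 284074) .nil)
  (nat_lit 0x76012c) (nat_lit 10257) (nat_lit 0x506e12) .nil) (nat_lit 0x760350) (nat_lit 17585) (nat_lit
  0x510e1c) (.node (.node .nil (nat_lit 0x760aa0) (nat_lit 90897) (nat_lit 0x53ce00) .nil) (nat_lit 0x76102c)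
  (nat_lit 30513) (nat_lit 0x506e42) .nil)) (nat_lit 0x76110c) (nat_lit 26145) (nat_lit 0x502e52) (.node
  (.node (.node .nil (nat_lit 0x761124) (nat_lit 22721) (nat_lit 0x504e52) .nil) (nat_lit 0x761128) (nat_lit
  5169) (nat_lit 0x506e50) .nil) (nat_lit 0x761812) (nat_lit 44100) (nat_lit 0x625116) (.node (.node .nil
  (nat_lit 0x762812) (nat_lit 42641) (nat_lit 0x561e04) .nil) (nat_lit 0x763012) (nat_lit 49556) (nat_lit
  0x625192) .nil)))) (nat_lit 0x763802) (nat_lit 16804) (nat_lit 0x605196) (.node (.node (.node (.node (.node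
  .nil (nat_lit 0x763810) (nat_lit 48561) (nat_lit 0x560e44) .nil) (nat_lit 0x76408a) (nat_lit 40371) (nat_lit
  0x40fa06) .nil) (nat_lit 0x764150) (nat_lit 72961) (nat_lit 0x500e9c) (.node (.node .nil (nat_lit 0x764250)
  (nat_lit 81137) (nat_lit 0x510e8c) .nil) (nat_lit 0x764310) (nat_lit 68913) (nat_lit 0x510e94) .nil))
  (nat_lit 0x764340) (nat_lit 50065) (nat_lit 0x510e98) (.node (.node (.node .nil (nat_lit 0x7702a0) (nat_lit
  96673) (nat_lit 0x51cf00) .nil) (nat_lit 0x7708a0) (nat_lit 89393) (nat_lit 0x52cf00) .nil) (nat_lit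
  0x770a20) (nat_lit 93700) (nat_lit 22326) (.node (.node .nil (nat_lit 0x770a80) (nat_lit 92386) (nat_lit
  0x2a6522) .nil) (nat_lit 0x772044) (nat_lit 2993) (nat_lit 0x540f0a) .nil))) (nat_lit 0x78022e) (nat_lit
  2131) (nat_lit 0x43b442) (.node (.node (.node (.node .nil (nat_lit 0x780784) (nat_lit 68612) (nat_lit
  0x113962) .nil) (nat_lit 0x7809a2) (nat_lit 95107) (nat_lit 0x4b3282) .nil) (nat_lit 0x780cd0) (nat_lit
  81297) (nat_lit 0x628c2c) (.node (.node .nil (nat_lit 0x78109c) (nat_lit 25123) (nat_lit 0x66b240) .nil)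
  (nat_lit 0x7811a2) (nat_lit 68644) (nat_lit 0x703342) .nil)) (nat_lit 0x781464) (nat_lit 90612) (nat_lit
  0x291b42) (.node (.node (.node .nil (nat_lit 0x7818a2) (nat_lit 79204) (nat_lit 0x603346) .nil) (nat_lit
  0x781922) (nat_lit 85265) (nat_lit 0x625c50) .nil) (nat_lit 0x781982) (nat_lit 67972) (nat_lit 0x703146)
  (.node (.node .nil (nat_lit 0x7819a0) (nat_lit 70275) (nat_lit 0x6b3280) .nil) (nat_lit 0x78209c) (nat_lit
  14051) (nat_lit 0x46b260) .nil)))))) (nat_lit 0x7822e0) (nat_lit 52323) (nat_lit 0x433630) (.node (.node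
  (.node (.node (.node (.node (.node .nil (nat_lit 0x782b10) (nat_lit 62241) (nat_lit 0x670c14) .nil) (nat_lit
  0x78301c) (nat_lit 8387) (nat_lit 0x66b060) .nil) (nat_lit 0x78308c) (nat_lit 34691) (nat_lit 0x62b260)
  (.node (.node .nil (nat_lit 0x783094) (nat_lit 48259) (nat_lit 0x663260) .nil) (nat_lit 0x783098) (nat_lit
  21987) (nat_lit 0x66b220) .nil)) (nat_lit 0x7842e0) (nat_lit 27491) (nat_lit 0x433e10) (.node (.node (.node
  .nil (nat_lit 0x784618) (nat_lit 65185) (nat_lit 0x612ca4) .nil) (nat_lit 0x785052) (nat_lit 61425) (nat_lit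
  0x601ccc) .nil) (nat_lit 0x7860e0) (nat_lit 21299) (nat_lit 0x433a30) (.node (.node .nil (nat_lit 0x786260)
  (nat_lit 33523) (nat_lit 0x433c30) .nil) (nat_lit 0x7862a0) (nat_lit 39217) (nat_lit 0x65cc80) .nil)))
  (nat_lit 0x7862c0) (nat_lit 30803) (nat_lit 0x423e30) (.node (.node (.node (.node .nil (nat_lit 0x788116)
  (nat_lit 81396) (nat_lit 0x52194a) .nil) (nat_lit 0x788464) (nat_lit 89793) (nat_lit 0x684c2a) .nil)
  (nat_lit 0x788618) (nat_lit 39603) (nat_lit 0x46b508) (.node (.node .nil (nat_lit 0x788a42) (nat_lit 30115)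
  (nat_lit 0x4a341a) .nil) (nat_lit 0x789064) (nat_lit 67811) (nat_lit 0x633058) .nil)) (nat_lit 0x789424)
  (nat_lit 85074) (nat_lit 0x388ab0) (.node (.node (.node .nil (nat_lit 0x789444) (nat_lit 85505) (nat_lit
  0x680c6a) .nil) (nat_lit 0x789460) (nat_lit 71793) (nat_lit 0x684c68) .nil) (nat_lit 0x78a828) (nat_lit
  90882) (nat_lit 0x2b88a8) (.node (.node .nil (nat_lit 0x78c218) (nat_lit 95795) (nat_lit 0x46bc08) .nil)
  (nat_lit 0x78c418) (nat_lit 40851) (nat_lit 0x46b908) .nil)))) (nat_lit 0x78c608) (nat_lit 86323) (nat_lit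
  0x42bd08) (.node (.node (.node (.node (.node .nil (nat_lit 0x78c610) (nat_lit 83363) (nat_lit 0x463d08)
  .nil) (nat_lit 0x78f100) (nat_lit 85763) (nat_lit 0x6238a8) .nil) (nat_lit 0x79002e) (nat_lit 4820) (nat_lit
  0x409f42) (.node (.node .nil (nat_lit 0x79020e) (nat_lit 9556) (nat_lit 0x409d62) .nil) (nat_lit 0x790226)
  (nat_lit 2578) (nat_lit 0x2829f0) .nil)) (nat_lit 0x79022a) (nat_lit 9795) (nat_lit 0x53b402) (.node (.node
  (.node .nil (nat_lit 0x79022c) (nat_lit 916) (nat_lit 40802) .nil) (nat_lit 0x790b10) (nat_lit 93633)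
  (nat_lit 0x630d14) .nil) (nat_lit 0x791052) (nat_lit 7521) (nat_lit 0x601d4c) (.node (.node .nil (nat_lit
  0x791c08) (nat_lit 94547) (nat_lit 0x7ab100) .nil) (nat_lit 0x792310) (nat_lit 86003) (nat_lit 0x5634a0)
  .nil))) (nat_lit 0x792910) (nat_lit 90673) (nat_lit 0x660d14) (.node (.node (.node (.node .nil (nat_lit
  0x792a10) (nat_lit 92004) (nat_lit 136678) .nil) (nat_lit 0x792b00) (nat_lit 96065) (nat_lit 0x670d10) .nil)
  (nat_lit 0x794052) (nat_lit 31011) (nat_lit 0x563812) (.node (.node .nil (nat_lit 0x794520) (nat_lit 92691)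
  (nat_lit 0x533980) .nil) (nat_lit 0x795012) (nat_lit 37220) (nat_lit 0x661542) .nil)) (nat_lit 0x795042)
  (nat_lit 52289) (nat_lit 0x601dc8) (.node (.node (.node .nil (nat_lit 0x795050) (nat_lit 47777) (nat_lit
  0x600dcc) .nil) (nat_lit 0x7a0384) (nat_lit 91971) (nat_lit 0x4276c0) .nil) (nat_lit 0x7a0584) (nat_lit
  69316) (nat_lit 0x113952) (.node (.node .nil (nat_lit 0x7a0684) (nat_lit 96244) (nat_lit 80242) .nil)
  (nat_lit 0x7a0704) (nat_lit 93043) (nat_lit 0x4275c0) .nil))))) (nat_lit 0x7a0780) (nat_lit 97938) (nat_lit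
  0x387c20) (.node (.node (.node (.node (.node (.node .nil (nat_lit 0x7a0a42) (nat_lit 71057) (nat_lit
  0x731c08) .nil) (nat_lit 0x7a1c08) (nat_lit 84404) (nat_lit 0x219156) .nil) (nat_lit 0x7a408a) (nat_lit
  41059) (nat_lit 0x42fa02) (.node (.node .nil (nat_lit 0x7a7100) (nat_lit 85537) (nat_lit 0x740cd0) .nil)
  (nat_lit 0x7a8242) (nat_lit 81699) (nat_lit 0x42741a) .nil)) (nat_lit 0x7a8842) (nat_lit 55988) (nat_lit
  0x48115e) (.node (.node (.node .nil (nat_lit 0x7a8a02) (nat_lit 67316) (nat_lit 0x40117e) .nil) (nat_lit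
  0x7a8a40) (nat_lit 78851) (nat_lit 0x4a7418) .nil) (nat_lit 0x7ab100) (nat_lit 74353) (nat_lit 0x7c0c50)
  (.node (.node .nil (nat_lit 0x7ad100) (nat_lit 88132) (nat_lit 0x34115a) .nil) (nat_lit 0x7ae100) (nat_lit
  35937) (nat_lit 0x7c0c90) .nil))) (nat_lit 0x7af000) (nat_lit 33937) (nat_lit 0x7c0cc0) (.node (.node (.node
  (.node .nil (nat_lit 0x7b0c08) (nat_lit 87411) (nat_lit 0x5af100) .nil) (nat_lit 0x7b1408) (nat_lit 83473)
  (nat_lit 0x702d60) .nil) (nat_lit 0x7b1808) (nat_lit 63635) (nat_lit 0x7af000) (.node (.node .nil (nat_lit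
  0x7b1c00) (nat_lit 91636) (nat_lit 0x211556) .nil) (nat_lit 0x7b2044) (nat_lit 8036) (nat_lit 531922) .nil))
  (nat_lit 0x7c0116) (nat_lit 76385) (nat_lit 0x601e16) (.node (.node (.node .nil (nat_lit 0x7c04d0) (nat_lit
  53345) (nat_lit 0x608e2c) .nil) (nat_lit 0x7c08d0) (nat_lit 28929) (nat_lit 0x628e0c) .nil) (nat_lit
  0x7c0c50) (nat_lit 43457) (nat_lit 0x620e2c) (.node (.node .nil (nat_lit 0x7c0c90) (nat_lit 16129) (nat_lit
  0x628e24) .nil) (nat_lit 0x7c0cc0) (nat_lit 15057) (nat_lit 0x628e28) .nil)))) (nat_lit 0x7c2828) (nat_lit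
  92497) (nat_lit 0x666e00) (.node (.node (.node (.node (.node .nil (nat_lit 0x7c408a) (nat_lit 57843)
  (nat_lit 0x42ba06) .nil) (nat_lit 0x7c4520) (nat_lit 83299) (nat_lit 0x433984) .nil) (nat_lit 0x7c8016)
  (nat_lit 69457) (nat_lit 0x681e06) (.node (.node .nil (nat_lit 0x7c8106) (nat_lit 53764) (nat_lit 0x50594a)
  .nil) (nat_lit 0x7c8112) (nat_lit 16484) (nat_lit 0x52514a) .nil)) (nat_lit 0x7c8114) (nat_lit 43988)
  (nat_lit 0x12594a) (.node (.node (.node .nil (nat_lit 0x7c8828) (nat_lit 89378) (nat_lit 0x2a88aa) .nil)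
  (nat_lit 0x7ca028) (nat_lit 61923) (nat_lit 0x43b02c) .nil) (nat_lit 0x7ca808) (nat_lit 66755) (nat_lit
  0x4ab02c) (.node (.node .nil (nat_lit 0x7ca820) (nat_lit 97667) (nat_lit 0x4b302c) .nil) (nat_lit 0x7d0520)
  (nat_lit 68001) (nat_lit 0x604f30) .nil))) (nat_lit 0x7d2044) (nat_lit 8993) (nat_lit 0x640f0a) (.node
  (.node (.node (.node .nil (nat_lit 0x7d4120) (nat_lit 89075) (nat_lit 0x533884) .nil) (nat_lit 0x7d4420)
  (nat_lit 75875) (nat_lit 0x533904) .nil) (nat_lit 0x7d4500) (nat_lit 91812) (nat_lit 0x155542) (.node (.node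
  .nil (nat_lit 0x7e008a) (nat_lit 57475) (nat_lit 0x42f206) .nil) (nat_lit 0x7e2044) (nat_lit 22897) (nat_lit
  0x740e0a) .nil)) (nat_lit 0x7e400a) (nat_lit 33380) (nat_lit 0x44d152) (.node (.node (.node .nil (nat_lit
  0x7e4082) (nat_lit 79476) (nat_lit 0x447152) .nil) (nat_lit 0x7e4088) (nat_lit 63409) (nat_lit 0x70ae80)
  .nil) (nat_lit 0x7f0044) (nat_lit 25457) (nat_lit 0x700f0a) (.node (.node .nil (nat_lit 0x7f2004) (nat_lit
  22225) (nat_lit 0x740f02) .nil) (nat_lit 0x7f2040) (nat_lit 10449) (nat_lit 0x740f08) .nil)))))))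
def t6160 : T := (.node (.node (.node (.node (.node t6160_0 (nat_lit 175398) (nat_lit 44772) (nat_lit
  0x510a9c) t6160_1) (nat_lit 341394) (nat_lit 87987) (nat_lit 0x3403a6) (.node t6160_2 (nat_lit 495946)
  (nat_lit 71572) (nat_lit 0x78c418) t6160_3)) (nat_lit 656372) (nat_lit 50500) (nat_lit 0x1a2a70) (.node
  (.node t6160_4 (nat_lit 825106) (nat_lit 86034) (nat_lit 0x14ba42) t6160_5) (nat_lit 0x1022fc) (nat_lit
  85796) (nat_lit 699296) (.node t6160_6 (nat_lit 0x1283ac) (nat_lit 36467) (nat_lit 124616) t6160_7)))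
  (nat_lit 0x15053a) (nat_lit 94196) (nat_lit 0x53c700) (.node (.node (.node t6160_8 (nat_lit 0x18a38a)
  (nat_lit 36324) (nat_lit 0x50a1e8) t6160_9) (nat_lit 0x1c1568) (nat_lit 2225) (nat_lit 0x206678) (.node
  t6160_10 (nat_lit 0x208eca) (nat_lit 67427) (nat_lit 562970) t6160_11)) (nat_lit 0x22b9c0) (nat_lit 17089)
  (nat_lit 0x5e8058) (.node (.node t6160_12 (nat_lit 0x257114) (nat_lit 74626) (nat_lit 0x451332) t6160_13)
  (nat_lit 0x290936) (nat_lit 13603) (nat_lit 0x1f10c2) (.node t6160_14 (nat_lit 0x2c6942) (nat_lit 38817)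
  (nat_lit 0x661298) t6160_15)))) (nat_lit 0x30db02) (nat_lit 19571) (nat_lit 0x283c8a) (.node (.node (.node
  (.node t6160_16 (nat_lit 0x34407c) (nat_lit 8641) (nat_lit 0x40668e) t6160_17) (nat_lit 0x38a18a) (nat_lit
  53473) (nat_lit 0x6cb410) (.node t6160_18 (nat_lit 0x403c2e) (nat_lit 45651) (nat_lit 0x698162) t6160_19))
  (nat_lit 0x42c64a) (nat_lit 44212) (nat_lit 0x4d803a) (.node (.node t6160_20 (nat_lit 0x45414e) (nat_lit
  28339) (nat_lit 0x5088d6) t6160_21) (nat_lit 0x48b232) (nat_lit 40643) (nat_lit 0x67042a) (.node t6160_22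
  (nat_lit 0x4c0b64) (nat_lit 45140) (nat_lit 0x184a66) t6160_23))) (nat_lit 0x5086f0) (nat_lit 87604)
  (nat_lit 729898) (.node (.node (.node t6160_24 (nat_lit 0x53a442) (nat_lit 1105) (nat_lit 0x1c1d28)
  t6160_25) (nat_lit 0x586c88) (nat_lit 88209) (nat_lit 0x26aca0) (.node t6160_26 (nat_lit 0x5f0610) (nat_lit
  66243) (nat_lit 0x566504) t6160_27)) (nat_lit 0x6295a0) (nat_lit 50786) (nat_lit 0x18d6a0) (.node (.node
  t6160_28 (nat_lit 0x670aa0) (nat_lit 97601) (nat_lit 0x53cb00) t6160_29) (nat_lit 0x6c7024) (nat_lit 71585)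
  (nat_lit 0x644ac2) (.node t6160_30 (nat_lit 0x739014) (nat_lit 2035) (nat_lit 0x747048) t6160_31)))))

/-- Code of a non-central element of order three. -/
def kx3 : ℕ := nat_lit 0xb84b47122c69909b2a0f3cc62ac9604c0c80880440e409c002a015039027008004b00600a8054090070001b036002001039027
/-- Code of its image in the other `M₂₄`. -/
def px3 : ℕ := nat_lit 0xb95a09922c0b907b51358196393c4a
/-- The codes of the elements of the Sylow three-subgroup. -/
def l27 : List ℕ := [nat_lit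
  0xbdab49ca307b9ac5a928398a418820800400200100080040020010008004002001800400200100080040020010008004002001,
  nat_lit
  0xbdab49ca307b9ac5a928398a418820c008003002000c008001003000400c001003400c001003000400c003002000c008003002,
  nat_lit
  0xb84b47122c69909b2a0f3cc62ac9604c0c80880440e409c002a015039027008004b00600a8054090070001b036002001039027,
  nat_lit
  0xbc86a5ba306d90c11d2fa06a62cc80c808400400c02c018001003002701e008004600d0018034030020003002000200102701e,
  nat_lit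
  0xbdab49ca307b9ac5a928398a418820400c001003000400c003002000c008003002c008003002000c008001003000400c001003,
  nat_lit
  0xb84b47122c69909b2a0f3cc62ac9608404c0cc0880780e4001503f02701e00400c600d00540fc0700e0002d01b00300201e039,
  nat_lit
  0xbc86a5ba306d90c11d2fa06a62cc804c0c800800403402c003002001e03900400cd00b003402c0200100010030003002039027,
  nat_lit
  0xbac7430a2944df00a98d3bab2292c0b00600a8054090070001b0360020010390274c0c80880440e409c002a015039027008004,
  nat_lit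
  0xb92aab1a2c405e991e0da2cb31b840600d009c0780f00a0001503f0010030390274c0c80480c40540fc001b03602701e00c008,
  nat_lit
  0xb92aab1a2c405e991e0da2cb31b840b00600e409c0500f0003f02a00300202701ec80840c408c0fc0a8002d01b03902700400c,
  nat_lit
  0xbb8a715a30449ec9d12d51061aacc0600d0018034030020003002000200102701ec808400400c02c018001003002701e008004,
  nat_lit
  0xb84b47122c69909b2a0f3cc62ac960c80840440cc09c078003f02a01e03900c008d00b00fc0a80e0090003602d00100302701e,
  nat_lit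
  0xbc86a5ba306d90c11d2fa06a62cc808404c00c008018034002001003902700c008b006002c018010030002001000100301e039,
  nat_lit
  0xbac7430a2944df00a98d3bab2292c0d00b00fc0a80e0090003602d00100302701ec80840440cc09c078003f02a01e03900c008,
  nat_lit
  0xb92aab1a2c405e991e0da2cb31b840d00b00780e40a0050002a01500200101e0398404c08c0480a8054003602d01e039008004,
  nat_lit
  0xbb8a715a30449ec9d12d51061aacc0b006002c018010030002001000100301e0398404c00c008018034002001003902700c008,
  nat_lit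
  0xb88aa0ce297adb021d88a586ea9a40400c00700e00480c4003602d00400c002001c00800500f0088044001503f00c008002001,
  nat_lit
  0xb88aa0ce297adb021d88a586ea9a408004009007008c048002d01b00c008001003800400f00a00440cc002a01500400c003002,
  nat_lit
  0xb98679062c791a97520850aab2da60400c00a00500cc088003f02a008004001003c00800e00900c408c001b036008004003002,
  nat_lit
  0xb88aa0ce297adb021d88a586ea9a40c00800e00900c408c001b036008004003002400c00a00500cc088003f02a008004001003,
  nat_lit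
  0xb98679062c791a97520850aab2da60800400f00a00440cc002a01500400c0030028004009007008c048002d01b00c008001003,
  nat_lit
  0xb98679062c791a97520850aab2da60c00800500f0088044001503f00c008002001400c00700e00480c4003602d00400c002001,
  nat_lit
  0xbac7430a2944df00a98d3bab2292c0600d00540fc0700e0002d01b00300201e0398404c0cc0880780e4001503f02701e00400c,
  nat_lit
  0xbb8a715a30449ec9d12d51061aacc0d00b003402c02001000100300030020390274c0c800800403402c003002001e03900400c,
  nat_lit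
  0xbcea722e29689103518f548b6185c0c80840c408c0fc0a8002d01b03902700400cb00600e409c0500f0003f02a00300202701e,
  nat_lit
  0xbcea722e29689103518f548b6185c04c0c80480c40540fc001b03602701e00c008600d009c0780f00a0001503f001003039027,
  nat_lit
  0xbcea722e29689103518f548b6185c08404c08c0480a8054003602d01e039008004d00b00780e40a0050002a01500200101e039]
/-- Elements whose commutators generate `M₂₂`. -/
def lcm22 : List ℕ := [nat_lit 0xb84e22b091199a9aaad472d0f84e40, nat_lit 0xba60c514c35bc936c83471ed58a040,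
  nat_lit 0xbd26611ca362ad57102f82d0d94520, nat_lit 0xbb97441c837d8a6aa933931b180820]

theorem chR3_chk : chkR chR3 = true := by decide +kernel
theorem chN3_chk : chkR chN3 = true := by decide +kernel
theorem t24_chk : orbChk (cjap rmul rinv) (gensOf chN3) kx3 (2 ^ 408) t24 = true := by decide +kernel
theorem t6160_chk : orbChk ract (gensOf chL) 4999254 16777216 t6160 = true := by decide +kernel

end Cfsg.Agent.J4
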